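import Cfsg.Agent.Lib.SuzUnique.Defs

/-!
Kernel checks of the certificate of the Suzuki graph.
-/

set_option maxRecDepth 100000
set_option linter.all false

noncomputable section

namespace Cfsg.Agent.Lib.SuzUnique

open Cfsg.Agent.CosetCert

/-- The first point and the chain. -/
def fixPts (k : ℕ) : List ℕ := 0 :: Data.levPts.take k

/-- The points with the pattern of a point lie in the list. -/
def classOK (pre : List ℕ) (b m : ℕ) : Bool :=
  allUpto (fun c => bit m c || (pre.any fun a => Nat.beq a c) || (pre.any fun a => adjB a c != adjB a b)) 1782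

/-- The lists of the levels. -/
def levMasks : List ℕ :=
  [maskOf (rPt Data.lev0) 416, maskOf (rPt Data.lev1) 100, maskOf (rPt Data.lev2) 36, maskOf (rPt Data.lev3) 21,
    maskOf (rPt Data.lev4) 2, maskOf (rPt Data.lev5) 4]

theorem class0_ok : classOK (fixPts 0) Data.n0 (levMasks.getD 0 0) = true := by decide +kernel

theorem class1_ok : classOK (fixPts 1) 47 (levMasks.getD 1 0) = true := by decide +kernel

theorem class2_ok : classOK (fixPts 2) 79 (levMasks.getD 2 0) = true := by decide +kernel

theorem class3_ok : classOK (fixPts 3) 5 (levMasks.getD 3 0) = true := by decide +kernel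

theorem class4_ok : classOK (fixPts 4) 199 (levMasks.getD 4 0) = true := by decide +kernel

theorem class5_ok : classOK (fixPts 5) 44 (levMasks.getD 5 0) = true := by decide +kernel

theorem last_ok : classOK (fixPts 6) Data.last (maskOf (fun i => Bool.rec (motive := fun _ => ℕ) (Data.sigma.get Data.last) Data.last (Nat.beq i 0)) 2) = true ∧
    allUpto (fun c => !bit Data.det0Mask c || ((fixPts 6 ++ [Data.last]).any fun a => Nat.beq a c)) 1782 = true ∧
    Data.last < 1782 ∧ ¬ Data.last ∈ fixPts 6 := by decide +kernel

end Cfsg.Agent.Lib.SuzUnique
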