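import Cfsg.Agent.Lib.SuzUnique.Defs

/-!
Kernel checks of the certificate of the Suzuki graph.
-/

set_option maxRecDepth 100000
set_option linter.all false
set_option Elab.async false

namespace Cfsg.Agent.Lib.SuzUnique

open Cfsg.Agent.CosetCert

theorem sigmaA_0 : allFrom sigmaOK 0 179 = true := by decide +kernel

theorem sigmaA_1 : allFrom sigmaOK 179 179 = true := by decide +kernel

theorem sigmaA_2 : allFrom sigmaOK 358 179 = true := by decide +kernel

theorem sigmaA_3 : allFrom sigmaOK 537 179 = true := by decide +kernel

theorem sigmaA_4 : allFrom sigmaOK 716 179 = true := by decide +kernel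

theorem sigmaA_5 : allFrom sigmaOK 895 179 = true := by decide +kernel

theorem sigmaA_6 : allFrom sigmaOK 1074 179 = true := by decide +kernel

theorem sigmaA_7 : allFrom sigmaOK 1253 179 = true := by decide +kernel

theorem sigmaA_8 : allFrom sigmaOK 1432 179 = true := by decide +kernel

theorem sigmaA_9 : allFrom sigmaOK 1611 171 = true := by decide +kernel

theorem sigma_fix : (Data.sigma.get 0 = 0 ∧ ∀ b ∈ Data.levPts, Data.sigma.get b = b) ∧
    Data.sigma.get Data.last ≠ Data.last := by decide +kernel

end Cfsg.Agent.Lib.SuzUnique
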