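import Cfsg.Agent.Lib.SuzUnique.Basic
import Cfsg.Agent.Lib.SuzUnique.ChkAut
import Cfsg.Agent.Lib.SuzUnique.ChkSigma

/-!
An automorphism of the Suzuki graph which fixes a point normalises the stabiliser of that point in the Suzuki group.
-/

set_option autoImplicit false
set_option linter.all false
set_option maxRecDepth 100000

noncomputable section

namespace Cfsg.Agent.Lib.SuzUnique

open Cfsg.Agent.CosetCert

/-- The automorphisms fixing the first point. -/
def Au : Subgroup (Equiv.Perm (Fin 1782)) where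
  carrier := {x | x o0 = o0 ∧ ∀ i j, Adj (x i) (x j) ↔ Adj i j}
  one_mem' := ⟨rfl, fun _ _ => Iff.rfl⟩
  mul_mem' {x y} hx hy := ⟨by rw [Equiv.Perm.mul_apply, hy.1, hx.1],
    fun i j => by rw [Equiv.Perm.mul_apply, Equiv.Perm.mul_apply, hx.2, hy.2]⟩
  inv_mem' {x} hx := ⟨by rw [Equiv.Perm.inv_eq_iff_eq, hx.1],
    fun i j => by rw [← hx.2]; simp⟩

theorem H0_le_Au : H0 ≤ Au := fun g hg => ⟨H0_o0 hg, fun _ _ => adj_map_iff (H0_le hg)⟩

theorem sigma_spec {c : ℕ} (hc : c < 1782) : sigmaOK c = true := by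
  rcases Nat.lt_or_ge c 179 with h | h
  · exact allFrom_spec sigmaA_0 (by omega) (by omega)
  rcases Nat.lt_or_ge c 358 with h | h
  · exact allFrom_spec sigmaA_1 (by omega) (by omega)
  rcases Nat.lt_or_ge c 537 with h | h
  · exact allFrom_spec sigmaA_2 (by omega) (by omega)
  rcases Nat.lt_or_ge c 716 with h | h
  · exact allFrom_spec sigmaA_3 (by omega) (by omega)
  rcases Nat.lt_or_ge c 895 with h | h
  · exact allFrom_spec sigmaA_4 (by omega) (by omega)
  rcases Nat.lt_or_ge c 1074 with h | h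
  · exact allFrom_spec sigmaA_5 (by omega) (by omega)
  rcases Nat.lt_or_ge c 1253 with h | h
  · exact allFrom_spec sigmaA_6 (by omega) (by omega)
  rcases Nat.lt_or_ge c 1432 with h | h
  · exact allFrom_spec sigmaA_7 (by omega) (by omega)
  rcases Nat.lt_or_ge c 1611 with h | h
  · exact allFrom_spec sigmaA_8 (by omega) (by omega)
  · exact allFrom_spec sigmaA_9 (by omega) (by omega)

theorem sigma_vals (c : Fin 1782) :
    Data.sigma.get c < 1782 ∧ Data.sigmaInv.get c < 1782 ∧ Data.sigma.get (Data.sigmaInv.get c) = c ∧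
      Data.sigmaInv.get (Data.sigma.get c) = c := by
  have h := sigma_spec c.2
  simp only [sigmaOK, Bool.and_eq_true, Nat.blt, Nat.ble_eq] at h
  exact ⟨h.1.1.1.1, h.1.1.1.2, Nat.eq_of_beq_eq_true h.1.1.2, Nat.eq_of_beq_eq_true h.1.2⟩

/-- A permutation from a function and its inverse. -/
def mkPerm (f g : ℕ → ℕ) (h : ∀ c : Fin 1782, f c < 1782 ∧ g c < 1782 ∧ f (g c) = c ∧ g (f c) = c) :
    Equiv.Perm (Fin 1782) where
  toFun c := ⟨f c, (h c).1⟩
  invFun c := ⟨g c, (h c).2.1⟩
  left_inv c := Fin.ext (h c).2.2.2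
  right_inv c := Fin.ext (h c).2.2.1

/-- The outer automorphism. -/
def σ : Equiv.Perm (Fin 1782) := mkPerm Data.sigma.get Data.sigmaInv.get sigma_vals

theorem σ_val (c : Fin 1782) : (σ c : ℕ) = Data.sigma.get c := rfl

theorem nbList_lt {c k : ℕ} (hc : c < 1782) (hk : k < 416) : nth11 (nbList c) k < 1782 := by
  obtain ⟨g, -, -, h⟩ := exists_transport c hc
  rw [← (h k hk).2]
  exact Fin.is_lt _

theorem adj_σ (i j : Fin 1782) : Adj (σ i) (σ j) ↔ Adj i j := by
  have h := sigma_spec i.2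
  simp only [sigmaOK, Bool.and_eq_true] at h
  rw [adj_iff, adj_iff, adjB, adjB, σ_val, σ_val, Nat.eq_of_beq_eq_true h.2, rowMask_ok i.2, bit_maskOf, bit_maskOf]
  constructor
  · rintro ⟨k, hk, e⟩
    refine ⟨k, hk, ?_⟩
    have : σ (pt (nth11 (nbList i) k)) = σ j := Fin.ext (by rw [σ_val, σ_val, pt_val (nbList_lt i.2 hk)]; exact e)
    rw [← σ.injective this, pt_val (nbList_lt i.2 hk)]
  · rintro ⟨k, hk, e⟩
    exact ⟨k, hk, by rw [e]⟩

theorem σ_fix {b : ℕ} (hb : b ∈ fixPts 6) : σ (pt b) = pt b := by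
  have hlt : b < 1782 := by
    rcases List.mem_cons.1 hb with rfl | h
    exacts [by norm_num, levPts_lt (List.mem_of_mem_take h)]
  refine Fin.ext ?_
  rw [σ_val, pt_val hlt]
  rcases List.mem_cons.1 hb with rfl | h
  exacts [sigma_fix.1.1, sigma_fix.1.2 b (List.mem_of_mem_take h)]

theorem σ_mem : σ ∈ Au := ⟨σ_fix List.mem_cons_self, adj_σ⟩

theorem σ_moves : σ (pt Data.last) ≠ pt Data.last := fun e => sigma_fix.2 (by
  have := congrArg Fin.val e
  rwa [σ_val, pt_val last_ok.2.2.1] at this)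

theorem fixPts_lt {k b : ℕ} (hb : b ∈ fixPts k) : b < 1782 := by
  rcases List.mem_cons.1 hb with rfl | h
  exacts [by norm_num, levPts_lt (List.mem_of_mem_take h)]

theorem class_spec {pre : List ℕ} {b m : ℕ} (h : classOK pre b m = true) (hpre : ∀ a ∈ pre, a < 1782)
    (hb : b < 1782) (hnot : b ∉ pre) {x : Equiv.Perm (Fin 1782)} (hx : x ∈ Au)
    (hfix : ∀ a ∈ pre, x (pt a) = pt a) : bit m (x (pt b)) = true := by
  have := allUpto_spec.1 h (x (pt b)) (Fin.is_lt _)
  simp only [Bool.or_eq_true, List.any_eq_true, bne_iff_ne] at this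
  rcases this with (h1 | ⟨a, ha, e⟩) | ⟨a, ha, e⟩
  · exact h1
  · exfalso
    have e' : x (pt a) = x (pt b) := by
      rw [hfix a ha]; exact Fin.ext ((pt_val (hpre a ha)).trans (Nat.eq_of_beq_eq_true e))
    have := congrArg Fin.val (x.injective e')
    rw [pt_val (hpre a ha), pt_val hb] at this
    exact hnot (this ▸ ha)
  · exfalso
    refine e (Bool.eq_iff_iff.2 ?_)
    have h1 := adj_iff (pt a) (x (pt b))
    have h2 := adj_iff (pt a) (pt b)
    rw [pt_val (hpre a ha)] at h1
    rw [pt_val (hpre a ha), pt_val hb] at h2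
    rw [← h1, ← h2, ← hx.2 (pt a) (pt b), hfix a ha]

/-- A sorted list with strict steps at the new points separates them. -/
theorem det_spec {t : Tree} {m m' n : ℕ} (h : detOK t m n && detNext t m m' n = true)
    {x : Equiv.Perm (Fin 1782)} (hx : x ∈ Au) (hfix : ∀ c : Fin 1782, bit m c = true → x c = c)
    (c : Fin 1782) (hc : bit m' c = true) : x c = c := by
  rw [Bool.and_eq_true, detOK, detNext, Bool.and_eq_true, Bool.and_eq_true, Bool.and_eq_true] at h
  obtain ⟨⟨⟨⟨hpts', hnd⟩, hout⟩, hsort'⟩, hnew'⟩ := h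
  have hpts : ∀ i < n, dPt t i < 1782 ∧ bit m (dPt t i) = false := fun i hi => by
    simpa [Nat.blt] using allUpto_spec.1 hpts' i hi
  have hsort := allUpto_spec.1 hsort'
  have hnew : ∀ i < n, bit m' (dPt t i) = false ∨ dNew t i = true := fun i hi => by
    simpa [Bool.or_eq_true] using allUpto_spec.1 (of_decide_eq_true hnew') i hi
  by_cases hcm : bit m c = true
  · exact hfix c hcm
  set L : Finset (Fin 1782) := setM (maskOf (dPt t) n)
  set O : Finset (Fin 1782) := Finset.univ.filter fun c => bit m c = false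
  have hLO : L = O := by
    refine Finset.eq_of_subset_of_card_le (fun d hd => ?_) ?_
    · rw [mem_setM, bit_maskOf] at hd
      obtain ⟨i, hi, e⟩ := hd
      exact Finset.mem_filter.2 ⟨Finset.mem_univ _, by rw [← e]; exact (hpts i hi).2⟩
    · rw [card_setM, Nat.eq_of_beq_eq_true hnd, show O.card = cntUpto (fun c => !bit m c) 1782 from ?_,
        Nat.eq_of_beq_eq_true hout]
      rw [cntUpto_fin]; congr 1; ext a; simp only [O, Finset.mem_filter, Finset.mem_univ, true_and, Bool.not_eq_true']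
  have hidx : ∀ d : Fin 1782, bit m d = false → ∃ i < n, dPt t i = d := by
    intro d hd
    have : d ∈ L := by rw [hLO]; exact Finset.mem_filter.2 ⟨Finset.mem_univ _, hd⟩
    rwa [mem_setM, bit_maskOf] at this
  have hcm' : bit m c = false := by simpa using hcm
  have hxc : bit m (x c) = false := by
    by_contra hne
    have := hfix _ (by simpa using hne)
    exact hcm ((x.injective this) ▸ (by simpa using hne))
  obtain ⟨i, hi, ei⟩ := hidx c hcm'
  obtain ⟨l, hl, el'⟩ := hidx (x c) hxc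
  have hpat : ∀ d : Fin 1782, bit m d = true → (adjB c d = adjB (x c) d) := fun d hd => by
    rw [Bool.eq_iff_iff, ← adj_iff, ← adj_iff, ← hx.2 c d, hfix d hd]
  have heq : Nat.land (rowM c) m = Nat.land (rowM (x c)) m := by
    refine Nat.eq_of_testBit_eq fun d => ?_
    rw [← bit_eq, ← bit_eq, bit_land, bit_land]
    cases hd : bit m d
    · simp
    · simp only [Bool.and_true]
      by_cases hd' : d < 1782
      · exact hpat ⟨d, hd'⟩ hd
      · have hrow : ∀ e : Fin 1782, bit (rowM e) d = false := fun e => by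
          by_contra hne
          rw [rowMask_ok e.2] at hne
          obtain ⟨k, hk, ek⟩ := bit_maskOf.1 (by simpa using hne)
          exact hd' (ek ▸ nbList_lt e.2 hk)
        rw [hrow, hrow]
  let P : ℕ → ℕ := fun i => Nat.land (rowM (dPt t i)) m
  have hstep : ∀ i, i + 1 < n → P i ≤ P (i + 1) ∧ ((dNew t i = true ∨ dNew t (i + 1) = true) → P i < P (i + 1)) := by
    intro i hi
    have h := hsort i (show i < n - 1 by omega)
    simp only [detStep, Bool.and_eq_true, Bool.or_eq_true, Bool.not_eq_true', Nat.blt, Nat.ble_eq] at h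
    refine ⟨h.1, fun hn => ?_⟩
    rcases h.2 with h2 | h2
    · rcases hn with hn | hn <;> simp [hn] at h2
    · exact h2
  have hmono : ∀ k a, a + k < n → P a ≤ P (a + k) := by
    intro k
    induction k with
    | zero => exact fun a _ => le_rfl
    | succ k ih => exact fun a ha => (ih a (by omega)).trans (hstep (a + k) (by omega)).1
  have hnew' : dNew t i = true := by
    rcases hnew i hi with h | h
    · rw [ei, hc] at h; simp at h
    · exact h
  have hPe : P i = P l := by simp only [P, ei, el', heq]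
  rcases Nat.lt_trichotomy i l with h | h | h
  · have h1 := (hstep i (by omega)).2 (Or.inl hnew')
    have h2 := hmono (l - (i + 1)) (i + 1) (by omega)
    rw [show i + 1 + (l - (i + 1)) = l by omega] at h2
    omega
  · exact Fin.ext (by rw [← el', ← ei, h])
  · obtain ⟨j, rfl⟩ : ∃ j, i = j + 1 := ⟨i - 1, by omega⟩
    have h1 := (hstep j (by omega)).2 (Or.inr hnew')
    have h2 := hmono (j - l) l (by omega)
    rw [show l + (j - l) = j by omega] at h2
    omega

theorem eq_one_of_fix {x : Equiv.Perm (Fin 1782)} (hx : x ∈ Au) (hfix : ∀ b ∈ fixPts 6, x (pt b) = pt b)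
    (hlast : x (pt Data.last) = pt Data.last) : x = 1 := by
  have h0 : ∀ c : Fin 1782, bit Data.det0Mask c = true → x c = c := by
    intro c hc
    have h := allUpto_spec.1 last_ok.2.1 c c.2
    simp only [hc, Bool.not_true, Bool.false_or, List.any_eq_true] at h
    obtain ⟨a, ha, e⟩ := h
    have e' : pt a = c := by rw [Nat.eq_of_beq_eq_true e, pt_fin]
    rw [← e']
    rcases List.mem_append.1 ha with ha | ha
    · exact hfix a ha
    · rw [List.mem_singleton.1 ha]; exact hlast
  have h1 := det_spec det0_ok hx h0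
  have h2 := det_spec det1_ok hx h1
  refine Equiv.ext fun c => det_spec det2_ok hx h2 c ?_
  rw [bit_eq]
  simp [Nat.testBit_two_pow_sub_one]

/-- The automorphisms fixing the first point. -/
theorem Au_cases {x : Equiv.Perm (Fin 1782)} (hx : x ∈ Au) : x ∈ H0 ∨ ∃ h ∈ H0, x = h * σ := by
  have hlev : ∀ k < 6, ∀ b, Data.levPts.getD k 0 = b → ∀ (t : Tree) (n : ℕ), rPt t 0 = b →
      reachOK (levWordsAt k) t n = true → classOK (fixPts k) b (maskOf (rPt t) n) = true →
      (∃ h ∈ H0, ∀ a ∈ fixPts k, (h⁻¹ * x) (pt a) = pt a) → ∃ h ∈ H0, ∀ a ∈ fixPts (k + 1), (h⁻¹ * x) (pt a) = pt a := by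
    rintro k hk b hb t n ht hr hcl ⟨h, hh, hfix⟩
    have hlen : k < Data.levPts.length := by rw [levPts_eq]; exact hk
    have hbm : b = Data.levPts[k] := by rw [← hb, List.getD_eq_getElem _ _ hlen]
    have hnot : b ∉ fixPts k := by
      have hn : ∀ k < 6, Data.levPts.getD k 0 ∉ fixPts k := by decide +kernel
      exact hb ▸ hn k hk
    have hy := mul_mem (inv_mem (H0_le_Au hh)) hx
    have hc := class_spec hcl (fun a ha => fixPts_lt ha) (levPts_lt (hbm ▸ List.getElem_mem hlen)) hnot hy hfix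
    obtain ⟨g, hg, e⟩ := reach_mem hr (mem_setM.2 hc)
    rw [ht] at e
    obtain ⟨hgH, hgf⟩ := mem_Kfix.1 (lev_gens hk hg)
    refine ⟨h * g, mul_mem hh hgH, fun a ha => ?_⟩
    rw [mul_inv_rev, mul_assoc, Equiv.Perm.mul_apply, Equiv.Perm.inv_eq_iff_eq]
    have hsplit : a ∈ fixPts k ∨ a = b := by
      simp only [fixPts, List.mem_cons, List.take_succ_eq_append_getElem hlen, List.mem_append, List.not_mem_nil,
        or_false] at ha ⊢
      rcases ha with rfl | h | h
      exacts [Or.inl (Or.inl rfl), Or.inl (Or.inr h), Or.inr (h.trans hbm.symm)]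
    rcases hsplit with ha | rfl
    · rw [hfix a ha]
      rcases List.mem_cons.1 ha with rfl | ha
      · exact (H0_o0 hgH).symm
      · exact (hgf a ha).symm
    · exact e.symm
  obtain ⟨-, -, -, -, e, e0, e1, e2, e3, e4, e5⟩ := start_ok
  have s0 : ∃ h ∈ H0, ∀ a ∈ fixPts 0, (h⁻¹ * x) (pt a) = pt a := by
    refine ⟨1, one_mem _, fun a ha => ?_⟩
    rw [inv_one, one_mul, show a = 0 by simpa [fixPts] using ha]
    exact hx.1
  have s1 := hlev 0 (by norm_num) _ (by rw [e]; rfl) _ _ e0 lev0_ok class0_ok s0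
  have s2 := hlev 1 (by norm_num) _ (by rw [e]; rfl) _ _ e1 lev1_ok class1_ok s1
  have s3 := hlev 2 (by norm_num) _ (by rw [e]; rfl) _ _ e2 lev2_ok class2_ok s2
  have s4 := hlev 3 (by norm_num) _ (by rw [e]; rfl) _ _ e3 lev3_ok class3_ok s3
  have s5 := hlev 4 (by norm_num) _ (by rw [e]; rfl) _ _ e4 lev4_ok class4_ok s4
  obtain ⟨h, hh, hfix⟩ := hlev 5 (by norm_num) _ (by rw [e]; rfl) _ _ e5 lev5_ok class5_ok s5
  have hy := mul_mem (inv_mem (H0_le_Au hh)) hx
  have hc := class_spec last_ok.1 (fun a ha => fixPts_lt ha) last_ok.2.2.1 last_ok.2.2.2 hy hfix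
  obtain ⟨i, hi, ei⟩ := bit_maskOf.1 hc
  interval_cases i
  · left
    have e' : (h⁻¹ * x) (pt Data.last) = pt Data.last := Fin.ext (by rw [← ei, pt_val last_ok.2.2.1]; rfl)
    rw [← inv_mul_eq_one.1 (eq_one_of_fix hy hfix e')]
    exact hh
  · right
    refine ⟨h, hh, ?_⟩
    have e' : (h⁻¹ * x) (pt Data.last) = σ (pt Data.last) := Fin.ext (by
      rw [← ei, σ_val, pt_val last_ok.2.2.1]; rfl)
    have hz := eq_one_of_fix (mul_mem (inv_mem σ_mem) hy) (fun a ha => by
      rw [Equiv.Perm.mul_apply, hfix a ha, Equiv.Perm.inv_eq_iff_eq, σ_fix ha]) (by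
      rw [Equiv.Perm.mul_apply, e', Equiv.Perm.coe_inv, Equiv.symm_apply_apply])
    rw [inv_mul_eq_one] at hz
    rw [hz, mul_inv_cancel_left]

theorem σ_notMem : σ ∉ H0 := fun h => σ_moves (by
  rw [H0_ext h (one_mem _) fun b hb => by
    rw [σ_fix (List.mem_cons_of_mem _ (by rwa [List.take_of_length_le (by rw [levPts_eq]; simp)]))]; rfl]
  rfl)

/-- The stabiliser of the first point is normal among the automorphisms fixing it. -/
theorem Au_normalizes {x h : Equiv.Perm (Fin 1782)} (hx : x ∈ Au) (hh : h ∈ H0) : x * h * x⁻¹ ∈ H0 := by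
  have hσσ : σ * σ ∈ H0 := by
    rcases Au_cases (mul_mem σ_mem σ_mem) with h' | ⟨k, hk, e⟩
    · exact h'
    · exact absurd ((mul_right_cancel e) ▸ hk) σ_notMem
  have hσ : ∀ h ∈ H0, σ * h * σ⁻¹ ∈ H0 := by
    intro h hh
    rcases Au_cases (mul_mem (mul_mem σ_mem (H0_le_Au hh)) (inv_mem σ_mem)) with h' | ⟨k, hk, e⟩
    · exact h'
    · exfalso
      have : σ * h = k * (σ * σ) := by rw [mul_inv_eq_iff_eq_mul] at e; rw [e, mul_assoc]
      exact σ_notMem ((Subgroup.mul_mem_cancel_right _ hh).1 (this ▸ mul_mem hk hσσ))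
  rcases Au_cases hx with hx | ⟨k, hk, rfl⟩
  · exact mul_mem (mul_mem hx hh) (inv_mem hx)
  · rw [show k * σ * h * (k * σ)⁻¹ = k * (σ * h * σ⁻¹) * k⁻¹ by group]
    exact mul_mem (mul_mem hk (hσ h hh)) (inv_mem hk)

end Cfsg.Agent.Lib.SuzUnique
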