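import Cfsg.Agent.Lib.SuzUnique.Defs

/-!
Kernel checks of the certificate of the Suzuki graph.
-/

set_option maxRecDepth 100000
set_option linter.all false

namespace Cfsg.Agent.Lib.SuzUnique

open Cfsg.Agent.CosetCert

theorem lev0_ok : reachOK Data.levWords0 Data.lev0 416 = true := by decide +kernel

theorem lev1_ok : reachOK Data.levWords1 Data.lev1 100 = true := by decide +kernel

theorem lev2_ok : reachOK Data.levWords2 Data.lev2 36 = true := by decide +kernel

theorem lev3_ok : reachOK Data.levWords3 Data.lev3 21 = true := by decide +kernel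

theorem lev4_ok : reachOK Data.levWords4 Data.lev4 2 = true := by decide +kernel

theorem lev5_ok : reachOK Data.levWords5 Data.lev5 4 = true := by decide +kernel

theorem det0_ok : detOK Data.det0 Data.det0Mask 1774 && detNext Data.det0 Data.det0Mask Data.det1Mask 1774 = true := by
  decide +kernel

theorem det1_ok : detOK Data.det1 Data.det1Mask 1746 && detNext Data.det1 Data.det1Mask Data.det2Mask 1746 = true := by
  decide +kernel

theorem det2_ok : detOK Data.det2 Data.det2Mask 158 && detNext Data.det2 Data.det2Mask (2 ^ 1782 - 1) 158 = true := by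
  decide +kernel

theorem levFix_ok : ((List.range 6).all fun k =>
    ([Data.levWords0, Data.levWords1, Data.levWords2, Data.levWords3, Data.levWords4, Data.levWords5].getD k []).all
      fun w => hWord w && (0 :: Data.levPts.take k).all fun b => Nat.beq (runW w b) b) = true := by decide +kernel

theorem start_ok : adjB Data.n0 0 = true ∧ hGens.all hWord = true ∧
    allUpto (fun x => Nat.beq (runW [x] 0) 0) 6 = true ∧ allUpto (fun x => Nat.beq (runW [x] Data.n0) Data.n0) 5 = true ∧
    Data.levPts = [Data.n0, 47, 79, 5, 199, 44] ∧ rPt Data.lev0 0 = Data.n0 ∧ rPt Data.lev1 0 = 47 ∧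
    rPt Data.lev2 0 = 79 ∧ rPt Data.lev3 0 = 5 ∧ rPt Data.lev4 0 = 199 ∧ rPt Data.lev5 0 = 44 := by decide +kernel

end Cfsg.Agent.Lib.SuzUnique
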