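import Cfsg.Agent.Lib.SuzUnique.GraphDefs

/-!
Kernel checks of the certificate of the Suzuki graph.
-/

set_option maxRecDepth 100000
set_option linter.all false
set_option Elab.async false

namespace Cfsg.Agent.Lib.SuzUnique

open Cfsg.Agent.CosetCert

theorem orbN_ok : (reachOK hGens Data.orbN Data.orbNLen && closedOK hGens Data.orbN Data.orbNLen &&
    Nat.beq (rPt Data.orbN 0) Data.n0 && Nat.beq Data.orbNLen 416) = true := by decide +kernel

theorem orbF_ok : (reachOK hGens Data.orbF Data.orbFLen && closedOK hGens Data.orbF Data.orbFLen &&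
    Nat.beq (rPt Data.orbF 0) Data.j0 && Nat.beq Data.orbFLen 1365) = true := by decide +kernel

theorem orbJ_ok : (reachOK jGens Data.orbJS Data.orbJSLen && closedOK jGens Data.orbJS Data.orbJSLen &&
    reachOK jGens Data.orbJL Data.orbJLLen && closedOK jGens Data.orbJL Data.orbJLLen &&
    Nat.beq Data.orbJSLen 100 && Nat.beq Data.orbJLLen 315) = true := by decide +kernel

theorem split_ok : Nat.beq (rowM 0) maskN && allUpto (fun c =>
    Nat.beq c 0 || (bit maskN c != bit maskF c)) 1782 && !bit maskN 0 && !bit maskF 0 &&
    allUpto (fun c => !bit maskN c || Nat.beq c Data.n0 || (bit maskJS c != bit maskJL c)) 1782 &&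
    allUpto (fun c => bit maskN c || !(bit maskJS c || bit maskJL c)) 1782 &&
    !bit maskJS Data.n0 && !bit maskJL Data.n0 &&
    Nat.beq (Nat.land (rowM Data.n0) maskN) maskJS &&
    Nat.beq (cntUpto (bit (Nat.land (rowM Data.n0) maskF)) 1782) 315 = true := by decide +kernel

theorem common_ok : allUpto (fun c => !bit maskJS c ||
    Nat.beq (cntUpto (bit (Nat.land (Nat.land (rowM Data.n0) (rowM c)) maskN)) 1782) 36) 1782 = true := by
  decide +kernel

theorem trace_unique_ok : traceUnique = true := by decide +kernel

theorem u_ok : allUpto uRelOK 12 = true := by decide +kernel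

theorem uOrb_ok : allUpto (fun k => reachOK Data.uWords (uOrb k).1 (uOrb k).2) 5 = true ∧
    allUpto (fun c => !bit maskN c || bit (unionM uOrb 31 5) c) 1782 = true := by decide +kernel

theorem vOrb_ok : allUpto (fun k => reachOK Data.uWords (vOrb k).1 (vOrb k).2) 6 = true ∧
    allUpto (fun c => !bit maskF c || bit (unionM vOrb 63 6) c) 1782 = true ∧
    unionLen vOrb 63 6 = 1365 ∧ unionLen uOrb 31 5 = 416 := by decide +kernel

theorem trace_cases : allUpto traceCaseOK 32 = true := by decide +kernel

theorem far_cases : allUpto farCaseOK 64 = true := by decide +kernel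

end Cfsg.Agent.Lib.SuzUnique
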