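import Cfsg.Agent.Lib.SuzUnique.Defs

/-!
Kernel checks of the certificate of the Suzuki graph.
-/

set_option maxRecDepth 100000
set_option linter.all false
set_option Elab.async false

namespace Cfsg.Agent.Lib.SuzUnique

open Cfsg.Agent.CosetCert

theorem rowListA_0 : allFrom rowListOK 0 297 = true := by decide +kernel

theorem rowListA_1 : allFrom rowListOK 297 297 = true := by decide +kernel

theorem rowListA_2 : allFrom rowListOK 594 297 = true := by decide +kernel

theorem rowMaskA_0 : allFrom rowMaskOK 0 297 = true := by decide +kernel

theorem rowMaskA_1 : allFrom rowMaskOK 297 297 = true := by decide +kernel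

theorem rowMaskA_2 : allFrom rowMaskOK 594 297 = true := by decide +kernel

end Cfsg.Agent.Lib.SuzUnique
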