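import Cfsg.Agent.InvChar.Coset.SuzPrim
import Cfsg.Agent.Lib.SuzUnique.ChkRows0
import Cfsg.Agent.Lib.SuzUnique.ChkRows1
import Cfsg.Agent.Lib.SuzUnique.ChkOrbits
import Cfsg.Agent.Lib.SuzUnique.ChkChain

/-!
The Suzuki group on 1782 points: the stabiliser of a point, the points that tell its elements apart, and the
orbital graph of valency 416.
-/

set_option autoImplicit false
set_option linter.all false
set_option maxRecDepth 100000

noncomputable section

namespace Cfsg.Agent.Lib.SuzUnique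

open Cfsg.Agent.CosetCert
open Cfsg.Agent.InvChar.Coset

/-- A point from a number. -/
def pt (c : ℕ) : Fin 1782 := ⟨c % 1782, Nat.mod_lt _ (by norm_num)⟩

theorem pt_val {c : ℕ} (h : c < 1782) : (pt c : ℕ) = c := Nat.mod_eq_of_lt h

theorem pt_fin (c : Fin 1782) : pt c = c := Fin.ext (Nat.mod_eq_of_lt c.2)

theorem T_n : T.n = 1782 := by decide +kernel

theorem T_K : T.C.K = 7 := by decide +kernel

/-- The generators. -/
def gm (x : ℕ) : Equiv.Perm (Fin 1782) := CosetCert.tau Suz.checked x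

theorem gm_apply {x : ℕ} (hx : x < T.C.K) (c : Fin 1782) : (gm x c : ℕ) = T.tgt c x :=
  tau_apply Suz.checked hx c

/-- The element of a word. -/
def el (w : List ℕ) : Equiv.Perm (Fin 1782) := wprod gm w

theorem el_apply {w : List ℕ} (hw : lettersOK 7 w = true) (c : Fin 1782) : (el w c : ℕ) = runW w c :=
  wprod_tau Suz.checked w (fun y hy => by rw [T_K]; exact lettersOK_spec hw y hy) c

theorem el_app (u w : List ℕ) : el (u ++ w) = el w * el u := wprod_append gm u w

theorem gm_sq (x : ℕ) : gm x * gm x = 1 := tau_sq Suz.checked x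

theorem el_nil : el [] = 1 := rfl

theorem el_one (x : ℕ) : el [x] = gm x := one_mul _

theorem el_rev : ∀ w : List ℕ, el w.reverse = (el w)⁻¹
  | [] => inv_one.symm
  | y :: w => by
    rw [List.reverse_cons, el_app, el_rev w, el_one,
      show el (y :: w) = el w * gm y from rfl, mul_inv_rev, inv_eq_of_mul_eq_one_left (gm_sq y)]

theorem lettersOK_iff {K : ℕ} : ∀ {w : List ℕ}, lettersOK K w = true ↔ ∀ y ∈ w, y < K
  | [] => by simp [lettersOK]
  | y :: w => by
    show (Nat.blt y K && lettersOK K w) = true ↔ _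
    rw [Bool.and_eq_true, lettersOK_iff]
    simp [Nat.blt]

theorem letters7 {w : List ℕ} (hw : hWord w = true) : lettersOK 7 w = true :=
  lettersOK_iff.2 fun y hy => by have := lettersOK_iff.1 hw y hy; omega

/-! ### Bit sets and bounded quantifiers -/

theorem allUpto_spec {f : ℕ → Bool} : ∀ {n : ℕ}, allUpto f n = true ↔ ∀ i < n, f i = true
  | 0 => by simp [allUpto]
  | n + 1 => by
    show (f n && allUpto f n) = true ↔ _
    rw [Bool.and_eq_true, allUpto_spec]
    constructor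
    · rintro ⟨h1, h2⟩ i hi
      rcases Nat.lt_succ_iff_lt_or_eq.1 hi with h | rfl
      exacts [h2 i h, h1]
    · exact fun h => ⟨h n (by omega), fun i hi => h i (by omega)⟩

theorem allFrom_spec {f : ℕ → Bool} {a n : ℕ} (h : allFrom f a n = true) {i : ℕ} (h1 : a ≤ i) (h2 : i < a + n) :
    f i = true := by
  have := allUpto_spec.1 h (i - a) (by omega)
  have e : a + (i - a) = i := by omega
  simpa [e] using this

theorem bit_eq (m i : ℕ) : bit m i = m.testBit i := by
  rw [bit, Nat.testBit_eq_decide_div_mod_eq]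
  have : Nat.land (Nat.shiftRight m i) 1 = m / 2 ^ i % 2 := by
    show (m >>> i) &&& 1 = _
    rw [Nat.and_one_is_mod, Nat.shiftRight_eq_div_pow]
  rw [this, Bool.eq_iff_iff]
  simp

theorem bit_maskOf {f : ℕ → ℕ} : ∀ {n c : ℕ}, bit (maskOf f n) c = true ↔ ∃ i < n, f i = c
  | 0, c => by simp [bit_eq, maskOf]
  | n + 1, c => by
    have ih := bit_maskOf (f := f) (n := n) (c := c)
    rw [bit_eq] at ih ⊢
    rw [show maskOf f (n + 1) = (1 <<< f n) ||| maskOf f n from rfl, Nat.testBit_or, Bool.or_eq_true, ih,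
      Nat.one_shiftLeft, Nat.testBit_two_pow, decide_eq_true_eq]
    constructor
    · rintro (h | ⟨i, hi, h⟩)
      exacts [⟨n, by omega, h⟩, ⟨i, by omega, h⟩]
    · rintro ⟨i, hi, h⟩
      rcases Nat.lt_succ_iff_lt_or_eq.1 hi with h' | rfl
      exacts [Or.inr ⟨i, h', h⟩, Or.inl h]

theorem bit_land (m k c : ℕ) : bit (Nat.land m k) c = (bit m c && bit k c) := by
  simp only [bit_eq]
  exact Nat.testBit_and m k c

theorem cntUpto_eq (f : ℕ → Bool) : ∀ n, cntUpto f n = ((Finset.range n).filter fun i => f i = true).card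
  | 0 => rfl
  | n + 1 => by
    rw [Finset.range_add_one, Finset.filter_insert]
    show cond (f n) (Nat.succ (cntUpto f n)) (cntUpto f n) = _
    cases h : f n
    · simp [cntUpto_eq f n]
    · simp [cntUpto_eq f n]

theorem cntUpto_fin (f : ℕ → Bool) : cntUpto f 1782 = (Finset.univ.filter fun c : Fin 1782 => f c = true).card := by
  rw [cntUpto_eq, ← Finset.card_map Fin.valEmbedding]
  congr 1
  ext i
  simp only [Finset.mem_filter, Finset.mem_range, Finset.mem_map, Finset.mem_univ, true_and, Fin.valEmbedding_apply]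
  exact ⟨fun ⟨h1, h2⟩ => ⟨⟨i, h1⟩, h2, rfl⟩, fun ⟨a, h2, e⟩ => e ▸ ⟨a.2, h2⟩⟩

/-- The points of a bit set. -/
def setM (m : ℕ) : Finset (Fin 1782) := Finset.univ.filter fun c => bit m c = true

theorem mem_setM {m : ℕ} {c : Fin 1782} : c ∈ setM m ↔ bit m c = true := by simp [setM]

theorem card_setM (m : ℕ) : (setM m).card = cntUpto (bit m) 1782 := (cntUpto_fin _).symm

/-! ### The groups -/

/-- The action of the presented group. -/
def φ : Cfsg.Spor.Suz →* Equiv.Perm (Fin 1782) := Suz.data.hom Suz.checked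

theorem φ_gen (x : ℕ) : φ (Suz.data.gen x) = gm x := Suz.data.hom_gen Suz.checked x

theorem gm_moves : ∃ c, gm 6 c ≠ c := by
  have h : T.tgt 0 6 ≠ 0 := by decide +kernel
  exact ⟨pt 0, fun e => h (by
    have := congrArg Fin.val e
    rw [gm_apply (by decide +kernel : 6 < T.C.K), pt_val (by norm_num)] at this
    exact this)⟩

theorem φ_injective : Function.Injective φ := by
  haveI := Suz.simple_and_card.1
  rw [← MonoidHom.ker_eq_bot_iff]
  refine (IsSimpleGroup.eq_bot_or_eq_top_of_normal φ.ker inferInstance).resolve_right fun h => ?_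
  obtain ⟨c, hc⟩ := gm_moves
  refine hc ?_
  have : φ (Suz.data.gen 6) = 1 := by rw [← MonoidHom.mem_ker, h]; exact Subgroup.mem_top _
  rw [φ_gen] at this
  rw [this, Equiv.Perm.one_apply]

/-- The whole group. -/
def GA : Subgroup (Equiv.Perm (Fin 1782)) := φ.range

/-- The stabiliser of the first point. -/
def H0 : Subgroup (Equiv.Perm (Fin 1782)) := Subgroup.closure (gm '' {x | x < 6})

theorem gm_GA (x : ℕ) : gm x ∈ GA := ⟨_, φ_gen x⟩

theorem el_GA : ∀ w : List ℕ, el w ∈ GA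
  | [] => one_mem _
  | y :: w => mul_mem (el_GA w) (gm_GA y)

theorem H0_le : H0 ≤ GA := (Subgroup.closure_le _).2 (by rintro _ ⟨x, -, rfl⟩; exact gm_GA x)

theorem el_H0 : ∀ {w : List ℕ}, (∀ y ∈ w, y < 6) → el w ∈ H0
  | [], _ => one_mem _
  | y :: w, h => mul_mem (el_H0 fun z hz => h z (List.mem_cons_of_mem _ hz))
      (Subgroup.subset_closure ⟨y, h y List.mem_cons_self, rfl⟩)

theorem el_H0' {w : List ℕ} (h : hWord w = true) : el w ∈ H0 := el_H0 (lettersOK_iff.1 h)

theorem H0_eq_map : H0 = SuzGTwo.H1.map φ := by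
  have hS : T.C.S = [[0], [1], [2], [3], [4], [5]] := by decide +kernel
  rw [SuzGTwo.H1, MonoidHom.map_closure, ← Set.image_comp, H0]
  congr 1
  ext g
  constructor
  · rintro ⟨x, hx, rfl⟩
    refine ⟨[x], ?_, ?_⟩
    · show [x] ∈ T.C.S
      have hx' : x < 6 := hx
      rw [hS]
      interval_cases x <;> decide
    · show φ (wprod Suz.data.gen [x]) = gm x
      rw [show wprod Suz.data.gen [x] = Suz.data.gen x from one_mul _, φ_gen]
  · rintro ⟨w, hw, rfl⟩
    have hw' : w ∈ T.C.S := hw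
    rw [hS] at hw'
    simp only [List.mem_cons, List.not_mem_nil, or_false] at hw'
    have key : ∀ x < 6, φ (wprod Suz.data.gen [x]) ∈ gm '' {x | x < 6} := fun x hx => ⟨x, hx, by
      rw [show wprod Suz.data.gen [x] = Suz.data.gen x from one_mul _, φ_gen]⟩
    rcases hw' with rfl | rfl | rfl | rfl | rfl | rfl
    exacts [key 0 (by norm_num), key 1 (by norm_num), key 2 (by norm_num), key 3 (by norm_num),
      key 4 (by norm_num), key 5 (by norm_num)]

theorem card_H0 : Nat.card H0 = 251596800 := by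
  rw [H0_eq_map, Subgroup.card_map_of_injective φ_injective, SuzGTwo.card_H1]

theorem card_GA : Nat.card GA = 448345497600 := by
  rw [GA, ← Nat.card_congr (MonoidHom.ofInjective φ_injective).toEquiv, Suz.simple_and_card.2]

theorem nonempty_equiv {K : Type*} [Field K] [Fintype K] (hK : Fintype.card K = 4) :
    Nonempty (H0 ≃* Cfsg.Lie.chevG2.group K) := by
  obtain ⟨e⟩ := SuzPrim.transfer hK
  exact ⟨(MulEquiv.subgroupCongr H0_eq_map).trans ((SuzGTwo.H1.equivMapOfInjective φ φ_injective).symm.trans e)⟩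

theorem isoSuz_GA : Cfsg.Spor.IsoSuz GA := ⟨(MonoidHom.ofInjective φ_injective).symm⟩

/-! ### Reached lists -/

/-- The group generated by some words. -/
def genGrp (gens : List (List ℕ)) : Subgroup (Equiv.Perm (Fin 1782)) := Subgroup.closure {g | ∃ w ∈ gens, el w = g}

theorem getWord_mem : ∀ {l : List (List ℕ)} {i : ℕ}, i < l.length → getWord l i ∈ l
  | [], i, h => absurd h (by simp)
  | a :: l, 0, _ => List.mem_cons_self
  | a :: l, i + 1, h => List.mem_cons_of_mem _ (getWord_mem (l := l) (i := i) (by simpa using h))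

theorem genGrp_le {gens : List (List ℕ)} {K : Subgroup (Equiv.Perm (Fin 1782))} (h : ∀ w ∈ gens, el w ∈ K) :
    genGrp gens ≤ K := (Subgroup.closure_le _).2 (by rintro _ ⟨w, hw, rfl⟩; exact h w hw)

theorem reachOK_spec {gens : List (List ℕ)} {t : Tree} {n : ℕ} (h : reachOK gens t n = true) :
    (∀ i < n, rPt t i < 1782 ∧ ∃ g ∈ genGrp gens, g (pt (rPt t 0)) = pt (rPt t i)) ∧
      (setM (maskOf (rPt t) n)).card = n := by
  simp only [reachOK, Bool.and_eq_true, List.all_eq_true, allUpto_spec] at h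
  obtain ⟨⟨hg, hs⟩, hn⟩ := h
  refine ⟨fun i => ?_, (card_setM _).trans (Nat.eq_of_beq_eq_true hn)⟩
  induction i using Nat.strong_induction_on with
  | _ i ih =>
    intro hi
    have h := hs i hi
    simp only [stepROK, Bool.and_eq_true, Bool.or_eq_true, Nat.blt, Nat.ble_eq] at h
    refine ⟨h.1, ?_⟩
    rcases h.2 with h0 | ⟨⟨hj, hk⟩, he⟩
    · exact ⟨1, one_mem _, by rw [Nat.eq_of_beq_eq_true h0]; rfl⟩
    · obtain ⟨hlt, g, hgm, hge⟩ := ih _ hj (by omega)
      have hw := getWord_mem (show Nat.shiftRight (t.get i) 22 < gens.length from hk)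
      refine ⟨el (getWord gens (Nat.shiftRight (t.get i) 22)) * g,
        mul_mem (Subgroup.subset_closure ⟨_, hw, rfl⟩) hgm, Fin.ext ?_⟩
      rw [Equiv.Perm.mul_apply, hge, el_apply (hg _ hw), pt_val hlt, pt_val h.1]
      exact Nat.eq_of_beq_eq_true he

theorem mem_reach {t : Tree} {n : ℕ} {c : Fin 1782} :
    c ∈ setM (maskOf (rPt t) n) ↔ ∃ i < n, rPt t i = c := by rw [mem_setM, bit_maskOf]

theorem reach_mem {gens : List (List ℕ)} {t : Tree} {n : ℕ} (h : reachOK gens t n = true) {c : Fin 1782}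
    (hc : c ∈ setM (maskOf (rPt t) n)) : ∃ g ∈ genGrp gens, g (pt (rPt t 0)) = c := by
  obtain ⟨i, hi, e⟩ := mem_reach.1 hc
  obtain ⟨g, hg, hge⟩ := ((reachOK_spec h).1 i hi).2
  exact ⟨g, hg, by rw [hge, e, pt_fin]⟩

theorem closure_induction_perm {s : Set (Equiv.Perm (Fin 1782))} {Q : Equiv.Perm (Fin 1782) → Prop}
    (mem : ∀ a ∈ s, Q a) (one : Q 1) (mul : ∀ a b, Q a → Q b → Q (a * b)) {a : Equiv.Perm (Fin 1782)}
    (ha : a ∈ Subgroup.closure s) : Q a :=
  SuzGTwo.closure_induction_finite mem one mul ha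

theorem closed_mem {gens : List (List ℕ)} {t : Tree} {n : ℕ} (hr : reachOK gens t n = true)
    (h : closedOK gens t n = true) {g : Equiv.Perm (Fin 1782)} (hg : g ∈ genGrp gens) :
    ∀ c ∈ setM (maskOf (rPt t) n), g c ∈ setM (maskOf (rPt t) n) := by
  have hl := (show reachOK gens t n = true from hr)
  simp only [reachOK, Bool.and_eq_true, List.all_eq_true] at hl
  simp only [closedOK, List.all_eq_true, allUpto_spec] at h
  refine closure_induction_perm (Q := fun g => ∀ c ∈ setM (maskOf (rPt t) n), g c ∈ setM (maskOf (rPt t) n))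
    ?_ (fun c hc => hc) (fun a b ha hb c hc => ha _ (hb c hc)) hg
  rintro _ ⟨w, hw, rfl⟩ c hc
  obtain ⟨i, hi, e⟩ := mem_reach.1 hc
  rw [mem_setM, el_apply (hl.1.1 w hw), ← e]
  exact h w hw i hi

/-- A reached list bounds an orbit from below. -/
theorem card_stab_le {gens : List (List ℕ)} {t : Tree} {n : ℕ} (h : reachOK gens t n = true)
    {K : Subgroup (Equiv.Perm (Fin 1782))} (hK : genGrp gens ≤ K) :
    n * Nat.card ↥(K ⊓ MulAction.stabilizer (Equiv.Perm (Fin 1782)) (pt (rPt t 0))) ≤ Nat.card K := by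
  have h1 := Subgroup.index_mul_card (MulAction.stabilizer K (pt (rPt t 0)))
  rw [MulAction.index_stabilizer] at h1
  rw [← h1]
  have hset : n ≤ (MulAction.orbit K (pt (rPt t 0))).ncard := by
    rw [← (reachOK_spec h).2, ← Set.ncard_coe_finset]
    refine Set.ncard_le_ncard (fun c hc => ?_) (Set.toFinite _)
    obtain ⟨g, hg, e⟩ := reach_mem h (Finset.mem_coe.1 hc)
    exact ⟨⟨g, hK hg⟩, e⟩
  refine Nat.mul_le_mul hset (le_of_eq ?_)
  exact Nat.card_congr ⟨fun g => ⟨⟨g.1, g.2.1⟩, g.2.2⟩, fun g => ⟨g.1.1, g.1.2, g.2⟩, fun _ => rfl, fun _ => rfl⟩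

/-! ### The chain -/

/-- The elements of the stabiliser which fix the first points of the chain. -/
def Kfix (k : ℕ) : Subgroup (Equiv.Perm (Fin 1782)) :=
  H0 ⊓ ⨅ b ∈ Data.levPts.take k, MulAction.stabilizer (Equiv.Perm (Fin 1782)) (pt b)

theorem levPts_eq : Data.levPts = [Data.n0, 47, 79, 5, 199, 44] := start_ok.2.2.2.2.1

theorem levPts_lt {b : ℕ} (hb : b ∈ Data.levPts) : b < 1782 :=
  (show ∀ b ∈ Data.levPts, b < 1782 by decide +kernel) b hb

theorem mem_Kfix {k : ℕ} {g : Equiv.Perm (Fin 1782)} :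
    g ∈ Kfix k ↔ g ∈ H0 ∧ ∀ b ∈ Data.levPts.take k, g (pt b) = pt b := by
  simp [Kfix, Subgroup.mem_inf, Subgroup.mem_iInf, MulAction.mem_stabilizer_iff, Equiv.Perm.smul_def]

/-- The words of a level. -/
def levWordsAt (k : ℕ) : List (List ℕ) :=
  [Data.levWords0, Data.levWords1, Data.levWords2, Data.levWords3, Data.levWords4, Data.levWords5].getD k []

theorem lev_gens {k : ℕ} (hk : k < 6) : genGrp (levWordsAt k) ≤ Kfix k := by
  have h := levFix_ok
  simp only [List.all_eq_true, List.mem_range, Bool.and_eq_true] at h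
  refine genGrp_le fun w hw => mem_Kfix.2 ⟨el_H0' (h k hk w hw).1, fun b hb => Fin.ext ?_⟩
  rw [el_apply (letters7 (h k hk w hw).1), pt_val (levPts_lt (List.mem_of_mem_take hb))]
  exact Nat.eq_of_beq_eq_true ((h k hk w hw).2 b (List.mem_cons_of_mem _ hb))

theorem lev_step {k b n : ℕ} {t : Tree} (hk : k < 6) (hb : Data.levPts.getD k 0 = b)
    (ht : rPt t 0 = b) (h : reachOK (levWordsAt k) t n = true) :
    n * Nat.card (Kfix (k + 1)) ≤ Nat.card (Kfix k) := by
  have e : Kfix (k + 1) = Kfix k ⊓ MulAction.stabilizer (Equiv.Perm (Fin 1782)) (pt (rPt t 0)) := by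
    have hlen : k < Data.levPts.length := by rw [levPts_eq]; exact hk
    ext g
    rw [Subgroup.mem_inf, mem_Kfix, mem_Kfix, MulAction.mem_stabilizer_iff, Equiv.Perm.smul_def, ht, ← hb,
      List.take_succ_eq_append_getElem hlen, List.getD_eq_getElem _ _ hlen]
    simp only [List.mem_append, List.mem_singleton, or_imp, forall_and, forall_eq, and_assoc]
  rw [e]
  exact card_stab_le h (lev_gens hk)

theorem Kfix_six : Kfix 6 = ⊥ := by
  obtain ⟨-, -, -, -, e, e0, e1, e2, e3, e4, e5⟩ := start_ok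
  have s0 := lev_step (k := 0) (by norm_num) (by rw [e]; rfl) e0 lev0_ok
  have s1 := lev_step (k := 1) (by norm_num) (by rw [e]; rfl) e1 lev1_ok
  have s2 := lev_step (k := 2) (by norm_num) (by rw [e]; rfl) e2 lev2_ok
  have s3 := lev_step (k := 3) (by norm_num) (by rw [e]; rfl) e3 lev3_ok
  have s4 := lev_step (k := 4) (by norm_num) (by rw [e]; rfl) e4 lev4_ok
  have s5 := lev_step (k := 5) (by norm_num) (by rw [e]; rfl) e5 lev5_ok
  have h0 : Kfix 0 = H0 := by ext g; simp [mem_Kfix]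
  rw [h0, card_H0] at s0
  simp only [Nat.zero_add, Nat.reduceAdd] at s0 s1 s2 s3 s4 s5
  refine Subgroup.eq_bot_of_card_le _ ?_
  omega

theorem H0_ext {g h : Equiv.Perm (Fin 1782)} (hg : g ∈ H0) (hh : h ∈ H0)
    (e : ∀ b ∈ Data.levPts, g (pt b) = h (pt b)) : g = h := by
  have : h⁻¹ * g ∈ Kfix 6 := by
    refine mem_Kfix.2 ⟨mul_mem (inv_mem hh) hg, fun b hb => ?_⟩
    rw [Equiv.Perm.mul_apply, e b (List.mem_of_mem_take hb), Equiv.Perm.coe_inv, Equiv.symm_apply_apply]
  rw [Kfix_six, Subgroup.mem_bot, inv_mul_eq_one] at this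
  exact this.symm

theorem runW_lt {w : List ℕ} (hw : lettersOK 7 w = true) {b : ℕ} (hb : b < 1782) : runW w b < 1782 := by
  have := el_apply hw (pt b)
  rw [pt_val hb] at this
  rw [← this]
  exact Fin.is_lt _

theorem keyOf_inj {u w : List ℕ} : ∀ {L : List ℕ}, (∀ b ∈ L, runW u b < 2048 ∧ runW w b < 2048) →
    List.rec (motive := fun _ => ℕ) 0 (fun b _ ih => Nat.lor (runW u b) (Nat.shiftLeft ih 11)) L =
      List.rec (motive := fun _ => ℕ) 0 (fun b _ ih => Nat.lor (runW w b) (Nat.shiftLeft ih 11)) L →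
    ∀ b ∈ L, runW u b = runW w b
  | [], _, _, b, hb => absurd hb List.not_mem_nil
  | a :: L, hlt, h, b, hb => by
    have ha := hlt a List.mem_cons_self
    have key : ∀ x y : ℕ, x < 2048 → (x ||| y <<< 11) % 2048 = x ∧ (x ||| y <<< 11) / 2048 = y := by
      intro x y hx
      rw [show (2048 : ℕ) = 2 ^ 11 by norm_num] at hx ⊢
      rw [Nat.lor_comm, ← Nat.shiftLeft_add_eq_or_of_lt hx, Nat.shiftLeft_eq]
      constructor
      · rw [Nat.add_mod, Nat.mul_mod_left, zero_add, Nat.mod_mod, Nat.mod_eq_of_lt hx]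
      · rw [Nat.add_comm, Nat.add_mul_div_right _ _ (by norm_num : 0 < 2 ^ 11), Nat.div_eq_of_lt hx, zero_add]
    set yu := List.rec (motive := fun _ => ℕ) 0 (fun b _ ih => Nat.lor (runW u b) (Nat.shiftLeft ih 11)) L with hyu
    set yw := List.rec (motive := fun _ => ℕ) 0 (fun b _ ih => Nat.lor (runW w b) (Nat.shiftLeft ih 11)) L with hyw
    have h' : runW u a ||| yu <<< 11 = runW w a ||| yw <<< 11 := h
    obtain ⟨u1, u2⟩ := key (runW u a) yu ha.1
    obtain ⟨w1, w2⟩ := key (runW w a) yw ha.2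
    rw [h'] at u1 u2
    rcases List.mem_cons.1 hb with rfl | hb
    · exact u1.symm.trans w1
    · exact keyOf_inj (fun c hc => hlt c (List.mem_cons_of_mem _ hc)) (u2.symm.trans w2) b hb

theorem el_eq_of_key {u w : List ℕ} (hu : hWord u = true) (hw : hWord w = true) (h : keyOf u = keyOf w) :
    el u = el w := by
  refine H0_ext (el_H0' hu) (el_H0' hw) fun b hb => Fin.ext ?_
  rw [el_apply (letters7 hu), el_apply (letters7 hw), pt_val (levPts_lt hb)]
  refine keyOf_inj (fun c hc => ?_) h b hb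
  have h1 := runW_lt (letters7 hu) (levPts_lt hc)
  have h2 := runW_lt (letters7 hw) (levPts_lt hc)
  omega

theorem el_eq_one_of_key {u : List ℕ} (hu : hWord u = true) (h : keyOf u = keyOf []) : el u = 1 :=
  el_eq_of_key hu rfl h

/-! ### Orbits of the stabiliser -/

/-- The points. -/
def o0 : Fin 1782 := pt 0
def n0 : Fin 1782 := pt Data.n0
def j0 : Fin 1782 := pt Data.j0

/-- The neighbours of the first point. -/
def N0 : Finset (Fin 1782) := setM maskN
/-- The other points. -/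
def F0 : Finset (Fin 1782) := setM maskF

theorem orbN_spec : reachOK hGens Data.orbN Data.orbNLen = true ∧ closedOK hGens Data.orbN Data.orbNLen = true ∧
    rPt Data.orbN 0 = Data.n0 ∧ Data.orbNLen = 416 := by
  have h := orbN_ok
  simp only [Bool.and_eq_true] at h
  exact ⟨h.1.1.1, h.1.1.2, Nat.eq_of_beq_eq_true h.1.2, Nat.eq_of_beq_eq_true h.2⟩

theorem orbF_spec : reachOK hGens Data.orbF Data.orbFLen = true ∧ closedOK hGens Data.orbF Data.orbFLen = true ∧
    rPt Data.orbF 0 = Data.j0 ∧ Data.orbFLen = 1365 := by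
  have h := orbF_ok
  simp only [Bool.and_eq_true] at h
  exact ⟨h.1.1.1, h.1.1.2, Nat.eq_of_beq_eq_true h.1.2, Nat.eq_of_beq_eq_true h.2⟩

theorem genGrp_hGens : genGrp hGens = H0 := by
  refine le_antisymm (genGrp_le fun w hw => el_H0' ?_) ((Subgroup.closure_le _).2 ?_)
  · exact List.all_eq_true.1 start_ok.2.1 w hw
  · rintro _ ⟨x, hx, rfl⟩
    refine Subgroup.subset_closure ⟨[x], ?_, el_one x⟩
    have hx' : x < 6 := hx
    interval_cases x <;> simp [hGens]

theorem N0_closed {g : Equiv.Perm (Fin 1782)} (hg : g ∈ H0) {c : Fin 1782} (hc : c ∈ N0) : g c ∈ N0 :=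
  closed_mem orbN_spec.1 orbN_spec.2.1 (genGrp_hGens ▸ hg) c hc

theorem F0_closed {g : Equiv.Perm (Fin 1782)} (hg : g ∈ H0) {c : Fin 1782} (hc : c ∈ F0) : g c ∈ F0 :=
  closed_mem orbF_spec.1 orbF_spec.2.1 (genGrp_hGens ▸ hg) c hc

theorem N0_reach {c : Fin 1782} (hc : c ∈ N0) : ∃ h ∈ H0, h n0 = c := by
  obtain ⟨g, hg, e⟩ := reach_mem orbN_spec.1 hc
  rw [orbN_spec.2.2.1] at e
  exact ⟨g, genGrp_hGens ▸ hg, e⟩

theorem F0_reach {c : Fin 1782} (hc : c ∈ F0) : ∃ h ∈ H0, h j0 = c := by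
  obtain ⟨g, hg, e⟩ := reach_mem orbF_spec.1 hc
  rw [orbF_spec.2.2.1] at e
  exact ⟨g, genGrp_hGens ▸ hg, e⟩

theorem card_N0 : N0.card = 416 := (reachOK_spec orbN_spec.1).2.trans orbN_spec.2.2.2

theorem card_F0 : F0.card = 1365 := (reachOK_spec orbF_spec.1).2.trans orbF_spec.2.2.2

theorem three_kinds (c : Fin 1782) : c = o0 ∨ (c ≠ o0 ∧ c ∈ N0 ∧ c ∉ F0) ∨ (c ≠ o0 ∧ c ∉ N0 ∧ c ∈ F0) := by
  have h := split_ok
  simp only [Bool.and_eq_true] at h
  have h1 := allUpto_spec.1 h.1.1.1.1.1.1.1.1.2 c c.2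
  rw [Bool.or_eq_true] at h1
  by_cases e : c = o0
  · exact Or.inl e
  rcases h1 with h1 | h1
  · exact absurd (Fin.ext (Nat.eq_of_beq_eq_true h1) : c = o0) e
  · rw [N0, F0, mem_setM, mem_setM]
    cases hA : bit maskN c <;> cases hB : bit maskF c <;> simp [hA, hB, e] at h1 ⊢

theorem o0_not : o0 ∉ N0 ∧ o0 ∉ F0 := by
  have h := split_ok
  simp only [Bool.and_eq_true, Bool.not_eq_true'] at h
  exact ⟨fun e => by rw [N0, mem_setM] at e; simp [o0, pt, h.1.1.1.1.1.1.1.2] at e,
    fun e => by rw [F0, mem_setM] at e; simp [o0, pt, h.1.1.1.1.1.1.2] at e⟩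

theorem H0_o0 {g : Equiv.Perm (Fin 1782)} (hg : g ∈ H0) : g o0 = o0 := by
  refine closure_induction_perm (Q := fun g => g o0 = o0) ?_ rfl (fun a b ha hb => by
    rw [Equiv.Perm.mul_apply, hb, ha]) hg
  rintro _ ⟨x, hx, rfl⟩
  have hx' : x < 6 := hx
  rw [← el_one]
  refine Fin.ext ?_
  rw [el_apply (lettersOK_iff.2 fun y hy => by rw [List.mem_singleton] at hy; omega), o0, pt_val (by norm_num)]
  exact Nat.eq_of_beq_eq_true (allUpto_spec.1 start_ok.2.2.1 x hx')

/-! ### The graph -/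

theorem rowList_ok {c : ℕ} (hc : c < 1782) : rowListOK c = true := by
  rcases Nat.lt_or_ge c 297 with h | h
  · exact allFrom_spec rowListA_0 (by omega) (by omega)
  rcases Nat.lt_or_ge c 594 with h' | h'
  · exact allFrom_spec rowListA_1 (by omega) (by omega)
  rcases Nat.lt_or_ge c 891 with h'' | h''
  · exact allFrom_spec rowListA_2 (by omega) (by omega)
  rcases Nat.lt_or_ge c 1188 with h3 | h3
  · exact allFrom_spec rowListB_0 (by omega) (by omega)
  rcases Nat.lt_or_ge c 1485 with h4 | h4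
  · exact allFrom_spec rowListB_1 (by omega) (by omega)
  · exact allFrom_spec rowListB_2 (by omega) (by omega)

theorem rowMask_ok {c : ℕ} (hc : c < 1782) : rowM c = maskOf (nth11 (nbList c)) 416 := by
  refine Nat.eq_of_beq_eq_true (show rowMaskOK c = true from ?_)
  rcases Nat.lt_or_ge c 297 with h | h
  · exact allFrom_spec rowMaskA_0 (by omega) (by omega)
  rcases Nat.lt_or_ge c 594 with h' | h'
  · exact allFrom_spec rowMaskA_1 (by omega) (by omega)
  rcases Nat.lt_or_ge c 891 with h'' | h''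
  · exact allFrom_spec rowMaskA_2 (by omega) (by omega)
  rcases Nat.lt_or_ge c 1188 with h3 | h3
  · exact allFrom_spec rowMaskB_0 (by omega) (by omega)
  rcases Nat.lt_or_ge c 1485 with h4 | h4
  · exact allFrom_spec rowMaskB_1 (by omega) (by omega)
  · exact allFrom_spec rowMaskB_2 (by omega) (by omega)

theorem rowM_zero : rowM 0 = maskN := by
  have h := split_ok
  simp only [Bool.and_eq_true] at h
  exact Nat.eq_of_beq_eq_true h.1.1.1.1.1.1.1.1.1

theorem exists_transport : ∀ c : ℕ, c < 1782 → ∃ g ∈ GA, g o0 = pt c ∧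
    ∀ k < 416, nth11 (nbList 0) k < 1782 ∧ (g (pt (nth11 (nbList 0) k)) : ℕ) = nth11 (nbList c) k := by
  intro c
  induction c using Nat.strong_induction_on with
  | _ c ih =>
    intro hc
    by_cases e : c = 0
    · subst e
      refine ⟨1, one_mem _, rfl, fun k hk => ?_⟩
      have : nth11 (nbList 0) k < 1782 := by
        have hb : bit (rowM 0) (nth11 (nbList 0) k) = true := by
          rw [rowMask_ok (c := 0) (by norm_num)]; exact bit_maskOf.2 ⟨k, hk, rfl⟩
        rw [rowM_zero, maskN] at hb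
        obtain ⟨i, hi, e⟩ := bit_maskOf.1 hb
        rw [← e]
        exact ((reachOK_spec orbN_spec.1).1 i hi).1
      exact ⟨this, pt_val this⟩
    · have hrow := Suz.checked.rows c (show c < T.n by rw [T_n]; exact hc)
      simp only [rowOK, Bool.and_eq_true] at hrow
      obtain ⟨c', rfl⟩ : ∃ c', c = c' + 1 := ⟨c - 1, by omega⟩
      have h3 := hrow.2
      simp only [Bool.and_eq_true, Nat.blt, Nat.ble_eq] at h3
      set x := T.parent (c' + 1)
      have hx : x < T.C.K := h3.1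
      set p := T.tgt (c' + 1) x with hp
      have hplt : p < c' + 1 := h3.2
      obtain ⟨g, hg, hg0, hgk⟩ := ih p hplt (by omega)
      refine ⟨gm x * g, mul_mem (gm_GA x) hg, ?_, fun k hk => ⟨(hgk k hk).1, ?_⟩⟩
      · refine Fin.ext ?_
        rw [Equiv.Perm.mul_apply, hg0, gm_apply hx, pt_val hc]
        show T.tgt (pt p : ℕ) x = _
        rw [pt_val (by omega), hp]
        exact (cell Suz.checked (show c' + 1 < T.n by rw [T_n]; exact hc) hx).2.1
      · rw [Equiv.Perm.mul_apply, gm_apply hx]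
        have hl := rowList_ok hc
        simp only [rowListOK, Bool.or_eq_true] at hl
        rcases hl with hl | hl
        · exact absurd (Nat.eq_of_beq_eq_true hl) (by omega)
        · rw [Nat.eq_of_beq_eq_true (allUpto_spec.1 hl k hk), ← (hgk k hk).2]

theorem exists_to (c : Fin 1782) : ∃ g ∈ GA, g o0 = c := by
  obtain ⟨g, hg, h, -⟩ := exists_transport c c.2
  exact ⟨g, hg, h.trans (pt_fin c)⟩

theorem stab_o0 {g : Equiv.Perm (Fin 1782)} (hg : g ∈ GA) (h : g o0 = o0) : g ∈ H0 := by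
  have horb : MulAction.orbit GA o0 = Set.univ := Set.eq_univ_of_forall fun c => by
    obtain ⟨g, hg, e⟩ := exists_to c
    exact ⟨⟨g, hg⟩, e⟩
  have h1 := Subgroup.index_mul_card (MulAction.stabilizer GA o0)
  rw [MulAction.index_stabilizer, horb, Set.ncard_univ, Nat.card_fin, card_GA] at h1
  have hcard : Nat.card (MulAction.stabilizer GA o0) = 251596800 := by omega
  have hle : H0.subgroupOf GA ≤ MulAction.stabilizer GA o0 := fun k hk => H0_o0 hk
  have heq := Subgroup.eq_of_le_of_card_ge hle (by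
    rw [hcard, Nat.card_congr (Subgroup.subgroupOfEquivOfLe H0_le).toEquiv, card_H0])
  have hmem : (⟨g, hg⟩ : GA) ∈ H0.subgroupOf GA := by rw [heq]; exact h
  exact hmem

/-- Adjacency. -/
def Adj (i j : Fin 1782) : Prop := ∃ g ∈ GA, g o0 = i ∧ g n0 = j

theorem Adj.map {i j : Fin 1782} (h : Adj i j) {g : Equiv.Perm (Fin 1782)} (hg : g ∈ GA) : Adj (g i) (g j) := by
  obtain ⟨k, hk, rfl, rfl⟩ := h
  exact ⟨g * k, mul_mem hg hk, rfl, rfl⟩

theorem adj_map_iff {i j : Fin 1782} {g : Equiv.Perm (Fin 1782)} (hg : g ∈ GA) : Adj (g i) (g j) ↔ Adj i j :=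
  ⟨fun h => by simpa using h.map (inv_mem hg), fun h => h.map hg⟩

theorem adj_o0 {j : Fin 1782} : Adj o0 j ↔ j ∈ N0 := by
  constructor
  · rintro ⟨g, hg, h0, rfl⟩
    refine N0_closed (stab_o0 hg h0) ?_
    rw [N0, maskN, mem_reach]
    exact ⟨0, by rw [orbN_spec.2.2.2]; norm_num, by
      rw [orbN_spec.2.2.1, n0, pt_val (show Data.n0 < 1782 by decide +kernel)]⟩
  · intro hj
    obtain ⟨h, hh, rfl⟩ := N0_reach hj
    exact ⟨h, H0_le hh, H0_o0 hh, rfl⟩

theorem adj_iff (i j : Fin 1782) : Adj i j ↔ adjB i j = true := by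
  obtain ⟨g, hg, hg0, hgk⟩ := exists_transport i i.2
  rw [pt_fin] at hg0
  rw [← adj_map_iff (inv_mem hg), show g⁻¹ i = o0 by rw [← hg0]; simp, adj_o0, N0, mem_setM, adjB,
    rowMask_ok i.2, bit_maskOf, ← rowM_zero, rowMask_ok (c := 0) (by norm_num), bit_maskOf]
  constructor
  · rintro ⟨k, hk, e⟩
    refine ⟨k, hk, ?_⟩
    rw [← (hgk k hk).2, e, pt_fin]
    simp
  · rintro ⟨k, hk, e⟩
    refine ⟨k, hk, ?_⟩
    have : g (pt (nth11 (nbList 0) k)) = j := Fin.ext ((hgk k hk).2.trans e)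
    rw [← this]
    simp [pt_val (hgk k hk).1]

theorem adj_symm {i j : Fin 1782} (h : Adj i j) : Adj j i := by
  have key : Adj n0 o0 := by
    rw [adj_iff, n0, o0, pt_val (show Data.n0 < 1782 by decide +kernel), pt_val (show 0 < 1782 by norm_num)]
    exact start_ok.1
  obtain ⟨g, hg, rfl, rfl⟩ := h
  exact key.map hg

end Cfsg.Agent.Lib.SuzUnique
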