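import Cfsg.Agent.Lib.SuzUnique.SubDefs

/-!
Kernel checks of the certificate of the Suzuki graph.
-/

set_option maxRecDepth 100000
set_option linter.all false
set_option Elab.async false

namespace Cfsg.Agent.Lib.SuzUnique

open Cfsg.Agent.CosetCert

theorem zKey_0 : allFrom zKeyOK 0 416 = true := by decide +kernel

theorem zKey_1 : allFrom zKeyOK 416 416 = true := by decide +kernel

theorem zKey_2 : allFrom zKeyOK 832 416 = true := by decide +kernel

theorem zKey_3 : allFrom zKeyOK 1248 416 = true := by decide +kernel

theorem zKey_4 : allFrom zKeyOK 1664 416 = true := by decide +kernel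

theorem n_ok : allUpto nOK 126 = true ∧
    (hWord Data.three && hWord Data.seven && Nat.beq (keyOf (powW Data.seven 7)) (keyOf []) &&
      !Nat.beq (keyOf Data.seven) (keyOf []) && Nat.beq (keyOf (powW Data.three 3)) (keyOf []) &&
      !Nat.beq (keyOf Data.three) (keyOf []) && Nat.beq (Data.zPath.get 0) 0) = true := by decide +kernel

theorem distinct_ok : distinctOK = true := by decide +kernel

end Cfsg.Agent.Lib.SuzUnique
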