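import Cfsg.Agent.Lib.SuzUnique.SubDefs

/-!
Kernel checks of the certificate of the Suzuki graph.
-/

set_option maxRecDepth 100000
set_option linter.all false
set_option Elab.async false

namespace Cfsg.Agent.Lib.SuzUnique

open Cfsg.Agent.CosetCert

theorem zStep_0 : allFrom zStepOK 0 208 = true := by decide +kernel

theorem zStep_1 : allFrom zStepOK 208 208 = true := by decide +kernel

theorem zStep_2 : allFrom zStepOK 416 208 = true := by decide +kernel

theorem zStep_3 : allFrom zStepOK 624 208 = true := by decide +kernel

theorem zStep_4 : allFrom zStepOK 832 208 = true := by decide +kernel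

theorem zStep_5 : allFrom zStepOK 1040 208 = true := by decide +kernel

theorem zStep_6 : allFrom zStepOK 1248 208 = true := by decide +kernel

theorem zStep_7 : allFrom zStepOK 1456 208 = true := by decide +kernel

theorem zStep_8 : allFrom zStepOK 1664 208 = true := by decide +kernel

theorem zStep_9 : allFrom zStepOK 1872 208 = true := by decide +kernel

end Cfsg.Agent.Lib.SuzUnique
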