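import Cfsg.Agent.Lib.SuzUnique.SubDefs

/-!
Kernel checks of the certificate of the Suzuki graph.
-/

set_option maxRecDepth 100000
set_option linter.all false
set_option Elab.async false

namespace Cfsg.Agent.Lib.SuzUnique

open Cfsg.Agent.CosetCert

theorem zClass_0 : allFrom zClassOK 0 416 = true := by decide +kernel

theorem zClass_1 : allFrom zClassOK 416 416 = true := by decide +kernel

theorem zClass_2 : allFrom zClassOK 832 416 = true := by decide +kernel

theorem zClass_3 : allFrom zClassOK 1248 416 = true := by decide +kernel

theorem zClass_4 : allFrom zClassOK 1664 416 = true := by decide +kernel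

theorem caseA_ok : Data.caseA.all caseAOK = true := by decide +kernel

theorem caseB_ok : Data.caseB.all caseBOK = true := by decide +kernel

theorem cover_ok : coverOK cc0.z cc1.z = true := by decide +kernel

end Cfsg.Agent.Lib.SuzUnique
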