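import Cfsg.Agent.Lib.SuzUnique.SubDefs

/-!
Kernel checks of the certificate of the Suzuki graph.
-/

set_option maxRecDepth 100000
set_option linter.all false
set_option Elab.async false

namespace Cfsg.Agent.Lib.SuzUnique

open Cfsg.Agent.CosetCert

theorem cc0_ok : caseCOK cc0 = true := by decide +kernel

theorem cc0Class_0 : allFrom (cClassOK cc0) 0 520 = true := by decide +kernel

theorem cc0Class_1 : allFrom (cClassOK cc0) 520 520 = true := by decide +kernel

theorem cc0Class_2 : allFrom (cClassOK cc0) 1040 520 = true := by decide +kernel

theorem cc0Class_3 : allFrom (cClassOK cc0) 1560 520 = true := by decide +kernel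

theorem cc1_ok : caseCOK cc1 = true := by decide +kernel

theorem cc1Class_0 : allFrom (cClassOK cc1) 0 520 = true := by decide +kernel

theorem cc1Class_1 : allFrom (cClassOK cc1) 520 520 = true := by decide +kernel

theorem cc1Class_2 : allFrom (cClassOK cc1) 1040 520 = true := by decide +kernel

theorem cc1Class_3 : allFrom (cClassOK cc1) 1560 520 = true := by decide +kernel

end Cfsg.Agent.Lib.SuzUnique
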