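import Cfsg.Agent.Lib.SuzUnique.GraphDefs

/-!
Kernel checks of the certificate of the Suzuki graph.
-/

set_option maxRecDepth 100000
set_option linter.all false

namespace Cfsg.Agent.Lib.SuzUnique

open Cfsg.Agent.CosetCert

theorem lenU_ok : allUpto (fun s => Nat.beq (cntUpto (bit (unionM uOrb s 5)) 1782) (unionLen uOrb s 5)) 32 = true := by
  decide +kernel

theorem lenV_ok : allUpto (fun s => Nat.beq (cntUpto (bit (unionM vOrb s 6)) 1782) (unionLen vOrb s 6)) 64 = true := by
  decide +kernel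

theorem uWords_len : Data.uWords.length = 12 := by decide +kernel

theorem uFirst_ok : (∀ k < 5, bit maskN (rPt (uOrb k).1 0) = true) ∧ (∀ k < 6, bit maskF (rPt (vOrb k).1 0) = true) ∧
    (∀ k < 5, (uOrb k).2 ≠ 0) ∧ ∀ k < 6, (vOrb k).2 ≠ 0 := by decide +kernel

end Cfsg.Agent.Lib.SuzUnique
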