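import Cfsg.Agent.Lib.CosetCert.Check

/-!
Certificate data for the graph of the Suzuki group on 1782 points: orbits and chains.
-/

set_option autoImplicit false
set_option linter.all false
set_option maxRecDepth 100000

namespace Cfsg.Agent.Lib.SuzUnique.Data

open Cfsg.Agent.CosetCert

def orbN_0 : Tree := (.node 128 (.node 64 (.node 32 (.node 16 (.node 8 (.node 4 (.node 2 (.node 1 (.leaf 0x3e3) (.leaf 0x14002b0)) (.node 1 (.leaf 0x4009d8) (.leaf 0x1266))) (.node 2 (.node 1 (.leaf 0x80113d) (.leaf 0x401b85)) (.node 1 (.leaf 0x80199f) (.leaf 0xc020c9)))) (.node 4 (.node 2 (.node 1 (.leaf 0x2ab1) (.leaf 0x802a67)) (.node 1 (.leaf 0x4031d7) (.leaf 0xc03116))) (.node 2 (.node 1 (.leaf 0x803882) (.leaf 0x1003938)) (.node 1 (.leaf 0x8041d9) (.leaf 0x4049d6))))) (.node 8 (.node 4 (.node 2 (.node 1 (.leaf 0xc049a0) (.leaf 0x51b6))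 (.node 1 (.leaf 0xc0513c) (.leaf 0x140513b))) (.node 2 (.node 1 (.leaf 0x8058b4) (.leaf 0x100599d)) (.node 1 (.leaf 0x406052) (.leaf 0x10060c5)))) (.node 4 (.node 2 (.node 1 (.leaf 0x4072b2) (.leaf 0xc0713e)) (.node 1 (.leaf 0xc0793a) (.leaf 0x808117))) (.node 2 (.node 1 (.leaf 0x1008265) (.leaf 0x408a84)) (.node 1 (.leaf 0xc08926) (.leaf 0x8090c8)))))) (.node 16 (.node 8 (.node 4 (.node 2 (.node 1 (.leaf 0x10091d4) (.leaf 0x14090c7)) (.node 1 (.leaf 0x40a075) (.leaf 0x100a113))) (.node 2 (.node 1 (.leaf 0xb051) (.leaf 0x100b080)) (.node 1 (.leaf 0x140b02f) (.leaf 0xc0b934)))) (.node 4 (.node 2 (.node 1 (.leaf 0xc0c1da) (.leaf 0x80c8ca)) (.node 1 (.leaf 0x100c9d5) (.leaf 0x80d0c6))) (.node 2 (.node 1 (.leaf 0x100d1d3) (.leaf 0x40d90b)) (.node 1 (.leaf 0x100d99e) (.leaf 0xc0e9b7))))) (.node 8 (.node 4 (.node 2 (.node 1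 (.leaf 0x80f0bc) (.leaf 0x100f1b4)) (.node 1 (.leaf 0x40f89b) (.leaf 0xc0f915))) (.node 2 (.node 1 (.leaf 0x100f937) (.leaf 0x140f881)) (.node 1 (.leaf 0x1410136) (.leaf 0x11074)))) (.node 4 (.node 2 (.node 1 (.leaf 0x10110b2) (.leaf 0x1411048)) (.node 1 (.leaf 0xc1199a) (.leaf 0x101207f))) (.node 2 (.node 1 (.leaf 0x141204c) (.leaf 0xc128c3)) (.node 1 (.leaf 0x141284f) (.leaf 0x8139d1))))))) (.node 32 (.node 16 (.node 8 (.node 4 (.node 2 (.node 1 (.leaf 0x10142af) (.leaf 0x1014939)) (.node 1 (.leaf 0x415914) (.leaf 0x1015935))) (.node 2 (.node 1 (.leaf 0x101698c) (.leaf 0xc17264)) (.node 1 (.leaf 0x1017a83) (.leaf 0x1018122)))) (.node 4 (.node 2 (.node 1 (.leaf 0x1909a) (.leaf 0xc190ea)) (.node 1 (.leaf 0x10190f0) (.leaf 0x1419063))) (.node 2 (.node 1 (.leaf 0x8198b3) (.leaf 0x101999c)) (.node 1 (.leaf 0xc1a1d0) (.leaf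 0x141a0c4))))) (.node 8 (.node 4 (.node 2 (.node 1 (.leaf 0x101b8b1) (.leaf 0x141b870)) (.node 1 (.leaf 0xc1c111) (.leaf 0x141c073))) (.node 2 (.node 1 (.leaf 0x81d263) (.leaf 0xc1d8c2)) (.node 1 (.leaf 0x141d879) (.leaf 0x81e931)))) (.node 4 (.node 2 (.node 1 (.leaf 0x141e87d) (.leaf 0x41f944)) (.node 1 (.leaf 0xc209d2) (.leaf 0x102119b))) (.node 2 (.node 1 (.leaf 0xc219ce) (.leaf 0xc22245)) (.node 1 (.leaf 0x822b84) (.leaf 0xc239b1)))))) (.node 16 (.node 8 (.node 4 (.node 2 (.node 1 (.leaf 0x4240e9) (.leaf 0x10240ef)) (.node 1 (.leaf 0x1424092) (.leaf 0x1024966))) (.node 2 (.node 1 (.leaf 0x1424895) (.leaf 0xc2516d)) (.node 1 (.leaf 0x1425098) (.leaf 0x1026112)))) (.node 4 (.node 2 (.node 1 (.leaf 0xc26a62) (.leaf 0x8272ad)) (.node 1 (.leaf 0x1427133) (.leaf 0xc28110))) (.node 2 (.node 1 (.leaf 0x14280ac) (.leaf 0x829198))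 (.node 1 (.leaf 0x14290b0) (.leaf 0x42a1a5))))) (.node 8 (.node 4 (.node 2 (.node 1 (.leaf 0x82a92f) (.leaf 0x142a8b8)) (.node 1 (.leaf 0x42b9c3) (.leaf 0xc2b9c9))) (.node 2 (.node 1 (.leaf 0x142b8c0) (.leaf 0x2c943)) (.node 1 (.leaf 0x142c8cd) (.leaf 0x82d2ae)))) (.node 4 (.node 2 (.node 1 (.leaf 0xc2da60) (.leaf 0x82e2ac)) (.node 1 (.leaf 0x82eb59) (.leaf 0x42f388))) (.node 2 (.node 1 (.leaf 0x82fa82) (.leaf 0x1030165)) (.node 1 (.leaf 0x14300df) (.leaf 0xc3096c)))))))) (.node 64 (.node 32 (.node 16 (.node 8 (.node 4 (.node 2 (.node 1 (.leaf 0x14308e2) (.leaf 0x4310e4)) (.node 1 (.leaf 0xc31a0d) (.leaf 0x14318e7))) (.node 2 (.node 1 (.leaf 0x832a18) (.leaf 0x14328ed)) (.node 1 (.leaf 0xc33999) (.leaf 0x834383)))) (.node 4 (.node 2 (.node 1 (.leaf 0x434be2) (.leaf 0x14349cf)) (.node 1 (.leaf 0x835996) (.leaf 0x1435907)))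 (.node 2 (.node 1 (.leaf 0x436a52) (.leaf 0xc36a5c)) (.node 1 (.leaf 0x143690f) (.leaf 0x379a4))))) (.node 8 (.node 4 (.node 2 (.node 1 (.leaf 0x143791a) (.leaf 0x4381cd)) (.node 1 (.leaf 0xc381c7) (.leaf 0x143811e))) (.node 2 (.node 1 (.leaf 0x391c1) (.leaf 0xc39296)) (.node 1 (.leaf 0x143912a) (.leaf 0x1039a9e)))) (.node 4 (.node 2 (.node 1 (.leaf 0x143992d) (.leaf 0x43a130)) (.node 1 (.leaf 0x43a9e1) (.leaf 0x143a941))) (.node 2 (.node 1 (.leaf 0x43bab7) (.leaf 0x83c381)) (.node 1 (.leaf 0x43cbe0) (.leaf 0x43d4ca)))))) (.node 16 (.node 8 (.node 4 (.node 2 (.node 1 (.leaf 0xc3d4c9) (.leaf 0x3db8d)) (.node 1 (.leaf 0x143db8b) (.leaf 0x43e3ac))) (.node 2 (.node 1 (.leaf 0xc3ea0c) (.leaf 0x143e95a)) (.node 1 (.leaf 0x43f15b) (.leaf 0x83fa16)))) (.node 4 (.node 2 (.node 1 (.leaf 0x143f95e) (.leaf 0x440160)) (.node 1 (.leaf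 0x8412fd) (.leaf 0x1441163))) (.node 2 (.node 1 (.leaf 0x44230e) (.leaf 0xc42308)) (.node 1 (.leaf 0x144216a) (.leaf 0x843261))))) (.node 8 (.node 4 (.node 2 (.node 1 (.leaf 0x443ced) (.leaf 0xc43cec)) (.node 1 (.leaf 0x44540) (.leaf 0x144453f))) (.node 2 (.node 1 (.leaf 0x444aaa) (.leaf 0x44525f)) (.node 1 (.leaf 0xc4525a) (.leaf 0x1445188)))) (.node 4 (.node 2 (.node 1 (.leaf 0x46250) (.leaf 0xc46367)) (.node 1 (.leaf 0x1446190) (.leaf 0x846b07))) (.node 2 (.node 1 (.leaf 0x1046b75) (.leaf 0x1446994)) (.node 1 (.leaf 0x447197) (.leaf 0x447a6b))))))) (.node 32 (.node 16 (.node 8 (.node 4 (.node 2 (.node 1 (.leaf 0x14479a3) (.leaf 0x48aa9)) (.node 1 (.leaf 0xc48aa2) (.leaf 0x1448aab))) (.node 2 (.node 1 (.leaf 0x104929c) (.leaf 0x14491ac)) (.node 1 (.leaf 0x4499ae) (.leaf 0x44a29a)))) (.node 4 (.node 2 (.node 1 (.leaf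 0xc4a294) (.leaf 0x144a1bb)) (.node 1 (.leaf 0x84aba3) (.leaf 0x104abc2))) (.node 2 (.node 1 (.leaf 0x144a9bf) (.leaf 0x44b1c2)) (.node 1 (.leaf 0x144b9c5) (.leaf 0x44c1c8))))) (.node 8 (.node 4 (.node 2 (.node 1 (.leaf 0x4d2bd) (.leaf 0x84d2be)) (.node 1 (.leaf 0x144d2bf) (.leaf 0x44d9de))) (.node 2 (.node 1 (.leaf 0x44ecea) (.leaf 0xc4eceb)) (.node 1 (.leaf 0x4f53c) (.leaf 0x144f53e)))) (.node 4 (.node 2 (.node 1 (.leaf 0x4fcf3) (.leaf 0xc4fe25)) (.node 1 (.leaf 0x144fcf2) (.leaf 0x850382))) (.node 2 (.node 1 (.leaf 0x450b8a) (.leaf 0x51bf6)) (.node 1 (.leaf 0x1451bf4) (.leaf 0x8522fb)))))) (.node 16 (.node 8 (.node 4 (.node 2 (.node 1 (.leaf 0x1452200) (.leaf 0x452a01)) (.node 1 (.leaf 0x453b0c) (.leaf 0x1453a04))) (.node 2 (.node 1 (.leaf 0x454206) (.leaf 0x455450)) (.node 1 (.leaf 0xc5544a) (.leaf 0x145520a)))) (.node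 4 (.node 2 (.node 1 (.leaf 0x56461) (.leaf 0xc5645c)) (.node 1 (.leaf 0x145645f) (.leaf 0x1056bbb))) (.node 2 (.node 1 (.leaf 0x1456a14) (.leaf 0x457217)) (.node 1 (.leaf 0x457b7f) (.leaf 0x5863b))))) (.node 8 (.node 4 (.node 2 (.node 1 (.leaf 0xc5863a) (.leaf 0x1458638)) (.node 1 (.leaf 0x45965e) (.leaf 0x14593f5))) (.node 2 (.node 1 (.leaf 0x459be1) (.leaf 0x5a3de)) (.node 1 (.leaf 0x5ab7e) (.leaf 0xc5ab79)))) (.node 4 (.node 2 (.node 1 (.leaf 0x145ab80) (.leaf 0x105b373)) (.node 1 (.leaf 0x145b240) (.leaf 0x45ba42))) (.node 2 (.node 1 (.leaf 0x45c36a) (.leaf 0xc5c30d)) (.node 1 (.leaf 0x145c24a) (.leaf 0x85cbaa)))))))))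

def orbN_1 : Tree := (.node 80 (.node 40 (.node 20 (.node 10 (.node 5 (.node 2 (.node 1 (.leaf 0x105ccd0) (.leaf 0x145ca4e)) (.node 1 (.leaf 0x45d251) (.node 1 (.leaf 0x45dc5b) (.leaf 0x105dc57)))) (.node 2 (.node 1 (.leaf 0x145da56) (.leaf 0x145e258)) (.node 1 (.leaf 0x45ea5b) (.node 1 (.leaf 0x85fb8c) (.leaf 0x46026a))))) (.node 5 (.node 2 (.node 1 (.leaf 0x460bdd) (.leaf 0xc60bd5)) (.node 1 (.leaf 0x1460bdf) (.node 1 (.leaf 0x8613d6) (.leaf 0x10613d0)))) (.node 2 (.node 1 (.leaf 0x461a7f) (.leaf 0x1462278)) (.node 1 (.leaf 0x462a7a) (.node 1 (.leaf 0x6327e) (.leaf 0x63bca)))))) (.node 10 (.node 5 (.node 2 (.node 1 (.leaf 0x863bcb) (.leaf 0xc63bc6)) (.node 1 (.leaf 0x1463bcc) (.node 1 (.leaf 0x8643be) (.leaf 0x10643c0)))) (.node 2 (.node 1 (.leaf 0x146428d) (.leaf 0x464a8e)) (.node 1 (.leaf 0x1065503) (.node 1 (.leaf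 0x1465a92) (.leaf 0x466295))))) (.node 5 (.node 2 (.node 1 (.leaf 0x46729d) (.leaf 0x4692ba)) (.node 1 (.leaf 0x69ab8) (.node 1 (.leaf 0x869ab9) (.leaf 0xc6a53d)))) (.node 2 (.node 1 (.leaf 0x46c635) (.leaf 0xc6c5b6)) (.node 1 (.leaf 0x86cdb4) (.node 1 (.leaf 0x146cd3b) (.leaf 0x46dce8))))))) (.node 20 (.node 10 (.node 5 (.node 2 (.node 1 (.leaf 0x6e431) (.leaf 0x86e4bf)) (.node 1 (.leaf 0x46ed53) (.node 1 (.leaf 0x46fc4e) (.leaf 0xc6fc49)))) (.node 2 (.node 1 (.leaf 0x146faed) (.leaf 0x4702ee)) (.node 1 (.leaf 0x71462) (.node 1 (.leaf 0x72dab) (.leaf 0xc72da6))))) (.node 5 (.node 2 (.node 1 (.leaf 0x1472da9) (.leaf 0x1073517)) (.node 1 (.leaf 0x14732f9) (.node 1 (.leaf 0x473afc) (.leaf 0x4745ba)))) (.node 2 (.node 1 (.leaf 0x147430b) (.leaf 0x774e6)) (.node 1 (.leaf 0x14774e9) (.node 1 (.leaf 0x477ed3) (.leaf 0xc77d29))))))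 (.node 10 (.node 5 (.node 2 (.node 1 (.leaf 0x1477d28) (.leaf 0x878507)) (.node 1 (.leaf 0x1478527) (.node 1 (.leaf 0x796e1) (.leaf 0x8796e2)))) (.node 2 (.node 1 (.leaf 0x47b4e5) (.leaf 0xc7b4df)) (.node 1 (.leaf 0x147b4e7) (.node 1 (.leaf 0x87bce0) (.leaf 0x107bcd9))))) (.node 5 (.node 2 (.node 1 (.leaf 0x147bce1) (.leaf 0x47c356)) (.node 1 (.leaf 0x147cb4f) (.node 1 (.leaf 0x47d351) (.leaf 0x7db55)))) (.node 2 (.node 1 (.leaf 0x7e45a) (.leaf 0x87e4d2)) (.node 1 (.leaf 0x107ec4f) (.node 1 (.leaf 0x47fd0a) (.leaf 0x107fcc6)))))))) (.node 40 (.node 20 (.node 10 (.node 5 (.node 2 (.node 1 (.leaf 0x1480364) (.leaf 0x480b66)) (.node 1 (.leaf 0x81db5) (.node 1 (.leaf 0x1081db3) (.leaf 0xc825a1)))) (.node 2 (.node 1 (.leaf 0x1482370) (.leaf 0x483374)) (.node 1 (.leaf 0x84b89) (.node 1 (.leaf 0x85526) (.leaf 0x88553a))))) (.node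 5 (.node 2 (.node 1 (.leaf 0xc85532) (.leaf 0x885d33)) (.node 1 (.leaf 0x1085d2f) (.node 1 (.leaf 0x1086d30) (.leaf 0x48839e)))) (.node 2 (.node 1 (.leaf 0x88ba2) (.leaf 0xc89d21)) (.node 1 (.leaf 0x88ad22) (.node 1 (.leaf 0x108ad1f) (.leaf 0x148ad23)))))) (.node 10 (.node 5 (.node 2 (.node 1 (.leaf 0x48bd1b) (.leaf 0x108bd19)) (.node 1 (.leaf 0x148c3b9) (.node 1 (.leaf 0x48cbba) (.leaf 0xc8dbed)))) (.node 2 (.node 1 (.leaf 0x48e3c1) (.leaf 0x8fbec)) (.node 1 (.leaf 0x4903ea) (.node 1 (.leaf 0x8903eb) (.leaf 0x91ea6))))) (.node 5 (.node 2 (.node 1 (.leaf 0x89458e) (.leaf 0x95677)) (.node 1 (.leaf 0x895548) (.node 1 (.leaf 0x1495630) (.leaf 0x95dac)))) (.node 2 (.node 1 (.leaf 0xc95da5) (.leaf 0x149643c)) (.node 1 (.leaf 0x498667) (.node 1 (.leaf 0xc986a2) (.leaf 0x149844d))))))) (.node 20 (.node 10 (.node 5 (.node 2 (.node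 1 (.leaf 0x898ea4) (.leaf 0x49bc60)) (.node 1 (.leaf 0xc9ee45) (.node 1 (.leaf 0xca06d2) (.leaf 0xca0db9)))) (.node 2 (.node 1 (.leaf 0x8a1634) (.leaf 0x10a162f)) (.node 1 (.leaf 0xa4cbe) (.node 1 (.leaf 0x4a84cf) (.leaf 0xca9e50))))) (.node 5 (.node 2 (.node 1 (.leaf 0x14aa4d5) (.leaf 0x4abcf1)) (.node 1 (.leaf 0xcac655) (.node 1 (.leaf 0x8ad65b) (.leaf 0x10ad659)))) (.node 2 (.node 1 (.leaf 0x10ade5a) (.leaf 0xaf502)) (.node 1 (.leaf 0x8b0656) (.node 1 (.leaf 0x10b05a4) (.leaf 0x4b0e51)))))) (.node 10 (.node 5 (.node 2 (.node 1 (.leaf 0xcb0e53) (.leaf 0x14b0e57)) (.node 1 (.leaf 0x10b264f) (.node 1 (.leaf 0xcb2d47) (.leaf 0x8b9ea3)))) (.node 2 (.node 1 (.leaf 0x8bb6f0) (.leaf 0x4bbdaa)) (.node 1 (.leaf 0x8bd6d9) (.node 1 (.leaf 0x8be6a5) (.leaf 0x8c0edd))))) (.node 5 (.node 2 (.node 1 (.leaf 0x8c26de) (.leaf 0x10c26a1))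 (.node 1 (.leaf 0xcc2ee0) (.node 1 (.leaf 0x4c4edf) (.leaf 0xcc4ea0)))) (.node 2 (.node 1 (.leaf 0xcc5edc) (.leaf 0x4cb6f4)) (.node 1 (.leaf 0xccb6f1) (.node 1 (.leaf 0xccceef) (.leaf 0xcce6f5)))))))))

def orbN : Tree := (.node 256 orbN_0 orbN_1)

def orbNLen : ℕ := 416

def orbJS : Tree := (.node 50 (.node 25 (.node 12 (.node 6 (.node 3 (.node 1 (.leaf 0x2f) (.node 1 (.leaf 0x4c) (.leaf 0xc00048))) (.node 1 (.leaf 0x100004f) (.node 1 (.leaf 0x400863) (.leaf 0xc00870)))) (.node 3 (.node 1 (.leaf 0x1000879) (.node 1 (.leaf 0x1001073) (.leaf 0xc0187d))) (.node 1 (.leaf 0x2092) (.node 1 (.leaf 0xc02095) (.leaf 0x1002098))))) (.node 6 (.node 3 (.node 1 (.leaf 0x10028ac) (.node 1 (.leaf 0xc030b8) (.leaf 0xc038b0))) (.node 1 (.leaf 0x8040c0) (.node 1 (.leaf 0x4048e4) (.leaf 0xc048df)))) (.node 3 (.node 1 (.leaf 0x10048e2)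 (.node 1 (.leaf 0x10050e7) (.leaf 0xc058ed))) (.node 2 (.node 1 (.leaf 0xc06107) (.leaf 0x80691e)) (.node 1 (.leaf 0x80710f) (.leaf 0x407930)))))) (.node 12 (.node 6 (.node 3 (.node 1 (.leaf 0xc0792d) (.node 1 (.leaf 0x80815b) (.leaf 0x1008160))) (.node 1 (.leaf 0x100895a) (.node 1 (.leaf 0xc0915e) (.leaf 0xc09963)))) (.node 3 (.node 1 (.leaf 0x80a16a) (.node 1 (.leaf 0x80a988) (.leaf 0x40b1ae))) (.node 1 (.leaf 0xc0b1ac) (.node 1 (.leaf 0x40b997) (.leaf 0xc0b994))))) (.node 6 (.node 3 (.node 1 (.leaf 0xc0c1c8) (.node 1 (.leaf 0x100c9c5) (.leaf 0x100d201))) (.node 1 (.leaf 0xc0da06) (.node 1 (.leaf 0xc0e200) (.leaf 0x80ea04)))) (.node 3 (.node 1 (.leaf 0x80f20a) (.node 1 (.leaf 0x40fa17) (.leaf 0xc0fa14))) (.node 2 (.node 1 (.leaf 0x410242) (.leaf 0xc10240)) (.node 1 (.leaf 0x10a7e) (.leaf 0xc10a7a))))))) (.node 25 (.node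 12 (.node 6 (.node 3 (.node 1 (.leaf 0x1011278) (.node 1 (.leaf 0xc11a5b) (.leaf 0x812256))) (.node 1 (.leaf 0x1012258) (.node 1 (.leaf 0x812a95) (.leaf 0x1012a9d)))) (.node 3 (.node 1 (.leaf 0xc13aee) (.node 1 (.leaf 0x814aed) (.leaf 0x415afc))) (.node 1 (.leaf 0xc15af9) (.node 1 (.leaf 0x1624e) (.leaf 0xc1624a))))) (.node 6 (.node 3 (.node 1 (.leaf 0x1016a8e) (.node 1 (.leaf 0x17355) (.leaf 0xc17351))) (.node 1 (.leaf 0x1017b4f) (.node 1 (.leaf 0xc183a2) (.leaf 0x8189bf)))) (.node 3 (.node 1 (.leaf 0x1018b9e) (.node 1 (.leaf 0x1019b74) (.leaf 0x101a370))) (.node 2 (.node 1 (.leaf 0xc1b1c2) (.leaf 0x101b3c1)) (.node 1 (.leaf 0xc1cc3c) (.leaf 0x1d364)))))) (.node 12 (.node 6 (.node 3 (.node 1 (.leaf 0xc1d3b9) (.node 1 (.leaf 0x101dbba) (.leaf 0x41e366))) (.node 1 (.leaf 0xc1e190) (.node 1 (.leaf 0x81e9a3) (.leaf 0x101e9bb))))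 (.node 3 (.node 1 (.leaf 0xc1fcbe) (.node 1 (.leaf 0x82026a) (.leaf 0x10202b9))) (.node 1 (.leaf 0x82128d) (.node 1 (.leaf 0x1021502) (.leaf 0xc2192a))))) (.node 6 (.node 3 (.node 1 (.leaf 0x1021a92) (.node 1 (.leaf 0xc234d5) (.leaf 0x1023a51))) (.node 1 (.leaf 0xc244cf) (.node 1 (.leaf 0x82711a) (.leaf 0xc27941)))) (.node 3 (.node 1 (.leaf 0x828b89) (.node 1 (.leaf 0x1028beb) (.leaf 0xc291de))) (.node 2 (.node 1 (.leaf 0x82b0cd) (.leaf 0x42ecf1)) (.node 1 (.leaf 0xc2eab8) (.leaf 0xc30bea))))))))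

def orbJSLen : ℕ := 100

def orbJL_0 : Tree := (.node 128 (.node 64 (.node 32 (.node 16 (.node 8 (.node 4 (.node 2 (.node 1 (.leaf 0x51) (.leaf 0x52)) (.node 1 (.leaf 0x400081) (.leaf 0xc00074))) (.node 2 (.node 1 (.leaf 0x100007f) (.leaf 0x400882)) (.node 1 (.leaf 0xc00875) (.leaf 0x1000880)))) (.node 4 (.node 2 (.node 1 (.leaf 0x10c6) (.leaf 0x8010c7)) (.node 1 (.leaf 0xc010b3) (.leaf 0x10010c4))) (.node 2 (.node 1 (.leaf 0x80189a) (.leaf 0x10018b1)) (.node 1 (.leaf 0xc020c2) (.leaf 0x28b4))))) (.node 8 (.node 4 (.node 2 (.node 1 (.leaf 0x8028c9) (.leaf 0x10028c5)) (.node 1 (.leaf 0x80309b) (.leaf 0x10030b2))) (.node 2 (.node 1 (.leaf 0xc038c3) (.leaf 0x404114)) (.node 1 (.leaf 0x80413a) (.leaf 0x1004135)))) (.node 4 (.node 2 (.node 1 (.leaf 0xc0493b) (.leaf 0x1004936)) (.node 1 (.leaf 0x805115) (.leaf 0x1005112)))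 (.node 2 (.node 1 (.leaf 0xc05933) (.leaf 0x4060e9)) (.node 1 (.leaf 0x10060ef) (.leaf 0xc06910)))))) (.node 16 (.node 8 (.node 4 (.node 2 (.node 1 (.leaf 0x80712f) (.leaf 0x807916)) (.node 1 (.leaf 0x1007913) (.leaf 0xc0813d))) (.node 2 (.node 1 (.leaf 0x1008138) (.leaf 0xc08934)) (.node 1 (.leaf 0x4090c8) (.leaf 0xc090ea)))) (.node 4 (.node 2 (.node 1 (.leaf 0x10090f0) (.leaf 0xc09911)) (.node 1 (.leaf 0x80a131) (.leaf 0x80a90b))) (.node 2 (.node 1 (.leaf 0x100a99b) (.leaf 0x40b1a0)) (.node 1 (.leaf 0xc0b1d6) (.leaf 0x100b1d3))))) (.node 8 (.node 4 (.node 2 (.node 1 (.leaf 0xc0b9ce) (.leaf 0x80c1b6)) (.node 1 (.leaf 0x100d19c) (.leaf 0xc0d999))) (.node 2 (.node 1 (.leaf 0x80e1cf) (.leaf 0x100e965)) (.node 1 (.leaf 0xc0f16c) (.leaf 0x80f996)))) (.node 4 (.node 2 (.node 1 (.leaf 0x4101cd) (.leaf 0xc101c7)) (.node 1 (.leaf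 0x41093c) (.leaf 0xc1099f))) (.node 2 (.node 1 (.leaf 0x101099d) (.leaf 0xc1119a)) (.node 1 (.leaf 0x8119d8) (.leaf 0x8129d1))))))) (.node 32 (.node 16 (.node 8 (.node 4 (.node 2 (.node 1 (.leaf 0x130bc) (.leaf 0x1013137)) (.node 1 (.leaf 0x1013966) (.leaf 0xc1416d))) (.node 2 (.node 1 (.leaf 0x814998) (.leaf 0x4151c3)) (.node 1 (.leaf 0xc151c9) (.leaf 0x415917)))) (.node 4 (.node 2 (.node 1 (.leaf 0x101598c) (.leaf 0xc16260)) (.node 1 (.leaf 0x1693e) (.leaf 0xc16a67))) (.node 2 (.node 1 (.leaf 0x1016a65) (.leaf 0x8171d7)) (.node 1 (.leaf 0x8182ac) (.leaf 0x418a84))))) (.node 8 (.node 4 (.node 2 (.node 1 (.leaf 0xc18926) (.leaf 0xc19262)) (.node 1 (.leaf 0x819a61) (.leaf 0x41a2aa))) (.node 2 (.node 1 (.leaf 0xc1aa0c) (.leaf 0x81b216)) (.node 1 (.leaf 0x41ba5f) (.leaf 0xc1ba5a)))) (.node 4 (.node 2 (.node 1 (.leaf 0x1c2a9)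 (.leaf 0xc1c2a2)) (.node 1 (.leaf 0x101ca9c) (.leaf 0x101d1d4))) (.node 2 (.node 1 (.leaf 0x81da66) (.leaf 0x81ea63)) (.node 1 (.leaf 0x41f2b0) (.leaf 0x41f944)))))) (.node 16 (.node 8 (.node 4 (.node 2 (.node 1 (.leaf 0x4200ca) (.leaf 0x1020122)) (.node 1 (.leaf 0xc209d0) (.leaf 0xc2120d))) (.node 2 (.node 1 (.leaf 0x821a18) (.leaf 0x422252)) (.node 1 (.leaf 0xc2225c) (.leaf 0x229c1)))) (.node 4 (.node 2 (.node 1 (.leaf 0xc22a96) (.leaf 0x102329e)) (.node 1 (.leaf 0x102399e) (.leaf 0xc24245))) (.node 2 (.node 1 (.leaf 0x824b81) (.leaf 0x4251da)) (.node 1 (.leaf 0xc251d9) (.leaf 0x10251d5))))) (.node 8 (.node 4 (.node 2 (.node 1 (.leaf 0x825b85) (.leaf 0x4273e0)) (.node 1 (.leaf 0xc279b7) (.leaf 0x10281b4))) (.node 2 (.node 1 (.leaf 0x828b83) (.leaf 0x42937f)) (.node 1 (.leaf 0xc29382) (.leaf 0x29bde)))) (.node 4 (.node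 2 (.node 1 (.leaf 0x82a2fb) (.leaf 0x42ab0c)) (.node 1 (.leaf 0xc2ab07) (.leaf 0x2b37e))) (.node 2 (.node 1 (.leaf 0xc2b379) (.leaf 0x82bb08)) (.node 1 (.leaf 0x102bb73) (.leaf 0x42c3dd)))))))) (.node 64 (.node 32 (.node 16 (.node 8 (.node 4 (.node 2 (.node 1 (.leaf 0xc2c3d5) (.leaf 0x82cbd6)) (.node 1 (.leaf 0x102cbd0) (.leaf 0x42e9a5))) (.node 2 (.node 1 (.leaf 0x2f943) (.leaf 0x1030139)) (.node 1 (.leaf 0xc309b1) (.leaf 0x8312ad)))) (.node 4 (.node 2 (.node 1 (.leaf 0x831afd) (.leaf 0x43230e)) (.node 1 (.leaf 0x32a50) (.leaf 0xc32b67))) (.node 2 (.node 1 (.leaf 0x1033375) (.leaf 0x433a9a)) (.node 1 (.leaf 0xc33a94) (.leaf 0x8343a3))))) (.node 8 (.node 4 (.node 2 (.node 1 (.leaf 0x10343c2) (.leaf 0xc35264)) (.node 1 (.leaf 0x835b59) (.leaf 0x4364ea))) (.node 2 (.node 1 (.leaf 0xc364eb) (.leaf 0xc36ab2)) (.node 1 (.leaf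 0x1036aaf) (.leaf 0x8372b1)))) (.node 4 (.node 2 (.node 1 (.leaf 0x38d3c) (.leaf 0x1039283)) (.node 1 (.leaf 0x43a4ed) (.leaf 0xc3a4ec))) (.node 2 (.node 1 (.leaf 0x3ace6) (.leaf 0xc3ace8)) (.node 1 (.leaf 0x83b4c9) (.leaf 0x43bd3b)))))) (.node 16 (.node 8 (.node 4 (.node 2 (.node 1 (.leaf 0x43c44e) (.leaf 0xc3c449)) (.node 1 (.leaf 0x3cc62) (.leaf 0xc3cc5b))) (.node 2 (.node 1 (.leaf 0x103d457) (.leaf 0x43dce5)) (.node 1 (.leaf 0xc3dcdf) (.leaf 0x83e4e0)))) (.node 4 (.node 2 (.node 1 (.leaf 0x103e4d9) (.leaf 0x43ec5c)) (.node 1 (.leaf 0x103ebbb) (.leaf 0x3fd26))) (.node 2 (.node 1 (.leaf 0x83fd3a) (.leaf 0xc3fd32)) (.node 1 (.leaf 0x840533) (.leaf 0x104052f))))) (.node 8 (.node 4 (.node 2 (.node 1 (.leaf 0xc40aab) (.leaf 0x1040d30)) (.node 1 (.leaf 0x419a4) (.leaf 0x4421e1))) (.node 2 (.node 1 (.leaf 0xc429d2) (.leaf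 0x843282)) (.node 1 (.leaf 0x443be2) (.leaf 0x444450)))) (.node 4 (.node 2 (.node 1 (.leaf 0xc4444a) (.leaf 0x44c61)) (.node 1 (.leaf 0x44536a) (.leaf 0xc4530d))) (.node 2 (.node 1 (.leaf 0x845baa) (.leaf 0x1045cd0)) (.node 1 (.leaf 0x46bca) (.leaf 0x846bcb))))))) (.node 32 (.node 16 (.node 8 (.node 4 (.node 2 (.node 1 (.leaf 0xc46bc6) (.leaf 0x8473be)) (.node 1 (.leaf 0x10473c0) (.leaf 0xc47a7f))) (.node 2 (.node 1 (.leaf 0x1047d03) (.leaf 0x848b84)) (.node 1 (.leaf 0x4494ca) (.leaf 0x49d3e)))) (.node 4 (.node 2 (.node 1 (.leaf 0xc49d3d) (.leaf 0x44c4f2)) (.node 1 (.leaf 0x4d63b) (.leaf 0xc4d63a))) (.node 2 (.node 1 (.leaf 0x44e527) (.leaf 0xc4e4e9)) (.node 1 (.leaf 0x84ece7) (.leaf 0x44f625))))) (.node 8 (.node 4 (.node 2 (.node 1 (.leaf 0x4fcd2) (.leaf 0x84fc5a)) (.node 1 (.leaf 0x505ac) (.leaf 0xc505a5))) (.node 2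 (.node 1 (.leaf 0x1050da1) (.leaf 0x45158e)) (.node 1 (.leaf 0xc515b5) (.leaf 0x851d0a)))) (.node 4 (.node 2 (.node 1 (.leaf 0x1051db3) (.leaf 0xc52db9)) (.node 1 (.leaf 0x853634) (.leaf 0x105362f))) (.node 2 (.node 1 (.leaf 0x453db6) (.leaf 0xc53e35)) (.node 1 (.leaf 0x1053e30) (.leaf 0x54db4)))))) (.node 16 (.node 8 (.node 4 (.node 2 (.node 1 (.leaf 0x1054bcc) (.leaf 0xc55517)) (.node 1 (.leaf 0xc55e55) (.leaf 0xc56460))) (.node 2 (.node 1 (.leaf 0x856e5b) (.leaf 0x1056e59)) (.node 1 (.leaf 0x457645) (.leaf 0xc573df)))) (.node 4 (.node 2 (.node 1 (.leaf 0x105765a) (.leaf 0x8583e1)) (.node 1 (.leaf 0x1058380) (.leaf 0xc58d48))) (.node 2 (.node 1 (.leaf 0x45926b) (.leaf 0x59abd)) (.node 1 (.leaf 0x859abe) (.leaf 0x85a2ae))))) (.node 8 (.node 4 (.node 2 (.node 1 (.leaf 0x45abac) (.leaf 0x5b540)) (.node 1 (.leaf 0x5bdab)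 (.leaf 0xc5bda6))) (.node 2 (.node 1 (.leaf 0x45cdba) (.leaf 0xc5d45f)) (.node 1 (.leaf 0x105dc4f) (.leaf 0x105e4c6)))) (.node 4 (.node 2 (.node 1 (.leaf 0xc5f521) (.leaf 0xc5fd28)) (.node 1 (.leaf 0x860522) (.leaf 0x106051f))) (.node 2 (.node 1 (.leaf 0x460d1b) (.leaf 0x1060d19)) (.node 1 (.leaf 0x1061b56) (.leaf 0xc623ed)))))))))

def orbJL_1 : Tree := (.node 29 (.node 14 (.node 7 (.node 3 (.node 1 (.leaf 0x462b88) (.node 1 (.leaf 0x634f3) (.leaf 0x463bf4))) (.node 2 (.node 1 (.leaf 0x64b8c) (.leaf 0x864b8b)) (.node 1 (.leaf 0x4656d3) (.leaf 0xc65529)))) (.node 3 (.node 1 (.leaf 0x865d07) (.node 1 (.leaf 0xc66638) (.leaf 0xc68b0b))) (.node 2 (.node 1 (.leaf 0x469547) (.leaf 0xc6964f)) (.node 1 (.leaf 0x869ea3) (.leaf 0x1069e50))))) (.node 7 (.node 3 (.node 1 (.leaf 0x6acbf) (.node 1 (.leaf 0x86ac31) (.leaf 0x86cea5)))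 (.node 2 (.node 1 (.leaf 0x46d6d2) (.leaf 0xc6d6a6)) (.node 1 (.leaf 0x86ece1) (.leaf 0x106ed53)))) (.node 4 (.node 2 (.node 1 (.leaf 0xc70523) (.leaf 0x8716de)) (.node 1 (.leaf 0x10716a1) (.leaf 0x871daa))) (.node 2 (.node 1 (.leaf 0x4726d9) (.leaf 0xc726e0)) (.node 1 (.leaf 0x10736a2) (.leaf 0xc74667)))))) (.node 15 (.node 7 (.node 3 (.node 1 (.leaf 0x474d3f) (.node 1 (.leaf 0xc773f5) (.leaf 0x477ab7))) (.node 2 (.node 1 (.leaf 0x783f6) (.leaf 0x478e5e)) (.node 1 (.leaf 0x879ea4) (.leaf 0x107ada9)))) (.node 4 (.node 2 (.node 1 (.leaf 0x87c656) (.leaf 0x107c5a4)) (.node 1 (.leaf 0x87cc4d) (.leaf 0x47d651))) (.node 2 (.node 1 (.leaf 0xc7d653) (.leaf 0x87faba)) (.node 1 (.leaf 0x8038d) (.leaf 0x82ee2))))) (.node 7 (.node 3 (.node 1 (.leaf 0x882ee1) (.node 1 (.leaf 0x8853ec) (.leaf 0x885edc))) (.node 2 (.node 1 (.leaf 0xc866dd)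 (.leaf 0x88738a)) (.node 1 (.leaf 0x1089677) (.leaf 0x88ae57)))) (.node 4 (.node 2 (.node 1 (.leaf 0x48b6f4) (.leaf 0xc8b6f1)) (.node 1 (.leaf 0xc8cef0) (.leaf 0x8fabf))) (.node 2 (.node 1 (.leaf 0x4926df) (.leaf 0xc926a0)) (.node 1 (.leaf 0xc99ef5) (.leaf 0xc9beef)))))))

def orbJL : Tree := (.node 256 orbJL_0 orbJL_1)

def orbJLLen : ℕ := 315

def orbF_0 : Tree := (.node 128 (.node 64 (.node 32 (.node 16 (.node 8 (.node 4 (.node 2 (.node 1 (.leaf 0x1) (.leaf 0x400002)) (.node 1 (.leaf 0x803) (.leaf 0x800804))) (.node 2 (.node 1 (.leaf 0x1400805) (.leaf 0x401006)) (.node 1 (.leaf 0x801007) (.leaf 0xc01808)))) (.node 4 (.node 2 (.node 1 (.leaf 0x1401809) (.leaf 0x80280a)) (.node 1 (.leaf 0x40300b) (.leaf 0xc0300c))) (.node 2 (.node 1 (.leaf 0x80380d) (.leaf 0x100380e)) (.node 1 (.leaf 0x140380f) (.leaf 0x404010))))) (.node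 8 (.node 4 (.node 2 (.node 1 (.leaf 0x404811) (.leaf 0xc04812)) (.node 1 (.leaf 0x5013) (.leaf 0xc05014))) (.node 2 (.node 1 (.leaf 0x1405015) (.leaf 0x805817)) (.node 1 (.leaf 0x1005818) (.leaf 0x406019)))) (.node 4 (.node 2 (.node 1 (.leaf 0x100601a) (.leaf 0x140601b)) (.node 1 (.leaf 0x140681c) (.leaf 0x40701d))) (.node 2 (.node 1 (.leaf 0x8016) (.leaf 0xc0801f)) (.node 1 (.leaf 0x1408020) (.leaf 0x808821)))))) (.node 16 (.node 8 (.node 4 (.node 2 (.node 1 (.leaf 0x1008822) (.leaf 0x40901e)) (.node 1 (.leaf 0xc09023) (.leaf 0x1409024))) (.node 2 (.node 1 (.leaf 0x809825) (.leaf 0x1009826)) (.node 1 (.leaf 0x1409827) (.leaf 0x40a82a)))) (.node 4 (.node 2 (.node 1 (.leaf 0x100a82b) (.leaf 0xb82c)) (.node 1 (.leaf 0x100b82d) (.leaf 0x140b82e))) (.node 2 (.node 1 (.leaf 0xc0c030) (.leaf 0x140c031)) (.node 1 (.leaf 0x40c832)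 (.leaf 0x40d033))))) (.node 8 (.node 4 (.node 2 (.node 1 (.leaf 0x80d834) (.leaf 0xc0e028)) (.node 1 (.leaf 0x140e029) (.leaf 0x80e835))) (.node 2 (.node 1 (.leaf 0x100e836) (.leaf 0x140e837)) (.node 1 (.leaf 0x40f838) (.leaf 0x100f839)))) (.node 4 (.node 2 (.node 1 (.leaf 0x101103a) (.leaf 0x141103b)) (.node 1 (.leaf 0x41203c) (.leaf 0xc1203d))) (.node 2 (.node 1 (.leaf 0x101203e) (.leaf 0x141203f)) (.node 1 (.leaf 0x1412841) (.leaf 0x13845))))))) (.node 32 (.node 16 (.node 8 (.node 4 (.node 2 (.node 1 (.leaf 0x1013846) (.leaf 0x1413847)) (.node 1 (.leaf 0xc14049) (.leaf 0x414840))) (.node 2 (.node 1 (.leaf 0x101484a) (.leaf 0x141484b)) (.node 1 (.leaf 0xc1504d) (.leaf 0x141504e)))) (.node 4 (.node 2 (.node 1 (.leaf 0x415850) (.leaf 0x816053)) (.node 1 (.leaf 0x1416054) (.leaf 0x416855))) (.node 2 (.node 1 (.leaf 0x817856)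 (.leaf 0x1018842)) (.node 1 (.leaf 0x1418843) (.leaf 0x419044))))) (.node 8 (.node 4 (.node 2 (.node 1 (.leaf 0x419857) (.leaf 0x1019858)) (.node 1 (.leaf 0x1419859) (.leaf 0x141a05a))) (.node 2 (.node 1 (.leaf 0x101b05b) (.leaf 0x141b05c)) (.node 1 (.leaf 0xc1b85d) (.leaf 0x141c05e)))) (.node 4 (.node 2 (.node 1 (.leaf 0x1d05f) (.leaf 0xc1d060)) (.node 1 (.leaf 0x101d061) (.leaf 0x141d062))) (.node 2 (.node 1 (.leaf 0x81d864) (.leaf 0x101d865)) (.node 1 (.leaf 0x141d866) (.leaf 0xc1e067)))))) (.node 16 (.node 8 (.node 4 (.node 2 (.node 1 (.leaf 0x141e068) (.leaf 0x41e86a)) (.node 1 (.leaf 0x101f86e) (.leaf 0x141f86f))) (.node 2 (.node 1 (.leaf 0xc20071) (.leaf 0x1420072)) (.node 1 (.leaf 0x821076) (.leaf 0x1021869)))) (.node 4 (.node 2 (.node 1 (.leaf 0x142186b) (.leaf 0xc22077)) (.node 1 (.leaf 0x1422078) (.leaf 0x42287a)))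 (.node 2 (.node 1 (.leaf 0x82307b) (.leaf 0x142307c)) (.node 1 (.leaf 0x42387e) (.leaf 0x424883))))) (.node 8 (.node 4 (.node 2 (.node 1 (.leaf 0x1424884) (.leaf 0x425085)) (.node 1 (.leaf 0x142686c) (.leaf 0x42706d))) (.node 2 (.node 1 (.leaf 0x1028086) (.leaf 0x1428087)) (.node 1 (.leaf 0xc28888) (.leaf 0x1428889)))) (.node 4 (.node 2 (.node 1 (.leaf 0x42908a) (.leaf 0xc2a08b)) (.node 1 (.leaf 0x142a08c) (.leaf 0x82b08e))) (.node 2 (.node 1 (.leaf 0x42c08f) (.leaf 0x102c090)) (.node 1 (.leaf 0x142c091) (.leaf 0x102c893)))))))) (.node 64 (.node 32 (.node 16 (.node 8 (.node 4 (.node 2 (.node 1 (.leaf 0x142c894) (.leaf 0xc2d096)) (.node 1 (.leaf 0x142d097) (.leaf 0x42d899))) (.node 2 (.node 1 (.leaf 0x102e09c) (.leaf 0x142e08d)) (.node 1 (.leaf 0xc2e89d) (.leaf 0x142e89e)))) (.node 4 (.node 2 (.node 1 (.leaf 0x42f09f)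 (.leaf 0x82f8a0)) (.node 1 (.leaf 0x142f8a1) (.leaf 0x4300a3))) (.node 2 (.node 1 (.leaf 0x308a5) (.leaf 0xc310aa)) (.node 1 (.leaf 0x14310ab) (.leaf 0x4318ad))))) (.node 8 (.node 4 (.node 2 (.node 1 (.leaf 0x8320ae) (.leaf 0x14320af)) (.node 1 (.leaf 0x4330b5) (.leaf 0xc338a2))) (.node 2 (.node 1 (.leaf 0x14338a4) (.leaf 0x4340a7)) (.node 1 (.leaf 0x8348b6) (.leaf 0x14348b7)))) (.node 4 (.node 2 (.node 1 (.leaf 0x4350b9) (.leaf 0x358ba)) (.node 1 (.leaf 0x8358bb) (.leaf 0x4360bd))) (.node 2 (.node 1 (.leaf 0xc360be) (.leaf 0x14360bf)) (.node 1 (.leaf 0x4368c1) (.leaf 0x378cb)))))) (.node 16 (.node 8 (.node 4 (.node 2 (.node 1 (.leaf 0x14378cc) (.leaf 0x4380ce)) (.node 1 (.leaf 0x8388cf) (.leaf 0x4390a8))) (.node 2 (.node 1 (.leaf 0x8398a9) (.leaf 0xc3a0d0)) (.node 1 (.leaf 0x143a0d1) (.leaf 0x43a8d2)))) (.node 4 (.node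 2 (.node 1 (.leaf 0x83b0d3) (.leaf 0x143b0d4)) (.node 1 (.leaf 0x43b8d5) (.leaf 0x3c0d6))) (.node 2 (.node 1 (.leaf 0x83c8d8) (.leaf 0x143c8d9)) (.node 1 (.leaf 0x43d8dc) (.leaf 0x103e0dd))))) (.node 8 (.node 4 (.node 2 (.node 1 (.leaf 0x143e0de) (.leaf 0xc3e8e0)) (.node 1 (.leaf 0x143e8e1) (.leaf 0x43f0e3))) (.node 2 (.node 1 (.leaf 0xc3f8e5) (.leaf 0x143f8e6)) (.node 1 (.leaf 0x4400e8) (.leaf 0x8408eb)))) (.node 4 (.node 2 (.node 1 (.leaf 0x14408ec) (.leaf 0x4410ee)) (.node 1 (.leaf 0x418f1) (.leaf 0xc420f2))) (.node 2 (.node 1 (.leaf 0x14420da) (.leaf 0x4428db)) (.node 1 (.leaf 0x8430f3) (.leaf 0x14430f4))))))) (.node 32 (.node 16 (.node 8 (.node 4 (.node 2 (.node 1 (.leaf 0x4438f5) (.leaf 0x440a6)) (.node 1 (.leaf 0x8440f6) (.leaf 0x4448f7))) (.node 2 (.node 1 (.leaf 0x14448f8) (.leaf 0x4450fa)) (.node 1 (.leaf 0x458fc)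 (.leaf 0x4460ff)))) (.node 4 (.node 2 (.node 1 (.leaf 0x846905) (.leaf 0x1446906)) (.node 1 (.leaf 0x447108) (.leaf 0x47909))) (.node 2 (.node 1 (.leaf 0x84790a) (.leaf 0x44810c)) (.node 1 (.leaf 0xc4810d) (.leaf 0x144810e))))) (.node 8 (.node 4 (.node 2 (.node 1 (.leaf 0x49118) (.leaf 0x1449119)) (.node 1 (.leaf 0x8498f9) (.leaf 0x14498fb))) (.node 2 (.node 1 (.leaf 0x44a0fe) (.leaf 0x4a901)) (.node 1 (.leaf 0x84a902) (.leaf 0x44b11b)))) (.node 4 (.node 2 (.node 1 (.leaf 0xc4b11c) (.leaf 0x144b11d)) (.node 1 (.leaf 0x44b91f) (.leaf 0x4c120))) (.node 2 (.node 1 (.leaf 0x84c121) (.leaf 0x44c923)) (.node 1 (.leaf 0x84c924) (.leaf 0xc4d125)))))) (.node 16 (.node 8 (.node 4 (.node 2 (.node 1 (.leaf 0x4d927) (.leaf 0xc4d928)) (.node 1 (.leaf 0x144d929) (.leaf 0x104e12b))) (.node 2 (.node 1 (.leaf 0x144e12c) (.leaf 0x44e92e))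 (.node 1 (.leaf 0x84f132) (.leaf 0x44f93f)))) (.node 4 (.node 2 (.node 1 (.leaf 0x144f940) (.leaf 0x450142)) (.node 1 (.leaf 0x50945) (.leaf 0x850946))) (.node 2 (.node 1 (.leaf 0x851903) (.leaf 0xc52104)) (.node 1 (.leaf 0x852948) (.leaf 0x1452949))))) (.node 8 (.node 4 (.node 2 (.node 1 (.leaf 0x45314a) (.leaf 0x45414b)) (.node 1 (.leaf 0x145414c) (.leaf 0x45494d))) (.node 2 (.node 1 (.leaf 0x5514e) (.leaf 0x456150)) (.node 1 (.leaf 0xc56151) (.leaf 0x1456152)))) (.node 4 (.node 2 (.node 1 (.leaf 0x57155) (.leaf 0x1457156)) (.node 1 (.leaf 0xc57958) (.leaf 0x1457959))) (.node 2 (.node 1 (.leaf 0x85895c) (.leaf 0x145895d)) (.node 1 (.leaf 0x45915f) (.leaf 0x85a161)))))))))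

def orbF_1 : Tree := (.node 128 (.node 64 (.node 32 (.node 16 (.node 8 (.node 4 (.node 2 (.node 1 (.leaf 0x145a162) (.leaf 0x45a964)) (.node 1 (.leaf 0x5b100) (.leaf 0x45b967))) (.node 2 (.node 1 (.leaf 0xc5b968) (.leaf 0x145b969)) (.node 1 (.leaf 0x45c16b) (.leaf 0x5c96e)))) (.node 4 (.node 2 (.node 1 (.leaf 0x85d96f) (.leaf 0x145d953)) (.node 1 (.leaf 0x45e154) (.leaf 0x45f170))) (.node 2 (.node 1 (.leaf 0xc5f171) (.leaf 0x145f172)) (.node 1 (.leaf 0x45f973) (.leaf 0x600fd))))) (.node 8 (.node 4 (.node 2 (.node 1 (.leaf 0x860174) (.leaf 0x4608d7)) (.node 1 (.leaf 0x61975) (.leaf 0x1461976))) (.node 2 (.node 1 (.leaf 0x462178) (.leaf 0x6297b)) (.node 1 (.leaf 0x86297c) (.leaf 0x46317f)))) (.node 4 (.node 2 (.node 1 (.leaf 0x464185) (.leaf 0xc64186)) (.node 1 (.leaf 0x1464187) (.leaf 0x464989))) (.node 2 (.node 1 (.leaf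 0x6518a) (.leaf 0x86518b)) (.node 1 (.leaf 0x6698d) (.leaf 0xc6698e)))))) (.node 16 (.node 8 (.node 4 (.node 2 (.node 1 (.leaf 0x146698f) (.leaf 0x867191)) (.node 1 (.leaf 0x1067192) (.leaf 0x1467193))) (.node 2 (.node 1 (.leaf 0x467995) (.leaf 0x4681a1)) (.node 1 (.leaf 0x14681a2) (.leaf 0x469179)))) (.node 4 (.node 2 (.node 1 (.leaf 0x146917a) (.leaf 0x46997e)) (.node 1 (.leaf 0x6a181) (.leaf 0x86a182))) (.node 2 (.node 1 (.leaf 0x86a983) (.leaf 0xc6b184)) (.node 1 (.leaf 0x6b9a6) (.leaf 0xc6b9a7))))) (.node 8 (.node 4 (.node 2 (.node 1 (.leaf 0x146b9a8) (.leaf 0x106c1aa)) (.node 1 (.leaf 0x146c1ab) (.leaf 0x46c9ad))) (.node 2 (.node 1 (.leaf 0x6d1af) (.leaf 0x86d1b0)) (.node 1 (.leaf 0x46d9b2) (.leaf 0x86d9b3)))) (.node 4 (.node 2 (.node 1 (.leaf 0xc6f1b5) (.leaf 0x4701b8)) (.node 1 (.leaf 0xc701b9) (.leaf 0x14701ba)))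 (.node 2 (.node 1 (.leaf 0x8709bc) (.leaf 0x10709bd)) (.node 1 (.leaf 0x14709be) (.leaf 0x4711c0))))))) (.node 32 (.node 16 (.node 8 (.node 4 (.node 2 (.node 1 (.leaf 0x14719c4) (.leaf 0x4721c6)) (.node 1 (.leaf 0x729ca) (.leaf 0x8729cb))) (.node 2 (.node 1 (.leaf 0x73947) (.leaf 0x8739db)) (.node 1 (.leaf 0x14739dc) (.leaf 0x4741dd)))) (.node 4 (.node 2 (.node 1 (.leaf 0x749df) (.leaf 0x8749e0)) (.node 1 (.leaf 0x4751e2) (.leaf 0x8751e3))) (.node 2 (.node 1 (.leaf 0x4771e6) (.leaf 0xc771e7)) (.node 1 (.leaf 0x14771e8) (.leaf 0x4779e9))))) (.node 8 (.node 4 (.node 2 (.node 1 (.leaf 0x789ea) (.leaf 0x14789eb)) (.node 1 (.leaf 0x4791ed) (.leaf 0x799ee))) (.node 2 (.node 1 (.leaf 0x8799ef) (.leaf 0x7a9f1)) (.node 1 (.leaf 0xc7a9f2) (.leaf 0x147a9f3)))) (.node 4 (.node 2 (.node 1 (.leaf 0x87b1f5) (.leaf 0x147b1f6)) (.node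 1 (.leaf 0x47b9f7) (.leaf 0x47c1fa))) (.node 2 (.node 1 (.leaf 0x147c1fb) (.leaf 0x87d1fe)) (.node 1 (.leaf 0x147d1ff) (.leaf 0x47e202)))))) (.node 16 (.node 8 (.node 4 (.node 2 (.node 1 (.leaf 0x147e203) (.leaf 0x47ea05)) (.node 1 (.leaf 0x47fa07) (.leaf 0xc7fa08))) (.node 2 (.node 1 (.leaf 0x147fa09) (.leaf 0x48020b)) (.node 1 (.leaf 0x80980) (.leaf 0x81a0e)))) (.node 4 (.node 2 (.node 1 (.leaf 0xc81a0f) (.leaf 0x1481a10)) (.node 1 (.leaf 0x1082212) (.leaf 0x1482213))) (.node 2 (.node 1 (.leaf 0x482a15) (.leaf 0x83219)) (.node 1 (.leaf 0x88321a) (.leaf 0x48421b))))) (.node 8 (.node 4 (.node 2 (.node 1 (.leaf 0x14841f8) (.leaf 0x4849f9)) (.node 1 (.leaf 0x85a1c) (.leaf 0xc85a1d))) (.node 2 (.node 1 (.leaf 0x1485a1e) (.leaf 0x1486220)) (.node 1 (.leaf 0x486a21) (.leaf 0x8717d)))) (.node 4 (.node 2 (.node 1 (.leaf 0x887222)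 (.leaf 0x48794f)) (.node 1 (.leaf 0xc88223) (.leaf 0x489224))) (.node 2 (.node 1 (.leaf 0x1489225) (.leaf 0x489a27)) (.node 1 (.leaf 0x8a22b) (.leaf 0x88a22c)))))))) (.node 64 (.node 32 (.node 16 (.node 8 (.node 4 (.node 2 (.node 1 (.leaf 0x48aa31) (.leaf 0x88aa32)) (.node 1 (.leaf 0xc8b233) (.leaf 0x8c23a))) (.node 2 (.node 1 (.leaf 0xc8c23b) (.leaf 0x148c23c)) (.node 1 (.leaf 0x108ca3e) (.leaf 0x148ca3f)))) (.node 4 (.node 2 (.node 1 (.leaf 0x48d241) (.leaf 0x8da43)) (.node 1 (.leaf 0x88da44) (.leaf 0xc8ea46))) (.node 2 (.node 1 (.leaf 0x48f247) (.leaf 0xc8f248)) (.node 1 (.leaf 0x148f249) (.leaf 0x88fa4b))))) (.node 8 (.node 4 (.node 2 (.node 1 (.leaf 0x108fa4c) (.leaf 0x148fa4d)) (.node 1 (.leaf 0x49024f) (.leaf 0x490a53))) (.node 2 (.node 1 (.leaf 0x1090a54) (.leaf 0x1490a55)) (.node 1 (.leaf 0x1491257) (.leaf 0x491a59))))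 (.node 4 (.node 2 (.node 1 (.leaf 0x9225d) (.leaf 0x92957)) (.node 1 (.leaf 0x892a68) (.leaf 0x14929fc))) (.node 2 (.node 1 (.leaf 0x493269) (.leaf 0x93a2e)) (.node 1 (.leaf 0x1493a2f) (.leaf 0x494230)))))) (.node 16 (.node 8 (.node 4 (.node 2 (.node 1 (.leaf 0x94a36) (.leaf 0x894a37)) (.node 1 (.leaf 0x895238) (.leaf 0xc96239))) (.node 2 (.node 1 (.leaf 0x49726c) (.leaf 0xc9726d)) (.node 1 (.leaf 0x149726e) (.leaf 0x897a70)))) (.node 4 (.node 2 (.node 1 (.leaf 0x1097a71) (.leaf 0x1497a72)) (.node 1 (.leaf 0x498273) (.leaf 0x1498a77))) (.node 2 (.node 1 (.leaf 0x499279) (.leaf 0x99a7b)) (.node 1 (.leaf 0x899a7c) (.leaf 0x49a280))))) (.node 8 (.node 4 (.node 2 (.node 1 (.leaf 0x89a281) (.leaf 0x9ca85)) (.node 1 (.leaf 0x89ca86) (.leaf 0xc9ca87))) (.node 2 (.node 1 (.leaf 0x149ca88) (.leaf 0x89d28a)) (.node 1 (.leaf 0x109d28b)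 (.leaf 0x149d28c)))) (.node 4 (.node 2 (.node 1 (.leaf 0x49da7d) (.leaf 0xc9e275)) (.node 1 (.leaf 0x109e28f) (.leaf 0x149e290))) (.node 2 (.node 1 (.leaf 0x149ea91) (.leaf 0x49f293)) (.node 1 (.leaf 0x9fa97) (.leaf 0x89fa98))))))) (.node 32 (.node 16 (.node 8 (.node 4 (.node 2 (.node 1 (.leaf 0x4a029b) (.leaf 0xa0a9f)) (.node 1 (.leaf 0x8a0aa0) (.leaf 0x4a12a3))) (.node 2 (.node 1 (.leaf 0x8a12a4) (.leaf 0x8a21e4)) (.node 1 (.leaf 0x14a21e5) (.leaf 0xca2a26)))) (.node 4 (.node 2 (.node 1 (.leaf 0x14a2ab3) (.leaf 0x4a32b4)) (.node 1 (.leaf 0xa3ab5) (.leaf 0x8a3ab6))) (.node 2 (.node 1 (.leaf 0x4a42bb) (.leaf 0x8a42bc)) (.node 1 (.leaf 0xa52c0) (.leaf 0x8a52c1))))) (.node 8 (.node 4 (.node 2 (.node 1 (.leaf 0x14a52c2) (.leaf 0x4a5ac3)) (.node 1 (.leaf 0xa61ec) (.leaf 0xca62c6))) (.node 2 (.node 1 (.leaf 0x14a62c7) (.leaf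 0x14a6ac8)) (.node 1 (.leaf 0x4a72c9) (.leaf 0x8a7aca)))) (.node 4 (.node 2 (.node 1 (.leaf 0x4a81f4) (.leaf 0x14a82cb)) (.node 1 (.leaf 0x4a8acc) (.leaf 0xa92ce))) (.node 2 (.node 1 (.leaf 0x8a92cf) (.leaf 0x8a9ad1)) (.node 1 (.leaf 0xcaa2d2) (.leaf 0x4aaad4)))))) (.node 16 (.node 8 (.node 4 (.node 2 (.node 1 (.leaf 0xcaaad5) (.leaf 0x14aaad6)) (.node 1 (.leaf 0x8ab2d7) (.leaf 0x14ab2d8))) (.node 2 (.node 1 (.leaf 0x4abada) (.leaf 0x4ac2dd)) (.node 1 (.leaf 0x14ac2de) (.leaf 0x4acadf)))) (.node 4 (.node 2 (.node 1 (.leaf 0xad2e0) (.leaf 0xadae4)) (.node 1 (.leaf 0x8adae5) (.leaf 0x14adae6))) (.node 2 (.node 1 (.leaf 0x4ae2e7) (.leaf 0x4aeaea)) (.node 1 (.leaf 0xcaeaeb) (.leaf 0x14aeaec))))) (.node 8 (.node 4 (.node 2 (.node 1 (.leaf 0xafaef) (.leaf 0x14afaf0)) (.node 1 (.leaf 0x4b02f1) (.leaf 0x8b0af2))) (.node 2 (.node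 1 (.leaf 0xb12f3) (.leaf 0xcb12f4)) (.node 1 (.leaf 0x14b12f5) (.leaf 0x10b1af7)))) (.node 4 (.node 2 (.node 1 (.leaf 0x14b1af8) (.leaf 0x4b22fa)) (.node 1 (.leaf 0xb2a35) (.leaf 0x8b2afe))) (.node 2 (.node 1 (.leaf 0x4b3aff) (.leaf 0x14b3b00)) (.node 1 (.leaf 0x10b4289) (.leaf 0x14b4302)))))))))

def orbF_2 : Tree := (.node 128 (.node 64 (.node 32 (.node 16 (.node 8 (.node 4 (.node 2 (.node 1 (.leaf 0x4b4b03) (.leaf 0x14b5305)) (.node 1 (.leaf 0x4b5b06) (.leaf 0xb6309))) (.node 2 (.node 1 (.leaf 0x8b630a) (.leaf 0x8b6b0f)) (.node 1 (.leaf 0xcb7310) (.leaf 0xb7b11)))) (.node 4 (.node 2 (.node 1 (.leaf 0x14b7b12) (.leaf 0x4b82e2)) (.node 1 (.leaf 0x8b8ae3) (.leaf 0x4b9314))) (.node 2 (.node 1 (.leaf 0xcb9315) (.leaf 0x14b9316)) (.node 1 (.leaf 0x8b9b18) (.leaf 0x14b9b19))))) (.node 8 (.node 4 (.node 2 (.node 1 (.leaf 0x4ba31b)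 (.leaf 0x4bab1e)) (.node 1 (.leaf 0xbb31f) (.leaf 0x8bb320))) (.node 2 (.node 1 (.leaf 0x4bb9f0) (.leaf 0x8bba34)) (.node 1 (.leaf 0xcbc322) (.leaf 0x8bd323)))) (.node 4 (.node 2 (.node 1 (.leaf 0xbdb24) (.leaf 0x8bdb25)) (.node 1 (.leaf 0x14bdb26) (.leaf 0x4be327))) (.node 2 (.node 1 (.leaf 0xbeb28) (.leaf 0x8beb29)) (.node 1 (.leaf 0x4bf32d) (.leaf 0x8bf32e)))))) (.node 16 (.node 8 (.node 4 (.node 2 (.node 1 (.leaf 0xcbfb30) (.leaf 0x8c0339)) (.node 1 (.leaf 0x4c0b3a) (.leaf 0xcc0b3b))) (.node 2 (.node 1 (.leaf 0x8c133c) (.leaf 0x10c133d)) (.node 1 (.leaf 0x4c1b42) (.leaf 0xcc1b43)))) (.node 4 (.node 2 (.node 1 (.leaf 0x14c1b44) (.leaf 0x8c2346)) (.node 1 (.leaf 0x10c2347) (.leaf 0x14c2348))) (.node 2 (.node 1 (.leaf 0x4c2b4a) (.leaf 0x14c334e)) (.node 1 (.leaf 0x4c3b50) (.leaf 0xc4352))))) (.node 8 (.node 4 (.node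 2 (.node 1 (.leaf 0x8c4353) (.leaf 0x8c4b57)) (.node 1 (.leaf 0xcc5358) (.leaf 0x8c5b5a))) (.node 2 (.node 1 (.leaf 0xc635b) (.leaf 0x8c635c)) (.node 1 (.leaf 0xcc6211) (.leaf 0x14c635d)))) (.node 4 (.node 2 (.node 1 (.leaf 0x10c6b5e) (.leaf 0x14c6b5f)) (.node 1 (.leaf 0x4c7354) (.leaf 0x4c7b60))) (.node 2 (.node 1 (.leaf 0x10c7b61) (.leaf 0x14c7b62)) (.node 1 (.leaf 0x14c8363) (.leaf 0x4c8b65))))))) (.node 32 (.node 16 (.node 8 (.node 4 (.node 2 (.node 1 (.leaf 0xc9368) (.leaf 0xc9b6b)) (.node 1 (.leaf 0x10c9b6c) (.leaf 0x14c9b6d))) (.node 2 (.node 1 (.leaf 0xcca36e) (.leaf 0x14ca36f)) (.node 1 (.leaf 0x4cab71) (.leaf 0x4cb372)))) (.node 4 (.node 2 (.node 1 (.leaf 0xcbb76) (.leaf 0x8cbb77)) (.node 1 (.leaf 0x4cc37a) (.leaf 0x14cc9fd))) (.node 2 (.node 1 (.leaf 0x14cd2db) (.leaf 0x4cdae8)) (.node 1 (.leaf 0xce386) (.leaf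 0x8ce387))))) (.node 8 (.node 4 (.node 2 (.node 1 (.leaf 0x4cead9) (.leaf 0x14ceb33)) (.node 1 (.leaf 0x4cf334) (.leaf 0xcfb36))) (.node 2 (.node 1 (.leaf 0x8cfb37) (.leaf 0x8d0341)) (.node 1 (.leaf 0xd238e) (.leaf 0xcd238f)))) (.node 4 (.node 2 (.node 1 (.leaf 0x8d2b90) (.leaf 0x10d2b91)) (.node 1 (.leaf 0x14d2b92) (.leaf 0xcd39a9))) (.node 2 (.node 1 (.leaf 0x10d3b93) (.leaf 0x14d3b94)) (.node 1 (.leaf 0x14d4395) (.leaf 0x4d4b96)))))) (.node 16 (.node 8 (.node 4 (.node 2 (.node 1 (.leaf 0xd5398) (.leaf 0x8d5399)) (.node 1 (.leaf 0x4d5b9d) (.leaf 0xd639f))) (.node 2 (.node 1 (.leaf 0x8d63a0) (.leaf 0x4d6ba4)) (.node 1 (.leaf 0x8d6ba5) (.leaf 0xcd73a7)))) (.node 4 (.node 2 (.node 1 (.leaf 0x8d7bab) (.leaf 0x8d8b1a)) (.node 1 (.leaf 0xcd8bad) (.leaf 0x14d8bae))) (.node 2 (.node 1 (.leaf 0xcd9317) (.leaf 0x14d93af)) (.node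 1 (.leaf 0x8d9bb0) (.leaf 0x10d9bb1))))) (.node 8 (.node 4 (.node 2 (.node 1 (.leaf 0x14d9bb2) (.leaf 0x4da3a9)) (.node 1 (.leaf 0x4dabb5) (.leaf 0x10dabb6))) (.node 2 (.node 1 (.leaf 0x14dabb7) (.leaf 0x14db3b8)) (.node 1 (.leaf 0x4dbba1) (.leaf 0xdc3a6)))) (.node 4 (.node 2 (.node 1 (.leaf 0x8dc3a8) (.leaf 0x10dcb4c)) (.node 1 (.leaf 0x14dcb9b) (.leaf 0x14dd3bc))) (.node 2 (.node 1 (.leaf 0x4ddbbd) (.leaf 0x4de3bf)) (.node 1 (.leaf 0xdebc3) (.leaf 0x8debc4)))))))) (.node 64 (.node 32 (.node 16 (.node 8 (.node 4 (.node 2 (.node 1 (.leaf 0x4df274) (.leaf 0x8df3c7)) (.node 1 (.leaf 0xe03cd) (.leaf 0x8e03ce))) (.node 2 (.node 1 (.leaf 0x4e0bd1) (.leaf 0x8e0bd2)) (.node 1 (.leaf 0xce139a) (.leaf 0xe1bb4)))) (.node 4 (.node 2 (.node 1 (.leaf 0x4e23d7) (.leaf 0xce2977)) (.node 1 (.leaf 0x14e2ac4) (.leaf 0x4e32c5))) (.node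 2 (.node 1 (.leaf 0x8e3b01) (.leaf 0x14e3a28)) (.node 1 (.leaf 0x4e43e4) (.leaf 0xe4be5))))) (.node 8 (.node 4 (.node 2 (.node 1 (.leaf 0x8e4be6) (.leaf 0x4e53e7)) (.node 1 (.leaf 0x8e53e8) (.leaf 0xce5be9))) (.node 2 (.node 1 (.leaf 0xe63ef) (.leaf 0x8e63f0)) (.node 1 (.leaf 0x14e63f1) (.leaf 0x4e6bf3)))) (.node 4 (.node 2 (.node 1 (.leaf 0x8e73f7) (.leaf 0x14e73ee)) (.node 1 (.leaf 0x4e7bf8) (.leaf 0x14e7bf9))) (.node 2 (.node 1 (.leaf 0xe8bfa) (.leaf 0x14e8bfb)) (.node 1 (.leaf 0xce9229) (.leaf 0x14e92cd)))))) (.node 16 (.node 8 (.node 4 (.node 2 (.node 1 (.leaf 0x8e9a6f) (.leaf 0x14e9b35)) (.node 1 (.leaf 0x4ea401) (.leaf 0x4eac02))) (.node 2 (.node 1 (.leaf 0xeb403) (.leaf 0x8eb404)) (.node 1 (.leaf 0xcebc06) (.leaf 0x14ec2dc)))) (.node 4 (.node 2 (.node 1 (.leaf 0x4ecc07) (.leaf 0xed408)) (.node 1 (.leaf 0x8ed409)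 (.leaf 0x4edc0c))) (.node 2 (.node 1 (.leaf 0x8edc0d) (.leaf 0xcee40f)) (.node 1 (.leaf 0x4eeb1c) (.leaf 0x10ef412))))) (.node 8 (.node 4 (.node 2 (.node 1 (.leaf 0xefc15) (.leaf 0x8efb49)) (.node 1 (.leaf 0x14efc16) (.leaf 0x14f0417))) (.node 2 (.node 1 (.leaf 0x4f0c18) (.leaf 0x4f1345)) (.node 1 (.leaf 0x4f1c19) (.leaf 0xf241c)))) (.node 4 (.node 2 (.node 1 (.leaf 0xf2b13) (.leaf 0x14f2c20)) (.node 1 (.leaf 0x4f3421) (.leaf 0xf3c22))) (.node 2 (.node 1 (.leaf 0x8f3c23) (.leaf 0x4f4425)) (.node 1 (.leaf 0x8f4c2d) (.leaf 0x14f4c2e))))))) (.node 32 (.node 16 (.node 8 (.node 4 (.node 2 (.node 1 (.leaf 0x14f542f) (.leaf 0x4f5c30)) (.node 1 (.leaf 0xf63f2) (.leaf 0x8f6432))) (.node 2 (.node 1 (.leaf 0xf6c38) (.leaf 0xcf6c39)) (.node 1 (.leaf 0x14f6c3a) (.leaf 0x14f743b)))) (.node 4 (.node 2 (.node 1 (.leaf 0x4f7c3d) (.leaf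 0x14f843e)) (.node 1 (.leaf 0xf9304) (.leaf 0x4fa43f))) (.node 2 (.node 1 (.leaf 0xcfa440) (.leaf 0x14fa441)) (.node 1 (.leaf 0x8fac43) (.leaf 0x10fabb3))))) (.node 8 (.node 4 (.node 2 (.node 1 (.leaf 0x14fac44) (.leaf 0x4fb445)) (.node 1 (.leaf 0x14fbc47) (.leaf 0x4fc448))) (.node 2 (.node 1 (.leaf 0xfcc4b) (.leaf 0x8fcc4c)) (.node 1 (.leaf 0x8fd340) (.leaf 0xcfdc51)))) (.node 4 (.node 2 (.node 1 (.leaf 0x14fe452) (.leaf 0x4ffc53)) (.node 1 (.leaf 0x100454) (.leaf 0x500c56))) (.node 2 (.node 1 (.leaf 0x101458) (.leaf 0x901459)) (.node 1 (.leaf 0x501c5d) (.leaf 0x901c5e)))))) (.node 16 (.node 8 (.node 4 (.node 2 (.node 1 (.leaf 0x502c63) (.leaf 0xd02c64)) (.node 1 (.leaf 0x1103465) (.leaf 0x1503c66))) (.node 2 (.node 1 (.leaf 0x50442b) (.leaf 0x104c29)) (.node 1 (.leaf 0x904c2a) (.leaf 0xd0542c)))) (.node 4 (.node 2 (.node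 1 (.leaf 0xd05bfc) (.leaf 0x1505c68)) (.node 1 (.leaf 0x1506469) (.leaf 0x506c6a))) (.node 2 (.node 1 (.leaf 0xd0746b) (.leaf 0x507c6c)) (.node 1 (.leaf 0x10846e) (.leaf 0x90846f))))) (.node 8 (.node 4 (.node 2 (.node 1 (.leaf 0x108c72) (.leaf 0x908c73)) (.node 1 (.leaf 0x509475) (.leaf 0x909476))) (.node 2 (.node 1 (.leaf 0xd09c78) (.leaf 0x90a2d3)) (.node 1 (.leaf 0x50ab3f) (.leaf 0xd0ab3e)))) (.node 4 (.node 2 (.node 1 (.leaf 0x90b413) (.leaf 0x110b47b)) (.node 1 (.leaf 0x50bc70) (.leaf 0xd0bc7c))) (.node 2 (.node 1 (.leaf 0x150c47d) (.leaf 0xd0cc7e)) (.node 1 (.leaf 0x150cc7f) (.leaf 0x50d480)))))))))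

def orbF_3 : Tree := (.node 128 (.node 64 (.node 32 (.node 16 (.node 8 (.node 4 (.node 2 (.node 1 (.leaf 0x10dc81) (.leaf 0x90dc82)) (.node 1 (.leaf 0x50e428) (.leaf 0x90e484))) (.node 2 (.node 1 (.leaf 0x10f489) (.leaf 0x90f48a)) (.node 1 (.leaf 0x150f427) (.leaf 0x50fc8c)))) (.node 4 (.node 2 (.node 1 (.leaf 0xd0fc8d) (.leaf 0x1110490)) (.node 1 (.leaf 0x510c9f) (.leaf 0xd10ca0))) (.node 2 (.node 1 (.leaf 0x1114a1) (.leaf 0xd114a2)) (.node 1 (.leaf 0x15114a3) (.leaf 0x1111ca5))))) (.node 8 (.node 4 (.node 2 (.node 1 (.leaf 0x11124a6) (.leaf 0x913cad)) (.node 1 (.leaf 0x1113cae) (.leaf 0x1513caf))) (.node 2 (.node 1 (.leaf 0x5144b0) (.leaf 0x1514cb1)) (.node 1 (.leaf 0x15154b2) (.leaf 0x515cb3)))) (.node 4 (.node 2 (.node 1 (.leaf 0x1164b5) (.leaf 0x9164b6)) (.node 1 (.leaf 0x516cba) (.leaf 0x1174bb))) (.node 2 (.node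 1 (.leaf 0x9174bc) (.leaf 0x517cc0)) (.node 1 (.leaf 0x917cc1) (.leaf 0xd184c3)))))) (.node 16 (.node 8 (.node 4 (.node 2 (.node 1 (.leaf 0x518cc7) (.leaf 0xd18cc8)) (.node 1 (.leaf 0x519ccb) (.leaf 0xd19ccc))) (.node 2 (.node 1 (.leaf 0x151ac1a) (.leaf 0x111b2f6)) (.node 1 (.leaf 0x51bcc5) (.leaf 0x151c4cd)))) (.node 4 (.node 2 (.node 1 (.leaf 0x51ccbd) (.leaf 0x11d4c2)) (.node 1 (.leaf 0x91d4c4) (.leaf 0x51f4ce))) (.node 2 (.node 1 (.leaf 0x11fcd1) (.leaf 0x91fc95)) (.node 1 (.leaf 0x52034b) (.leaf 0xd214d3))))) (.node 8 (.node 4 (.node 2 (.node 1 (.leaf 0x15224d4) (.leaf 0x92341b)) (.node 1 (.leaf 0x123cd6) (.leaf 0x923cd7))) (.node 2 (.node 1 (.leaf 0x9244da) (.leaf 0xd24c1f)) (.node 1 (.leaf 0x525ae9) (.leaf 0x52641e)))) (.node 4 (.node 2 (.node 1 (.leaf 0x126c33) (.leaf 0x926c34)) (.node 1 (.leaf 0x5274ee) (.leaf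 0x9274ef))) (.node 2 (.node 1 (.leaf 0xd27cf0) (.leaf 0x129496)) (.node 1 (.leaf 0x929497) (.leaf 0x529c9a))))))) (.node 32 (.node 16 (.node 8 (.node 4 (.node 2 (.node 1 (.leaf 0x929c9b) (.leaf 0xd2a49d)) (.node 1 (.leaf 0xd2b4f4) (.leaf 0x92bcf5))) (.node 2 (.node 1 (.leaf 0x112bcf6) (.leaf 0x112c4f7)) (.node 1 (.leaf 0x152c397) (.leaf 0x152ccf8)))) (.node 4 (.node 2 (.node 1 (.leaf 0x112da3d) (.leaf 0x152da76)) (.node 1 (.leaf 0x152e4f9) (.leaf 0x52ecfa))) (.node 2 (.node 1 (.leaf 0x52f4fb) (.leaf 0x12fcfd)) (.node 1 (.leaf 0x92faa1) (.leaf 0x5302a5))))) (.node 8 (.node 4 (.node 2 (.node 1 (.leaf 0x930491) (.leaf 0xd30c8e)) (.node 1 (.leaf 0x1314ff) (.leaf 0x931500))) (.node 2 (.node 1 (.leaf 0x531d04) (.leaf 0x931bc5)) (.node 1 (.leaf 0xd322a8) (.leaf 0x132d05)))) (.node 4 (.node 2 (.node 1 (.leaf 0x932d06) (.leaf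 0x1532bc9)) (.node 1 (.leaf 0x533508) (.leaf 0xd33493))) (.node 2 (.node 1 (.leaf 0x933b2a) (.leaf 0xd3450b)) (.node 1 (.leaf 0xd34a1f) (.leaf 0x1534c6d)))))) (.node 16 (.node 8 (.node 4 (.node 2 (.node 1 (.leaf 0x93550c) (.leaf 0x113550d)) (.node 1 (.leaf 0x153550e) (.leaf 0x936442))) (.node 2 (.node 1 (.leaf 0x53750f) (.leaf 0xd37510)) (.node 1 (.leaf 0x1537511) (.leaf 0x1537d13)))) (.node 4 (.node 2 (.node 1 (.leaf 0x1139515) (.leaf 0x1539d16)) (.node 1 (.leaf 0x53ad01) (.leaf 0x53bbdc))) (.node 2 (.node 1 (.leaf 0x93bd09) (.leaf 0x153ccb8)) (.node 1 (.leaf 0x53d3da) (.leaf 0x53dd18))))) (.node 8 (.node 4 (.node 2 (.node 1 (.leaf 0x13e3d4) (.leaf 0x93e51a)) (.node 1 (.leaf 0x13ed1c) (.leaf 0x93ed1d))) (.node 2 (.node 1 (.leaf 0x540d24) (.leaf 0x54152a)) (.node 1 (.leaf 0x94152b) (.leaf 0xd41d2d)))) (.node 4 (.node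 2 (.node 1 (.leaf 0x142514) (.leaf 0x942531)) (.node 1 (.leaf 0x11434b7) (.leaf 0x144534))) (.node 2 (.node 1 (.leaf 0x1544a2a) (.leaf 0x5453fd)) (.node 1 (.leaf 0x145bfe) (.leaf 0x945bff)))))))) (.node 64 (.node 32 (.node 16 (.node 8 (.node 4 (.node 2 (.node 1 (.leaf 0x547d41) (.leaf 0x947d42)) (.node 1 (.leaf 0x148c37) (.leaf 0x948d43))) (.node 2 (.node 1 (.leaf 0x1548c00) (.leaf 0x549544)) (.node 1 (.leaf 0xd49545) (.leaf 0x1149d46)))) (.node 4 (.node 2 (.node 1 (.leaf 0x94a54a) (.leaf 0x154a54b)) (.node 1 (.leaf 0x54ad4c) (.leaf 0xd4ad4d))) (.node 2 (.node 1 (.leaf 0x154ad4e) (.leaf 0x14bd50)) (.node 1 (.leaf 0x154bd51) (.leaf 0x154c549))))) (.node 8 (.node 4 (.node 2 (.node 1 (.leaf 0x54cc35) (.leaf 0x154d554)) (.node 1 (.leaf 0x54dd55) (.leaf 0x154e556))) (.node 2 (.node 1 (.leaf 0x154f32b) (.leaf 0x54fc0b)) (.node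 1 (.leaf 0x550c99) (.leaf 0x15155c)))) (.node 4 (.node 2 (.node 1 (.leaf 0x95155d) (.leaf 0x151d5f)) (.node 1 (.leaf 0x951c24) (.leaf 0x552560))) (.node 2 (.node 1 (.leaf 0x952561) (.leaf 0xd52d63)) (.node 1 (.leaf 0x1153566) (.leaf 0x154567)))))) (.node 16 (.node 8 (.node 4 (.node 2 (.node 1 (.leaf 0x95455e) (.leaf 0x554d68)) (.node 1 (.leaf 0x954d69) (.leaf 0xd5556a))) (.node 2 (.node 1 (.leaf 0x155d6c) (.leaf 0x955d6d)) (.node 1 (.leaf 0x1555d6e) (.leaf 0x556552)))) (.node 4 (.node 2 (.node 1 (.leaf 0xd56488) (.leaf 0x956d70)) (.node 1 (.leaf 0x1156d71) (.leaf 0x15731d))) (.node 2 (.node 1 (.leaf 0x1558576) (.leaf 0x1558cb4)) (.node 1 (.leaf 0x559577) (.leaf 0x559d75))))) (.node 8 (.node 4 (.node 2 (.node 1 (.leaf 0x15a574) (.leaf 0x95a579)) (.node 1 (.leaf 0x15b57b) (.leaf 0x55bd7d))) (.node 2 (.node 1 (.leaf 0x155c467)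 (.leaf 0x55cd7f)) (.node 1 (.leaf 0x15d580) (.leaf 0x95d474)))) (.node 4 (.node 2 (.node 1 (.leaf 0x55dd65) (.leaf 0x95dd81)) (.node 1 (.leaf 0xd5e405) (.leaf 0x15ed83))) (.node 2 (.node 1 (.leaf 0x155f58c) (.leaf 0x56058d)) (.node 1 (.leaf 0x960d8f) (.leaf 0x96154f))))))) (.node 32 (.node 16 (.node 8 (.node 4 (.node 2 (.node 1 (.leaf 0xd61d90) (.leaf 0x1562596)) (.node 1 (.leaf 0x962d97) (.leaf 0x1562d98))) (.node 2 (.node 1 (.leaf 0x563d99) (.leaf 0x164446)) (.node 1 (.leaf 0x565455) (.leaf 0x1565d9a)))) (.node 4 (.node 2 (.node 1 (.leaf 0x96659b) (.leaf 0xd67512)) (.node 1 (.leaf 0x156759c) (.leaf 0x56859d))) (.node 2 (.node 1 (.leaf 0x168d9e) (.leaf 0x5695a0)) (.node 1 (.leaf 0x169da2) (.leaf 0x969da3))))) (.node 8 (.node 4 (.node 2 (.node 1 (.leaf 0x56a5a7) (.leaf 0x96a5a8)) (.node 1 (.leaf 0xd6ad25) (.leaf 0x56b4ac)))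 (.node 2 (.node 1 (.leaf 0xd6b4a9) (.leaf 0x116bdad)) (.node 1 (.leaf 0x96cdae) (.leaf 0x96ddb2)))) (.node 4 (.node 2 (.node 1 (.leaf 0x56e369) (.leaf 0x96e592)) (.node 1 (.leaf 0xd6ed91) (.leaf 0x16f4de))) (.node 2 (.node 1 (.leaf 0x96f5b7) (.leaf 0x156f4db)) (.node 1 (.leaf 0x56fdb8) (.leaf 0x1705bb)))))) (.node 16 (.node 8 (.node 4 (.node 2 (.node 1 (.leaf 0xd705bc) (.leaf 0x15705bd)) (.node 1 (.leaf 0x1170dbf) (.leaf 0x571dc0))) (.node 2 (.node 1 (.leaf 0x17248b) (.leaf 0x97258b)) (.node 1 (.leaf 0x572d88) (.leaf 0x972d89)))) (.node 4 (.node 2 (.node 1 (.leaf 0xd7358a) (.leaf 0x1574558)) (.node 1 (.leaf 0x574dc2) (.leaf 0x5755c3))) (.node 2 (.node 1 (.leaf 0x175dc4) (.leaf 0x975dc5)) (.node 1 (.leaf 0x9765c7) (.leaf 0x176c94))))) (.node 8 (.node 4 (.node 2 (.node 1 (.leaf 0x5773d9) (.leaf 0x9775c9)) (.node 1 (.leaf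 0xd77dca) (.leaf 0x578411))) (.node 2 (.node 1 (.leaf 0x9785cd) (.leaf 0x179498)) (.node 1 (.leaf 0x9795cf) (.leaf 0x1579338)))) (.node 4 (.node 2 (.node 1 (.leaf 0x579dd0) (.leaf 0xd79dd1)) (.node 1 (.leaf 0x97a5d4) (.leaf 0x117a5d5))) (.node 2 (.node 1 (.leaf 0x57ac14) (.leaf 0x17b4aa)) (.node 1 (.leaf 0xd7b4a8) (.leaf 0x157b4ab)))))))))

def orbF_4 : Tree := (.node 128 (.node 64 (.node 32 (.node 16 (.node 8 (.node 4 (.node 2 (.node 1 (.leaf 0x117bca7) (.leaf 0x117c573)) (.node 1 (.leaf 0x17d47a) (.leaf 0xd7d5c8))) (.node 2 (.node 1 (.leaf 0x157d477) (.leaf 0x117ddd8)) (.node 1 (.leaf 0x57e5d9) (.leaf 0x157ed57)))) (.node 4 (.node 2 (.node 1 (.leaf 0x57f5da) (.leaf 0x17fddb)) (.node 1 (.leaf 0x97fddc) (.leaf 0x5805de))) (.node 2 (.node 1 (.leaf 0x9805c6) (.leaf 0xd80ddf)) (.node 1 (.leaf 0x18141d) (.leaf 0x98137d)))))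 (.node 8 (.node 4 (.node 2 (.node 1 (.leaf 0x15812e1) (.leaf 0x581de1)) (.node 1 (.leaf 0x9825e8) (.leaf 0x1582586))) (.node 2 (.node 1 (.leaf 0x582de9) (.leaf 0x1582d87)) (.node 1 (.leaf 0x15855d3) (.leaf 0x5865ff)))) (.node 4 (.node 2 (.node 1 (.leaf 0xd86600) (.leaf 0x1586601)) (.node 1 (.leaf 0x986e03) (.leaf 0x1186e04))) (.node 2 (.node 1 (.leaf 0x1586e05) (.leaf 0x1588d78)) (.node 1 (.leaf 0x1589612) (.leaf 0x58adee)))))) (.node 16 (.node 8 (.node 4 (.node 2 (.node 1 (.leaf 0x58b613) (.leaf 0x18bdb1)) (.node 1 (.leaf 0x98be14) (.leaf 0x58c37b))) (.node 2 (.node 1 (.leaf 0x98c5ef) (.leaf 0xd8ce16)) (.node 1 (.leaf 0x18d618) (.leaf 0x98d619)))) (.node 4 (.node 2 (.node 1 (.leaf 0x98de1b) (.leaf 0xd8e61d)) (.node 1 (.leaf 0x58f61f) (.leaf 0xd8f620))) (.node 2 (.node 1 (.leaf 0x98fe22) (.leaf 0x118fe23)) (.node 1 (.leaf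 0x1905d7) (.leaf 0x15905d2))))) (.node 8 (.node 4 (.node 2 (.node 1 (.leaf 0x191626) (.leaf 0xd91627)) (.node 1 (.leaf 0x1591628) (.leaf 0x593e1a))) (.node 2 (.node 1 (.leaf 0x19461c) (.leaf 0x99461e)) (.node 1 (.leaf 0x594ce4) (.leaf 0x994e21)))) (.node 4 (.node 2 (.node 1 (.leaf 0xd95624) (.leaf 0x195e2a)) (.node 1 (.leaf 0x9965f3) (.leaf 0x19734d))) (.node 2 (.node 1 (.leaf 0x997e2b) (.leaf 0x99962c)) (.node 1 (.leaf 0xd99c71) (.leaf 0xd9a564))))))) (.node 32 (.node 16 (.node 8 (.node 4 (.node 2 (.node 1 (.leaf 0x99ad62) (.leaf 0x99b436)) (.node 1 (.leaf 0x99d63c) (.leaf 0x59de0b))) (.node 2 (.node 1 (.leaf 0x59edf4) (.leaf 0x99edf5)) (.node 1 (.leaf 0xd9f5ed) (.leaf 0x19fdf7)))) (.node 4 (.node 2 (.node 1 (.leaf 0x99fdf8) (.leaf 0x159fdf9)) (.node 1 (.leaf 0x5a05fb) (.leaf 0xda05fc))) (.node 2 (.node 1 (.leaf 0x9a163d)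 (.leaf 0xda1e3e)) (.node 1 (.leaf 0x15a2cfc) (.leaf 0x5a4b9c))))) (.node 8 (.node 4 (.node 2 (.node 1 (.leaf 0x5a563f) (.leaf 0x1a6640)) (.node 1 (.leaf 0x9a63cf) (.leaf 0x5a6bd3))) (.node 2 (.node 1 (.leaf 0xda71cc) (.leaf 0x9a7bd8)) (.node 1 (.leaf 0x15a7a99) (.leaf 0x5a85f0)))) (.node 4 (.node 2 (.node 1 (.leaf 0xda8331) (.leaf 0x9a8b2f)) (.node 1 (.leaf 0x5a9642) (.leaf 0x9a951e))) (.node 2 (.node 1 (.leaf 0x1aa643) (.leaf 0x9aa644)) (.node 1 (.leaf 0x15aa520) (.leaf 0x9adb32)))))) (.node 16 (.node 8 (.node 4 (.node 2 (.node 1 (.leaf 0xdae3c8) (.leaf 0x11aed7e)) (.node 1 (.leaf 0x5b0648) (.leaf 0xdb0649))) (.node 2 (.node 1 (.leaf 0x15b064a) (.leaf 0xdb264b)) (.node 1 (.leaf 0x15b2e4c) (.leaf 0x9b5d39)))) (.node 4 (.node 2 (.node 1 (.leaf 0x15b5aa7) (.leaf 0x5b6647)) (.node 1 (.leaf 0x5b6ce2) (.leaf 0x9b7537))) (.node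 2 (.node 1 (.leaf 0x1b7d2e) (.leaf 0x9b7e4e)) (.node 1 (.leaf 0xdb9e52) (.leaf 0x1ba57c))))) (.node 8 (.node 4 (.node 2 (.node 1 (.leaf 0x9bae58) (.leaf 0xdbb59f)) (.node 1 (.leaf 0x11bbdaf) (.leaf 0x9bc64d))) (.node 2 (.node 1 (.leaf 0x5be32c) (.leaf 0x1bec10)) (.node 1 (.leaf 0x9bec0e) (.leaf 0x9bf559)))) (.node 4 (.node 2 (.node 1 (.leaf 0xdbfd5a) (.leaf 0x9c065f)) (.node 1 (.leaf 0x5c0e60) (.leaf 0x9c1595))) (.node 2 (.node 1 (.leaf 0x5c1e61) (.leaf 0xdc1e62)) (.node 1 (.leaf 0x15c1d5b) (.leaf 0x1c2e09)))))))) (.node 64 (.node 32 (.node 16 (.node 8 (.node 4 (.node 2 (.node 1 (.leaf 0xdc2e63) (.leaf 0x15c2e64)) (.node 1 (.leaf 0x11c3666) (.leaf 0x5c4669))) (.node 2 (.node 1 (.leaf 0xdc466a) (.leaf 0x15c466b)) (.node 1 (.leaf 0x1c566c) (.leaf 0xdc566d)))) (.node 4 (.node 2 (.node 1 (.leaf 0x15c5665) (.leaf 0x9c5e6f))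 (.node 1 (.leaf 0x11c5e70) (.leaf 0x15c5e71))) (.node 2 (.node 1 (.leaf 0x5c6673) (.leaf 0x15c6d85)) (.node 1 (.leaf 0x9c8593) (.leaf 0x5c8e68))))) (.node 8 (.node 4 (.node 2 (.node 1 (.leaf 0x1c962e) (.leaf 0x5c9e79)) (.node 1 (.leaf 0x5ca485) (.leaf 0x1cad6b))) (.node 2 (.node 1 (.leaf 0x9cac0a) (.leaf 0x1cb584)) (.node 1 (.leaf 0x5cbde0) (.leaf 0x9cbe7f)))) (.node 4 (.node 2 (.node 1 (.leaf 0x9ccd82) (.leaf 0x9cde80)) (.node 1 (.leaf 0x5ce57a) (.leaf 0xdce4dc))) (.node 2 (.node 1 (.leaf 0x11cee81) (.leaf 0x5cfe82)) (.node 1 (.leaf 0x9d2685) (.leaf 0x5d2e6e)))))) (.node 16 (.node 8 (.node 4 (.node 2 (.node 1 (.leaf 0xdd2e86) (.leaf 0x15d2e87)) (.node 1 (.leaf 0x1d3e75) (.leaf 0xdd3c83))) (.node 2 (.node 1 (.leaf 0x15d3e76) (.leaf 0x9d45e7)) (.node 1 (.leaf 0xdd4e11) (.leaf 0x11d4e88)))) (.node 4 (.node 2 (.node 1 (.leaf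 0x5d667b) (.leaf 0x5d6e15)) (.node 1 (.leaf 0x1d7536) (.leaf 0x9d768b))) (.node 2 (.node 1 (.leaf 0x9d868a) (.leaf 0xdd8e10)) (.node 1 (.leaf 0x5da5c1) (.leaf 0x1dad35))))) (.node 8 (.node 4 (.node 2 (.node 1 (.leaf 0x9db5ce) (.leaf 0xddbb21)) (.node 1 (.leaf 0x5dcd94) (.leaf 0x11dd2d0))) (.node 2 (.node 1 (.leaf 0x1decdd) (.leaf 0x9dee93)) (.node 1 (.leaf 0xddf694) (.leaf 0x5dfe74)))) (.node 4 (.node 2 (.node 1 (.leaf 0xddfe72) (.leaf 0x9e0695)) (.node 1 (.leaf 0x11e0696) (.leaf 0x15e1698))) (.node 2 (.node 1 (.leaf 0x9e2699) (.leaf 0x9e35b0)) (.node 1 (.leaf 0x5e569a) (.leaf 0x9e5e9b))))))) (.node 32 (.node 16 (.node 8 (.node 4 (.node 2 (.node 1 (.leaf 0x9e6e9e) (.leaf 0x9e769f)) (.node 1 (.leaf 0x15e862d) (.leaf 0x15e9e0f))) (.node 2 (.node 1 (.leaf 0x11ea60a) (.leaf 0x15edb78)) (.node 1 (.leaf 0x5efea7) (.leaf 0x11f06a9))))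 (.node 4 (.node 2 (.node 1 (.leaf 0x1f1dfa) (.leaf 0x5f25eb)) (.node 1 (.leaf 0x9f25ea) (.leaf 0xdf2e46))) (.node 2 (.node 1 (.leaf 0x5f3e90) (.leaf 0xdf3e91)) (.node 1 (.leaf 0x9f4692) (.leaf 0x5f4e7a))))) (.node 8 (.node 4 (.node 2 (.node 1 (.leaf 0x1f5683) (.leaf 0x9f55dd)) (.node 1 (.leaf 0x15f82a6) (.leaf 0x5fa697))) (.node 2 (.node 1 (.leaf 0x9fadf6) (.leaf 0x15fac9c)) (.node 1 (.leaf 0x5fb6af) (.leaf 0xdfb6b0)))) (.node 4 (.node 2 (.node 1 (.leaf 0x15fb49e) (.leaf 0x9fce8f)) (.node 1 (.leaf 0xdfd68e) (.leaf 0x11fd6b1))) (.node 2 (.node 1 (.leaf 0x15fe48f) (.leaf 0x15fee0e)) (.node 1 (.leaf 0x9ff60c) (.leaf 0x15ff60d)))))) (.node 16 (.node 8 (.node 4 (.node 2 (.node 1 (.leaf 0xa046b3) (.leaf 0xe056b4)) (.node 1 (.leaf 0xe066ad) (.leaf 0xa06ca4))) (.node 2 (.node 1 (.leaf 0x1206d72) (.leaf 0x1607426)) (.node 1 (.leaf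 0x1607a5e) (.leaf 0x609e7d)))) (.node 4 (.node 2 (.node 1 (.leaf 0x60ace3) (.leaf 0xa0c6bf)) (.node 1 (.leaf 0x160c6c0) (.leaf 0x60cebd))) (.node 2 (.node 1 (.leaf 0x21069d) (.leaf 0x61268d)) (.node 1 (.leaf 0xe126b2) (.leaf 0xa14ecb))))) (.node 8 (.node 4 (.node 2 (.node 1 (.leaf 0xe156cc) (.leaf 0xa15ecd)) (.node 1 (.leaf 0x1215dec) (.leaf 0x1617479))) (.node 2 (.node 1 (.leaf 0x6185e5) (.leaf 0xe186ce)) (.node 1 (.leaf 0xa19ec9) (.leaf 0x61a633)))) (.node 4 (.node 2 (.node 1 (.leaf 0xa1a6ca) (.leaf 0xe1aeab)) (.node 1 (.leaf 0x21b4b9) (.leaf 0xa1b637))) (.node 2 (.node 1 (.leaf 0x161b37c) (.leaf 0x61d6ba)) (.node 1 (.leaf 0xe1edcb) (.leaf 0xa1f5cc)))))))))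

def orbF_5 : Tree := (.node 42 (.node 21 (.node 10 (.node 5 (.node 2 (.node 1 (.leaf 0x62168c) (.leaf 0xe216d5)) (.node 1 (.leaf 0xa22607) (.node 1 (.leaf 0x622ebb) (.leaf 0xe22eb9)))) (.node 2 (.node 1 (.leaf 0x16244d8) (.leaf 0x22569c)) (.node 1 (.leaf 0xe256ae) (.node 1 (.leaf 0x16256bc) (.leaf 0x6266d6))))) (.node 5 (.node 2 (.node 1 (.leaf 0xa27cfe) (.leaf 0x628d2c)) (.node 1 (.leaf 0xe2bc92) (.node 1 (.leaf 0xa2c22d) (.leaf 0xa2d6d7)))) (.node 3 (.node 1 (.leaf 0xa2e6d8) (.node 1 (.leaf 0x62ee54) (.leaf 0xe316da))) (.node 1 (.leaf 0x633e5d) (.node 1 (.leaf 0xe33e39) (.leaf 0x1633bdb)))))) (.node 10 (.node 5 (.node 2 (.node 1 (.leaf 0xa35636) (.leaf 0xe35e5c)) (.node 1 (.leaf 0xe36ed1) (.node 1 (.leaf 0x639edb) (.leaf 0x23a486)))) (.node 2 (.node 1 (.leaf 0xa3a487) (.leaf 0xa3c67c)) (.node 1 (.leaf 0x63dde2) (.node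 1 (.leaf 0xe3de84) (.leaf 0x163ee7e))))) (.node 5 (.node 2 (.node 1 (.leaf 0x63f56f) (.leaf 0x241de3)) (.node 1 (.leaf 0xe41ec7) (.node 1 (.leaf 0xa426e5) (.leaf 0x12426e6)))) (.node 3 (.node 1 (.leaf 0x16426e7) (.node 1 (.leaf 0xe436c3) (.leaf 0xa43ec1))) (.node 1 (.leaf 0x1243ec5) (.node 1 (.leaf 0x1643ee4) (.leaf 0x644678))))))) (.node 21 (.node 10 (.node 5 (.node 2 (.node 1 (.leaf 0x644ee8) (.leaf 0xe44ee9)) (.node 1 (.leaf 0x645eeb) (.node 1 (.leaf 0x2466c2) (.leaf 0x24d5e4)))) (.node 2 (.node 1 (.leaf 0xe4d631) (.leaf 0xa54ec8)) (.node 1 (.leaf 0xe55df1) (.node 1 (.leaf 0xe565f2) (.leaf 0xa576ac))))) (.node 5 (.node 2 (.node 1 (.leaf 0xa5a632) (.leaf 0xe5aed4)) (.node 1 (.leaf 0xa5b6ea) (.node 1 (.leaf 0x65deed) (.leaf 0xe5edbe)))) (.node 3 (.node 1 (.leaf 0xa5f6ee) (.node 1 (.leaf 0x264e89) (.leaf 0xe656b7))) (.node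 1 (.leaf 0xe666a8) (.node 1 (.leaf 0xa66dd6) (.leaf 0xe6a6b8)))))) (.node 11 (.node 5 (.node 2 (.node 1 (.leaf 0x166a5fd) (.leaf 0xe6b6d0)) (.node 1 (.leaf 0xa6beb5) (.node 1 (.leaf 0x166bdfe) (.leaf 0xe6decf)))) (.node 3 (.node 1 (.leaf 0xa70e08) (.node 1 (.leaf 0xa71602) (.leaf 0xe71e06))) (.node 1 (.leaf 0xe76ec4) (.node 1 (.leaf 0xa786aa) (.leaf 0xe7a6b6))))) (.node 5 (.node 2 (.node 1 (.leaf 0xa7d617) (.leaf 0xe85641)) (.node 1 (.leaf 0x687ef3) (.node 1 (.leaf 0xe89629) (.leaf 0xa89d38)))) (.node 3 (.node 1 (.leaf 0xa8beec) (.node 1 (.leaf 0xe8d5e6) (.leaf 0x1292ec6))) (.node 1 (.leaf 0x6936f2) (.node 1 (.leaf 0x6946e3) (.leaf 0x169f6be))))))))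

def orbF : Tree := (.node 768 (.node 256 orbF_0 (.node 256 orbF_1 orbF_2)) (.node 256 orbF_3 (.node 256 orbF_4 orbF_5)))

def orbFLen : ℕ := 1365

def n0 : ℕ := 995

def j0 : ℕ := 1

def levPts : List ℕ := [995, 47, 79, 5, 199, 44]

def levWords0 : List (List ℕ) := [[0], [1], [2], [3], [4], [5]]

def lev0_0 : Tree := (.node 128 (.node 64 (.node 32 (.node 16 (.node 8 (.node 4 (.node 2 (.node 1 (.leaf 0x3e3) (.leaf 0x14002b0)) (.node 1 (.leaf 0x4009d8) (.leaf 0x1266))) (.node 2 (.node 1 (.leaf 0x80113d) (.leaf 0x401b85)) (.node 1 (.leaf 0x80199f) (.leaf 0xc020c9)))) (.node 4 (.node 2 (.node 1 (.leaf 0x2ab1) (.leaf 0x802a67)) (.node 1 (.leaf 0x4031d7) (.leaf 0xc03116))) (.node 2 (.node 1 (.leaf 0x803882) (.leaf 0x1003938)) (.node 1 (.leaf 0x8041d9) (.leaf 0x4049d6))))) (.node 8 (.node 4 (.node 2 (.node 1 (.leaf 0xc049a0)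 (.leaf 0x51b6)) (.node 1 (.leaf 0xc0513c) (.leaf 0x140513b))) (.node 2 (.node 1 (.leaf 0x8058b4) (.leaf 0x100599d)) (.node 1 (.leaf 0x406052) (.leaf 0x10060c5)))) (.node 4 (.node 2 (.node 1 (.leaf 0x4072b2) (.leaf 0xc0713e)) (.node 1 (.leaf 0xc0793a) (.leaf 0x808117))) (.node 2 (.node 1 (.leaf 0x1008265) (.leaf 0x408a84)) (.node 1 (.leaf 0xc08926) (.leaf 0x8090c8)))))) (.node 16 (.node 8 (.node 4 (.node 2 (.node 1 (.leaf 0x10091d4) (.leaf 0x14090c7)) (.node 1 (.leaf 0x40a075) (.leaf 0x100a113))) (.node 2 (.node 1 (.leaf 0xb051) (.leaf 0x100b080)) (.node 1 (.leaf 0x140b02f) (.leaf 0xc0b934)))) (.node 4 (.node 2 (.node 1 (.leaf 0xc0c1da) (.leaf 0x80c8ca)) (.node 1 (.leaf 0x100c9d5) (.leaf 0x80d0c6))) (.node 2 (.node 1 (.leaf 0x100d1d3) (.leaf 0x40d90b)) (.node 1 (.leaf 0x100d99e) (.leaf 0xc0e9b7))))) (.node 8 (.node 4 (.node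 2 (.node 1 (.leaf 0x80f0bc) (.leaf 0x100f1b4)) (.node 1 (.leaf 0x40f89b) (.leaf 0xc0f915))) (.node 2 (.node 1 (.leaf 0x100f937) (.leaf 0x140f881)) (.node 1 (.leaf 0x1410136) (.leaf 0x11074)))) (.node 4 (.node 2 (.node 1 (.leaf 0x10110b2) (.leaf 0x1411048)) (.node 1 (.leaf 0xc1199a) (.leaf 0x101207f))) (.node 2 (.node 1 (.leaf 0x141204c) (.leaf 0xc128c3)) (.node 1 (.leaf 0x141284f) (.leaf 0x8139d1))))))) (.node 32 (.node 16 (.node 8 (.node 4 (.node 2 (.node 1 (.leaf 0x10142af) (.leaf 0x1014939)) (.node 1 (.leaf 0x415914) (.leaf 0x1015935))) (.node 2 (.node 1 (.leaf 0x101698c) (.leaf 0xc17264)) (.node 1 (.leaf 0x1017a83) (.leaf 0x1018122)))) (.node 4 (.node 2 (.node 1 (.leaf 0x1909a) (.leaf 0xc190ea)) (.node 1 (.leaf 0x10190f0) (.leaf 0x1419063))) (.node 2 (.node 1 (.leaf 0x8198b3) (.leaf 0x101999c)) (.node 1 (.leaf 0xc1a1d0)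 (.leaf 0x141a0c4))))) (.node 8 (.node 4 (.node 2 (.node 1 (.leaf 0x101b8b1) (.leaf 0x141b870)) (.node 1 (.leaf 0xc1c111) (.leaf 0x141c073))) (.node 2 (.node 1 (.leaf 0x81d263) (.leaf 0xc1d8c2)) (.node 1 (.leaf 0x141d879) (.leaf 0x81e931)))) (.node 4 (.node 2 (.node 1 (.leaf 0x141e87d) (.leaf 0x41f944)) (.node 1 (.leaf 0xc209d2) (.leaf 0x102119b))) (.node 2 (.node 1 (.leaf 0xc219ce) (.leaf 0xc22245)) (.node 1 (.leaf 0x822b84) (.leaf 0xc239b1)))))) (.node 16 (.node 8 (.node 4 (.node 2 (.node 1 (.leaf 0x4240e9) (.leaf 0x10240ef)) (.node 1 (.leaf 0x1424092) (.leaf 0x1024966))) (.node 2 (.node 1 (.leaf 0x1424895) (.leaf 0xc2516d)) (.node 1 (.leaf 0x1425098) (.leaf 0x1026112)))) (.node 4 (.node 2 (.node 1 (.leaf 0xc26a62) (.leaf 0x8272ad)) (.node 1 (.leaf 0x1427133) (.leaf 0xc28110))) (.node 2 (.node 1 (.leaf 0x14280ac) (.leaf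 0x829198)) (.node 1 (.leaf 0x14290b0) (.leaf 0x42a1a5))))) (.node 8 (.node 4 (.node 2 (.node 1 (.leaf 0x82a92f) (.leaf 0x142a8b8)) (.node 1 (.leaf 0x42b9c3) (.leaf 0xc2b9c9))) (.node 2 (.node 1 (.leaf 0x142b8c0) (.leaf 0x2c943)) (.node 1 (.leaf 0x142c8cd) (.leaf 0x82d2ae)))) (.node 4 (.node 2 (.node 1 (.leaf 0xc2da60) (.leaf 0x82e2ac)) (.node 1 (.leaf 0x82eb59) (.leaf 0x42f388))) (.node 2 (.node 1 (.leaf 0x82fa82) (.leaf 0x1030165)) (.node 1 (.leaf 0x14300df) (.leaf 0xc3096c)))))))) (.node 64 (.node 32 (.node 16 (.node 8 (.node 4 (.node 2 (.node 1 (.leaf 0x14308e2) (.leaf 0x4310e4)) (.node 1 (.leaf 0xc31a0d) (.leaf 0x14318e7))) (.node 2 (.node 1 (.leaf 0x832a18) (.leaf 0x14328ed)) (.node 1 (.leaf 0xc33999) (.leaf 0x834383)))) (.node 4 (.node 2 (.node 1 (.leaf 0x434be2) (.leaf 0x14349cf)) (.node 1 (.leaf 0x835996) (.leaf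 0x1435907))) (.node 2 (.node 1 (.leaf 0x436a52) (.leaf 0xc36a5c)) (.node 1 (.leaf 0x143690f) (.leaf 0x379a4))))) (.node 8 (.node 4 (.node 2 (.node 1 (.leaf 0x143791a) (.leaf 0x4381cd)) (.node 1 (.leaf 0xc381c7) (.leaf 0x143811e))) (.node 2 (.node 1 (.leaf 0x391c1) (.leaf 0xc39296)) (.node 1 (.leaf 0x143912a) (.leaf 0x1039a9e)))) (.node 4 (.node 2 (.node 1 (.leaf 0x143992d) (.leaf 0x43a130)) (.node 1 (.leaf 0x43a9e1) (.leaf 0x143a941))) (.node 2 (.node 1 (.leaf 0x43bab7) (.leaf 0x83c381)) (.node 1 (.leaf 0x43cbe0) (.leaf 0x43d4ca)))))) (.node 16 (.node 8 (.node 4 (.node 2 (.node 1 (.leaf 0xc3d4c9) (.leaf 0x3db8d)) (.node 1 (.leaf 0x143db8b) (.leaf 0x43e3ac))) (.node 2 (.node 1 (.leaf 0xc3ea0c) (.leaf 0x143e95a)) (.node 1 (.leaf 0x43f15b) (.leaf 0x83fa16)))) (.node 4 (.node 2 (.node 1 (.leaf 0x143f95e) (.leaf 0x440160))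 (.node 1 (.leaf 0x8412fd) (.leaf 0x1441163))) (.node 2 (.node 1 (.leaf 0x44230e) (.leaf 0xc42308)) (.node 1 (.leaf 0x144216a) (.leaf 0x843261))))) (.node 8 (.node 4 (.node 2 (.node 1 (.leaf 0x443ced) (.leaf 0xc43cec)) (.node 1 (.leaf 0x44540) (.leaf 0x144453f))) (.node 2 (.node 1 (.leaf 0x444aaa) (.leaf 0x44525f)) (.node 1 (.leaf 0xc4525a) (.leaf 0x1445188)))) (.node 4 (.node 2 (.node 1 (.leaf 0x46250) (.leaf 0xc46367)) (.node 1 (.leaf 0x1446190) (.leaf 0x846b07))) (.node 2 (.node 1 (.leaf 0x1046b75) (.leaf 0x1446994)) (.node 1 (.leaf 0x447197) (.leaf 0x447a6b))))))) (.node 32 (.node 16 (.node 8 (.node 4 (.node 2 (.node 1 (.leaf 0x14479a3) (.leaf 0x48aa9)) (.node 1 (.leaf 0xc48aa2) (.leaf 0x1448aab))) (.node 2 (.node 1 (.leaf 0x104929c) (.leaf 0x14491ac)) (.node 1 (.leaf 0x4499ae) (.leaf 0x44a29a)))) (.node 4 (.node 2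 (.node 1 (.leaf 0xc4a294) (.leaf 0x144a1bb)) (.node 1 (.leaf 0x84aba3) (.leaf 0x104abc2))) (.node 2 (.node 1 (.leaf 0x144a9bf) (.leaf 0x44b1c2)) (.node 1 (.leaf 0x144b9c5) (.leaf 0x44c1c8))))) (.node 8 (.node 4 (.node 2 (.node 1 (.leaf 0x4d2bd) (.leaf 0x84d2be)) (.node 1 (.leaf 0x144d2bf) (.leaf 0x44d9de))) (.node 2 (.node 1 (.leaf 0x44ecea) (.leaf 0xc4eceb)) (.node 1 (.leaf 0x4f53c) (.leaf 0x144f53e)))) (.node 4 (.node 2 (.node 1 (.leaf 0x4fcf3) (.leaf 0xc4fe25)) (.node 1 (.leaf 0x144fcf2) (.leaf 0x850382))) (.node 2 (.node 1 (.leaf 0x450b8a) (.leaf 0x51bf6)) (.node 1 (.leaf 0x1451bf4) (.leaf 0x8522fb)))))) (.node 16 (.node 8 (.node 4 (.node 2 (.node 1 (.leaf 0x1452200) (.leaf 0x452a01)) (.node 1 (.leaf 0x453b0c) (.leaf 0x1453a04))) (.node 2 (.node 1 (.leaf 0x454206) (.leaf 0x455450)) (.node 1 (.leaf 0xc5544a) (.leaf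 0x145520a)))) (.node 4 (.node 2 (.node 1 (.leaf 0x56461) (.leaf 0xc5645c)) (.node 1 (.leaf 0x145645f) (.leaf 0x1056bbb))) (.node 2 (.node 1 (.leaf 0x1456a14) (.leaf 0x457217)) (.node 1 (.leaf 0x457b7f) (.leaf 0x5863b))))) (.node 8 (.node 4 (.node 2 (.node 1 (.leaf 0xc5863a) (.leaf 0x1458638)) (.node 1 (.leaf 0x45965e) (.leaf 0x14593f5))) (.node 2 (.node 1 (.leaf 0x459be1) (.leaf 0x5a3de)) (.node 1 (.leaf 0x5ab7e) (.leaf 0xc5ab79)))) (.node 4 (.node 2 (.node 1 (.leaf 0x145ab80) (.leaf 0x105b373)) (.node 1 (.leaf 0x145b240) (.leaf 0x45ba42))) (.node 2 (.node 1 (.leaf 0x45c36a) (.leaf 0xc5c30d)) (.node 1 (.leaf 0x145c24a) (.leaf 0x85cbaa)))))))))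

def lev0_1 : Tree := (.node 80 (.node 40 (.node 20 (.node 10 (.node 5 (.node 2 (.node 1 (.leaf 0x105ccd0) (.leaf 0x145ca4e)) (.node 1 (.leaf 0x45d251) (.node 1 (.leaf 0x45dc5b) (.leaf 0x105dc57)))) (.node 2 (.node 1 (.leaf 0x145da56) (.leaf 0x145e258)) (.node 1 (.leaf 0x45ea5b) (.node 1 (.leaf 0x85fb8c) (.leaf 0x46026a))))) (.node 5 (.node 2 (.node 1 (.leaf 0x460bdd) (.leaf 0xc60bd5)) (.node 1 (.leaf 0x1460bdf) (.node 1 (.leaf 0x8613d6) (.leaf 0x10613d0)))) (.node 2 (.node 1 (.leaf 0x461a7f) (.leaf 0x1462278)) (.node 1 (.leaf 0x462a7a) (.node 1 (.leaf 0x6327e) (.leaf 0x63bca)))))) (.node 10 (.node 5 (.node 2 (.node 1 (.leaf 0x863bcb) (.leaf 0xc63bc6)) (.node 1 (.leaf 0x1463bcc) (.node 1 (.leaf 0x8643be) (.leaf 0x10643c0)))) (.node 2 (.node 1 (.leaf 0x146428d) (.leaf 0x464a8e)) (.node 1 (.leaf 0x1065503) (.node 1 (.leaf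 0x1465a92) (.leaf 0x466295))))) (.node 5 (.node 2 (.node 1 (.leaf 0x46729d) (.leaf 0x4692ba)) (.node 1 (.leaf 0x69ab8) (.node 1 (.leaf 0x869ab9) (.leaf 0xc6a53d)))) (.node 2 (.node 1 (.leaf 0x46c635) (.leaf 0xc6c5b6)) (.node 1 (.leaf 0x86cdb4) (.node 1 (.leaf 0x146cd3b) (.leaf 0x46dce8))))))) (.node 20 (.node 10 (.node 5 (.node 2 (.node 1 (.leaf 0x6e431) (.leaf 0x86e4bf)) (.node 1 (.leaf 0x46ed53) (.node 1 (.leaf 0x46fc4e) (.leaf 0xc6fc49)))) (.node 2 (.node 1 (.leaf 0x146faed) (.leaf 0x4702ee)) (.node 1 (.leaf 0x71462) (.node 1 (.leaf 0x72dab) (.leaf 0xc72da6))))) (.node 5 (.node 2 (.node 1 (.leaf 0x1472da9) (.leaf 0x1073517)) (.node 1 (.leaf 0x14732f9) (.node 1 (.leaf 0x473afc) (.leaf 0x4745ba)))) (.node 2 (.node 1 (.leaf 0x147430b) (.leaf 0x774e6)) (.node 1 (.leaf 0x14774e9) (.node 1 (.leaf 0x477ed3) (.leaf 0xc77d29))))))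 (.node 10 (.node 5 (.node 2 (.node 1 (.leaf 0x1477d28) (.leaf 0x878507)) (.node 1 (.leaf 0x1478527) (.node 1 (.leaf 0x796e1) (.leaf 0x8796e2)))) (.node 2 (.node 1 (.leaf 0x47b4e5) (.leaf 0xc7b4df)) (.node 1 (.leaf 0x147b4e7) (.node 1 (.leaf 0x87bce0) (.leaf 0x107bcd9))))) (.node 5 (.node 2 (.node 1 (.leaf 0x147bce1) (.leaf 0x47c356)) (.node 1 (.leaf 0x147cb4f) (.node 1 (.leaf 0x47d351) (.leaf 0x7db55)))) (.node 2 (.node 1 (.leaf 0x7e45a) (.leaf 0x87e4d2)) (.node 1 (.leaf 0x107ec4f) (.node 1 (.leaf 0x47fd0a) (.leaf 0x107fcc6)))))))) (.node 40 (.node 20 (.node 10 (.node 5 (.node 2 (.node 1 (.leaf 0x1480364) (.leaf 0x480b66)) (.node 1 (.leaf 0x81db5) (.node 1 (.leaf 0x1081db3) (.leaf 0xc825a1)))) (.node 2 (.node 1 (.leaf 0x1482370) (.leaf 0x483374)) (.node 1 (.leaf 0x84b89) (.node 1 (.leaf 0x85526) (.leaf 0x88553a))))) (.node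 5 (.node 2 (.node 1 (.leaf 0xc85532) (.leaf 0x885d33)) (.node 1 (.leaf 0x1085d2f) (.node 1 (.leaf 0x1086d30) (.leaf 0x48839e)))) (.node 2 (.node 1 (.leaf 0x88ba2) (.leaf 0xc89d21)) (.node 1 (.leaf 0x88ad22) (.node 1 (.leaf 0x108ad1f) (.leaf 0x148ad23)))))) (.node 10 (.node 5 (.node 2 (.node 1 (.leaf 0x48bd1b) (.leaf 0x108bd19)) (.node 1 (.leaf 0x148c3b9) (.node 1 (.leaf 0x48cbba) (.leaf 0xc8dbed)))) (.node 2 (.node 1 (.leaf 0x48e3c1) (.leaf 0x8fbec)) (.node 1 (.leaf 0x4903ea) (.node 1 (.leaf 0x8903eb) (.leaf 0x91ea6))))) (.node 5 (.node 2 (.node 1 (.leaf 0x89458e) (.leaf 0x95677)) (.node 1 (.leaf 0x895548) (.node 1 (.leaf 0x1495630) (.leaf 0x95dac)))) (.node 2 (.node 1 (.leaf 0xc95da5) (.leaf 0x149643c)) (.node 1 (.leaf 0x498667) (.node 1 (.leaf 0xc986a2) (.leaf 0x149844d))))))) (.node 20 (.node 10 (.node 5 (.node 2 (.node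 1 (.leaf 0x898ea4) (.leaf 0x49bc60)) (.node 1 (.leaf 0xc9ee45) (.node 1 (.leaf 0xca06d2) (.leaf 0xca0db9)))) (.node 2 (.node 1 (.leaf 0x8a1634) (.leaf 0x10a162f)) (.node 1 (.leaf 0xa4cbe) (.node 1 (.leaf 0x4a84cf) (.leaf 0xca9e50))))) (.node 5 (.node 2 (.node 1 (.leaf 0x14aa4d5) (.leaf 0x4abcf1)) (.node 1 (.leaf 0xcac655) (.node 1 (.leaf 0x8ad65b) (.leaf 0x10ad659)))) (.node 2 (.node 1 (.leaf 0x10ade5a) (.leaf 0xaf502)) (.node 1 (.leaf 0x8b0656) (.node 1 (.leaf 0x10b05a4) (.leaf 0x4b0e51)))))) (.node 10 (.node 5 (.node 2 (.node 1 (.leaf 0xcb0e53) (.leaf 0x14b0e57)) (.node 1 (.leaf 0x10b264f) (.node 1 (.leaf 0xcb2d47) (.leaf 0x8b9ea3)))) (.node 2 (.node 1 (.leaf 0x8bb6f0) (.leaf 0x4bbdaa)) (.node 1 (.leaf 0x8bd6d9) (.node 1 (.leaf 0x8be6a5) (.leaf 0x8c0edd))))) (.node 5 (.node 2 (.node 1 (.leaf 0x8c26de) (.leaf 0x10c26a1))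 (.node 1 (.leaf 0xcc2ee0) (.node 1 (.leaf 0x4c4edf) (.leaf 0xcc4ea0)))) (.node 2 (.node 1 (.leaf 0xcc5edc) (.leaf 0x4cb6f4)) (.node 1 (.leaf 0xccb6f1) (.node 1 (.leaf 0xccceef) (.leaf 0xcce6f5)))))))))

def lev0 : Tree := (.node 256 lev0_0 lev0_1)

def lev0Len : ℕ := 416

def levWords1 : List (List ℕ) := [[0], [1], [2], [3], [4]]

def lev1 : Tree := (.node 50 (.node 25 (.node 12 (.node 6 (.node 3 (.node 1 (.leaf 0x2f) (.node 1 (.leaf 0x4c) (.leaf 0xc00048))) (.node 1 (.leaf 0x100004f) (.node 1 (.leaf 0x400863) (.leaf 0xc00870)))) (.node 3 (.node 1 (.leaf 0x1000879) (.node 1 (.leaf 0x1001073) (.leaf 0xc0187d))) (.node 1 (.leaf 0x2092) (.node 1 (.leaf 0xc02095) (.leaf 0x1002098))))) (.node 6 (.node 3 (.node 1 (.leaf 0x10028ac) (.node 1 (.leaf 0xc030b8) (.leaf 0xc038b0))) (.node 1 (.leaf 0x8040c0) (.node 1 (.leaf 0x4048e4)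 (.leaf 0xc048df)))) (.node 3 (.node 1 (.leaf 0x10048e2) (.node 1 (.leaf 0x10050e7) (.leaf 0xc058ed))) (.node 2 (.node 1 (.leaf 0xc06107) (.leaf 0x80691e)) (.node 1 (.leaf 0x80710f) (.leaf 0x407930)))))) (.node 12 (.node 6 (.node 3 (.node 1 (.leaf 0xc0792d) (.node 1 (.leaf 0x80815b) (.leaf 0x1008160))) (.node 1 (.leaf 0x100895a) (.node 1 (.leaf 0xc0915e) (.leaf 0xc09963)))) (.node 3 (.node 1 (.leaf 0x80a16a) (.node 1 (.leaf 0x80a988) (.leaf 0x40b1ae))) (.node 1 (.leaf 0xc0b1ac) (.node 1 (.leaf 0x40b997) (.leaf 0xc0b994))))) (.node 6 (.node 3 (.node 1 (.leaf 0xc0c1c8) (.node 1 (.leaf 0x100c9c5) (.leaf 0x100d201))) (.node 1 (.leaf 0xc0da06) (.node 1 (.leaf 0xc0e200) (.leaf 0x80ea04)))) (.node 3 (.node 1 (.leaf 0x80f20a) (.node 1 (.leaf 0x40fa17) (.leaf 0xc0fa14))) (.node 2 (.node 1 (.leaf 0x410242) (.leaf 0xc10240)) (.node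 1 (.leaf 0x10a7e) (.leaf 0xc10a7a))))))) (.node 25 (.node 12 (.node 6 (.node 3 (.node 1 (.leaf 0x1011278) (.node 1 (.leaf 0xc11a5b) (.leaf 0x812256))) (.node 1 (.leaf 0x1012258) (.node 1 (.leaf 0x812a95) (.leaf 0x1012a9d)))) (.node 3 (.node 1 (.leaf 0xc13aee) (.node 1 (.leaf 0x814aed) (.leaf 0x415afc))) (.node 1 (.leaf 0xc15af9) (.node 1 (.leaf 0x1624e) (.leaf 0xc1624a))))) (.node 6 (.node 3 (.node 1 (.leaf 0x1016a8e) (.node 1 (.leaf 0x17355) (.leaf 0xc17351))) (.node 1 (.leaf 0x1017b4f) (.node 1 (.leaf 0xc183a2) (.leaf 0x8189bf)))) (.node 3 (.node 1 (.leaf 0x1018b9e) (.node 1 (.leaf 0x1019b74) (.leaf 0x101a370))) (.node 2 (.node 1 (.leaf 0xc1b1c2) (.leaf 0x101b3c1)) (.node 1 (.leaf 0xc1cc3c) (.leaf 0x1d364)))))) (.node 12 (.node 6 (.node 3 (.node 1 (.leaf 0xc1d3b9) (.node 1 (.leaf 0x101dbba) (.leaf 0x41e366))) (.node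 1 (.leaf 0xc1e190) (.node 1 (.leaf 0x81e9a3) (.leaf 0x101e9bb)))) (.node 3 (.node 1 (.leaf 0xc1fcbe) (.node 1 (.leaf 0x82026a) (.leaf 0x10202b9))) (.node 1 (.leaf 0x82128d) (.node 1 (.leaf 0x1021502) (.leaf 0xc2192a))))) (.node 6 (.node 3 (.node 1 (.leaf 0x1021a92) (.node 1 (.leaf 0xc234d5) (.leaf 0x1023a51))) (.node 1 (.leaf 0xc244cf) (.node 1 (.leaf 0x82711a) (.leaf 0xc27941)))) (.node 3 (.node 1 (.leaf 0x828b89) (.node 1 (.leaf 0x1028beb) (.leaf 0xc291de))) (.node 2 (.node 1 (.leaf 0x82b0cd) (.leaf 0x42ecf1)) (.node 1 (.leaf 0xc2eab8) (.leaf 0xc30bea))))))))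

def lev1Len : ℕ := 100

def levWords2 : List (List ℕ) := [[0, 3, 2, 1, 0, 3, 2, 1, 0, 3, 2, 1, 0, 4, 3, 2, 1, 3, 2, 4, 3, 2, 1, 3, 2], [1, 0, 1, 3, 2, 1, 3, 4, 3, 2, 1, 0, 3, 2, 1, 0, 1, 4, 3, 2, 3], [1, 2, 1, 3, 2, 1, 3, 0, 4, 3, 2, 1, 0, 3, 2, 1, 0, 3, 2, 1, 3, 4, 3, 2, 3]]

def lev2 : Tree := (.node 18 (.node 9 (.node 4 (.node 2 (.node 1 (.leaf 0x4f) (.leaf 0x258)) (.node 1 (.leaf 0x4002ed) (.leaf 0xba2))) (.node 2 (.node 1 (.leaf 0x4009a3) (.leaf 0x800b51)) (.node 1 (.leaf 0x1370) (.node 1 (.leaf 0x40124a) (.leaf 0x8012ee))))) (.node 4 (.node 2 (.node 1 (.leaf 0x18b0) (.leaf 0x401a40)) (.node 1 (.leaf 0x801bba) (.leaf 0x2130))) (.node 2 (.node 1 (.leaf 0x40210f) (.leaf 0x802214)) (.node 1 (.leaf 0x402d02) (.node 1 (.leaf 0x802a4e) (.leaf 0x3098)))))) (.node 9 (.node 4 (.node 2 (.node 1 (.leaf 0x40328d) (.leaf 0x803366))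 (.node 1 (.leaf 0x3cd5) (.leaf 0x403c3c))) (.node 2 (.node 1 (.leaf 0x404374) (.leaf 0x804073)) (.node 1 (.leaf 0x804997) (.node 1 (.leaf 0x80527e) (.leaf 0x5ab8))))) (.node 4 (.node 2 (.node 1 (.leaf 0x4063ea) (.leaf 0x80607d)) (.node 1 (.leaf 0x407200) (.leaf 0x7bb9))) (.node 2 (.node 1 (.leaf 0x40826a) (.leaf 0x9beb)) (.node 1 (.leaf 0xa8c0) (.node 1 (.leaf 0x80aaf9) (.leaf 0x80b879)))))))

def lev2Len : ℕ := 36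

def levWords3 : List (List ℕ) := [[0, 1, 0, 1, 2, 3, 2, 3, 4, 3, 2, 1, 0, 1, 0, 3, 4], [0, 1, 0, 2, 3, 2, 1, 4, 3, 2, 1, 3, 2, 4, 3, 2, 1, 0, 1, 2, 3, 2, 1, 3, 4, 3], [2, 3, 2, 1, 3, 2, 3, 2, 4, 3, 2, 1, 0, 1, 0, 2, 3, 2, 1, 4, 3, 2, 3, 2, 4]]

def lev3 : Tree := (.node 10 (.node 5 (.node 2 (.node 1 (.leaf 0x5) (.leaf 0x400010)) (.node 1 (.leaf 0x8002f4) (.node 1 (.leaf 0xcad) (.leaf 0x400cd3)))) (.node 2 (.node 1 (.leaf 0x800c7e) (.leaf 0x143e)) (.node 1 (.leaf 0x4014ae) (.node 1 (.leaf 0x8013b3) (.leaf 0x1809))))) (.node 5 (.node 2 (.node 1 (.leaf 0x401c39) (.leaf 0x801e2b)) (.node 1 (.leaf 0x22eb) (.node 1 (.leaf 0x80236e) (.leaf 0x402d97)))) (.node 3 (.node 1 (.leaf 0x802b43) (.node 1 (.leaf 0x3208) (.leaf 0x403443))) (.node 1 (.leaf 0x3af7) (.node 1 (.leaf 0x404512) (.leaf 0x405596))))))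

def lev3Len : ℕ := 21

def levWords4 : List (List ℕ) := [[0, 1, 0, 1, 2, 3, 4, 3, 2, 3, 2, 1, 0, 1, 0, 4, 3], [0, 1, 0, 2, 3, 2, 1, 4, 3, 2, 1, 3, 2, 4, 3, 2, 1, 0, 1, 2, 3, 2, 3, 4, 3, 2, 1], [0, 1, 0, 1, 2, 3, 4, 3, 2, 3, 2, 1, 0, 1, 0, 4, 3]]

def lev4 : Tree := (.node 1 (.leaf 0xc7) (.leaf 0x4000c9))

def lev4Len : ℕ := 2

def levWords5 : List (List ℕ) := [[0, 1, 0, 1, 2, 3, 4, 3, 2, 3, 2, 1, 0, 1, 0, 4, 3], [1], [0, 1, 0, 1, 2, 3, 2, 3, 4, 3, 2, 1, 0, 1, 0, 3, 4]]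

def lev5 : Tree := (.node 2 (.node 1 (.leaf 0x2c) (.leaf 0x1a9)) (.node 1 (.leaf 0x400040) (.leaf 0x800275)))

def lev5Len : ℕ := 4

def last : ℕ := 125

def det0_0 : Tree := (.node 128 (.node 64 (.node 32 (.node 16 (.node 8 (.node 4 (.node 2 (.node 1 (.leaf 0x6c) (.leaf 0xa8)) (.node 1 (.leaf 0xf8) (.leaf 0x11d))) (.node 2 (.node 1 (.leaf 0x132) (.leaf 0x172)) (.node 1 (.leaf 0x178) (.leaf 0x17a)))) (.node 4 (.node 2 (.node 1 (.leaf 0x187) (.leaf 0x1ab)) (.node 1 (.leaf 0x1ad) (.leaf 0x1ca))) (.node 2 (.node 1 (.leaf 0x1e8) (.leaf 0x1ef)) (.node 1 (.leaf 0x213) (.leaf 0x237))))) (.node 8 (.node 4 (.node 2 (.node 1 (.leaf 0x23f) (.leaf 0x255)) (.node 1 (.leaf 0x25d) (.leaf 0x25e))) (.node 2 (.node 1 (.leaf 0x277) (.leaf 0x279)) (.node 1 (.leaf 0x27c) (.leaf 0x281)))) (.node 4 (.node 2 (.node 1 (.leaf 0x28c) (.leaf 0x299))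 (.node 1 (.leaf 0x2a3) (.leaf 0x2b5))) (.node 2 (.node 1 (.leaf 0x2c2) (.leaf 0x2c9)) (.node 1 (.leaf 0x2d2) (.leaf 0x2e0)))))) (.node 16 (.node 8 (.node 4 (.node 2 (.node 1 (.leaf 0x2e6) (.leaf 0x306)) (.node 1 (.leaf 0x309) (.leaf 0x31d))) (.node 2 (.node 1 (.leaf 0x323) (.leaf 0x32a)) (.node 1 (.leaf 0x32c) (.leaf 0x33e)))) (.node 4 (.node 2 (.node 1 (.leaf 0x341) (.leaf 0x34e)) (.node 1 (.leaf 0x350) (.leaf 0x352))) (.node 2 (.node 1 (.leaf 0x35a) (.leaf 0x36f)) (.node 1 (.leaf 0x371) (.leaf 0x37a))))) (.node 8 (.node 4 (.node 2 (.node 1 (.leaf 0x37c) (.leaf 0x39d)) (.node 1 (.leaf 0x39f) (.leaf 0x3a1))) (.node 2 (.node 1 (.leaf 0x3a7) (.leaf 0x3ab)) (.node 1 (.leaf 0x3ae) (.leaf 0x3b8)))) (.node 4 (.node 2 (.node 1 (.leaf 0x3bc) (.leaf 0x3c5)) (.node 1 (.leaf 0x3c8) (.leaf 0x3c9))) (.node 2 (.node 1 (.leaf 0x3d1)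 (.leaf 0x3e7)) (.node 1 (.leaf 0x3e8) (.leaf 0x3f3))))))) (.node 32 (.node 16 (.node 8 (.node 4 (.node 2 (.node 1 (.leaf 0x408) (.leaf 0x40a)) (.node 1 (.leaf 0x40d) (.leaf 0x40f))) (.node 2 (.node 1 (.leaf 0x412) (.leaf 0x413)) (.node 1 (.leaf 0x416) (.leaf 0x417)))) (.node 4 (.node 2 (.node 1 (.leaf 0x425) (.leaf 0x42b)) (.node 1 (.leaf 0x42f) (.leaf 0x430))) (.node 2 (.node 1 (.leaf 0x44b) (.leaf 0x452)) (.node 1 (.leaf 0x45d) (.leaf 0x45e))))) (.node 8 (.node 4 (.node 2 (.node 1 (.leaf 0x46d) (.leaf 0x470)) (.node 1 (.leaf 0x471) (.leaf 0x472))) (.node 2 (.node 1 (.leaf 0x47c) (.leaf 0x481)) (.node 1 (.leaf 0x483) (.leaf 0x488)))) (.node 4 (.node 2 (.node 1 (.leaf 0x49d) (.leaf 0x4a5)) (.node 1 (.leaf 0x4a8) (.leaf 0x4aa))) (.node 2 (.node 1 (.leaf 0x4ac) (.leaf 0x4af)) (.node 1 (.leaf 0x4ba) (.leaf 0x4c0)))))) (.node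 16 (.node 8 (.node 4 (.node 2 (.node 1 (.leaf 0x4c1) (.leaf 0x4c7)) (.node 1 (.leaf 0x4cb) (.leaf 0x4d1))) (.node 2 (.node 1 (.leaf 0x4e3) (.leaf 0x4f8)) (.node 1 (.leaf 0x4fc) (.leaf 0x501)))) (.node 4 (.node 2 (.node 1 (.leaf 0x50b) (.leaf 0x50e)) (.node 1 (.leaf 0x511) (.leaf 0x516))) (.node 2 (.node 1 (.leaf 0x518) (.leaf 0x51c)) (.node 1 (.leaf 0x51d) (.leaf 0x51e))))) (.node 8 (.node 4 (.node 2 (.node 1 (.leaf 0x520) (.leaf 0x531)) (.node 1 (.leaf 0x552) (.leaf 0x556))) (.node 2 (.node 1 (.leaf 0x558) (.leaf 0x559)) (.node 1 (.leaf 0x55e) (.leaf 0x560)))) (.node 4 (.node 2 (.node 1 (.leaf 0x56c) (.leaf 0x56e)) (.node 1 (.leaf 0x571) (.leaf 0x574))) (.node 2 (.node 1 (.leaf 0x575) (.leaf 0x576)) (.node 1 (.leaf 0x577) (.leaf 0x578)))))))) (.node 64 (.node 32 (.node 16 (.node 8 (.node 4 (.node 2 (.node 1 (.leaf 0x57a)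 (.leaf 0x58c)) (.node 1 (.leaf 0x58d) (.leaf 0x58f))) (.node 2 (.node 1 (.leaf 0x59a) (.leaf 0x59c)) (.node 1 (.leaf 0x5a0) (.leaf 0x5a2)))) (.node 4 (.node 2 (.node 1 (.leaf 0x5a7) (.leaf 0x5a8)) (.node 1 (.leaf 0x5ae) (.leaf 0x5c6))) (.node 2 (.node 1 (.leaf 0x5c8) (.leaf 0x5d8)) (.node 1 (.leaf 0x5de) (.leaf 0x5e5))))) (.node 8 (.node 4 (.node 2 (.node 1 (.leaf 0x5ec) (.leaf 0x5f3)) (.node 1 (.leaf 0x5f7) (.leaf 0x5f9))) (.node 2 (.node 1 (.leaf 0x602) (.leaf 0x604)) (.node 1 (.leaf 0x606) (.leaf 0x60a)))) (.node 4 (.node 2 (.node 1 (.leaf 0x619) (.leaf 0x61c)) (.node 1 (.leaf 0x61f) (.leaf 0x62a))) (.node 2 (.node 1 (.leaf 0x633) (.leaf 0x64c)) (.node 1 (.leaf 0x64d) (.leaf 0x64e)))))) (.node 16 (.node 8 (.node 4 (.node 2 (.node 1 (.leaf 0x652) (.leaf 0x658)) (.node 1 (.leaf 0x66a) (.leaf 0x66c))) (.node 2 (.node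 1 (.leaf 0x676) (.leaf 0x679)) (.node 1 (.leaf 0x67b) (.leaf 0x67f)))) (.node 4 (.node 2 (.node 1 (.leaf 0x683) (.leaf 0x684)) (.node 1 (.leaf 0x685) (.leaf 0x687))) (.node 2 (.node 1 (.leaf 0x68b) (.leaf 0x693)) (.node 1 (.leaf 0x694) (.leaf 0x69a))))) (.node 8 (.node 4 (.node 2 (.node 1 (.leaf 0x6a8) (.leaf 0x6ad)) (.node 1 (.leaf 0x6ba) (.leaf 0x6be))) (.node 2 (.node 1 (.leaf 0x6c8) (.leaf 0x6ca)) (.node 1 (.leaf 0x6d1) (.leaf 0x6d4)))) (.node 4 (.node 2 (.node 1 (.leaf 0x6db) (.leaf 0x6e9)) (.node 1 (.leaf 0x6ea) (.leaf 0x6ec))) (.node 2 (.node 1 (.leaf 0xb1) (.leaf 0xc2)) (.node 1 (.leaf 0xc3) (.leaf 0xea))))))) (.node 32 (.node 16 (.node 8 (.node 4 (.node 2 (.node 1 (.leaf 0x110) (.leaf 0x112)) (.node 1 (.leaf 0x12f) (.leaf 0x133))) (.node 2 (.node 1 (.leaf 0x199) (.leaf 0x1a5)) (.node 1 (.leaf 0x1cd) (.leaf 0x263))))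 (.node 4 (.node 2 (.node 1 (.leaf 0x2ac) (.leaf 0x307)) (.node 1 (.leaf 0x308) (.leaf 0x30b))) (.node 2 (.node 1 (.leaf 0x373) (.leaf 0x3be)) (.node 1 (.leaf 0x3e0) (.leaf 0x3ed))))) (.node 8 (.node 4 (.node 2 (.node 1 (.leaf 0x3f5) (.leaf 0x45b)) (.node 1 (.leaf 0x45c) (.leaf 0x460))) (.node 2 (.node 1 (.leaf 0x462) (.leaf 0x4bf)) (.node 1 (.leaf 0x4d9) (.leaf 0x4e0)))) (.node 4 (.node 2 (.node 1 (.leaf 0x4e1) (.leaf 0x4f2)) (.node 1 (.leaf 0x4f3) (.leaf 0x503))) (.node 2 (.node 1 (.leaf 0x519) (.leaf 0x51b)) (.node 1 (.leaf 0x522) (.leaf 0x528)))))) (.node 16 (.node 8 (.node 4 (.node 2 (.node 1 (.leaf 0x530) (.leaf 0x548)) (.node 1 (.leaf 0x58e) (.leaf 0x5a4))) (.node 2 (.node 1 (.leaf 0x5b6) (.leaf 0x625)) (.node 1 (.leaf 0x635) (.leaf 0x63b)))) (.node 4 (.node 2 (.node 1 (.leaf 0x64f) (.leaf 0x651)) (.node 1 (.leaf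 0x653) (.leaf 0x6a1))) (.node 2 (.node 1 (.leaf 0x6d3) (.leaf 0x6dc)) (.node 1 (.leaf 0xa4) (.leaf 0xa5))))) (.node 8 (.node 4 (.node 2 (.node 1 (.leaf 0xa6) (.leaf 0xd6)) (.node 1 (.leaf 0xd7) (.leaf 0xde))) (.node 2 (.node 1 (.leaf 0xf4) (.leaf 0xfd)) (.node 1 (.leaf 0xfe) (.leaf 0x103)))) (.node 4 (.node 2 (.node 1 (.leaf 0x10e) (.leaf 0x12c)) (.node 1 (.leaf 0x14f) (.leaf 0x153))) (.node 2 (.node 1 (.leaf 0x173) (.leaf 0x17c)) (.node 1 (.leaf 0x182) (.leaf 0x193)))))))))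

def det0_1 : Tree := (.node 128 (.node 64 (.node 32 (.node 16 (.node 8 (.node 4 (.node 2 (.node 1 (.leaf 0x1be) (.leaf 0x1c4)) (.node 1 (.leaf 0x1c6) (.leaf 0x1f9))) (.node 2 (.node 1 (.leaf 0x22c) (.leaf 0x233)) (.node 1 (.leaf 0x259) (.leaf 0x288)))) (.node 4 (.node 2 (.node 1 (.leaf 0x291) (.leaf 0x293)) (.node 1 (.leaf 0x29b) (.leaf 0x2a0))) (.node 2 (.node 1 (.leaf 0x302) (.leaf 0x322)) (.node 1 (.leaf 0x330) (.leaf 0x37d))))) (.node 8 (.node 4 (.node 2 (.node 1 (.leaf 0x3a0) (.leaf 0x3a9)) (.node 1 (.leaf 0x3bf) (.leaf 0x3ee))) (.node 2 (.node 1 (.leaf 0x3f0) (.leaf 0x3fe)) (.node 1 (.leaf 0x42e) (.leaf 0x446)))) (.node 4 (.node 2 (.node 1 (.leaf 0x453) (.leaf 0x478)) (.node 1 (.leaf 0x47b) (.leaf 0x4b4))) (.node 2 (.node 1 (.leaf 0x4b6) (.leaf 0x514)) (.node 1 (.leaf 0x52c) (.leaf 0x54c)))))) (.node 16 (.node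 8 (.node 4 (.node 2 (.node 1 (.leaf 0x58b) (.leaf 0x59f)) (.node 1 (.leaf 0x5cc) (.leaf 0x615))) (.node 2 (.node 1 (.leaf 0x640) (.leaf 0x643)) (.node 1 (.leaf 0x688) (.leaf 0x69b)))) (.node 4 (.node 2 (.node 1 (.leaf 0x69c) (.leaf 0x6a7)) (.node 1 (.leaf 0x6c0) (.leaf 0x6d8))) (.node 2 (.node 1 (.leaf 0x6ee) (.leaf 0x6f3)) (.node 1 (.leaf 0xc6) (.leaf 0xe9))))) (.node 8 (.node 4 (.node 2 (.node 1 (.leaf 0xef) (.leaf 0x114)) (.node 1 (.leaf 0x131) (.leaf 0x135))) (.node 2 (.node 1 (.leaf 0x13a) (.leaf 0x165)) (.node 1 (.leaf 0x198) (.leaf 0x1a0)))) (.node 4 (.node 2 (.node 1 (.leaf 0x1b4) (.leaf 0x1b6)) (.node 1 (.leaf 0x1b7) (.leaf 0x1c9))) (.node 2 (.node 1 (.leaf 0x1ce) (.leaf 0x1d3)) (.node 1 (.leaf 0x1d8) (.leaf 0x20c))))))) (.node 32 (.node 16 (.node 8 (.node 4 (.node 2 (.node 1 (.leaf 0x252) (.leaf 0x25c)) (.node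 1 (.leaf 0x260) (.leaf 0x267))) (.node 2 (.node 1 (.leaf 0x283) (.leaf 0x284)) (.node 1 (.leaf 0x296) (.leaf 0x29e)))) (.node 4 (.node 2 (.node 1 (.leaf 0x2b0) (.leaf 0x367)) (.node 1 (.leaf 0x375) (.leaf 0x385))) (.node 2 (.node 1 (.leaf 0x38b) (.leaf 0x3c2)) (.node 1 (.leaf 0x3df) (.leaf 0x3ec))))) (.node 8 (.node 4 (.node 2 (.node 1 (.leaf 0x431) (.leaf 0x507)) (.node 1 (.leaf 0x5ab) (.leaf 0x5b4))) (.node 2 (.node 1 (.leaf 0x5ba) (.leaf 0x645)) (.node 1 (.leaf 0x656) (.leaf 0x667)))) (.node 4 (.node 2 (.node 1 (.leaf 0x6a0) (.leaf 0x6a2)) (.node 1 (.leaf 0x6d9) (.leaf 0x6df))) (.node 2 (.node 1 (.leaf 0x6ef) (.leaf 0x6f0)) (.node 1 (.leaf 0x15) (.leaf 0x20)))))) (.node 16 (.node 8 (.node 4 (.node 2 (.node 1 (.leaf 0x1b0) (.leaf 0x1cb)) (.node 1 (.leaf 0x221) (.leaf 0x22a))) (.node 2 (.node 1 (.leaf 0x230) (.leaf 0x241))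 (.node 1 (.leaf 0x29f) (.leaf 0x2bc)))) (.node 4 (.node 2 (.node 1 (.leaf 0x2cf) (.leaf 0x312)) (.node 1 (.leaf 0x337) (.leaf 0x340))) (.node 2 (.node 1 (.leaf 0x357) (.leaf 0x369)) (.node 1 (.leaf 0x378) (.leaf 0x386))))) (.node 8 (.node 4 (.node 2 (.node 1 (.leaf 0x3f1) (.leaf 0x403)) (.node 1 (.leaf 0x411) (.leaf 0x41d))) (.node 2 (.node 1 (.leaf 0x422) (.leaf 0x447)) (.node 1 (.leaf 0x458) (.leaf 0x4d4)))) (.node 4 (.node 2 (.node 1 (.leaf 0x4d7) (.leaf 0x4dc)) (.node 1 (.leaf 0x4dd) (.leaf 0x4ee))) (.node 2 (.node 1 (.leaf 0x4ef) (.leaf 0x504)) (.node 1 (.leaf 0x544) (.leaf 0x561)))))))) (.node 64 (.node 32 (.node 16 (.node 8 (.node 4 (.node 2 (.node 1 (.leaf 0x565) (.leaf 0x567)) (.node 1 (.leaf 0x568) (.leaf 0x56b))) (.node 2 (.node 1 (.leaf 0x57c) (.leaf 0x57e)) (.node 1 (.leaf 0x580) (.leaf 0x584)))) (.node 4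 (.node 2 (.node 1 (.leaf 0x587) (.leaf 0x5b2)) (.node 1 (.leaf 0x5b8) (.leaf 0x5ce))) (.node 2 (.node 1 (.leaf 0x5d6) (.leaf 0x5f1)) (.node 1 (.leaf 0x60b) (.leaf 0x626))))) (.node 8 (.node 4 (.node 2 (.node 1 (.leaf 0x631) (.leaf 0x632)) (.node 1 (.leaf 0x67a) (.leaf 0x682))) (.node 2 (.node 1 (.leaf 0x691) (.leaf 0x6b1)) (.node 1 (.leaf 0x6b8) (.leaf 0x6c2)))) (.node 4 (.node 2 (.node 1 (.leaf 0x6c6) (.leaf 0x6c7)) (.node 1 (.leaf 0xbc) (.leaf 0xca))) (.node 2 (.node 1 (.leaf 0x115) (.leaf 0x134)) (.node 1 (.leaf 0x144) (.leaf 0x18c)))))) (.node 16 (.node 8 (.node 4 (.node 2 (.node 1 (.leaf 0x19e) (.leaf 0x19f)) (.node 1 (.leaf 0x1d1) (.leaf 0x1d7))) (.node 2 (.node 1 (.leaf 0x216) (.leaf 0x30c)) (.node 1 (.leaf 0x382) (.leaf 0x3d5)))) (.node 4 (.node 2 (.node 1 (.leaf 0x4c6) (.leaf 0x4c9)) (.node 1 (.leaf 0x4e8) (.leaf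 0x532))) (.node 2 (.node 1 (.leaf 0x53c) (.leaf 0x540)) (.node 1 (.leaf 0x5b5) (.leaf 0x65e))))) (.node 8 (.node 4 (.node 2 (.node 1 (.leaf 0xff) (.leaf 0x195)) (.node 1 (.leaf 0x2a8) (.leaf 0x39a))) (.node 2 (.node 1 (.leaf 0x435) (.leaf 0x4b7)) (.node 1 (.leaf 0x5bb) (.leaf 0x5d5)))) (.node 4 (.node 2 (.node 1 (.leaf 0x9a) (.leaf 0x126)) (.node 1 (.leaf 0x16c) (.leaf 0x19b))) (.node 2 (.node 1 (.leaf 0x1c3) (.leaf 0x1d6)) (.node 1 (.leaf 0x265) (.leaf 0x266))))))) (.node 32 (.node 16 (.node 8 (.node 4 (.node 2 (.node 1 (.leaf 0x2bd) (.leaf 0x461)) (.node 1 (.leaf 0x4d0) (.leaf 0x4e7))) (.node 2 (.node 1 (.leaf 0x533) (.leaf 0x65a)) (.node 1 (.leaf 0x65b) (.leaf 0x6e0)))) (.node 4 (.node 2 (.node 1 (.leaf 0x8a) (.leaf 0x101)) (.node 1 (.leaf 0x174) (.leaf 0x176))) (.node 2 (.node 1 (.leaf 0x18a) (.leaf 0x203)) (.node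 1 (.leaf 0x215) (.leaf 0x21a))))) (.node 8 (.node 4 (.node 2 (.node 1 (.leaf 0x220) (.leaf 0x227)) (.node 1 (.leaf 0x234) (.leaf 0x2b3))) (.node 2 (.node 1 (.leaf 0x2b6) (.leaf 0x2c8)) (.node 1 (.leaf 0x2d3) (.leaf 0x30a)))) (.node 4 (.node 2 (.node 1 (.leaf 0x310) (.leaf 0x31e)) (.node 1 (.leaf 0x327) (.leaf 0x329))) (.node 2 (.node 1 (.leaf 0x33f) (.leaf 0x368)) (.node 1 (.leaf 0x376) (.leaf 0x3a8)))))) (.node 16 (.node 8 (.node 4 (.node 2 (.node 1 (.leaf 0x3e4) (.leaf 0x3e6)) (.node 1 (.leaf 0x3e9) (.leaf 0x3fd))) (.node 2 (.node 1 (.leaf 0x402) (.leaf 0x414)) (.node 1 (.leaf 0x424) (.leaf 0x429)))) (.node 4 (.node 2 (.node 1 (.leaf 0x467) (.leaf 0x468)) (.node 1 (.leaf 0x473) (.leaf 0x475))) (.node 2 (.node 1 (.leaf 0x477) (.leaf 0x47a)) (.node 1 (.leaf 0x47d) (.leaf 0x49c))))) (.node 8 (.node 4 (.node 2 (.node 1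 (.leaf 0x4a4) (.leaf 0x4b0)) (.node 1 (.leaf 0x4bb) (.leaf 0x4c2))) (.node 2 (.node 1 (.leaf 0x4c8) (.leaf 0x4cc)) (.node 1 (.leaf 0x4e2) (.leaf 0x54a)))) (.node 4 (.node 2 (.node 1 (.leaf 0x55a) (.leaf 0x564)) (.node 1 (.leaf 0x566) (.leaf 0x57b))) (.node 2 (.node 1 (.leaf 0x57f) (.leaf 0x588)) (.node 1 (.leaf 0x589) (.leaf 0x595)))))))))

def det0_2 : Tree := (.node 128 (.node 64 (.node 32 (.node 16 (.node 8 (.node 4 (.node 2 (.node 1 (.leaf 0x5bf) (.leaf 0x5c1)) (.node 1 (.leaf 0x5c2) (.leaf 0x5d7))) (.node 2 (.node 1 (.leaf 0x5d9) (.leaf 0x5dd)) (.node 1 (.leaf 0x5df) (.leaf 0x5e2)))) (.node 4 (.node 2 (.node 1 (.leaf 0x5f4) (.leaf 0x5fd)) (.node 1 (.leaf 0x617) (.leaf 0x623))) (.node 2 (.node 1 (.leaf 0x627) (.leaf 0x636)) (.node 1 (.leaf 0x660) (.leaf 0x662))))) (.node 8 (.node 4 (.node 2 (.node 1 (.leaf 0x663)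 (.leaf 0x669)) (.node 1 (.leaf 0x66f) (.leaf 0x681))) (.node 2 (.node 1 (.leaf 0x68f) (.leaf 0x690)) (.node 1 (.leaf 0x6a9) (.leaf 0x6ac)))) (.node 4 (.node 2 (.node 1 (.leaf 0x6c1) (.leaf 0x6c9)) (.node 1 (.leaf 0x6e8) (.leaf 0x6f2))) (.node 2 (.node 1 (.leaf 0x7f) (.leaf 0x80)) (.node 1 (.leaf 0xc4) (.leaf 0xc5)))))) (.node 16 (.node 8 (.node 4 (.node 2 (.node 1 (.leaf 0x116) (.leaf 0x245)) (.node 1 (.leaf 0x264) (.leaf 0x29a))) (.node 2 (.node 1 (.leaf 0x2a9) (.leaf 0x3cb)) (.node 1 (.leaf 0x3dd) (.leaf 0x45a)))) (.node 4 (.node 2 (.node 1 (.leaf 0x53a) (.leaf 0x5a9)) (.node 1 (.leaf 0x124) (.leaf 0x129))) (.node 2 (.node 1 (.leaf 0x154) (.leaf 0x17d)) (.node 1 (.leaf 0x183) (.leaf 0x1c0))))) (.node 8 (.node 4 (.node 2 (.node 1 (.leaf 0x1f0) (.leaf 0x210)) (.node 1 (.leaf 0x303) (.leaf 0x34d))) (.node 2 (.node 1 (.leaf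 0x363) (.leaf 0x4b9)) (.node 1 (.leaf 0x4ce) (.leaf 0x4de)))) (.node 4 (.node 2 (.node 1 (.leaf 0x54d) (.leaf 0x5af)) (.node 1 (.leaf 0x5cf) (.leaf 0x616))) (.node 2 (.node 1 (.leaf 0x62d) (.leaf 0x646)) (.node 1 (.leaf 0x66d) (.leaf 0x69d))))))) (.node 32 (.node 16 (.node 8 (.node 4 (.node 2 (.node 1 (.leaf 0x6af) (.leaf 0x47)) (.node 1 (.leaf 0x59) (.leaf 0x5c))) (.node 2 (.node 1 (.leaf 0x62) (.leaf 0x87)) (.node 1 (.leaf 0x99) (.leaf 0xd2)))) (.node 4 (.node 2 (.node 1 (.leaf 0x100) (.leaf 0x169)) (.node 1 (.leaf 0x225) (.leaf 0x2c4))) (.node 2 (.node 1 (.leaf 0x2f1) (.leaf 0x300)) (.node 1 (.leaf 0x31f) (.leaf 0x344))))) (.node 8 (.node 4 (.node 2 (.node 1 (.leaf 0x34b) (.leaf 0x420)) (.node 1 (.leaf 0x454) (.leaf 0x479))) (.node 2 (.node 1 (.leaf 0x496) (.leaf 0x4b8)) (.node 1 (.leaf 0x4e4) (.leaf 0x542)))) (.node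 4 (.node 2 (.node 1 (.leaf 0x545) (.leaf 0x5d3)) (.node 1 (.leaf 0x5f6) (.leaf 0x608))) (.node 2 (.node 1 (.leaf 0x637) (.leaf 0x9b)) (.node 1 (.leaf 0xc8) (.leaf 0x13c)))))) (.node 16 (.node 8 (.node 4 (.node 2 (.node 1 (.leaf 0x1c1) (.leaf 0x218)) (.node 1 (.leaf 0x2be) (.leaf 0x30e))) (.node 2 (.node 1 (.leaf 0x356) (.leaf 0x380)) (.node 1 (.leaf 0x44f) (.leaf 0x8da)))) (.node 4 (.node 2 (.node 1 (.leaf 0x72) (.leaf 0x7e)) (.node 1 (.leaf 0x89) (.leaf 0x8c))) (.node 2 (.node 1 (.leaf 0x97) (.leaf 0xab)) (.node 1 (.leaf 0xb9) (.leaf 0xd1))))) (.node 8 (.node 4 (.node 2 (.node 1 (.leaf 0xee) (.leaf 0x108)) (.node 1 (.leaf 0x109) (.leaf 0x119))) (.node 2 (.node 1 (.leaf 0x120) (.leaf 0x14a)) (.node 1 (.leaf 0x156) (.leaf 0x162)))) (.node 4 (.node 2 (.node 1 (.leaf 0x16e) (.leaf 0x180)) (.node 1 (.leaf 0x18b) (.leaf 0x1a2)))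 (.node 2 (.node 1 (.leaf 0x1b2) (.leaf 0x1f3)) (.node 1 (.leaf 0x1fd) (.leaf 0x20b)))))))) (.node 64 (.node 32 (.node 16 (.node 8 (.node 4 (.node 2 (.node 1 (.leaf 0x21e) (.leaf 0x22b)) (.node 1 (.leaf 0x22d) (.leaf 0x269))) (.node 2 (.node 1 (.leaf 0x274) (.leaf 0x297)) (.node 1 (.leaf 0x2d0) (.leaf 0x2da)))) (.node 4 (.node 2 (.node 1 (.leaf 0x2db) (.leaf 0x2dc)) (.node 1 (.leaf 0x2df) (.leaf 0x2e9))) (.node 2 (.node 1 (.leaf 0x2ec) (.leaf 0x2fe)) (.node 1 (.leaf 0x31c) (.leaf 0x32b))))) (.node 8 (.node 4 (.node 2 (.node 1 (.leaf 0x32d) (.leaf 0x32e)) (.node 1 (.leaf 0x333) (.leaf 0x358))) (.node 2 (.node 1 (.leaf 0x387) (.leaf 0x3a6)) (.node 1 (.leaf 0x3c7) (.leaf 0x3dc)))) (.node 4 (.node 2 (.node 1 (.leaf 0x406) (.leaf 0x410)) (.node 1 (.leaf 0x41e) (.leaf 0x41f))) (.node 2 (.node 1 (.leaf 0x423) (.leaf 0x42c)) (.node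 1 (.leaf 0x433) (.leaf 0x434)))))) (.node 16 (.node 8 (.node 4 (.node 2 (.node 1 (.leaf 0x436) (.leaf 0x43d)) (.node 1 (.leaf 0x441) (.leaf 0x465))) (.node 2 (.node 1 (.leaf 0x474) (.leaf 0x485)) (.node 1 (.leaf 0x494) (.leaf 0x4ab)))) (.node 4 (.node 2 (.node 1 (.leaf 0x4c4) (.leaf 0x4d6)) (.node 1 (.leaf 0x4fe) (.leaf 0x509))) (.node 2 (.node 1 (.leaf 0x524) (.leaf 0x537)) (.node 1 (.leaf 0x546) (.leaf 0x54b))))) (.node 8 (.node 4 (.node 2 (.node 1 (.leaf 0x55b) (.leaf 0x562)) (.node 1 (.leaf 0x563) (.leaf 0x56f))) (.node 2 (.node 1 (.leaf 0x572) (.leaf 0x586)) (.node 1 (.leaf 0x58a) (.leaf 0x591)))) (.node 4 (.node 2 (.node 1 (.leaf 0x5da) (.leaf 0x5dc)) (.node 1 (.leaf 0x5e3) (.leaf 0x5ea))) (.node 2 (.node 1 (.leaf 0x600) (.leaf 0x60f)) (.node 1 (.leaf 0x61d) (.leaf 0x62c))))))) (.node 32 (.node 16 (.node 8 (.node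 4 (.node 2 (.node 1 (.leaf 0x647) (.leaf 0x666)) (.node 1 (.leaf 0x66b) (.leaf 0x689))) (.node 2 (.node 1 (.leaf 0x6b3) (.leaf 0x6bf)) (.node 1 (.leaf 0x6cb) (.leaf 0x6e3)))) (.node 4 (.node 2 (.node 1 (.leaf 0x6e4) (.leaf 0x6eb)) (.node 1 (.leaf 0xb2) (.leaf 0x113))) (.node 2 (.node 1 (.leaf 0x1a4) (.leaf 0x20d)) (.node 1 (.leaf 0x262) (.leaf 0x26b))))) (.node 8 (.node 4 (.node 2 (.node 1 (.leaf 0x27f) (.leaf 0x282)) (.node 1 (.leaf 0x2ab) (.leaf 0x2ae))) (.node 2 (.node 1 (.leaf 0x2b7) (.leaf 0x3ac)) (.node 1 (.leaf 0x4e6) (.leaf 0x527)))) (.node 4 (.node 2 (.node 1 (.leaf 0x66) (.leaf 0xe1)) (.node 1 (.leaf 0x15f) (.leaf 0x1fc))) (.node 2 (.node 1 (.leaf 0x2e8) (.leaf 0x400)) (.node 1 (.leaf 0x48e) (.leaf 0x5ed)))))) (.node 16 (.node 8 (.node 4 (.node 2 (.node 1 (.leaf 0x610) (.leaf 0x8c9)) (.node 1 (.leaf 0x4e) (.leaf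 0x78))) (.node 2 (.node 1 (.leaf 0xd5) (.leaf 0xf6)) (.node 1 (.leaf 0x181) (.leaf 0x1f6)))) (.node 4 (.node 2 (.node 1 (.leaf 0x2d1) (.leaf 0x31b)) (.node 1 (.leaf 0x332) (.leaf 0x44c))) (.node 2 (.node 1 (.leaf 0x46f) (.leaf 0x47f)) (.node 1 (.leaf 0x48c) (.leaf 0x495))))) (.node 8 (.node 4 (.node 2 (.node 1 (.leaf 0x4c3) (.leaf 0x5c5)) (.node 1 (.leaf 0x61e) (.leaf 0x671))) (.node 2 (.node 1 (.leaf 0x67d) (.leaf 0x686)) (.node 1 (.leaf 0x695) (.leaf 0x6d5)))) (.node 4 (.node 2 (.node 1 (.leaf 0x51) (.leaf 0x81)) (.node 1 (.leaf 0x9f) (.leaf 0x17b))) (.node 2 (.node 1 (.leaf 0x231) (.leaf 0x3f2)) (.node 1 (.leaf 0x52d) (.leaf 0x590)))))))))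

def det0_3 : Tree := (.node 128 (.node 64 (.node 32 (.node 16 (.node 8 (.node 4 (.node 2 (.node 1 (.leaf 0x5f8) (.leaf 0x29)) (.node 1 (.leaf 0x1eb) (.leaf 0x2a1))) (.node 2 (.node 1 (.leaf 0x2cc) (.leaf 0x3cf)) (.node 1 (.leaf 0x3d4) (.leaf 0x409)))) (.node 4 (.node 2 (.node 1 (.leaf 0x426) (.leaf 0x52e)) (.node 1 (.leaf 0x538) (.leaf 0x55d))) (.node 2 (.node 1 (.leaf 0x585) (.leaf 0x5ef)) (.node 1 (.leaf 0x5fe) (.leaf 0x68d))))) (.node 8 (.node 4 (.node 2 (.node 1 (.leaf 0x449) (.leaf 0x517)) (.node 1 (.leaf 0x523) (.leaf 0x5a1))) (.node 2 (.node 1 (.leaf 0x5a5) (.leaf 0x62f)) (.node 1 (.leaf 0x650) (.leaf 0x6a5)))) (.node 4 (.node 2 (.node 1 (.leaf 0x184) (.leaf 0x2a5)) (.node 1 (.leaf 0x398) (.leaf 0x5be))) (.node 2 (.node 1 (.leaf 0x5e6) (.leaf 0x63f)) (.node 1 (.leaf 0x844) (.leaf 0x104)))))) (.node 16 (.node 8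 (.node 4 (.node 2 (.node 1 (.leaf 0x4f9) (.leaf 0x7c)) (.node 1 (.leaf 0xc1) (.leaf 0xd4))) (.node 2 (.node 1 (.leaf 0xe6) (.leaf 0x149)) (.node 1 (.leaf 0x14d) (.leaf 0x152)))) (.node 4 (.node 2 (.node 1 (.leaf 0x164) (.leaf 0x1af)) (.node 1 (.leaf 0x1e9) (.leaf 0x1f8))) (.node 2 (.node 1 (.leaf 0x219) (.leaf 0x22f)) (.node 1 (.leaf 0x244) (.leaf 0x246))))) (.node 8 (.node 4 (.node 2 (.node 1 (.leaf 0x280) (.leaf 0x290)) (.node 1 (.leaf 0x2a4) (.leaf 0x2a6))) (.node 2 (.node 1 (.leaf 0x2ca) (.leaf 0x2ce)) (.node 1 (.leaf 0x2d8) (.leaf 0x2e2)))) (.node 4 (.node 2 (.node 1 (.leaf 0x2e3) (.leaf 0x30f)) (.node 1 (.leaf 0x328) (.leaf 0x338))) (.node 2 (.node 1 (.leaf 0x33b) (.leaf 0x33c)) (.node 1 (.leaf 0x377) (.leaf 0x392))))))) (.node 32 (.node 16 (.node 8 (.node 4 (.node 2 (.node 1 (.leaf 0x397) (.leaf 0x3af)) (.node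 1 (.leaf 0x3b7) (.leaf 0x3bd))) (.node 2 (.node 1 (.leaf 0x3c3) (.leaf 0x3c4)) (.node 1 (.leaf 0x3fb) (.leaf 0x404)))) (.node 4 (.node 2 (.node 1 (.leaf 0x407) (.leaf 0x419)) (.node 1 (.leaf 0x41b) (.leaf 0x428))) (.node 2 (.node 1 (.leaf 0x42a) (.leaf 0x448)) (.node 1 (.leaf 0x451) (.leaf 0x459))))) (.node 8 (.node 4 (.node 2 (.node 1 (.leaf 0x463) (.leaf 0x469)) (.node 1 (.leaf 0x49e) (.leaf 0x4bc))) (.node 2 (.node 1 (.leaf 0x4f0) (.leaf 0x4ff)) (.node 1 (.leaf 0x506) (.leaf 0x508)))) (.node 4 (.node 2 (.node 1 (.leaf 0x51a) (.leaf 0x525)) (.node 1 (.leaf 0x52a) (.leaf 0x535))) (.node 2 (.node 1 (.leaf 0x551) (.leaf 0x557)) (.node 1 (.leaf 0x582) (.leaf 0x599)))))) (.node 16 (.node 8 (.node 4 (.node 2 (.node 1 (.leaf 0x5c4) (.leaf 0x5ca)) (.node 1 (.leaf 0x5cb) (.leaf 0x5d4))) (.node 2 (.node 1 (.leaf 0x5fa) (.leaf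 0x5ff)) (.node 1 (.leaf 0x60c) (.leaf 0x624)))) (.node 4 (.node 2 (.node 1 (.leaf 0x641) (.leaf 0x65c)) (.node 1 (.leaf 0x665) (.leaf 0x672))) (.node 2 (.node 1 (.leaf 0x673) (.leaf 0x675)) (.node 1 (.leaf 0x678) (.leaf 0x67e))))) (.node 8 (.node 4 (.node 2 (.node 1 (.leaf 0x68a) (.leaf 0x6ae)) (.node 1 (.leaf 0x6b2) (.leaf 0x6b5))) (.node 2 (.node 1 (.leaf 0x6bc) (.leaf 0x122)) (.node 1 (.leaf 0x139) (.leaf 0x1da)))) (.node 4 (.node 2 (.node 1 (.leaf 0x2fb) (.leaf 0x3a3)) (.node 1 (.leaf 0x3bb) (.leaf 0x3cc))) (.node 2 (.node 1 (.leaf 0x3d6) (.leaf 0x457)) (.node 1 (.leaf 0x4ec) (.leaf 0x521)))))))) (.node 64 (.node 32 (.node 16 (.node 8 (.node 4 (.node 2 (.node 1 (.leaf 0x63a) (.leaf 0x655)) (.node 1 (.leaf 0x6a6) (.leaf 0xa1))) (.node 2 (.node 1 (.leaf 0xa7) (.leaf 0xa9)) (.node 1 (.leaf 0xfa) (.leaf 0xfc)))) (.node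 4 (.node 2 (.node 1 (.leaf 0x102) (.leaf 0x14e)) (.node 1 (.leaf 0x159) (.leaf 0x17f))) (.node 2 (.node 1 (.leaf 0x1a8) (.leaf 0x273)) (.node 1 (.leaf 0x3ce) (.leaf 0x3d3))))) (.node 8 (.node 4 (.node 2 (.node 1 (.leaf 0x444) (.leaf 0x487)) (.node 1 (.leaf 0x4b2) (.leaf 0x4fd))) (.node 2 (.node 1 (.leaf 0x500) (.leaf 0x554)) (.node 1 (.leaf 0x59d) (.leaf 0x5b0)))) (.node 4 (.node 2 (.node 1 (.leaf 0x613) (.leaf 0x668)) (.node 1 (.leaf 0x1f7) (.leaf 0x2cb))) (.node 2 (.node 1 (.leaf 0x2f8) (.leaf 0x334)) (.node 1 (.leaf 0x353) (.leaf 0x3a5)))))) (.node 16 (.node 8 (.node 4 (.node 2 (.node 1 (.leaf 0x3cd) (.leaf 0x3d7)) (.node 1 (.leaf 0x3db) (.leaf 0x40c))) (.node 2 (.node 1 (.leaf 0x43b) (.leaf 0x4a0)) (.node 1 (.leaf 0x4a1) (.leaf 0x4a2)))) (.node 4 (.node 2 (.node 1 (.leaf 0x54e) (.leaf 0x581)) (.node 1 (.leaf 0x592)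 (.leaf 0x593))) (.node 2 (.node 1 (.leaf 0x594) (.leaf 0x5ad)) (.node 1 (.leaf 0x5c3) (.leaf 0x5db))))) (.node 8 (.node 4 (.node 2 (.node 1 (.leaf 0x5fc) (.leaf 0x63c)) (.node 1 (.leaf 0x642) (.leaf 0x68c))) (.node 2 (.node 1 (.leaf 0x6ab) (.leaf 0x6c4)) (.node 1 (.leaf 0x74) (.leaf 0xb3)))) (.node 4 (.node 2 (.node 1 (.leaf 0x13e) (.leaf 0x3f4)) (.node 1 (.leaf 0x44e) (.leaf 0x52f))) (.node 2 (.node 1 (.leaf 0x53e) (.leaf 0x5b3)) (.node 1 (.leaf 0x659) (.leaf 0x6e2))))))) (.node 32 (.node 16 (.node 8 (.node 4 (.node 2 (.node 1 (.leaf 0x86b) (.leaf 0xcc)) (.node 1 (.leaf 0x1dd) (.leaf 0x2c5))) (.node 2 (.node 1 (.leaf 0x541) (.leaf 0xb4)) (.node 1 (.leaf 0x1d0) (.leaf 0x2ad)))) (.node 4 (.node 2 (.node 1 (.leaf 0x384) (.leaf 0x388)) (.node 1 (.leaf 0x638) (.leaf 0x3f))) (.node 2 (.node 1 (.leaf 0x6a) (.leaf 0x15d)) (.node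 1 (.leaf 0x1dc) (.leaf 0x205))))) (.node 8 (.node 4 (.node 2 (.node 1 (.leaf 0x2b4) (.leaf 0x3ef)) (.node 1 (.leaf 0x437) (.leaf 0x5d2))) (.node 2 (.node 1 (.leaf 0x607) (.leaf 0x628)) (.node 1 (.leaf 0x696) (.leaf 0x3b)))) (.node 4 (.node 2 (.node 1 (.leaf 0xbb) (.leaf 0x140)) (.node 1 (.leaf 0x142) (.leaf 0x1e5))) (.node 2 (.node 1 (.leaf 0x3e5) (.leaf 0x75)) (.node 1 (.leaf 0x143) (.leaf 0x16d)))))) (.node 16 (.node 8 (.node 4 (.node 2 (.node 1 (.leaf 0x1e1) (.leaf 0x3e2)) (.node 1 (.leaf 0x4e9) (.leaf 0x41))) (.node 2 (.node 1 (.leaf 0x5a) (.leaf 0x249)) (.node 1 (.leaf 0x32f) (.leaf 0x331)))) (.node 4 (.node 2 (.node 1 (.leaf 0x335) (.leaf 0x354)) (.node 1 (.leaf 0x35f) (.leaf 0x489))) (.node 2 (.node 1 (.leaf 0x48f) (.leaf 0x492)) (.node 1 (.leaf 0x499) (.leaf 0x534))))) (.node 8 (.node 4 (.node 2 (.node 1 (.leaf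 0x539) (.leaf 0x65d)) (.node 1 (.leaf 0x19d) (.leaf 0x1d4))) (.node 2 (.node 1 (.leaf 0x2fd) (.leaf 0x37e)) (.node 1 (.leaf 0x38c) (.leaf 0x450)))) (.node 4 (.node 2 (.node 1 (.leaf 0x4d2) (.leaf 0x4e5)) (.node 1 (.leaf 0x18f) (.leaf 0x24d))) (.node 2 (.node 1 (.leaf 0x24f) (.leaf 0x276)) (.node 1 (.leaf 0x39c) (.leaf 0x4db)))))))))

def det0_4 : Tree := (.node 128 (.node 64 (.node 32 (.node 16 (.node 8 (.node 4 (.node 2 (.node 1 (.leaf 0xcbd) (.leaf 0x365)) (.node 1 (.leaf 0x5b1) (.leaf 0x2c7))) (.node 2 (.node 1 (.leaf 0x3d8) (.leaf 0x401)) (.node 1 (.leaf 0x491) (.leaf 0x536)))) (.node 4 (.node 2 (.node 1 (.leaf 0x5f0) (.leaf 0x629)) (.node 1 (.leaf 0x639) (.leaf 0x44a))) (.node 2 (.node 1 (.leaf 0x4df) (.leaf 0x5a6)) (.node 1 (.leaf 0x5b9) (.leaf 0x37b))))) (.node 8 (.node 4 (.node 2 (.node 1 (.leaf 0x4b5) (.leaf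 0x4fa)) (.node 1 (.leaf 0xab1) (.leaf 0xb94))) (.node 2 (.node 1 (.leaf 0x94) (.leaf 0x14c)) (.node 1 (.leaf 0x223) (.leaf 0x2d6)))) (.node 4 (.node 2 (.node 1 (.leaf 0x2e1) (.leaf 0x305)) (.node 1 (.leaf 0x3a4) (.leaf 0x3f9))) (.node 2 (.node 1 (.leaf 0x418) (.leaf 0x4a7)) (.node 1 (.leaf 0x4b1) (.leaf 0x543)))))) (.node 16 (.node 8 (.node 4 (.node 2 (.node 1 (.leaf 0x549) (.leaf 0x550)) (.node 1 (.leaf 0x555) (.leaf 0x55c))) (.node 2 (.node 1 (.leaf 0x55f) (.leaf 0x569)) (.node 1 (.leaf 0x573) (.leaf 0x5a3)))) (.node 4 (.node 2 (.node 1 (.leaf 0x5e0) (.leaf 0x5e7)) (.node 1 (.leaf 0x5ee) (.leaf 0x609))) (.node 2 (.node 1 (.leaf 0x612) (.leaf 0x620)) (.node 1 (.leaf 0x64a) (.leaf 0x699))))) (.node 8 (.node 4 (.node 2 (.node 1 (.leaf 0x69e) (.leaf 0x6aa)) (.node 1 (.leaf 0x6b6) (.leaf 0x6c3))) (.node 2 (.node 1 (.leaf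 0x6cc) (.leaf 0x6ce)) (.node 1 (.leaf 0x6cf) (.leaf 0x6e6)))) (.node 4 (.node 2 (.node 1 (.leaf 0x10b) (.leaf 0x117)) (.node 1 (.leaf 0x196) (.leaf 0x1c7))) (.node 2 (.node 1 (.leaf 0x1cf) (.leaf 0x1d5)) (.node 1 (.leaf 0x25a) (.leaf 0x261))))))) (.node 32 (.node 16 (.node 8 (.node 4 (.node 2 (.node 1 (.leaf 0x294) (.leaf 0x29c)) (.node 1 (.leaf 0x2a2) (.leaf 0x2aa))) (.node 2 (.node 1 (.leaf 0x2af) (.leaf 0x2ba)) (.node 1 (.leaf 0x379) (.leaf 0x381)))) (.node 4 (.node 2 (.node 1 (.leaf 0x38a) (.leaf 0x38d)) (.node 1 (.leaf 0x3aa) (.leaf 0x3c0))) (.node 2 (.node 1 (.leaf 0x3c6) (.leaf 0x3d0)) (.node 1 (.leaf 0x44d) (.leaf 0x4ea))))) (.node 8 (.node 4 (.node 2 (.node 1 (.leaf 0x4eb) (.leaf 0x50a)) (.node 1 (.leaf 0x51f) (.leaf 0x529))) (.node 2 (.node 1 (.leaf 0x53d) (.leaf 0x547)) (.node 1 (.leaf 0x553) (.leaf 0x5aa))))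 (.node 4 (.node 2 (.node 1 (.leaf 0x5ac) (.leaf 0x630)) (.node 1 (.leaf 0x677) (.leaf 0x6de))) (.node 2 (.node 1 (.leaf 0x6e1) (.leaf 0x6f1)) (.node 1 (.leaf 0x6f4) (.leaf 0x6f5)))))) (.node 16 (.node 8 (.node 4 (.node 2 (.node 1 (.leaf 0xbf) (.leaf 0xfb)) (.node 1 (.leaf 0x17e) (.leaf 0x1b5))) (.node 2 (.node 1 (.leaf 0x1fb) (.leaf 0x222)) (.node 1 (.leaf 0x239) (.leaf 0x257)))) (.node 4 (.node 2 (.node 1 (.leaf 0x2bb) (.leaf 0x2e7)) (.node 1 (.leaf 0x33d) (.leaf 0x348))) (.node 2 (.node 1 (.leaf 0x34a) (.leaf 0x35d)) (.node 1 (.leaf 0x3b2) (.leaf 0x3b4))))) (.node 8 (.node 4 (.node 2 (.node 1 (.leaf 0x455) (.leaf 0x490)) (.node 1 (.leaf 0x4b3) (.leaf 0x4c5))) (.node 2 (.node 1 (.leaf 0x505) (.leaf 0x513)) (.node 1 (.leaf 0x570) (.leaf 0x60e)))) (.node 4 (.node 2 (.node 1 (.leaf 0x614) (.leaf 0x654)) (.node 1 (.leaf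 0x664) (.leaf 0x69f))) (.node 2 (.node 1 (.leaf 0x6b0) (.leaf 0x6bd)) (.node 1 (.leaf 0xe8) (.leaf 0x1ed)))))))) (.node 64 (.node 32 (.node 16 (.node 8 (.node 4 (.node 2 (.node 1 (.leaf 0x243) (.leaf 0x27b)) (.node 1 (.leaf 0x427) (.leaf 0x456))) (.node 2 (.node 1 (.leaf 0x4a9) (.leaf 0x661)) (.node 1 (.leaf 0x25f) (.leaf 0x2bf)))) (.node 4 (.node 2 (.node 1 (.leaf 0x37f) (.leaf 0x3f6)) (.node 1 (.leaf 0x12e) (.leaf 0x1df))) (.node 2 (.node 1 (.leaf 0x23c) (.leaf 0x304)) (.node 1 (.leaf 0x320) (.leaf 0x372))))) (.node 8 (.node 4 (.node 2 (.node 1 (.leaf 0x3d2) (.leaf 0x52b)) (.node 1 (.leaf 0x601) (.leaf 0x603))) (.node 2 (.node 1 (.leaf 0x611) (.leaf 0x644)) (.node 1 (.leaf 0x6d0) (.leaf 0x6d7)))) (.node 4 (.node 2 (.node 1 (.leaf 0x27) (.leaf 0x2e)) (.node 1 (.leaf 0x4b) (.leaf 0x6f))) (.node 2 (.node 1 (.leaf 0xad)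 (.leaf 0xf1)) (.node 1 (.leaf 0x10a) (.leaf 0x27d)))))) (.node 16 (.node 8 (.node 4 (.node 2 (.node 1 (.leaf 0x298) (.leaf 0x2f2)) (.node 1 (.leaf 0x3ff) (.leaf 0x40e))) (.node 2 (.node 1 (.leaf 0x41c) (.leaf 0x482)) (.node 1 (.leaf 0x4da) (.leaf 0x57d)))) (.node 4 (.node 2 (.node 1 (.leaf 0x583) (.leaf 0x5bd)) (.node 1 (.leaf 0x5c0) (.leaf 0x5d0))) (.node 2 (.node 1 (.leaf 0x5d1) (.leaf 0x605)) (.node 1 (.leaf 0x61a) (.leaf 0x61b))))) (.node 8 (.node 4 (.node 2 (.node 1 (.leaf 0x621) (.leaf 0x65f)) (.node 1 (.leaf 0x6b9) (.leaf 0x6bb))) (.node 2 (.node 1 (.leaf 0x359) (.leaf 0x3de)) (.node 1 (.leaf 0x4ca) (.leaf 0x53b)))) (.node 4 (.node 2 (.node 1 (.leaf 0x91) (.leaf 0xe3)) (.node 1 (.leaf 0xf5) (.leaf 0x136))) (.node 2 (.node 1 (.leaf 0x138) (.leaf 0x37)) (.node 1 (.leaf 0x50) (.leaf 0x7a))))))) (.node 32 (.node 16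 (.node 8 (.node 4 (.node 2 (.node 1 (.leaf 0x1ba) (.leaf 0x1e0)) (.node 1 (.leaf 0x228) (.leaf 0x466))) (.node 2 (.node 1 (.leaf 0x476) (.leaf 0x498)) (.node 1 (.leaf 0x4a3) (.leaf 0x4cd)))) (.node 4 (.node 2 (.node 1 (.leaf 0x5f5) (.leaf 0x89e)) (.node 1 (.leaf 0x209) (.leaf 0x26e))) (.node 2 (.node 1 (.leaf 0x316) (.leaf 0x336)) (.node 1 (.leaf 0x33a) (.leaf 0x362))))) (.node 8 (.node 4 (.node 2 (.node 1 (.leaf 0x39b) (.leaf 0x3da)) (.node 1 (.leaf 0x421) (.leaf 0x464))) (.node 2 (.node 1 (.leaf 0x480) (.leaf 0x48b)) (.node 1 (.leaf 0x49b) (.leaf 0x49f)))) (.node 4 (.node 2 (.node 1 (.leaf 0x59e) (.leaf 0x5e8)) (.node 1 (.leaf 0x5eb) (.leaf 0x5f2))) (.node 2 (.node 1 (.leaf 0x674) (.leaf 0x68e)) (.node 1 (.leaf 0x82) (.leaf 0xf0)))))) (.node 16 (.node 8 (.node 4 (.node 2 (.node 1 (.leaf 0x137) (.leaf 0x1b1)) (.node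 1 (.leaf 0x1d2) (.leaf 0x383))) (.node 2 (.node 1 (.leaf 0x3ca) (.leaf 0x3e1)) (.node 1 (.leaf 0x4ed) (.leaf 0x526)))) (.node 4 (.node 2 (.node 1 (.leaf 0x68) (.leaf 0x8d)) (.node 1 (.leaf 0xdb) (.leaf 0x1ff))) (.node 2 (.node 1 (.leaf 0x2f5) (.leaf 0x445)) (.node 1 (.leaf 0x692) (.leaf 0x6c5))))) (.node 8 (.node 4 (.node 2 (.node 1 (.leaf 0x232) (.leaf 0x2de)) (.node 1 (.leaf 0x2fa) (.leaf 0x326))) (.node 2 (.node 1 (.leaf 0x339) (.leaf 0x46a)) (.node 1 (.leaf 0x493) (.leaf 0x49a)))) (.node 4 (.node 2 (.node 1 (.leaf 0x54f) (.leaf 0x5bc)) (.node 1 (.leaf 0x5fb) (.leaf 0x618))) (.node 2 (.node 1 (.leaf 0x52) (.leaf 0x53f)) (.node 1 (.leaf 0xa3) (.leaf 0x1ee)))))))))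

def det0_5 : Tree := (.node 128 (.node 64 (.node 32 (.node 16 (.node 8 (.node 4 (.node 2 (.node 1 (.leaf 0x622) (.leaf 0x670)) (.node 1 (.leaf 0x24) (.leaf 0x125))) (.node 2 (.node 1 (.leaf 0x1d9) (.leaf 0x634)) (.node 1 (.leaf 0x6d2) (.leaf 0x396)))) (.node 4 (.node 2 (.node 1 (.leaf 0x4fb) (.leaf 0xab2)) (.node 1 (.leaf 0x272) (.leaf 0x395))) (.node 2 (.node 1 (.leaf 0x6d) (.leaf 0xaf)) (.node 1 (.leaf 0xb7) (.leaf 0xd9))))) (.node 8 (.node 4 (.node 2 (.node 1 (.leaf 0x106) (.leaf 0x189)) (.node 1 (.leaf 0x1cc) (.leaf 0x236))) (.node 2 (.node 1 (.leaf 0x319) (.leaf 0x40b)) (.node 1 (.leaf 0x41a) (.leaf 0x46e)))) (.node 4 (.node 2 (.node 1 (.leaf 0x484) (.leaf 0x486)) (.node 1 (.leaf 0x4a6) (.leaf 0x4d8))) (.node 2 (.node 1 (.leaf 0x5b7) (.leaf 0x5c9)) (.node 1 (.leaf 0x5cd) (.leaf 0x5e4)))))) (.node 16 (.node 8 (.node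 4 (.node 2 (.node 1 (.leaf 0x60d) (.leaf 0x66e)) (.node 1 (.leaf 0x680) (.leaf 0x697))) (.node 2 (.node 1 (.leaf 0x6b7) (.leaf 0x6cd)) (.node 1 (.leaf 0x6e5) (.leaf 0x6e7)))) (.node 4 (.node 2 (.node 1 (.leaf 0x111) (.leaf 0x166)) (.node 1 (.leaf 0x19a) (.leaf 0x19c))) (.node 2 (.node 1 (.leaf 0x399) (.leaf 0x432)) (.node 1 (.leaf 0x579) (.leaf 0x13b))))) (.node 8 (.node 4 (.node 2 (.node 1 (.leaf 0x13d) (.leaf 0x43)) (.node 1 (.leaf 0x11f) (.leaf 0x235))) (.node 2 (.node 1 (.leaf 0x2a7) (.leaf 0x2cd)) (.node 1 (.leaf 0x3d9) (.leaf 0x46c)))) (.node 4 (.node 2 (.node 1 (.leaf 0x48d) (.leaf 0x56a)) (.node 1 (.leaf 0x56d) (.leaf 0x5e1))) (.node 2 (.node 1 (.leaf 0x62e) (.leaf 0xc97)) (.node 1 (.leaf 0xba) (.leaf 0x16b))))))) (.node 32 (.node 16 (.node 8 (.node 4 (.node 2 (.node 1 (.leaf 0x405) (.leaf 0x67c)) (.node 1 (.leaf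 0xec) (.leaf 0x123))) (.node 2 (.node 1 (.leaf 0x321) (.leaf 0x6b4)) (.node 1 (.leaf 0x5e) (.leaf 0x121)))) (.node 4 (.node 2 (.node 1 (.leaf 0x250) (.leaf 0x30d)) (.node 1 (.leaf 0x36a) (.leaf 0x1b3))) (.node 2 (.node 1 (.leaf 0x48a) (.leaf 0xc5f)) (.node 1 (.leaf 0x238) (.leaf 0x5e9))))) (.node 8 (.node 4 (.node 2 (.node 1 (.leaf 0x657) (.leaf 0x6a3)) (.node 1 (.leaf 0x6a4) (.leaf 0x6dd))) (.node 2 (.node 1 (.leaf 0x2) (.leaf 0x7)) (.node 1 (.leaf 0xb) (.leaf 0x12)))) (.node 4 (.node 2 (.node 1 (.leaf 0x13) (.leaf 0x1c)) (.node 1 (.leaf 0x33) (.leaf 0x53))) (.node 2 (.node 1 (.leaf 0x56) (.leaf 0x57)) (.node 1 (.leaf 0x76) (.leaf 0x83)))))) (.node 16 (.node 8 (.node 4 (.node 2 (.node 1 (.leaf 0xae) (.leaf 0xbe)) (.node 1 (.leaf 0xd0) (.leaf 0xdd))) (.node 2 (.node 1 (.leaf 0xf9) (.leaf 0x11b)) (.node 1 (.leaf 0x11c)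 (.leaf 0x12b)))) (.node 4 (.node 2 (.node 1 (.leaf 0x145) (.leaf 0x148)) (.node 1 (.leaf 0x14b) (.leaf 0x155))) (.node 2 (.node 1 (.leaf 0x15c) (.leaf 0x175)) (.node 1 (.leaf 0x179) (.leaf 0x185))))) (.node 8 (.node 4 (.node 2 (.node 1 (.leaf 0x186) (.leaf 0x18e)) (.node 1 (.leaf 0x1a7) (.leaf 0x1aa))) (.node 2 (.node 1 (.leaf 0x1b9) (.leaf 0x1e3)) (.node 1 (.leaf 0x1e6) (.leaf 0x1e7)))) (.node 4 (.node 2 (.node 1 (.leaf 0x1f1) (.leaf 0x1f5)) (.node 1 (.leaf 0x1fa) (.leaf 0x202))) (.node 2 (.node 1 (.leaf 0x21b) (.leaf 0x224)) (.node 1 (.leaf 0x23b) (.leaf 0x24b)))))))) (.node 64 (.node 32 (.node 16 (.node 8 (.node 4 (.node 2 (.node 1 (.leaf 0x253) (.leaf 0x26f)) (.node 1 (.leaf 0x271) (.leaf 0x287))) (.node 2 (.node 1 (.leaf 0x28a) (.leaf 0x28b)) (.node 1 (.leaf 0x2c0) (.leaf 0x2c6)))) (.node 4 (.node 2 (.node 1 (.leaf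 0x2dd) (.leaf 0x2ef)) (.node 1 (.leaf 0x314) (.leaf 0x315))) (.node 2 (.node 1 (.leaf 0x317) (.leaf 0x324)) (.node 1 (.leaf 0x346) (.leaf 0x347))))) (.node 8 (.node 4 (.node 2 (.node 1 (.leaf 0x360) (.leaf 0x361)) (.node 1 (.leaf 0x36b) (.leaf 0x3b0))) (.node 2 (.node 1 (.leaf 0x3b1) (.leaf 0x3b6)) (.node 1 (.leaf 0x3f7) (.leaf 0x3fa)))) (.node 4 (.node 2 (.node 1 (.leaf 0x3fc) (.leaf 0x438)) (.node 1 (.leaf 0x43f) (.leaf 0x510))) (.node 2 (.node 1 (.leaf 0x63d) (.leaf 0x648)) (.node 1 (.leaf 0x698) (.leaf 0x6d6)))))) (.node 16 (.node 8 (.node 4 (.node 2 (.node 1 (.leaf 0x6da) (.leaf 0x6ed)) (.node 1 (.leaf 0xac) (.leaf 0xb8))) (.node 2 (.node 1 (.leaf 0xe4) (.leaf 0xe7)) (.node 1 (.leaf 0xed) (.leaf 0x107)))) (.node 4 (.node 2 (.node 1 (.leaf 0x11e) (.leaf 0x15a)) (.node 1 (.leaf 0x163) (.leaf 0x16a))) (.node 2 (.node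 1 (.leaf 0x188) (.leaf 0x190)) (.node 1 (.leaf 0x1ac) (.leaf 0x1ae))))) (.node 8 (.node 4 (.node 2 (.node 1 (.leaf 0x1bf) (.leaf 0x1c5)) (.node 1 (.leaf 0x201) (.leaf 0x217))) (.node 2 (.node 1 (.leaf 0x242) (.leaf 0x27a)) (.node 1 (.leaf 0x295) (.leaf 0x29d)))) (.node 4 (.node 2 (.node 1 (.leaf 0x1b) (.leaf 0x21)) (.node 1 (.leaf 0x32) (.leaf 0x38))) (.node 2 (.node 1 (.leaf 0x39) (.leaf 0x5b)) (.node 1 (.leaf 0x9c) (.leaf 0xa2))))))) (.node 32 (.node 16 (.node 8 (.node 4 (.node 2 (.node 1 (.leaf 0x168) (.leaf 0x26d)) (.node 1 (.leaf 0x2e5) (.leaf 0x2f0))) (.node 2 (.node 1 (.leaf 0x38f) (.leaf 0x393)) (.node 1 (.leaf 0x43a) (.leaf 0x442)))) (.node 4 (.node 2 (.node 1 (.leaf 0x598) (.leaf 0x1)) (.node 1 (.leaf 0x1e) (.leaf 0x1f))) (.node 2 (.node 1 (.leaf 0x35) (.leaf 0x3a)) (.node 1 (.leaf 0x88) (.leaf 0x90))))) (.node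 8 (.node 4 (.node 2 (.node 1 (.leaf 0xb5) (.leaf 0xb6)) (.node 1 (.leaf 0xd3) (.leaf 0x105))) (.node 2 (.node 1 (.leaf 0x10c) (.leaf 0x10d)) (.node 1 (.leaf 0x128) (.leaf 0x16f)))) (.node 4 (.node 2 (.node 1 (.leaf 0x191) (.leaf 0x1bd)) (.node 1 (.leaf 0x1e2) (.leaf 0x21c))) (.node 2 (.node 1 (.leaf 0x226) (.leaf 0x23e)) (.node 1 (.leaf 0x2c3) (.leaf 0x2d4)))))) (.node 16 (.node 8 (.node 4 (.node 2 (.node 1 (.leaf 0x2d5) (.leaf 0x2e4)) (.node 1 (.leaf 0x2f3) (.leaf 0x318))) (.node 2 (.node 1 (.leaf 0x3b5) (.leaf 0x42d)) (.node 1 (.leaf 0x50c) (.leaf 0x50f)))) (.node 4 (.node 2 (.node 1 (.leaf 0x515) (.leaf 0x649)) (.node 1 (.leaf 0x64b) (.leaf 0x92))) (.node 2 (.node 1 (.leaf 0x251) (.leaf 0x6e)) (.node 1 (.leaf 0x77) (.leaf 0x20f))))) (.node 8 (.node 4 (.node 2 (.node 1 (.leaf 0x28f) (.leaf 0x301)) (.node 1 (.leaf 0x349)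 (.leaf 0x50d))) (.node 2 (.node 1 (.leaf 0xe) (.leaf 0x1a)) (.node 1 (.leaf 0x25) (.leaf 0x3c)))) (.node 4 (.node 2 (.node 1 (.leaf 0x42) (.leaf 0xd8)) (.node 1 (.leaf 0x150) (.leaf 0x22e))) (.node 2 (.node 1 (.leaf 0x2d9) (.leaf 0x98)) (.node 1 (.leaf 0x200) (.leaf 0x214)))))))))

def det0_6 : Tree := (.node 119 (.node 59 (.node 29 (.node 14 (.node 7 (.node 3 (.node 1 (.leaf 0x240) (.node 1 (.leaf 0x24a) (.leaf 0x24e))) (.node 2 (.node 1 (.leaf 0x258) (.leaf 0x2ee)) (.node 1 (.leaf 0x351) (.leaf 0x366)))) (.node 3 (.node 1 (.leaf 0x374) (.node 1 (.leaf 0x69) (.leaf 0x8b))) (.node 2 (.node 1 (.leaf 0xeb) (.leaf 0x167)) (.node 1 (.leaf 0x1a6) (.leaf 0x23d))))) (.node 7 (.node 3 (.node 1 (.leaf 0x34c) (.node 1 (.leaf 0x35b) (.leaf 0x82d))) (.node 2 (.node 1 (.leaf 0x879) (.leaf 0x4a)) (.node 1 (.leaf 0x5d) (.leaf 0x26c))))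 (.node 4 (.node 2 (.node 1 (.leaf 0x36d) (.leaf 0x19)) (.node 1 (.leaf 0x3e) (.leaf 0x46))) (.node 2 (.node 1 (.leaf 0x61) (.leaf 0x9d)) (.node 1 (.leaf 0xcf) (.leaf 0xf3)))))) (.node 15 (.node 7 (.node 3 (.node 1 (.leaf 0x170) (.node 1 (.leaf 0x177) (.leaf 0x31a))) (.node 2 (.node 1 (.leaf 0x4c) (.leaf 0x63)) (.node 1 (.leaf 0x141) (.leaf 0x1de)))) (.node 4 (.node 2 (.node 1 (.leaf 0x2b9) (.leaf 0x34f)) (.node 1 (.leaf 0x389) (.leaf 0x54))) (.node 2 (.node 1 (.leaf 0x84) (.leaf 0x85)) (.node 1 (.leaf 0x118) (.leaf 0x285))))) (.node 7 (.node 3 (.node 1 (.leaf 0x38e) (.node 1 (.leaf 0xd) (.leaf 0x2b))) (.node 2 (.node 1 (.leaf 0xe5) (.leaf 0x146)) (.node 1 (.leaf 0x229) (.leaf 0x311)))) (.node 4 (.node 2 (.node 1 (.leaf 0xcf1) (.leaf 0xce)) (.node 1 (.leaf 0x1a1) (.leaf 0x10))) (.node 2 (.node 1 (.leaf 0x439) (.leaf 0x47e))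 (.node 1 (.leaf 0x4ad) (.leaf 0x4d3))))))) (.node 30 (.node 15 (.node 7 (.node 3 (.node 1 (.leaf 0xc0) (.node 1 (.leaf 0x130) (.leaf 0x3b9))) (.node 2 (.node 1 (.leaf 0x3b3) (.leaf 0x4ae)) (.node 1 (.leaf 0x8b0) (.leaf 0x9)))) (.node 4 (.node 2 (.node 1 (.leaf 0x2eb) (.leaf 0x36e)) (.node 1 (.leaf 0xaf9) (.leaf 0x2f7))) (.node 2 (.node 1 (.leaf 0x596) (.leaf 0x4)) (.node 1 (.leaf 0x16) (.leaf 0x49))))) (.node 7 (.node 3 (.node 1 (.leaf 0x65) (.node 1 (.leaf 0x71) (.leaf 0x93))) (.node 2 (.node 1 (.leaf 0x171) (.leaf 0x1e4)) (.node 1 (.leaf 0x1ec) (.leaf 0x95)))) (.node 4 (.node 2 (.node 1 (.leaf 0xe2) (.leaf 0x12d)) (.node 1 (.leaf 0x160) (.leaf 0x1c8))) (.node 2 (.node 1 (.leaf 0x20a) (.leaf 0x278)) (.node 1 (.leaf 0x292) (.leaf 0x2fc)))))) (.node 15 (.node 7 (.node 3 (.node 1 (.leaf 0x39e) (.node 1 (.leaf 0x3c1) (.leaf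 0x31))) (.node 2 (.node 1 (.leaf 0x45) (.leaf 0x64)) (.node 1 (.leaf 0x270) (.leaf 0x289)))) (.node 4 (.node 2 (.node 1 (.leaf 0x391) (.leaf 0x4f4)) (.node 1 (.leaf 0x4f6) (.leaf 0xa1d))) (.node 2 (.node 1 (.leaf 0x870) (.leaf 0x55)) (.node 1 (.leaf 0x1bc) (.leaf 0x212))))) (.node 7 (.node 3 (.node 1 (.leaf 0x3ad) (.node 1 (.leaf 0x1a3) (.leaf 0x26a))) (.node 2 (.node 1 (.leaf 0x2b8) (.leaf 0x3ea)) (.node 1 (.leaf 0xcb) (.leaf 0xdc)))) (.node 4 (.node 2 (.node 1 (.leaf 0x13f) (.leaf 0x27e)) (.node 1 (.leaf 0x2ed) (.leaf 0x370))) (.node 2 (.node 1 (.leaf 0x3eb) (.leaf 0x88e)) (.node 1 (.leaf 0x26) (.leaf 0x18d)))))))) (.node 59 (.node 29 (.node 14 (.node 7 (.node 3 (.node 1 (.leaf 0x211) (.node 1 (.leaf 0x247) (.leaf 0x35c))) (.node 2 (.node 1 (.leaf 0x194) (.leaf 0x1bb)) (.node 1 (.leaf 0x28e) (.leaf 0x207)))) (.node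 3 (.node 1 (.leaf 0x342) (.node 1 (.leaf 0x848) (.leaf 0x18))) (.node 2 (.node 1 (.leaf 0x248) (.leaf 0x268)) (.node 1 (.leaf 0xa5b) (.leaf 0x161))))) (.node 7 (.node 3 (.node 1 (.leaf 0x23a) (.node 1 (.leaf 0x443) (.leaf 0x512))) (.node 2 (.node 1 (.leaf 0x597) (.leaf 0x62b)) (.node 1 (.leaf 0x10f) (.leaf 0x197)))) (.node 4 (.node 2 (.node 1 (.leaf 0x28d) (.leaf 0x2f4)) (.node 1 (.leaf 0x343) (.leaf 0xbba))) (.node 2 (.node 1 (.leaf 0x208) (.leaf 0x43e)) (.node 1 (.leaf 0x3) (.leaf 0x6)))))) (.node 15 (.node 7 (.node 3 (.node 1 (.leaf 0xa) (.node 1 (.leaf 0x11) (.leaf 0x22))) (.node 2 (.node 1 (.leaf 0x23) (.leaf 0x30)) (.node 1 (.leaf 0x34) (.leaf 0x36)))) (.node 4 (.node 2 (.node 1 (.leaf 0x3d) (.leaf 0x4d)) (.node 1 (.leaf 0x58) (.leaf 0x5f))) (.node 2 (.node 1 (.leaf 0x60) (.leaf 0x7b)) (.node 1 (.leaf 0x86) (.leaf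 0x8f))))) (.node 7 (.node 3 (.node 1 (.leaf 0xbd) (.node 1 (.leaf 0xe0) (.leaf 0x147))) (.node 2 (.node 1 (.leaf 0x151) (.leaf 0x157)) (.node 1 (.leaf 0x158) (.leaf 0x192)))) (.node 4 (.node 2 (.node 1 (.leaf 0x1ea) (.leaf 0x1f2)) (.node 1 (.leaf 0x1f4) (.leaf 0x20e))) (.node 2 (.node 1 (.leaf 0x24c) (.leaf 0x2d7)) (.node 1 (.leaf 0x2ff) (.leaf 0x345))))))) (.node 30 (.node 15 (.node 7 (.node 3 (.node 1 (.leaf 0x390) (.node 1 (.leaf 0x440) (.leaf 0x46b))) (.node 2 (.node 1 (.leaf 0x4f5) (.leaf 0x4f7)) (.node 1 (.leaf 0x59b) (.leaf 0x5c7)))) (.node 4 (.node 2 (.node 1 (.leaf 0x63e) (.leaf 0xdf)) (.node 1 (.leaf 0x15b) (.leaf 0x91a))) (.node 2 (.node 1 (.leaf 0x12a) (.leaf 0x1c2)) (.node 1 (.leaf 0xaa) (.leaf 0xf2))))) (.node 7 (.node 3 (.node 1 (.leaf 0x2c1) (.node 1 (.leaf 0x3f8) (.leaf 0x8cd))) (.node 2 (.node 1 (.leaf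 0xc) (.leaf 0x14)) (.node 1 (.leaf 0x127) (.leaf 0x1b8)))) (.node 4 (.node 2 (.node 1 (.leaf 0x1db) (.leaf 0x286)) (.node 1 (.leaf 0x2f6) (.leaf 0x35e))) (.node 2 (.node 1 (.leaf 0x828) (.leaf 0x840)) (.node 1 (.leaf 0x808) (.leaf 0x15e)))))) (.node 15 (.node 7 (.node 3 (.node 1 (.leaf 0x206) (.node 1 (.leaf 0x364) (.leaf 0x4cf))) (.node 2 (.node 1 (.leaf 0x1a9) (.leaf 0x275)) (.node 1 (.leaf 0x3a2) (.leaf 0x502)))) (.node 4 (.node 2 (.node 1 (.leaf 0x43c) (.leaf 0x4d5)) (.node 1 (.leaf 0xf) (.leaf 0x1d))) (.node 2 (.node 1 (.leaf 0x1fe) (.leaf 0x254)) (.node 1 (.leaf 0x2ea) (.leaf 0x325))))) (.node 7 (.node 3 (.node 1 (.leaf 0x36c) (.node 1 (.leaf 0x415) (.leaf 0x17))) (.node 2 (.node 1 (.leaf 0x2a) (.leaf 0x67)) (.node 1 (.leaf 0x96) (.leaf 0xa0)))) (.node 4 (.node 2 (.node 1 (.leaf 0xf7) (.leaf 0x21f)) (.node 1 (.leaf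 0x313) (.leaf 0x873))) (.node 2 (.node 1 (.leaf 0x256) (.leaf 0x4be)) (.node 1 (.leaf 0x204) (.leaf 0x355)))))))))

def det0 : Tree := (.node 768 (.node 256 det0_0 (.node 256 det0_1 det0_2)) (.node 512 (.node 256 det0_3 det0_4) (.node 256 det0_5 det0_6)))

def det0Mask : ℕ := 0x800000000000000000000000000000000000000000000000000000000000000000000000000000000000000000000000000000000000000000000000000000000000000000000000000000000000000000000000000000000000000000000000000000080000000000000000020000000000080000000900000000021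

def det1_0 : Tree := (.node 128 (.node 64 (.node 32 (.node 16 (.node 8 (.node 4 (.node 2 (.node 1 (.leaf 0xc96) (.leaf 0xbdf)) (.node 1 (.leaf 0xe60) (.leaf 0x75))) (.node 2 (.node 1 (.leaf 0x16d) (.leaf 0x3e2)) (.node 1 (.leaf 0x4e9) (.leaf 0x93e)))) (.node 4 (.node 2 (.node 1 (.leaf 0xc4e) (.leaf 0xd57)) (.node 1 (.leaf 0xebe) (.leaf 0xa66))) (.node 2 (.node 1 (.leaf 0xcc2) (.leaf 0xe7f)) (.node 1 (.leaf 0xee2) (.leaf 0x96c))))) (.node 8 (.node 4 (.node 2 (.node 1 (.leaf 0x3b) (.leaf 0xbb)) (.node 1 (.leaf 0xe6c) (.leaf 0xc80))) (.node 2 (.node 1 (.leaf 0xb39) (.leaf 0xc21)) (.node 1 (.leaf 0xdfb) (.leaf 0x68)))) (.node 4 (.node 2 (.node 1 (.leaf 0x1ff) (.leaf 0xb4a)) (.node 1 (.leaf 0xde6) (.leaf 0x8c8))) (.node 2 (.node 1 (.leaf 0xb2d) (.leaf 0x95f)) (.node 1 (.leaf 0xa4f) (.leaf 0xd3e)))))) (.node 16 (.node 8 (.node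 4 (.node 2 (.node 1 (.leaf 0xc1f) (.leaf 0xcec)) (.node 1 (.leaf 0xc41) (.leaf 0xa74))) (.node 2 (.node 1 (.leaf 0x925) (.leaf 0xadb)) (.node 1 (.leaf 0xcfe) (.leaf 0x2ba)))) (.node 4 (.node 2 (.node 1 (.leaf 0x553) (.leaf 0xe03)) (.node 1 (.leaf 0xbd9) (.leaf 0x235))) (.node 2 (.node 1 (.leaf 0x46c) (.leaf 0xa63)) (.node 1 (.leaf 0xc62) (.leaf 0xeab))))) (.node 8 (.node 4 (.node 2 (.node 1 (.leaf 0xa65) (.leaf 0x99b)) (.node 1 (.leaf 0xdb3) (.leaf 0xca2))) (.node 2 (.node 1 (.leaf 0xbd7) (.leaf 0xa2a)) (.node 1 (.leaf 0xcd7) (.leaf 0xd69)))) (.node 4 (.node 2 (.node 1 (.leaf 0xa6e) (.leaf 0xbe1)) (.node 1 (.leaf 0x9d5) (.leaf 0xbf4))) (.node 2 (.node 1 (.leaf 0xecb) (.leaf 0xbc7)) (.node 1 (.leaf 0xc8d) (.leaf 0xc1c))))))) (.node 32 (.node 16 (.node 8 (.node 4 (.node 2 (.node 1 (.leaf 0xc86) (.leaf 0xc0b)) (.node 1 (.leaf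 0xba8) (.leaf 0x140))) (.node 2 (.node 1 (.leaf 0x142) (.leaf 0x3d8)) (.node 1 (.leaf 0x629) (.leaf 0x426)))) (.node 4 (.node 2 (.node 1 (.leaf 0x5fe) (.leaf 0xc79)) (.node 1 (.leaf 0xcea) (.leaf 0xde1))) (.node 2 (.node 1 (.leaf 0x9d1) (.leaf 0xb34)) (.node 1 (.leaf 0x331) (.leaf 0x335))))) (.node 8 (.node 4 (.node 2 (.node 1 (.leaf 0x1a2) (.leaf 0x433)) (.node 1 (.leaf 0xe5a) (.leaf 0x9a0))) (.node 2 (.node 1 (.leaf 0x9b6) (.leaf 0x9c1)) (.node 1 (.leaf 0x882) (.leaf 0x692)))) (.node 4 (.node 2 (.node 1 (.leaf 0x6c5) (.leaf 0xdeb)) (.node 1 (.leaf 0x9d9) (.leaf 0xa3c))) (.node 2 (.node 1 (.leaf 0xd8a) (.leaf 0x8e1)) (.node 1 (.leaf 0xded) (.leaf 0xc8e)))))) (.node 16 (.node 8 (.node 4 (.node 2 (.node 1 (.leaf 0xada) (.leaf 0xcc4)) (.node 1 (.leaf 0xcd0) (.leaf 0xcc9))) (.node 2 (.node 1 (.leaf 0xc8b) (.leaf 0xb9b))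 (.node 1 (.leaf 0x94a) (.leaf 0xb33)))) (.node 4 (.node 2 (.node 1 (.leaf 0x9fd) (.leaf 0x4b8)) (.node 1 (.leaf 0x4e4) (.leaf 0xa52))) (.node 2 (.node 1 (.leaf 0xe1c) (.leaf 0x4a5)) (.node 1 (.leaf 0x578) (.leaf 0xc6d))))) (.node 8 (.node 4 (.node 2 (.node 1 (.leaf 0xe22) (.leaf 0x978)) (.node 1 (.leaf 0xe52) (.leaf 0x9d4))) (.node 2 (.node 1 (.leaf 0xdd5) (.leaf 0xeca)) (.node 1 (.leaf 0xdcf) (.leaf 0xeb1)))) (.node 4 (.node 2 (.node 1 (.leaf 0xc67) (.leaf 0xc20)) (.node 1 (.leaf 0xe17) (.leaf 0x143))) (.node 2 (.node 1 (.leaf 0x1e1) (.leaf 0x52f)) (.node 1 (.leaf 0x659) (.leaf 0x218)))))))) (.node 64 (.node 32 (.node 16 (.node 8 (.node 4 (.node 2 (.node 1 (.leaf 0x30e) (.leaf 0x3d5)) (.node 1 (.leaf 0x532) (.leaf 0xe89))) (.node 2 (.node 1 (.leaf 0x123) (.leaf 0x321)) (.node 1 (.leaf 0x843) (.leaf 0xd30)))) (.node 4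 (.node 2 (.node 1 (.leaf 0xdaa) (.leaf 0xc0a)) (.node 1 (.leaf 0xcb5) (.leaf 0x912))) (.node 2 (.node 1 (.leaf 0x97b) (.leaf 0x8b3)) (.node 1 (.leaf 0x874) (.leaf 0xc45))))) (.node 8 (.node 4 (.node 2 (.node 1 (.leaf 0x110) (.leaf 0x199)) (.node 1 (.leaf 0x3ed) (.leaf 0x548))) (.node 2 (.node 1 (.leaf 0xcbf) (.leaf 0xb98)) (.node 1 (.leaf 0xb80) (.leaf 0x98c)))) (.node 4 (.node 2 (.node 1 (.leaf 0x8db) (.leaf 0xc60)) (.node 1 (.leaf 0xaa8) (.leaf 0xcdb))) (.node 2 (.node 1 (.leaf 0x85a) (.leaf 0x86c)) (.node 1 (.leaf 0xa15) (.leaf 0x9c9)))))) (.node 16 (.node 8 (.node 4 (.node 2 (.node 1 (.leaf 0x902) (.leaf 0xbe8)) (.node 1 (.leaf 0xa44) (.leaf 0xbcd))) (.node 2 (.node 1 (.leaf 0xc0c) (.leaf 0xe74)) (.node 1 (.leaf 0xe8e) (.leaf 0xc64)))) (.node 4 (.node 2 (.node 1 (.leaf 0xd55) (.leaf 0x824)) (.node 1 (.leaf 0xc7a)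 (.leaf 0xe36))) (.node 2 (.node 1 (.leaf 0xacb) (.leaf 0xce2)) (.node 1 (.leaf 0xcc7) (.leaf 0xe44))))) (.node 8 (.node 4 (.node 2 (.node 1 (.leaf 0x11f) (.leaf 0x56d)) (.node 1 (.leaf 0xacd) (.leaf 0x989))) (.node 2 (.node 1 (.leaf 0xc84) (.leaf 0xddf)) (.node 1 (.leaf 0xbdb) (.leaf 0x8d6)))) (.node 4 (.node 2 (.node 1 (.leaf 0xbda) (.leaf 0xcfb)) (.node 1 (.leaf 0xef5) (.leaf 0xb79))) (.node 2 (.node 1 (.leaf 0xca4) (.leaf 0xe69)) (.node 1 (.leaf 0xdde) (.leaf 0xe93))))))) (.node 32 (.node 16 (.node 8 (.node 4 (.node 2 (.node 1 (.leaf 0xe8b) (.leaf 0xea4)) (.node 1 (.leaf 0xd8d) (.leaf 0xd77))) (.node 2 (.node 1 (.leaf 0xba7) (.leaf 0x9c4)) (.node 1 (.leaf 0x981) (.leaf 0xbd2)))) (.node 4 (.node 2 (.node 1 (.leaf 0xb38) (.leaf 0xaa7)) (.node 1 (.leaf 0x894) (.leaf 0xab5))) (.node 2 (.node 1 (.leaf 0xb09) (.leaf 0x8a5))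 (.node 1 (.leaf 0xc4d) (.leaf 0x8a8))))) (.node 8 (.node 4 (.node 2 (.node 1 (.leaf 0xa77) (.leaf 0xb2a)) (.node 1 (.leaf 0x8fe) (.leaf 0x33e))) (.node 2 (.node 1 (.leaf 0x556) (.leaf 0x1f7)) (.node 1 (.leaf 0x5fc) (.leaf 0xec6)))) (.node 4 (.node 2 (.node 1 (.leaf 0xace) (.leaf 0xee8)) (.node 1 (.leaf 0xb53) (.leaf 0x9ee))) (.node 2 (.node 1 (.leaf 0xba5) (.leaf 0xb2c)) (.node 1 (.leaf 0xcb2) (.leaf 0xe00)))))) (.node 16 (.node 8 (.node 4 (.node 2 (.node 1 (.leaf 0x97c) (.leaf 0xcf0)) (.node 1 (.leaf 0xec4) (.leaf 0xddb))) (.node 2 (.node 1 (.leaf 0xac9) (.leaf 0xed1)) (.node 1 (.leaf 0x8fa) (.leaf 0xc2c)))) (.node 4 (.node 2 (.node 1 (.leaf 0x9ce) (.leaf 0xef2)) (.node 1 (.leaf 0xafe) (.leaf 0xb76))) (.node 2 (.node 1 (.leaf 0xcbb) (.leaf 0x5b0)) (.node 1 (.leaf 0x613) (.leaf 0xc72))))) (.node 8 (.node 4 (.node 2 (.node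 1 (.leaf 0x14c) (.leaf 0x5e7)) (.node 1 (.leaf 0xb41) (.leaf 0x5c0))) (.node 2 (.node 1 (.leaf 0x5d0) (.leaf 0xebd)) (.node 1 (.leaf 0xb7) (.leaf 0x236)))) (.node 4 (.node 2 (.node 1 (.leaf 0xec9) (.leaf 0xd7b)) (.node 1 (.leaf 0xece) (.leaf 0xdd1))) (.node 2 (.node 1 (.leaf 0x5a3) (.leaf 0x699)) (.node 1 (.leaf 0xd99) (.leaf 0xdcd)))))))))

def det1_1 : Tree := (.node 128 (.node 64 (.node 32 (.node 16 (.node 8 (.node 4 (.node 2 (.node 1 (.leaf 0xe0d) (.leaf 0xd82)) (.node 1 (.leaf 0xe3f) (.leaf 0xbdd))) (.node 2 (.node 1 (.leaf 0xd03) (.leaf 0xc0d)) (.node 1 (.leaf 0xbb8) (.leaf 0xd3a)))) (.node 4 (.node 2 (.node 1 (.leaf 0x2c2) (.leaf 0x57a)) (.node 1 (.leaf 0xdf9) (.leaf 0x8fb))) (.node 2 (.node 1 (.leaf 0x91d) (.leaf 0x9f6)) (.node 1 (.leaf 0xc14) (.leaf 0x392))))) (.node 8 (.node 4 (.node 2 (.node 1 (.leaf 0x397)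 (.leaf 0xa9b)) (.node 1 (.leaf 0xcf3) (.leaf 0xe34))) (.node 2 (.node 1 (.leaf 0xb83) (.leaf 0xa81)) (.node 1 (.leaf 0xeac) (.leaf 0xe2e)))) (.node 4 (.node 2 (.node 1 (.leaf 0xd6a) (.leaf 0xaa9)) (.node 1 (.leaf 0xcfd) (.leaf 0xd33))) (.node 2 (.node 1 (.leaf 0x9c3) (.leaf 0xabd)) (.node 1 (.leaf 0xd50) (.leaf 0xecf)))))) (.node 16 (.node 8 (.node 4 (.node 2 (.node 1 (.leaf 0xee1) (.leaf 0x98f)) (.node 1 (.leaf 0x196) (.leaf 0x261))) (.node 2 (.node 1 (.leaf 0x89a) (.leaf 0x99f)) (.node 1 (.leaf 0xede) (.leaf 0xcc6)))) (.node 4 (.node 2 (.node 1 (.leaf 0xc0e) (.leaf 0xdbe)) (.node 1 (.leaf 0xd09) (.leaf 0x16e))) (.node 2 (.node 1 (.leaf 0x32b) (.leaf 0xaa2)) (.node 1 (.leaf 0xd0a) (.leaf 0xd3d))))) (.node 8 (.node 4 (.node 2 (.node 1 (.leaf 0x984) (.leaf 0xb8a)) (.node 1 (.leaf 0xdef) (.leaf 0x9b4))) (.node 2 (.node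 1 (.leaf 0xcd1) (.leaf 0xcaf)) (.node 1 (.leaf 0xb1e) (.leaf 0xa94)))) (.node 4 (.node 2 (.node 1 (.leaf 0x9a5) (.leaf 0xe90)) (.node 1 (.leaf 0xd29) (.leaf 0xe35))) (.node 2 (.node 1 (.leaf 0xc75) (.leaf 0xc25)) (.node 1 (.leaf 0xbae) (.leaf 0xea9))))))) (.node 32 (.node 16 (.node 8 (.node 4 (.node 2 (.node 1 (.leaf 0xb9c) (.leaf 0x9cc)) (.node 1 (.leaf 0xcb7) (.leaf 0xc05))) (.node 2 (.node 1 (.leaf 0x827) (.leaf 0xd2d)) (.node 1 (.leaf 0xddc) (.leaf 0xaa5)))) (.node 4 (.node 2 (.node 1 (.leaf 0x1fc) (.leaf 0x2e8)) (.node 1 (.leaf 0xc24) (.leaf 0xcb9))) (.node 2 (.node 1 (.leaf 0xdc8) (.leaf 0xcde)) (.node 1 (.leaf 0x8a4) (.leaf 0xe02))))) (.node 8 (.node 4 (.node 2 (.node 1 (.leaf 0xdd7) (.leaf 0xd60)) (.node 1 (.leaf 0x9b0) (.leaf 0xb0a))) (.node 2 (.node 1 (.leaf 0xc9c) (.leaf 0x86a)) (.node 1 (.leaf 0xd87) (.leaf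 0xb96)))) (.node 4 (.node 2 (.node 1 (.leaf 0xd6f) (.leaf 0x983)) (.node 1 (.leaf 0x866) (.leaf 0xd37))) (.node 2 (.node 1 (.leaf 0xce3) (.leaf 0x974)) (.node 1 (.leaf 0xbcf) (.leaf 0xa45)))))) (.node 16 (.node 8 (.node 4 (.node 2 (.node 1 (.leaf 0x8c4) (.leaf 0x88d)) (.node 1 (.leaf 0xd58) (.leaf 0xa55))) (.node 2 (.node 1 (.leaf 0xdae) (.leaf 0x9ca)) (.node 1 (.leaf 0x8a1) (.leaf 0xaac)))) (.node 4 (.node 2 (.node 1 (.leaf 0xd1d) (.leaf 0xbbc)) (.node 1 (.leaf 0xe77) (.leaf 0xd1b))) (.node 2 (.node 1 (.leaf 0xd47) (.leaf 0xe51)) (.node 1 (.leaf 0xbc2) (.leaf 0xb22))))) (.node 8 (.node 4 (.node 2 (.node 1 (.leaf 0xbee) (.leaf 0xea7)) (.node 1 (.leaf 0x97a) (.leaf 0xe1b))) (.node 2 (.node 1 (.leaf 0xd54) (.leaf 0xd00)) (.node 1 (.leaf 0xb02) (.leaf 0xc5d)))) (.node 4 (.node 2 (.node 1 (.leaf 0xe4c) (.leaf 0xe1a)) (.node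 1 (.leaf 0xda2) (.leaf 0xa5d))) (.node 2 (.node 1 (.leaf 0xc52) (.leaf 0xa7c)) (.node 1 (.leaf 0xd18) (.leaf 0xae0)))))))) (.node 64 (.node 32 (.node 16 (.node 8 (.node 4 (.node 2 (.node 1 (.leaf 0xe4e) (.leaf 0x8f4)) (.node 1 (.leaf 0xc03) (.leaf 0xed4))) (.node 2 (.node 1 (.leaf 0xedd) (.leaf 0xdbb)) (.node 1 (.leaf 0xd8e) (.leaf 0x431)))) (.node 4 (.node 2 (.node 1 (.leaf 0x656) (.leaf 0xd8c)) (.node 1 (.leaf 0xc71) (.leaf 0x92e))) (.node 2 (.node 1 (.leaf 0xd9f) (.leaf 0xedc)) (.node 1 (.leaf 0xdce) (.leaf 0xb5a))))) (.node 8 (.node 4 (.node 2 (.node 1 (.leaf 0xbf3) (.leaf 0xc9d)) (.node 1 (.leaf 0xec8) (.leaf 0xc57))) (.node 2 (.node 1 (.leaf 0xecd) (.leaf 0xca6)) (.node 1 (.leaf 0xc47) (.leaf 0xb65)))) (.node 4 (.node 2 (.node 1 (.leaf 0xa8c) (.leaf 0xcfa)) (.node 1 (.leaf 0xdf7) (.leaf 0xd6e))) (.node 2 (.node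 1 (.leaf 0xda7) (.leaf 0xe4d)) (.node 1 (.leaf 0x953) (.leaf 0xd14)))))) (.node 16 (.node 8 (.node 4 (.node 2 (.node 1 (.leaf 0xcdc) (.leaf 0xa20)) (.node 1 (.leaf 0xd89) (.leaf 0xcca))) (.node 2 (.node 1 (.leaf 0xa72) (.leaf 0xaaa)) (.node 1 (.leaf 0xb10) (.leaf 0xaad)))) (.node 4 (.node 2 (.node 1 (.leaf 0xa30) (.leaf 0xd6c)) (.node 1 (.leaf 0xe40) (.leaf 0xe43))) (.node 2 (.node 1 (.leaf 0xd7e) (.leaf 0xa67)) (.node 1 (.leaf 0x916) (.leaf 0x880))))) (.node 8 (.node 4 (.node 2 (.node 1 (.leaf 0x904) (.leaf 0xba9)) (.node 1 (.leaf 0xeaa) (.leaf 0xecc))) (.node 2 (.node 1 (.leaf 0x90a) (.leaf 0x8ad)) (.node 1 (.leaf 0xb69) (.leaf 0x8c6)))) (.node 4 (.node 2 (.node 1 (.leaf 0x815) (.leaf 0x8fd)) (.node 1 (.leaf 0xcc8) (.leaf 0xd80))) (.node 2 (.node 1 (.leaf 0xcc1) (.leaf 0xe86)) (.node 1 (.leaf 0xd34) (.leaf 0xd75)))))))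 (.node 32 (.node 16 (.node 8 (.node 4 (.node 2 (.node 1 (.leaf 0xe85) (.leaf 0xcd2)) (.node 1 (.leaf 0xc29) (.leaf 0xb57))) (.node 2 (.node 1 (.leaf 0x4f8) (.leaf 0x4fc)) (.node 1 (.leaf 0xbe4) (.leaf 0xb1b)))) (.node 4 (.node 2 (.node 1 (.leaf 0x80d) (.leaf 0x994)) (.node 1 (.leaf 0x8cb) (.leaf 0xbb9))) (.node 2 (.node 1 (.leaf 0xb89) (.leaf 0x8e4)) (.node 1 (.leaf 0x1a9) (.leaf 0x275))))) (.node 8 (.node 4 (.node 2 (.node 1 (.leaf 0x96f) (.leaf 0xb4c)) (.node 1 (.leaf 0x845) (.leaf 0xac1))) (.node 2 (.node 1 (.leaf 0x8f2) (.leaf 0x825)) (.node 1 (.leaf 0x9e4) (.leaf 0x82a)))) (.node 4 (.node 2 (.node 1 (.leaf 0x905) (.leaf 0x895)) (.node 1 (.leaf 0x8f7) (.leaf 0x9e2))) (.node 2 (.node 1 (.leaf 0x975) (.leaf 0x98d)) (.node 1 (.leaf 0xaf4) (.leaf 0xa89)))))) (.node 16 (.node 8 (.node 4 (.node 2 (.node 1 (.leaf 0xab8)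 (.leaf 0x918)) (.node 1 (.leaf 0xb49) (.leaf 0xa78))) (.node 2 (.node 1 (.leaf 0x893) (.leaf 0x885)) (.node 1 (.leaf 0x960) (.leaf 0xa3e)))) (.node 4 (.node 2 (.node 1 (.leaf 0x8bd) (.leaf 0x3a2)) (.node 1 (.leaf 0x502) (.leaf 0x256))) (.node 2 (.node 1 (.leaf 0x4be) (.leaf 0x83a)) (.node 1 (.leaf 0xbeb) (.leaf 0x90c))))) (.node 8 (.node 4 (.node 2 (.node 1 (.leaf 0xcf6) (.leaf 0x2ea)) (.node 1 (.leaf 0x325) (.leaf 0x9a7))) (.node 2 (.node 1 (.leaf 0x831) (.leaf 0xcf4)) (.node 1 (.leaf 0xb14) (.leaf 0x9c)))) (.node 4 (.node 2 (.node 1 (.leaf 0x393) (.leaf 0x821)) (.node 1 (.leaf 0xa53) (.leaf 0xe3d))) (.node 2 (.node 1 (.leaf 0x839) (.leaf 0xa71)) (.node 1 (.leaf 0x864) (.leaf 0x9e6)))))))))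

def det1_2 : Tree := (.node 128 (.node 64 (.node 32 (.node 16 (.node 8 (.node 4 (.node 2 (.node 1 (.leaf 0x81c) (.leaf 0x80f)) (.node 1 (.leaf 0xaef) (.leaf 0x9ec))) (.node 2 (.node 1 (.leaf 0xb6c) (.leaf 0xb90)) (.node 1 (.leaf 0x812) (.leaf 0xcf5)))) (.node 4 (.node 2 (.node 1 (.leaf 0x886) (.leaf 0x816)) (.node 1 (.leaf 0xcad) (.leaf 0xb43))) (.node 2 (.node 1 (.leaf 0x884) (.leaf 0x9a6)) (.node 1 (.leaf 0xd0f) (.leaf 0xa8f))))) (.node 8 (.node 4 (.node 2 (.node 1 (.leaf 0x89d) (.leaf 0xb6d)) (.node 1 (.leaf 0xbb5) (.leaf 0x854))) (.node 2 (.node 1 (.leaf 0xbf7) (.leaf 0x8d3)) (.node 1 (.leaf 0xd97) (.leaf 0x888)))) (.node 4 (.node 2 (.node 1 (.leaf 0xaed) (.leaf 0xa06)) (.node 1 (.leaf 0xcd5) (.leaf 0xa8d))) (.node 2 (.node 1 (.leaf 0x96) (.leaf 0x313)) (.node 1 (.leaf 0xac3) (.leaf 0x809)))))) (.node 16 (.node 8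 (.node 4 (.node 2 (.node 1 (.leaf 0xa01) (.leaf 0x8b8)) (.node 1 (.leaf 0x9b9) (.leaf 0x91e))) (.node 2 (.node 1 (.leaf 0x9c5) (.leaf 0xa8a)) (.node 1 (.leaf 0xed6) (.leaf 0xe0)))) (.node 4 (.node 2 (.node 1 (.leaf 0x345) (.leaf 0x8dd)) (.node 1 (.leaf 0xb60) (.leaf 0x94b))) (.node 2 (.node 1 (.leaf 0xc38) (.leaf 0x876)) (.node 1 (.leaf 0x807) (.leaf 0xb24))))) (.node 8 (.node 4 (.node 2 (.node 1 (.leaf 0x9f5) (.leaf 0x813)) (.node 1 (.leaf 0x9ae) (.leaf 0xa7a))) (.node 2 (.node 1 (.leaf 0xbfa) (.leaf 0x9f1)) (.node 1 (.leaf 0x185) (.leaf 0x21b)))) (.node 4 (.node 2 (.node 1 (.leaf 0x871) (.leaf 0xa0a)) (.node 1 (.leaf 0xa40) (.leaf 0xb9e))) (.node 2 (.node 1 (.leaf 0xa47) (.leaf 0xa4e)) (.node 1 (.leaf 0xa92) (.leaf 0x950))))))) (.node 32 (.node 16 (.node 8 (.node 4 (.node 2 (.node 1 (.leaf 0xa14) (.leaf 0xd15)) (.node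 1 (.leaf 0x963) (.leaf 0x91b))) (.node 2 (.node 1 (.leaf 0x948) (.leaf 0xafc)) (.node 1 (.leaf 0xc15) (.leaf 0x867)))) (.node 4 (.node 2 (.node 1 (.leaf 0xae4) (.leaf 0xd0c)) (.node 1 (.leaf 0x8d0) (.leaf 0xb18))) (.node 2 (.node 1 (.leaf 0x928) (.leaf 0xaff)) (.node 1 (.leaf 0xd9b) (.leaf 0xbea))))) (.node 8 (.node 4 (.node 2 (.node 1 (.leaf 0x82b) (.leaf 0xa4a)) (.node 1 (.leaf 0x817) (.leaf 0xa1f))) (.node 2 (.node 1 (.leaf 0x9bb) (.leaf 0x8ac)) (.node 1 (.leaf 0xaf6) (.leaf 0x806)))) (.node 4 (.node 2 (.node 1 (.leaf 0x835) (.leaf 0x836)) (.node 1 (.leaf 0x80a) (.leaf 0x81f))) (.node 2 (.node 1 (.leaf 0x8dc) (.leaf 0xb42)) (.node 1 (.leaf 0xcae) (.leaf 0x85d)))))) (.node 16 (.node 8 (.node 4 (.node 2 (.node 1 (.leaf 0xb8e) (.leaf 0xa3a)) (.node 1 (.leaf 0xa7e) (.leaf 0xa08))) (.node 2 (.node 1 (.leaf 0xd96) (.leaf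 0x84a)) (.node 1 (.leaf 0xcff) (.leaf 0xb68)))) (.node 4 (.node 2 (.node 1 (.leaf 0x9ef) (.leaf 0xb62)) (.node 1 (.leaf 0xb99) (.leaf 0xe66))) (.node 2 (.node 1 (.leaf 0x82e) (.leaf 0x900)) (.node 1 (.leaf 0xed3) (.leaf 0xbe0))))) (.node 8 (.node 4 (.node 2 (.node 1 (.leaf 0x8c1) (.leaf 0xa09)) (.node 1 (.leaf 0xdf2) (.leaf 0xb16))) (.node 2 (.node 1 (.leaf 0x9df) (.leaf 0x87e)) (.node 1 (.leaf 0x9e0) (.leaf 0xeb9)))) (.node 4 (.node 2 (.node 1 (.leaf 0xdd3) (.leaf 0xc77)) (.node 1 (.leaf 0x93b) (.leaf 0xe21))) (.node 2 (.node 1 (.leaf 0xeae) (.leaf 0xbfd)) (.node 1 (.leaf 0xc08) (.leaf 0xdc4)))))))) (.node 64 (.node 32 (.node 16 (.node 8 (.node 4 (.node 2 (.node 1 (.leaf 0x932) (.leaf 0xd8b)) (.node 1 (.leaf 0xe19) (.leaf 0x476))) (.node 2 (.node 1 (.leaf 0x5f5) (.leaf 0x929)) (.node 1 (.leaf 0x921) (.leaf 0xd64))))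 (.node 4 (.node 2 (.node 1 (.leaf 0xc28) (.leaf 0xe41)) (.node 1 (.leaf 0xcbc) (.leaf 0xe27))) (.node 2 (.node 1 (.leaf 0xe2a) (.leaf 0xebc)) (.node 1 (.leaf 0xc02) (.leaf 0xa50))))) (.node 8 (.node 4 (.node 2 (.node 1 (.leaf 0x937) (.leaf 0xbbe)) (.node 1 (.leaf 0xc19) (.leaf 0xdd4))) (.node 2 (.node 1 (.leaf 0xcc3) (.leaf 0xa59)) (.node 1 (.leaf 0xd5e) (.leaf 0xc89)))) (.node 4 (.node 2 (.node 1 (.leaf 0xd31) (.leaf 0x98a)) (.node 1 (.leaf 0xc83) (.leaf 0x939))) (.node 2 (.node 1 (.leaf 0xb5f) (.leaf 0xb7d)) (.node 1 (.leaf 0x954) (.leaf 0x917)))))) (.node 16 (.node 8 (.node 4 (.node 2 (.node 1 (.leaf 0xe9d) (.leaf 0xc98)) (.node 1 (.leaf 0xc73) (.leaf 0xe2d))) (.node 2 (.node 1 (.leaf 0xbcc) (.leaf 0xdaf)) (.node 1 (.leaf 0xa82) (.leaf 0xef4)))) (.node 4 (.node 2 (.node 1 (.leaf 0xc93) (.leaf 0xdb2)) (.node 1 (.leaf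 0xcc0) (.leaf 0xe78))) (.node 2 (.node 1 (.leaf 0xc17) (.leaf 0xd9a)) (.node 1 (.leaf 0xa91) (.leaf 0xc13))))) (.node 8 (.node 4 (.node 2 (.node 1 (.leaf 0xad1) (.leaf 0xe11)) (.node 1 (.leaf 0xd16) (.leaf 0x9d2))) (.node 2 (.node 1 (.leaf 0xc53) (.leaf 0xade)) (.node 1 (.leaf 0xa62) (.leaf 0xdb8)))) (.node 4 (.node 2 (.node 1 (.leaf 0x336) (.leaf 0x49b)) (.node 1 (.leaf 0xa5f) (.leaf 0xea8))) (.node 2 (.node 1 (.leaf 0xd08) (.leaf 0x9a8)) (.node 1 (.leaf 0xbd1) (.leaf 0xaec))))))) (.node 32 (.node 16 (.node 8 (.node 4 (.node 2 (.node 1 (.leaf 0xb04) (.leaf 0xdca)) (.node 1 (.leaf 0xdd2) (.leaf 0xd46))) (.node 2 (.node 1 (.leaf 0xc2b) (.leaf 0xb12)) (.node 1 (.leaf 0x841) (.leaf 0xe55)))) (.node 4 (.node 2 (.node 1 (.leaf 0xa9f) (.leaf 0x881)) (.node 1 (.leaf 0xda6) (.leaf 0xdc5))) (.node 2 (.node 1 (.leaf 0xcdf) (.leaf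 0xd71)) (.node 1 (.leaf 0x9f8) (.leaf 0xbc4))))) (.node 8 (.node 4 (.node 2 (.node 1 (.leaf 0x949) (.leaf 0xb81)) (.node 1 (.leaf 0xe18) (.leaf 0xc2e))) (.node 2 (.node 1 (.leaf 0xd07) (.leaf 0xea6)) (.node 1 (.leaf 0xbaf) (.leaf 0xa96)))) (.node 4 (.node 2 (.node 1 (.leaf 0xe1e) (.leaf 0xb75)) (.node 1 (.leaf 0xe5d) (.leaf 0xba1))) (.node 2 (.node 1 (.leaf 0xe15) (.leaf 0xcb4)) (.node 1 (.leaf 0x9f9) (.leaf 0xb78)))))) (.node 16 (.node 8 (.node 4 (.node 2 (.node 1 (.leaf 0xba0) (.leaf 0xed2)) (.node 1 (.leaf 0xb6a) (.leaf 0xc7f))) (.node 2 (.node 1 (.leaf 0xea2) (.leaf 0xdf0)) (.node 1 (.leaf 0xa43) (.leaf 0xcdd)))) (.node 4 (.node 2 (.node 1 (.leaf 0xaa0) (.leaf 0xb85)) (.node 1 (.leaf 0xeb8) (.leaf 0x8b4))) (.node 2 (.node 1 (.leaf 0x913) (.leaf 0x98b)) (.node 1 (.leaf 0xb30) (.leaf 0xa99))))) (.node 8 (.node 4 (.node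 2 (.node 1 (.leaf 0x9d3) (.leaf 0xac7)) (.node 1 (.leaf 0x820) (.leaf 0x94f))) (.node 2 (.node 1 (.leaf 0xe87) (.leaf 0xe50)) (.node 1 (.leaf 0xd76) (.leaf 0xacf)))) (.node 4 (.node 2 (.node 1 (.leaf 0xbb7) (.leaf 0x9cb)) (.node 1 (.leaf 0xc95) (.leaf 0xce5))) (.node 2 (.node 1 (.leaf 0x9cd) (.leaf 0x9d0)) (.node 1 (.leaf 0xd25) (.leaf 0xb88)))))))))

def det1_3 : Tree := (.node 128 (.node 64 (.node 32 (.node 16 (.node 8 (.node 4 (.node 2 (.node 1 (.leaf 0xd67) (.leaf 0xe39)) (.node 1 (.leaf 0xea5) (.leaf 0x8d1))) (.node 2 (.node 1 (.leaf 0xb29) (.leaf 0x887)) (.node 1 (.leaf 0x83c) (.leaf 0xb17)))) (.node 4 (.node 2 (.node 1 (.leaf 0x81a) (.leaf 0x8d8)) (.node 1 (.leaf 0x814) (.leaf 0x8f9))) (.node 2 (.node 1 (.leaf 0x883) (.leaf 0x83d)) (.node 1 (.leaf 0xb64) (.leaf 0xa87))))) (.node 8 (.node 4 (.node 2 (.node 1 (.leaf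 0x95c) (.leaf 0xbfc)) (.node 1 (.leaf 0x98e) (.leaf 0xeda))) (.node 2 (.node 1 (.leaf 0x80b) (.leaf 0xa02)) (.node 1 (.leaf 0xb6b) (.leaf 0x9a3)))) (.node 4 (.node 2 (.node 1 (.leaf 0x8e2) (.leaf 0xa73)) (.node 1 (.leaf 0x9d6) (.leaf 0x83f))) (.node 2 (.node 1 (.leaf 0xe28) (.leaf 0xbc0)) (.node 1 (.leaf 0xba6) (.leaf 0xee4)))))) (.node 16 (.node 8 (.node 4 (.node 2 (.node 1 (.leaf 0xd91) (.leaf 0xe0f)) (.node 1 (.leaf 0xb20) (.leaf 0xb72))) (.node 2 (.node 1 (.leaf 0xce7) (.leaf 0xed0)) (.node 1 (.leaf 0xbdc) (.leaf 0xe1d)))) (.node 4 (.node 2 (.node 1 (.leaf 0x872) (.leaf 0xe01)) (.node 1 (.leaf 0xdea) (.leaf 0xacc))) (.node 2 (.node 1 (.leaf 0x919) (.leaf 0x93d)) (.node 1 (.leaf 0x850) (.leaf 0x859))))) (.node 8 (.node 4 (.node 2 (.node 1 (.leaf 0xa1e) (.leaf 0x8b9)) (.node 1 (.leaf 0xd63) (.leaf 0xb2e))) (.node 2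 (.node 1 (.leaf 0xd5d) (.leaf 0x909)) (.node 1 (.leaf 0xc74) (.leaf 0x897)))) (.node 4 (.node 2 (.node 1 (.leaf 0xad0) (.leaf 0xa2d)) (.node 1 (.leaf 0x9ba) (.leaf 0x933))) (.node 2 (.node 1 (.leaf 0xb56) (.leaf 0x99e)) (.node 1 (.leaf 0x27f) (.leaf 0x2ab))))))) (.node 32 (.node 16 (.node 8 (.node 4 (.node 2 (.node 1 (.leaf 0x8ca) (.leaf 0x8bc)) (.node 1 (.leaf 0xce1) (.leaf 0xb50))) (.node 2 (.node 1 (.leaf 0x8a9) (.leaf 0xd3b)) (.node 1 (.leaf 0xc06) (.leaf 0xd86)))) (.node 4 (.node 2 (.node 1 (.leaf 0xc9e) (.leaf 0xedf)) (.node 1 (.leaf 0x965) (.leaf 0xe0a))) (.node 2 (.node 1 (.leaf 0x982) (.leaf 0x903)) (.node 1 (.leaf 0xde2) (.leaf 0x829))))) (.node 8 (.node 4 (.node 2 (.node 1 (.leaf 0xc27) (.leaf 0x8a7)) (.node 1 (.leaf 0xaa1) (.leaf 0xc5a))) (.node 2 (.node 1 (.leaf 0x995) (.leaf 0xad8)) (.node 1 (.leaf 0xc04)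 (.leaf 0xda5)))) (.node 4 (.node 2 (.node 1 (.leaf 0xebf) (.leaf 0xbf9)) (.node 1 (.leaf 0xd5f) (.leaf 0xc55))) (.node 2 (.node 1 (.leaf 0xe9f) (.leaf 0xd7f)) (.node 1 (.leaf 0xd7d) (.leaf 0xd2e)))))) (.node 16 (.node 8 (.node 4 (.node 2 (.node 1 (.leaf 0xaae) (.leaf 0xc88)) (.node 1 (.leaf 0xd83) (.leaf 0xc2a))) (.node 2 (.node 1 (.leaf 0xe5b) (.leaf 0x926)) (.node 1 (.leaf 0xb40) (.leaf 0xb82)))) (.node 4 (.node 2 (.node 1 (.leaf 0xd40) (.leaf 0xc12)) (.node 1 (.leaf 0xb9f) (.leaf 0xdf3))) (.node 2 (.node 1 (.leaf 0xb63) (.leaf 0xe46)) (.node 1 (.leaf 0xb73) (.leaf 0xa2c))))) (.node 8 (.node 4 (.node 2 (.node 1 (.leaf 0xb4d) (.leaf 0xd04)) (.node 1 (.leaf 0xd2b) (.leaf 0x9dd))) (.node 2 (.node 1 (.leaf 0xaa4) (.leaf 0xc87)) (.node 1 (.leaf 0xdec) (.leaf 0xc0f)))) (.node 4 (.node 2 (.node 1 (.leaf 0x8bf) (.leaf 0xe68))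 (.node 1 (.leaf 0x97e) (.leaf 0xb52))) (.node 2 (.node 1 (.leaf 0x198) (.leaf 0x260)) (.node 1 (.leaf 0xcac) (.leaf 0xee3)))))))) (.node 64 (.node 32 (.node 16 (.node 8 (.node 4 (.node 2 (.node 1 (.leaf 0xa93) (.leaf 0xe9c)) (.node 1 (.leaf 0xdcc) (.leaf 0xe4f))) (.node 2 (.node 1 (.leaf 0xccc) (.leaf 0xd4c)) (.node 1 (.leaf 0xc94) (.leaf 0xe20)))) (.node 4 (.node 2 (.node 1 (.leaf 0xc49) (.leaf 0xcb1)) (.node 1 (.leaf 0xe47) (.leaf 0xa64))) (.node 2 (.node 1 (.leaf 0xae6) (.leaf 0xa79)) (.node 1 (.leaf 0xac8) (.leaf 0xcaa))))) (.node 8 (.node 4 (.node 2 (.node 1 (.leaf 0xed8) (.leaf 0xce6)) (.node 1 (.leaf 0xc85) (.leaf 0xd2c))) (.node 2 (.node 1 (.leaf 0xbc9) (.leaf 0xa39)) (.node 1 (.leaf 0x908) (.leaf 0xc90)))) (.node 4 (.node 2 (.node 1 (.leaf 0xbc8) (.leaf 0x87f)) (.node 1 (.leaf 0x935) (.leaf 0x93a))) (.node 2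 (.node 1 (.leaf 0xda9) (.leaf 0xa27)) (.node 1 (.leaf 0x9eb) (.leaf 0xb61)))))) (.node 16 (.node 8 (.node 4 (.node 2 (.node 1 (.leaf 0x92a) (.leaf 0x93f)) (.node 1 (.leaf 0x8aa) (.leaf 0xbf8))) (.node 2 (.node 1 (.leaf 0x8cf) (.leaf 0x83e)) (.node 1 (.leaf 0xb15) (.leaf 0xa12)))) (.node 4 (.node 2 (.node 1 (.leaf 0x855) (.leaf 0x823)) (.node 1 (.leaf 0xe48) (.leaf 0x865))) (.node 2 (.node 1 (.leaf 0x849) (.leaf 0x853)) (.node 1 (.leaf 0xb91) (.leaf 0x838))))) (.node 8 (.node 4 (.node 2 (.node 1 (.leaf 0xa70) (.leaf 0xd98)) (.node 1 (.leaf 0x811) (.leaf 0xc39))) (.node 2 (.node 1 (.leaf 0xa6a) (.leaf 0x8f3)) (.node 1 (.leaf 0xa6c) (.leaf 0x9bd)))) (.node 4 (.node 2 (.node 1 (.leaf 0xa48) (.leaf 0xc7e)) (.node 1 (.leaf 0xcd3) (.leaf 0x979))) (.node 2 (.node 1 (.leaf 0x8c0) (.leaf 0x9de)) (.node 1 (.leaf 0xa42) (.leaf 0x8ae)))))))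 (.node 32 (.node 16 (.node 8 (.node 4 (.node 2 (.node 1 (.leaf 0xc40) (.leaf 0x992)) (.node 1 (.leaf 0xaee) (.leaf 0x80c))) (.node 2 (.node 1 (.leaf 0x941) (.leaf 0x858)) (.node 1 (.leaf 0x84c) (.leaf 0xbad)))) (.node 4 (.node 2 (.node 1 (.leaf 0xaf1) (.leaf 0x9b3)) (.node 1 (.leaf 0x99a) (.leaf 0x84b))) (.node 2 (.node 1 (.leaf 0x99c) (.leaf 0xc07)) (.node 1 (.leaf 0xe5c) (.leaf 0xbd0))))) (.node 8 (.node 4 (.node 2 (.node 1 (.leaf 0xdac) (.leaf 0xb44)) (.node 1 (.leaf 0xeb6) (.leaf 0xc5b))) (.node 2 (.node 1 (.leaf 0x94d) (.leaf 0xd5c)) (.node 1 (.leaf 0xa2f) (.leaf 0xdbd)))) (.node 4 (.node 2 (.node 1 (.leaf 0xe24) (.leaf 0xd35)) (.node 1 (.leaf 0x837) (.leaf 0x8e8))) (.node 2 (.node 1 (.leaf 0xd1e) (.leaf 0xcba)) (.node 1 (.leaf 0xccd) (.leaf 0x966)))))) (.node 16 (.node 8 (.node 4 (.node 2 (.node 1 (.leaf 0xb7a)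 (.leaf 0xea3)) (.node 1 (.leaf 0xbfb) (.leaf 0xeec))) (.node 2 (.node 1 (.leaf 0xa7b) (.leaf 0xc7c)) (.node 1 (.leaf 0xb7f) (.leaf 0xe7a)))) (.node 4 (.node 2 (.node 1 (.leaf 0xc8a) (.leaf 0xdcb)) (.node 1 (.leaf 0xa21) (.leaf 0x8cc))) (.node 2 (.node 1 (.leaf 0xaa6) (.leaf 0xbd6)) (.node 1 (.leaf 0xec2) (.leaf 0xb95))))) (.node 8 (.node 4 (.node 2 (.node 1 (.leaf 0xa90) (.leaf 0x911)) (.node 1 (.leaf 0xe61) (.leaf 0xc1d))) (.node 2 (.node 1 (.leaf 0xa46) (.leaf 0xc11)) (.node 1 (.leaf 0xe38) (.leaf 0x1db)))) (.node 4 (.node 2 (.node 1 (.leaf 0x35e) (.leaf 0xbb6)) (.node 1 (.leaf 0xb46) (.leaf 0xa0e))) (.node 2 (.node 1 (.leaf 0x80e) (.leaf 0x842)) (.node 1 (.leaf 0xe3e) (.leaf 0xbb0)))))))))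

def det1_4 : Tree := (.node 128 (.node 64 (.node 32 (.node 16 (.node 8 (.node 4 (.node 2 (.node 1 (.leaf 0xa4b) (.leaf 0xb47)) (.node 1 (.leaf 0x91c) (.leaf 0xadd))) (.node 2 (.node 1 (.leaf 0x30) (.leaf 0x1ea)) (.node 1 (.leaf 0xa24) (.leaf 0xb1f)))) (.node 4 (.node 2 (.node 1 (.leaf 0xabe) (.leaf 0x924)) (.node 1 (.leaf 0xeb0) (.leaf 0xe12))) (.node 2 (.node 1 (.leaf 0x89b) (.leaf 0xc34)) (.node 1 (.leaf 0x410) (.leaf 0x562))))) (.node 8 (.node 4 (.node 2 (.node 1 (.leaf 0x87a) (.leaf 0xd22)) (.node 1 (.leaf 0xd9e) (.leaf 0xde8))) (.node 2 (.node 1 (.leaf 0xadc) (.leaf 0x8c5)) (.node 1 (.leaf 0xa97) (.leaf 0xca3)))) (.node 4 (.node 2 (.node 1 (.leaf 0xd39) (.leaf 0xb67)) (.node 1 (.leaf 0x93c) (.leaf 0x915))) (.node 2 (.node 1 (.leaf 0x9cf) (.leaf 0xdb5)) (.node 1 (.leaf 0x938) (.leaf 0x944)))))) (.node 16 (.node 8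 (.node 4 (.node 2 (.node 1 (.leaf 0xdfa) (.leaf 0xe81)) (.node 1 (.leaf 0xe1f) (.leaf 0xdbc))) (.node 2 (.node 1 (.leaf 0xadf) (.leaf 0xcb0)) (.node 1 (.leaf 0xe16) (.leaf 0xa2b)))) (.node 4 (.node 2 (.node 1 (.leaf 0xc78) (.leaf 0xe37)) (.node 1 (.leaf 0x889) (.leaf 0xdf6))) (.node 2 (.node 1 (.leaf 0xb7b) (.leaf 0xa76)) (.node 1 (.leaf 0xa49) (.leaf 0x8ee))))) (.node 8 (.node 4 (.node 2 (.node 1 (.leaf 0x962) (.leaf 0xdf8)) (.node 1 (.leaf 0xea1) (.leaf 0xa5e))) (.node 2 (.node 1 (.leaf 0xc23) (.leaf 0x9a4)) (.node 1 (.leaf 0x922) (.leaf 0xbc5)))) (.node 4 (.node 2 (.node 1 (.leaf 0xd7c) (.leaf 0x8de)) (.node 1 (.leaf 0xe09) (.leaf 0xb59))) (.node 2 (.node 1 (.leaf 0xd28) (.leaf 0x9c7)) (.node 1 (.leaf 0x88a) (.leaf 0x8f5))))))) (.node 32 (.node 16 (.node 8 (.node 4 (.node 2 (.node 1 (.leaf 0xce0) (.leaf 0xe80)) (.node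 1 (.leaf 0xeef) (.leaf 0xdc9))) (.node 2 (.node 1 (.leaf 0x901) (.leaf 0xc6e)) (.node 1 (.leaf 0xe30) (.leaf 0x936)))) (.node 4 (.node 2 (.node 1 (.leaf 0x86d) (.leaf 0xead)) (.node 1 (.leaf 0xc70) (.leaf 0x9b1))) (.node 2 (.node 1 (.leaf 0xa13) (.leaf 0xb58)) (.node 1 (.leaf 0xc48) (.leaf 0xd49))))) (.node 8 (.node 4 (.node 2 (.node 1 (.leaf 0xcda) (.leaf 0x8d4)) (.node 1 (.leaf 0xa37) (.leaf 0xe8f))) (.node 2 (.node 1 (.leaf 0x4ce) (.leaf 0x6af)) (.node 1 (.leaf 0xd13) (.leaf 0xd70)))) (.node 4 (.node 2 (.node 1 (.leaf 0xde4) (.leaf 0xa0b)) (.node 1 (.leaf 0xa41) (.leaf 0xb9d))) (.node 2 (.node 1 (.leaf 0xcd8) (.leaf 0xb3f)) (.node 1 (.leaf 0xdc1) (.leaf 0xc68)))))) (.node 16 (.node 8 (.node 4 (.node 2 (.node 1 (.leaf 0xae2) (.leaf 0x9af)) (.node 1 (.leaf 0xabc) (.leaf 0x934))) (.node 2 (.node 1 (.leaf 0xbc6) (.leaf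 0xa4d)) (.node 1 (.leaf 0xb0c) (.leaf 0x8ab)))) (.node 4 (.node 2 (.node 1 (.leaf 0xbaa) (.leaf 0x9d7)) (.node 1 (.leaf 0xa16) (.leaf 0x8d9))) (.node 2 (.node 1 (.leaf 0xc91) (.leaf 0xc09)) (.node 1 (.leaf 0xb54) (.leaf 0x920))))) (.node 8 (.node 4 (.node 2 (.node 1 (.leaf 0xa31) (.leaf 0x8ba)) (.node 1 (.leaf 0xb32) (.leaf 0xccb))) (.node 2 (.node 1 (.leaf 0xc63) (.leaf 0xbbd)) (.node 1 (.leaf 0xeb7) (.leaf 0xbab)))) (.node 4 (.node 2 (.node 1 (.leaf 0xdb7) (.leaf 0xcf9)) (.node 1 (.leaf 0xae3) (.leaf 0xc16))) (.node 2 (.node 1 (.leaf 0x9be) (.leaf 0x972)) (.node 1 (.leaf 0xcd6) (.leaf 0xdd6)))))))) (.node 64 (.node 32 (.node 16 (.node 8 (.node 4 (.node 2 (.node 1 (.leaf 0xe2c) (.leaf 0xe88)) (.node 1 (.leaf 0xcd4) (.leaf 0xcb3))) (.node 2 (.node 1 (.leaf 0xb48) (.leaf 0xdba)) (.node 1 (.leaf 0xc22) (.leaf 0xc99))))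 (.node 4 (.node 2 (.node 1 (.leaf 0xe3a) (.leaf 0xa88)) (.node 1 (.leaf 0xe14) (.leaf 0xb3d))) (.node 2 (.node 1 (.leaf 0xd21) (.leaf 0xd26)) (.node 1 (.leaf 0xc4a) (.leaf 0xba3))))) (.node 8 (.node 4 (.node 2 (.node 1 (.leaf 0xb26) (.leaf 0xef0)) (.node 1 (.leaf 0x9c6) (.leaf 0x9b5))) (.node 2 (.node 1 (.leaf 0xd65) (.leaf 0x99d)) (.node 1 (.leaf 0xcc5) (.leaf 0xd38)))) (.node 4 (.node 2 (.node 1 (.leaf 0xec7) (.leaf 0xd6b)) (.node 1 (.leaf 0xdb9) (.leaf 0xc6f))) (.node 2 (.node 1 (.leaf 0x9e8) (.leaf 0xeeb)) (.node 1 (.leaf 0xc8c) (.leaf 0xbd4)))))) (.node 16 (.node 8 (.node 4 (.node 2 (.node 1 (.leaf 0x9ad) (.leaf 0xd61)) (.node 1 (.leaf 0xd44) (.leaf 0xb37))) (.node 2 (.node 1 (.leaf 0xe32) (.leaf 0xd36)) (.node 1 (.leaf 0xe2f) (.leaf 0xb7e)))) (.node 4 (.node 2 (.node 1 (.leaf 0x88c) (.leaf 0xa29)) (.node 1 (.leaf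 0x8b5) (.leaf 0xad4))) (.node 2 (.node 1 (.leaf 0x826) (.leaf 0xc43)) (.node 1 (.leaf 0x971) (.leaf 0x857))))) (.node 8 (.node 4 (.node 2 (.node 1 (.leaf 0x804) (.leaf 0xa2e)) (.node 1 (.leaf 0xa00) (.leaf 0xac0))) (.node 2 (.node 1 (.leaf 0xdf) (.leaf 0x15b)) (.node 1 (.leaf 0x802) (.leaf 0xa17)))) (.node 4 (.node 2 (.node 1 (.leaf 0xc2d) (.leaf 0xe4b)) (.node 1 (.leaf 0xb5c) (.leaf 0x8a0))) (.node 2 (.node 1 (.leaf 0xa54) (.leaf 0xb11)) (.node 1 (.leaf 0xe2b) (.leaf 0xaeb))))))) (.node 32 (.node 16 (.node 8 (.node 4 (.node 2 (.node 1 (.leaf 0x914) (.leaf 0x9d8)) (.node 1 (.leaf 0xcb6) (.leaf 0x9c0))) (.node 2 (.node 1 (.leaf 0xef1) (.leaf 0xceb)) (.node 1 (.leaf 0xae1) (.leaf 0xa7d)))) (.node 4 (.node 2 (.node 1 (.leaf 0xbec) (.leaf 0xe67)) (.node 1 (.leaf 0xbbf) (.leaf 0x993))) (.node 2 (.node 1 (.leaf 0xd01) (.leaf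 0xa3f)) (.node 1 (.leaf 0xbde) (.leaf 0xb8d))))) (.node 8 (.node 4 (.node 2 (.node 1 (.leaf 0xd24) (.leaf 0xde3)) (.node 1 (.leaf 0xa8b) (.leaf 0xad9))) (.node 2 (.node 1 (.leaf 0x8eb) (.leaf 0x967)) (.node 1 (.leaf 0xa2) (.leaf 0x2e5)))) (.node 4 (.node 2 (.node 1 (.leaf 0xac6) (.leaf 0xeed)) (.node 1 (.leaf 0xc42) (.leaf 0x927))) (.node 2 (.node 1 (.leaf 0xb5b) (.leaf 0x88b)) (.node 1 (.leaf 0xc3a) (.leaf 0x9fa)))))) (.node 16 (.node 8 (.node 4 (.node 2 (.node 1 (.leaf 0xa3d) (.leaf 0xa3b)) (.node 1 (.leaf 0x869) (.leaf 0x832))) (.node 2 (.node 1 (.leaf 0xaf0) (.leaf 0x85f)) (.node 1 (.leaf 0x947) (.leaf 0xa4c)))) (.node 4 (.node 2 (.node 1 (.leaf 0xa6f) (.leaf 0x8be)) (.node 1 (.leaf 0x26d) (.leaf 0x38f))) (.node 2 (.node 1 (.leaf 0x951) (.leaf 0x85b)) (.node 1 (.leaf 0x81b) (.leaf 0x22))))) (.node 8 (.node 4 (.node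 2 (.node 1 (.leaf 0x4f7) (.leaf 0x803)) (.node 1 (.leaf 0xab9) (.leaf 0x818))) (.node 2 (.node 1 (.leaf 0x9bc) (.leaf 0xee0)) (.node 1 (.leaf 0x952) (.leaf 0xc61)))) (.node 4 (.node 2 (.node 1 (.leaf 0xde5) (.leaf 0xc9a)) (.node 1 (.leaf 0x228) (.leaf 0x466))) (.node 2 (.node 1 (.leaf 0xb0d) (.leaf 0x85e)) (.node 1 (.leaf 0xeb5) (.leaf 0xc4f)))))))))

def det1_5 : Tree := (.node 128 (.node 64 (.node 32 (.node 16 (.node 8 (.node 4 (.node 2 (.node 1 (.leaf 0xd19) (.leaf 0xa98)) (.node 1 (.leaf 0xe5e) (.leaf 0xb77))) (.node 2 (.node 1 (.leaf 0xd84) (.leaf 0xb4b)) (.node 1 (.leaf 0x90b) (.leaf 0xbbb)))) (.node 4 (.node 2 (.node 1 (.leaf 0xdfd) (.leaf 0xc5e)) (.node 1 (.leaf 0xe73) (.leaf 0xe76))) (.node 2 (.node 1 (.leaf 0xab6) (.leaf 0xb28)) (.node 1 (.leaf 0xcd9) (.leaf 0xc56))))) (.node 8 (.node 4 (.node 2 (.node 1 (.leaf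 0xb7c) (.leaf 0xd68)) (.node 1 (.leaf 0xd1c) (.leaf 0xc6a))) (.node 2 (.node 1 (.leaf 0x8f8) (.leaf 0x87c)) (.node 1 (.leaf 0xeb2) (.leaf 0xc7d)))) (.node 4 (.node 2 (.node 1 (.leaf 0xbd3) (.leaf 0xbce)) (.node 1 (.leaf 0xa32) (.leaf 0xc01))) (.node 2 (.node 1 (.leaf 0xb2f) (.leaf 0xd3c)) (.node 1 (.leaf 0xce8) (.leaf 0x8ff)))))) (.node 16 (.node 8 (.node 4 (.node 2 (.node 1 (.leaf 0xb9a) (.leaf 0xd1a)) (.node 1 (.leaf 0xa80) (.leaf 0xe91))) (.node 2 (.node 1 (.leaf 0x9ed) (.leaf 0xbc3)) (.node 1 (.leaf 0xe26) (.leaf 0xb84)))) (.node 4 (.node 2 (.node 1 (.leaf 0x85c) (.leaf 0x990)) (.node 1 (.leaf 0x898) (.leaf 0xe98))) (.node 2 (.node 1 (.leaf 0xb51) (.leaf 0x9e7)) (.node 1 (.leaf 0x9bf) (.leaf 0x955))))) (.node 8 (.node 4 (.node 2 (.node 1 (.leaf 0xc3f) (.leaf 0x588)) (.node 1 (.leaf 0x623) (.leaf 0xe10))) (.node 2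 (.node 1 (.leaf 0xaf5) (.leaf 0xdb1)) (.node 1 (.leaf 0xa38) (.leaf 0xde9)))) (.node 4 (.node 2 (.node 1 (.leaf 0x42f) (.leaf 0x633)) (.node 1 (.leaf 0xd81) (.leaf 0xdad))) (.node 2 (.node 1 (.leaf 0xb55) (.leaf 0xc3e)) (.node 1 (.leaf 0x2d3) (.leaf 0x66f))))))) (.node 32 (.node 16 (.node 8 (.node 4 (.node 2 (.node 1 (.leaf 0xd42) (.leaf 0x41b)) (.node 1 (.leaf 0x68a) (.leaf 0xb3b))) (.node 2 (.node 1 (.leaf 0xa03) (.leaf 0xe79)) (.node 1 (.leaf 0xd4e) (.leaf 0xd8f)))) (.node 4 (.node 2 (.node 1 (.leaf 0xc81) (.leaf 0xad2)) (.node 1 (.leaf 0xe71) (.leaf 0xe3b))) (.node 2 (.node 1 (.leaf 0xdf4) (.leaf 0xdc2)) (.node 1 (.leaf 0xd93) (.leaf 0xeba))))) (.node 8 (.node 4 (.node 2 (.node 1 (.leaf 0xc3d) (.leaf 0x12f)) (.node 1 (.leaf 0x653) (.leaf 0xc46))) (.node 2 (.node 1 (.leaf 0xa19) (.leaf 0x1e5)) (.node 1 (.leaf 0x3e5)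 (.leaf 0xd5b)))) (.node 4 (.node 2 (.node 1 (.leaf 0xdb6) (.leaf 0x8f0)) (.node 1 (.leaf 0xced) (.leaf 0xb1c))) (.node 2 (.node 1 (.leaf 0xec0) (.leaf 0x878)) (.node 1 (.leaf 0xc00) (.leaf 0x308)))))) (.node 16 (.node 8 (.node 4 (.node 2 (.node 1 (.leaf 0x45c) (.leaf 0xec)) (.node 1 (.leaf 0x6b4) (.leaf 0x8b1))) (.node 2 (.node 1 (.leaf 0xc37) (.leaf 0xe58)) (.node 1 (.leaf 0x8c2) (.leaf 0xe62)))) (.node 4 (.node 2 (.node 1 (.leaf 0xab4) (.leaf 0x899)) (.node 1 (.leaf 0xe42) (.leaf 0xaaf))) (.node 2 (.node 1 (.leaf 0x94e) (.leaf 0xca8)) (.node 1 (.leaf 0xca0) (.leaf 0xa9c))))) (.node 8 (.node 4 (.node 2 (.node 1 (.leaf 0xef3) (.leaf 0x959)) (.node 1 (.leaf 0x9b7) (.leaf 0x8ea))) (.node 2 (.node 1 (.leaf 0x89f) (.leaf 0xbf5)) (.node 1 (.leaf 0x92c) (.leaf 0x8fc)))) (.node 4 (.node 2 (.node 1 (.leaf 0xb86) (.leaf 0x2f8))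 (.node 1 (.leaf 0x43b) (.leaf 0xd94))) (.node 2 (.node 1 (.leaf 0xda1) (.leaf 0xae7)) (.node 1 (.leaf 0xb5d) (.leaf 0xae9)))))))) (.node 64 (.node 32 (.node 16 (.node 8 (.node 4 (.node 2 (.node 1 (.leaf 0xe3c) (.leaf 0xdc3)) (.node 1 (.leaf 0xca1) (.leaf 0xd92))) (.node 2 (.node 1 (.leaf 0xed9) (.leaf 0xbcb)) (.node 1 (.leaf 0xbac) (.leaf 0xe8d)))) (.node 4 (.node 2 (.node 1 (.leaf 0xe8c) (.leaf 0xd9d)) (.node 1 (.leaf 0xe07) (.leaf 0xef))) (.node 2 (.node 1 (.leaf 0x5ab) (.leaf 0xe94)) (.node 1 (.leaf 0xb1d) (.leaf 0xbe6))))) (.node 8 (.node 4 (.node 2 (.node 1 (.leaf 0xad6) (.leaf 0xdee)) (.node 1 (.leaf 0xab0) (.leaf 0x86f))) (.node 2 (.node 1 (.leaf 0x8f1) (.leaf 0x97d)) (.node 1 (.leaf 0xb03) (.leaf 0x8a3)))) (.node 4 (.node 2 (.node 1 (.leaf 0xb06) (.leaf 0xd66)) (.node 1 (.leaf 0xee7) (.leaf 0xc1a))) (.node 2 (.node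 1 (.leaf 0xdb4) (.leaf 0x8c3)) (.node 1 (.leaf 0xee6) (.leaf 0xc18)))))) (.node 16 (.node 8 (.node 4 (.node 2 (.node 1 (.leaf 0xc44) (.leaf 0xe6a)) (.node 1 (.leaf 0xe84) (.leaf 0xb27))) (.node 2 (.node 1 (.leaf 0x205) (.leaf 0x696)) (.node 1 (.leaf 0xb6f) (.leaf 0xa22)))) (.node 4 (.node 2 (.node 1 (.leaf 0xd5a) (.leaf 0xa1a)) (.node 1 (.leaf 0x10e) (.leaf 0x47b))) (.node 2 (.node 1 (.leaf 0xdff) (.leaf 0xda0)) (.node 1 (.leaf 0xe05) (.leaf 0xee5))))) (.node 8 (.node 4 (.node 2 (.node 1 (.leaf 0x8af) (.leaf 0xd41)) (.node 1 (.leaf 0xb23) (.leaf 0x187))) (.node 2 (.node 1 (.leaf 0x5d8) (.leaf 0xbb4)) (.node 1 (.leaf 0xbe7) (.leaf 0xd52)))) (.node 4 (.node 2 (.node 1 (.leaf 0xd20) (.leaf 0xb4e)) (.node 1 (.leaf 0xd43) (.leaf 0x305))) (.node 2 (.node 1 (.leaf 0x3a4) (.leaf 0xde0)) (.node 1 (.leaf 0x2f2) (.leaf 0x6bb)))))))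 (.node 32 (.node 16 (.node 8 (.node 4 (.node 2 (.node 1 (.leaf 0x319) (.leaf 0x66e)) (.node 1 (.leaf 0x64a) (.leaf 0x69e))) (.node 2 (.node 1 (.leaf 0xe5f) (.leaf 0xa07)) (.node 1 (.leaf 0xbb3) (.leaf 0x968)))) (.node 4 (.node 2 (.node 1 (.leaf 0x877) (.leaf 0x907)) (.node 1 (.leaf 0x861) (.leaf 0x846))) (.node 2 (.node 1 (.leaf 0xad5) (.leaf 0x86e)) (.node 1 (.leaf 0x9aa) (.leaf 0xa85))))) (.node 8 (.node 4 (.node 2 (.node 1 (.leaf 0x8e7) (.leaf 0xa1c)) (.node 1 (.leaf 0x833) (.leaf 0xd10))) (.node 2 (.node 1 (.leaf 0x8e5) (.leaf 0x9a1)) (.node 1 (.leaf 0x9fe) (.leaf 0x81d)))) (.node 4 (.node 2 (.node 1 (.leaf 0xb01) (.leaf 0xa26)) (.node 1 (.leaf 0x890) (.leaf 0xb70))) (.node 2 (.node 1 (.leaf 0x997) (.leaf 0x801)) (.node 1 (.leaf 0x81e) (.leaf 0x946)))))) (.node 16 (.node 8 (.node 4 (.node 2 (.node 1 (.leaf 0x8ce)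 (.leaf 0xa86)) (.node 1 (.leaf 0xd0d) (.leaf 0xb4f))) (.node 2 (.node 1 (.leaf 0xad7) (.leaf 0xaf7)) (.node 1 (.leaf 0x8b6) (.leaf 0xa9d)))) (.node 4 (.node 2 (.node 1 (.leaf 0x9ac) (.leaf 0x9f4)) (.node 1 (.leaf 0xd12) (.leaf 0x957))) (.node 2 (.node 1 (.leaf 0x88f) (.leaf 0x834)) (.node 1 (.leaf 0x84d) (.leaf 0xdc7))))) (.node 8 (.node 4 (.node 2 (.node 1 (.leaf 0xb6e) (.leaf 0x945)) (.node 1 (.leaf 0x9e3) (.leaf 0xccf))) (.node 2 (.node 1 (.leaf 0xa51) (.leaf 0xc3c)) (.node 1 (.leaf 0xdd9) (.leaf 0xd95)))) (.node 4 (.node 2 (.node 1 (.leaf 0xd4d) (.leaf 0xe7b)) (.node 1 (.leaf 0x8b2) (.leaf 0xe08))) (.node 2 (.node 1 (.leaf 0xe04) (.leaf 0xd45)) (.node 1 (.leaf 0xb8b) (.leaf 0x9f3)))))))))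

def det1_6 : Tree := (.node 105 (.node 52 (.node 26 (.node 13 (.node 6 (.node 3 (.node 1 (.leaf 0xbe9) (.node 1 (.leaf 0xa0d) (.leaf 0xc8f))) (.node 1 (.leaf 0x8d2) (.node 1 (.leaf 0xc50) (.leaf 0x9f0)))) (.node 3 (.node 1 (.leaf 0x862) (.node 1 (.leaf 0xa6b) (.leaf 0xa10))) (.node 2 (.node 1 (.leaf 0xc4c) (.leaf 0x8d5)) (.node 1 (.leaf 0x8e9) (.leaf 0x9da))))) (.node 6 (.node 3 (.node 1 (.leaf 0xb87) (.node 1 (.leaf 0xeee) (.leaf 0x9ab))) (.node 1 (.leaf 0xe82) (.node 1 (.leaf 0xc36) (.leaf 0xd4b)))) (.node 3 (.node 1 (.leaf 0xda4) (.node 1 (.leaf 0xc65) (.leaf 0xaca))) (.node 2 (.node 1 (.leaf 0xeea) (.leaf 0xd4f)) (.node 1 (.leaf 0xed7) (.leaf 0xcef)))))) (.node 13 (.node 6 (.node 3 (.node 1 (.leaf 0xc92) (.node 1 (.leaf 0xbca) (.leaf 0xed5))) (.node 1 (.leaf 0xe0b) (.node 1 (.leaf 0xd85) (.leaf 0xb3a)))) (.node 3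 (.node 1 (.leaf 0xabf) (.node 1 (.leaf 0x852) (.leaf 0xa6))) (.node 2 (.node 1 (.leaf 0xd7) (.leaf 0xc9f)) (.node 1 (.leaf 0x92d) (.leaf 0xbc1))))) (.node 6 (.node 3 (.node 1 (.leaf 0x90f) (.node 1 (.leaf 0xa8e) (.leaf 0xe49))) (.node 1 (.leaf 0x90d) (.node 1 (.leaf 0x95e) (.leaf 0xa11)))) (.node 3 (.node 1 (.leaf 0x892) (.node 1 (.leaf 0x9c2) (.leaf 0xd2a))) (.node 2 (.node 1 (.leaf 0xc35) (.leaf 0xe7e)) (.node 1 (.leaf 0x980) (.leaf 0x891))))))) (.node 26 (.node 13 (.node 6 (.node 3 (.node 1 (.leaf 0xe0e) (.node 1 (.leaf 0x956) (.leaf 0xeb3))) (.node 1 (.leaf 0xd27) (.node 1 (.leaf 0xe65) (.leaf 0xd72)))) (.node 3 (.node 1 (.leaf 0xd23) (.node 1 (.leaf 0xe9a) (.leaf 0xb0b))) (.node 2 (.node 1 (.leaf 0xc32) (.leaf 0xd79)) (.node 1 (.leaf 0xe6b) (.leaf 0xd17))))) (.node 6 (.node 3 (.node 1 (.leaf 0xc51) (.node 1 (.leaf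 0xc1e) (.leaf 0xab7))) (.node 1 (.leaf 0x95d) (.node 1 (.leaf 0x9e9) (.leaf 0xa0c)))) (.node 3 (.node 1 (.leaf 0xcf2) (.node 1 (.leaf 0x976) (.leaf 0xa84))) (.node 2 (.node 1 (.leaf 0xbef) (.leaf 0xa5c)) (.node 1 (.leaf 0xb3c) (.leaf 0xea0)))))) (.node 13 (.node 6 (.node 3 (.node 1 (.leaf 0xe63) (.node 1 (.leaf 0xd73) (.leaf 0xaa3))) (.node 1 (.leaf 0xabb) (.node 1 (.leaf 0xec3) (.leaf 0xbff)))) (.node 3 (.node 1 (.leaf 0x3b2) (.node 1 (.leaf 0x664) (.leaf 0xe83))) (.node 2 (.node 1 (.leaf 0xa23) (.leaf 0xd11)) (.node 1 (.leaf 0xd05) (.leaf 0xb1a))))) (.node 7 (.node 3 (.node 1 (.leaf 0x970) (.node 1 (.leaf 0x9c8) (.leaf 0xa0f))) (.node 2 (.node 1 (.leaf 0x860) (.leaf 0x863)) (.node 1 (.leaf 0xaf3) (.leaf 0x958)))) (.node 3 (.node 1 (.leaf 0x930) (.node 1 (.leaf 0x991) (.leaf 0x810))) (.node 2 (.node 1 (.leaf 0x819) (.leaf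 0x969)) (.node 1 (.leaf 0xb0f) (.leaf 0xd4a)))))))) (.node 52 (.node 26 (.node 13 (.node 6 (.node 3 (.node 1 (.leaf 0xa34) (.node 1 (.leaf 0xa25) (.leaf 0xafb))) (.node 1 (.leaf 0xdc6) (.node 1 (.leaf 0xe31) (.leaf 0xd90)))) (.node 3 (.node 1 (.leaf 0xb07) (.node 1 (.leaf 0xcee) (.leaf 0xc58))) (.node 2 (.node 1 (.leaf 0xe70) (.leaf 0xe57)) (.node 1 (.leaf 0xca9) (.leaf 0xbf6))))) (.node 6 (.node 3 (.node 1 (.leaf 0xee9) (.node 1 (.leaf 0xec1) (.leaf 0xab3))) (.node 1 (.leaf 0xb71) (.node 1 (.leaf 0xe72) (.leaf 0x8e3)))) (.node 3 (.node 1 (.leaf 0xcab) (.node 1 (.leaf 0xb8c) (.leaf 0x84e))) (.node 2 (.node 1 (.leaf 0x9fb) (.leaf 0x300)) (.node 1 (.leaf 0x454) (.leaf 0x9b2)))))) (.node 13 (.node 6 (.node 3 (.node 1 (.leaf 0xbf2) (.node 1 (.leaf 0x964) (.leaf 0xafd))) (.node 1 (.leaf 0xe0c) (.node 1 (.leaf 0xd51) (.leaf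 0xdbf)))) (.node 3 (.node 1 (.leaf 0xdf1) (.node 1 (.leaf 0xa69) (.leaf 0xedb))) (.node 2 (.node 1 (.leaf 0xc4b) (.leaf 0xe95)) (.node 1 (.leaf 0xe7d) (.leaf 0xdda))))) (.node 6 (.node 3 (.node 1 (.leaf 0xbf1) (.node 1 (.leaf 0x8f6) (.leaf 0xd0e))) (.node 1 (.leaf 0xc69) (.node 1 (.leaf 0xe75) (.leaf 0xe06)))) (.node 3 (.node 1 (.leaf 0x173) (.node 1 (.leaf 0x3f0) (.leaf 0xe54))) (.node 2 (.node 1 (.leaf 0xa57) (.leaf 0x851)) (.node 1 (.leaf 0xd3f) (.leaf 0xca7))))))) (.node 26 (.node 13 (.node 6 (.node 3 (.node 1 (.leaf 0xc82) (.node 1 (.leaf 0xe97) (.leaf 0x906))) (.node 1 (.leaf 0x96b) (.node 1 (.leaf 0xe7c) (.leaf 0xbb1)))) (.node 3 (.node 1 (.leaf 0xa58) (.node 1 (.leaf 0x988) (.leaf 0xb74))) (.node 2 (.node 1 (.leaf 0x856) (.leaf 0x96a)) (.node 1 (.leaf 0x87b) (.leaf 0xc6b))))) (.node 6 (.node 3 (.node 1 (.leaf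 0xd1f) (.node 1 (.leaf 0xe6d) (.leaf 0xa5a))) (.node 1 (.leaf 0xbfe) (.node 1 (.leaf 0xddd) (.leaf 0xc30)))) (.node 3 (.node 1 (.leaf 0x283) (.node 1 (.leaf 0x29e) (.leaf 0x931))) (.node 2 (.node 1 (.leaf 0xe25) (.leaf 0xa33)) (.node 1 (.leaf 0xd9c) (.leaf 0xe45)))))) (.node 13 (.node 6 (.node 3 (.node 1 (.leaf 0xe9b) (.node 1 (.leaf 0xa9a) (.leaf 0xd0b))) (.node 1 (.leaf 0xa68) (.node 1 (.leaf 0x977) (.leaf 0xac4)))) (.node 3 (.node 1 (.leaf 0xd59) (.node 1 (.leaf 0xd74) (.leaf 0x847))) (.node 2 (.node 1 (.leaf 0xc59) (.leaf 0xda8)) (.node 1 (.leaf 0x8e6) (.leaf 0x9dc))))) (.node 7 (.node 3 (.node 1 (.leaf 0x97f) (.node 1 (.leaf 0xafa) (.leaf 0xd06))) (.node 2 (.node 1 (.leaf 0xac5) (.leaf 0x986)) (.node 1 (.leaf 0x9b8) (.leaf 0x9f2)))) (.node 3 (.node 1 (.leaf 0xb66) (.node 1 (.leaf 0x95a) (.leaf 0xa95))) (.node 2 (.node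 1 (.leaf 0x92b) (.leaf 0x8ed)) (.node 1 (.leaf 0x961) (.leaf 0xa04)))))))))

def det1 : Tree := (.node 768 (.node 256 det1_0 (.node 256 det1_1 det1_2)) (.node 512 (.node 256 det1_3 det1_4) (.node 256 det1_5 det1_6)))

def det1Mask : ℕ := 0x20000000000002000000000800000000000008000000000000000000000000000000800000000040000000010000000000000000000000000000000000000020000000000000000060000000000000000000008000000000000002000000000000000000000000000000000000000000000000000000000000000040000000000000004002280000100004000400022090800000081110000b10000000121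

def det2 : Tree := (.node 79 (.node 39 (.node 19 (.node 9 (.node 4 (.node 2 (.node 1 (.leaf 0x9ff) (.leaf 0x896)) (.node 1 (.leaf 0x83b) (.leaf 0x910))) (.node 2 (.node 1 (.leaf 0x96e) (.leaf 0x90e)) (.node 1 (.leaf 0x92f) (.node 1 (.leaf 0xdd8) (.leaf 0x8e0))))) (.node 5 (.node 2 (.node 1 (.leaf 0xa35) (.leaf 0xcf8)) (.node 1 (.leaf 0x973) (.node 1 (.leaf 0x987) (.leaf 0x875)))) (.node 2 (.node 1 (.leaf 0xa56) (.leaf 0xb08)) (.node 1 (.leaf 0x8ec) (.node 1 (.leaf 0xd56) (.leaf 0x985)))))) (.node 10 (.node 5 (.node 2 (.node 1 (.leaf 0xe53) (.leaf 0x868)) (.node 1 (.leaf 0xd78) (.node 1 (.leaf 0x94c) (.leaf 0xda3)))) (.node 2 (.node 1 (.leaf 0xb36) (.leaf 0xde7)) (.node 1 (.leaf 0xc54) (.node 1 (.leaf 0xe59) (.leaf 0xb0e))))) (.node 5 (.node 2 (.node 1 (.leaf 0xd88) (.leaf 0xe96)) (.node 1 (.leaf 0x999) (.node 1 (.leaf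 0xa60) (.leaf 0xa36)))) (.node 2 (.node 1 (.leaf 0x940) (.leaf 0xc2f)) (.node 1 (.leaf 0xc66) (.node 1 (.leaf 0xb05) (.leaf 0x89c))))))) (.node 20 (.node 10 (.node 5 (.node 2 (.node 1 (.leaf 0xaf8) (.leaf 0xb2b)) (.node 1 (.leaf 0x998) (.node 1 (.leaf 0xdc0) (.leaf 0xa18)))) (.node 2 (.node 1 (.leaf 0x8a6) (.leaf 0x8ef)) (.node 1 (.leaf 0xb13) (.node 1 (.leaf 0xb92) (.leaf 0xe92))))) (.node 5 (.node 2 (.node 1 (.leaf 0xe8a) (.leaf 0xb31)) (.node 1 (.leaf 0xe9e) (.node 1 (.leaf 0xeaf) (.leaf 0xbf0)))) (.node 2 (.node 1 (.leaf 0x996) (.leaf 0xdf5)) (.node 1 (.leaf 0x8b7) (.node 1 (.leaf 0xb35) (.leaf 0x8df)))))) (.node 10 (.node 5 (.node 2 (.node 1 (.leaf 0xa9e) (.leaf 0x9ea)) (.node 1 (.leaf 0xaf2) (.node 1 (.leaf 0x9a9) (.leaf 0xcf7)))) (.node 2 (.node 1 (.leaf 0xd62) (.leaf 0xe56)) (.node 1 (.leaf 0x943) (.node 1 (.leaf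 0xa7f) (.leaf 0xc3b))))) (.node 5 (.node 2 (.node 1 (.leaf 0xcfc) (.leaf 0xb97)) (.node 1 (.leaf 0xb45) (.node 1 (.leaf 0xad3) (.leaf 0xa1b)))) (.node 2 (.node 1 (.leaf 0xa6d) (.leaf 0xba4)) (.node 1 (.leaf 0x8a2) (.node 1 (.leaf 0xb25) (.leaf 0x8bb)))))))) (.node 39 (.node 19 (.node 9 (.node 4 (.node 2 (.node 1 (.leaf 0xc6c) (.leaf 0x96d)) (.node 1 (.leaf 0xb93) (.leaf 0xd7a))) (.node 2 (.node 1 (.leaf 0xe64) (.leaf 0xeb4)) (.node 1 (.leaf 0xec5) (.node 1 (.leaf 0xb5e) (.leaf 0xa05))))) (.node 5 (.node 2 (.node 1 (.leaf 0xb3e) (.leaf 0xdab)) (.node 1 (.leaf 0xdb0) (.node 1 (.leaf 0xe6e) (.leaf 0xcb8)))) (.node 2 (.node 1 (.leaf 0xd32) (.leaf 0x923)) (.node 1 (.leaf 0xbed) (.node 1 (.leaf 0xca5) (.leaf 0x8d7)))))) (.node 10 (.node 5 (.node 2 (.node 1 (.leaf 0xc5c) (.leaf 0x9a2)) (.node 1 (.leaf 0xc7b) (.node 1 (.leaf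 0xc76) (.leaf 0xc26)))) (.node 2 (.node 1 (.leaf 0xe13) (.leaf 0xbb2)) (.node 1 (.leaf 0xc33) (.node 1 (.leaf 0xce4) (.leaf 0xd48))))) (.node 5 (.node 2 (.node 1 (.leaf 0xd2f) (.leaf 0xb8f)) (.node 1 (.leaf 0x9f7) (.node 1 (.leaf 0xbe2) (.leaf 0xe23)))) (.node 2 (.node 1 (.leaf 0xae8) (.leaf 0xe29)) (.node 1 (.leaf 0x9e5) (.node 1 (.leaf 0x942) (.leaf 0xc9b))))))) (.node 20 (.node 10 (.node 5 (.node 2 (.node 1 (.leaf 0xcce) (.leaf 0xba2)) (.node 1 (.leaf 0xc1b) (.node 1 (.leaf 0x9db) (.leaf 0xe4a)))) (.node 2 (.node 1 (.leaf 0xac2) (.leaf 0xaba)) (.node 1 (.leaf 0xbd8) (.node 1 (.leaf 0xdfc) (.leaf 0xce9))))) (.node 5 (.node 2 (.node 1 (.leaf 0xdfe) (.leaf 0xaea)) (.node 1 (.leaf 0xb19) (.node 1 (.leaf 0xb21) (.leaf 0xc10)))) (.node 2 (.node 1 (.leaf 0xae5) (.leaf 0xd53)) (.node 1 (.leaf 0xd02) (.node 1 (.leaf 0xe99)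 (.leaf 0xaab)))))) (.node 10 (.node 5 (.node 2 (.node 1 (.leaf 0xc31) (.leaf 0x9fc)) (.node 1 (.leaf 0xb00) (.node 1 (.leaf 0xa28) (.leaf 0xbd5)))) (.node 2 (.node 1 (.leaf 0xe33) (.leaf 0xa75)) (.node 1 (.leaf 0xcbe) (.node 1 (.leaf 0x9e1) (.leaf 0xdd0))))) (.node 5 (.node 2 (.node 1 (.leaf 0xd6d) (.leaf 0xbe5)) (.node 1 (.leaf 0x91f) (.node 1 (.leaf 0xa61) (.leaf 0x822)))) (.node 2 (.node 1 (.leaf 0xebb) (.leaf 0xe6f)) (.node 1 (.leaf 0x95b) (.node 1 (.leaf 0x830) (.leaf 0xa83)))))))))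

def det2Mask : ℕ := 0x3fffffffffffdff7ef7fffbdbbfbffffff3feffdb7fbfffff7fdf7fff7ffffafdfff7ffefefffefffef7f7fffffefffaffdffbffb7fefffffb7ffffffffffbee7ffdefffffbfffbeffffdff7fffffff7bfefbfefeffffff7f57fbff7fefffffffedfdbfedffffffffbffebff737fffffffffffbfffffdfbf9df7ddfdf7bedefefbfadffff7fffbfbfff7ffbffffff77fdfdffcffbfffffff9ffefff6ffffdf6f7ffbddf7fffffffffffdfbfcbfff5ffff79ffff7ffeff2ffff7ff77ffebfffffff6ffe7f7ffffff77fffbbefbfffffffdffefffffffffff7fefffbffffffff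

def uWords : List (List ℕ) := [[0], [5], [0, 1, 0, 2, 1, 0, 1, 3, 2, 1, 3, 2, 4, 3, 2, 1, 5, 1, 2, 3, 2, 1, 4, 3, 2, 1, 0, 1, 0, 3, 2, 1], [1, 0, 1, 2, 1, 5, 1, 0, 2, 1, 3, 2, 1, 0, 3, 4, 3, 2, 1, 0, 1, 3, 2, 3, 5, 1, 2, 3, 2, 1], [1, 0, 1, 0, 3, 4, 3, 5, 1, 2, 3, 2, 1, 0, 4, 3, 5, 1, 0, 1], [0, 1, 2, 1, 3, 2, 1, 0, 4, 5, 1, 2, 3, 2, 1, 0, 4, 5, 1, 2, 3, 2, 1], [1, 0, 5, 1, 0, 2, 3, 2, 1, 4, 3, 2, 3, 1, 2, 4, 3, 2, 1, 0, 1, 2, 3, 2, 3, 4, 3, 2, 1, 5, 1], [1, 3, 2, 1, 3, 2, 1, 4, 3, 2, 1, 3, 4, 2, 3, 2, 1, 0, 1, 3, 2, 3, 2, 4, 3, 2, 1, 0, 1, 3, 5], [1, 2, 1, 3, 2, 5, 1, 2, 3, 2, 4, 3, 2, 1, 0, 1, 2, 3, 2, 1, 3, 4, 3, 2, 5, 1, 0, 1, 0, 5, 1, 2], [1, 0, 1, 0, 2, 3, 2, 4, 3, 2, 1, 0, 1, 2, 3, 2, 1, 4, 3, 2, 1, 3, 2, 1, 3, 4, 3, 2, 1], [0, 1, 0, 1, 0, 2, 3, 2, 4, 3, 2, 1, 0, 1, 2, 3, 2, 1, 4, 3, 2, 1, 3, 2, 3, 4, 3, 2, 1],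 [1, 0, 5, 1, 3, 4, 3, 2, 1, 0, 1, 3, 2, 1, 3, 2, 1, 4, 3, 5, 1]]

def uRels : List (List ℕ × List (List ℕ)) := [([], []), ([], [[0]]), ([], [[0], [1]]), ([0, 1], [[0], [1], [2]]), ([0, 1], [[0], [1], [2], [0, 1, 3]]), ([], [[0], [1], [0, 1, 2], [0, 1, 3], [0, 1, 4]]), ([], [[0], [1], [2], [3], [4], [0, 5]]), ([0], [[0], [1], [2], [3], [1, 4], [0, 5], [6]]), ([], [[0], [1], [2], [0, 1, 3], [2, 4], [0, 3, 5], [6], [0, 7]]), ([0], [[0], [1], [2], [1, 3], [4], [5], [6], [0, 7], [0, 1, 2, 6, 8]]), ([], [[0], [1], [1, 2], [0, 3], [4], [5], [0, 1, 6], [0, 7], [7, 8], [0, 9]]), ([], [[0], [1], [2], [2, 3], [0, 1, 4], [0, 1, 4, 5], [6], [2, 6, 7], [2, 8], [0, 9], [0, 9, 10]])]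

def orbU0 : Tree := (.node 16 (.node 8 (.node 4 (.node 2 (.node 1 (.leaf 0x1d8) (.leaf 0x266)) (.node 1 (.leaf 0x800651) (.leaf 0xc0050a))) (.node 2 (.node 1 (.leaf 0x100019a) (.leaf 0x14005ac)) (.node 1 (.leaf 0x20000c5) (.leaf 0x24005a5)))) (.node 4 (.node 2 (.node 1 (.leaf 0x28006dc) (.leaf 0x800edd)) (.node 1 (.leaf 0xc00db3) (.leaf 0x1000934))) (.node 2 (.node 1 (.leaf 0x1400c4e) (.leaf 0x2000913)) (.node 1 (.leaf 0x2400e4f) (.leaf 0x2800ea3))))) (.node 8 (.node 4 (.node 2 (.node 1 (.leaf 0x1401116) (.leaf 0x28011d1)) (.node 1 (.leaf 0x1001b0c) (.leaf 0x2401882))) (.node 2 (.node 1 (.leaf 0xc02462) (.leaf 0x14025b5)) (.node 1 (.leaf 0x280251b) (.leaf 0x8028c9)))) (.node 4 (.node 2 (.node 1 (.leaf 0xc02a63) (.leaf 0x1002c5b)) (.node 1 (.leaf 0x240299d) (.leaf 0x1c038b4))) (.node 2 (.node 1 (.leaf 0x280393d) (.leaf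 0x240419f)) (.node 1 (.leaf 0x2805e50) (.leaf 0x2406138))))))

def orbU0Len : ℕ := 32

def orbU1 : Tree := (.node 16 (.node 8 (.node 4 (.node 2 (.node 1 (.leaf 0x385) (.leaf 0x2b1)) (.node 1 (.leaf 0xc0065b) (.leaf 0x1400264))) (.node 2 (.node 1 (.leaf 0x18006de) (.leaf 0x1c003dd)) (.node 1 (.leaf 0x2400659) (.leaf 0x28006f1)))) (.node 4 (.node 2 (.node 1 (.leaf 0x14009d2) (.leaf 0x1c00d26)) (.node 1 (.leaf 0x2400ea1) (.leaf 0x2800ee0))) (.node 2 (.node 1 (.leaf 0x1c01139) (.leaf 0x28012ae)) (.node 1 (.leaf 0x1c01db9) (.leaf 0x20018ca))))) (.node 8 (.node 4 (.node 2 (.node 1 (.leaf 0x2801d32) (.leaf 0x1c0219e)) (.node 1 (.leaf 0x2802384) (.leaf 0x1402c60))) (.node 2 (.node 1 (.leaf 0x28029a0) (.leaf 0x2c02917)) (.node 1 (.leaf 0x2803267) (.leaf 0x1c0393e)))) (.node 4 (.node 2 (.node 1 (.leaf 0x24039d9) (.leaf 0x2804655))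 (.node 1 (.leaf 0x28066a5) (.leaf 0x1c06daa))) (.node 2 (.node 1 (.leaf 0x2807265) (.leaf 0x2807d3a)) (.node 1 (.leaf 0x1c081d5) (.leaf 0x240a4e5))))))

def orbU1Len : ℕ := 32

def orbU2 : Tree := (.node 16 (.node 8 (.node 4 (.node 2 (.node 1 (.leaf 0x3e3) (.leaf 0x4002b0)) (.node 1 (.leaf 0x8006df) (.leaf 0xc00201))) (.node 2 (.node 1 (.leaf 0x1000206) (.leaf 0x1400197)) (.node 1 (.leaf 0x18006f4) (.leaf 0xc00960)))) (.node 4 (.node 2 (.node 1 (.leaf 0x1000aee) (.leaf 0x1400a51)) (.node 1 (.leaf 0xc011c2) (.leaf 0x10013c1))) (.node 2 (.node 1 (.leaf 0x14012af) (.leaf 0x100195b)) (.node 1 (.leaf 0x1401a95) (.leaf 0x1801930))))) (.node 8 (.node 4 (.node 2 (.node 1 (.leaf 0x2c01b66) (.leaf 0xc020e4)) (.node 1 (.leaf 0x14024cf) (.leaf 0x180229d))) (.node 2 (.node 1 (.leaf 0x802a83) (.leaf 0xc029c8)) (.node 1 (.leaf 0x1002b74)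 (.leaf 0x2002ab2)))) (.node 4 (.node 2 (.node 1 (.leaf 0x2c03a5b) (.leaf 0x2004a84)) (.node 1 (.leaf 0x14059b7) (.leaf 0x10061da))) (.node 2 (.node 1 (.leaf 0x1406ef5) (.leaf 0x10076ef)) (.node 1 (.leaf 0x14083ea) (.leaf 0x100bcf1))))))

def orbU2Len : ℕ := 32

def orbU3 : Tree := (.node 32 (.node 16 (.node 8 (.node 4 (.node 2 (.node 1 (.leaf 0x1a5) (.leaf 0x1a4)) (.node 1 (.leaf 0x40011a) (.leaf 0xc003be))) (.node 2 (.node 1 (.leaf 0x10004c6) (.leaf 0x14002bf)) (.node 1 (.leaf 0x1c00355) (.leaf 0x24003ed)))) (.node 4 (.node 2 (.node 1 (.leaf 0x28003ec) (.leaf 0x2c001a3)) (.node 1 (.leaf 0xc00ba3) (.leaf 0x1000b56))) (.node 2 (.node 1 (.leaf 0x1400ab7) (.leaf 0x1c00a42)) (.node 1 (.leaf 0x2400d47) (.leaf 0x2800aba))))) (.node 8 (.node 4 (.node 2 (.node 1 (.leaf 0xc013a2) (.leaf 0x14011e1)) (.node 1 (.leaf 0x24012b9) (.leaf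 0x28012b8))) (.node 2 (.node 1 (.leaf 0x1401c5c) (.leaf 0x1c01beb)) (.node 1 (.leaf 0x2801c4f) (.leaf 0x14025a9)))) (.node 4 (.node 2 (.node 1 (.leaf 0x2802294) (.leaf 0xc02c5a)) (.node 1 (.leaf 0x1002dab) (.leaf 0x2402bc6))) (.node 2 (.node 1 (.leaf 0x2802e56) (.leaf 0x1403450)) (.node 1 (.leaf 0x240327a) (.leaf 0x280328d)))))) (.node 16 (.node 8 (.node 4 (.node 2 (.node 1 (.leaf 0x2803a52) (.leaf 0xc044d0)) (.node 1 (.leaf 0x1c041bf) (.leaf 0x2004190))) (.node 2 (.node 1 (.leaf 0x2404250) (.leaf 0x1404abd)) (.node 1 (.leaf 0x28049de) (.leaf 0x14055b4)))) (.node 4 (.node 2 (.node 1 (.leaf 0x1405c4d) (.leaf 0x2805a96)) (.node 1 (.leaf 0xc0636a) (.leaf 0x2406521))) (.node 2 (.node 1 (.leaf 0x2806522) (.leaf 0x2007a4a)) (.node 1 (.leaf 0x28082fc) (.leaf 0x2408d23))))) (.node 8 (.node 4 (.node 2 (.node 1 (.leaf 0x2808ed9)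 (.leaf 0xc09b64)) (.node 1 (.leaf 0x280a528) (.leaf 0x140ae45))) (.node 2 (.node 1 (.leaf 0x280bdb6) (.leaf 0x280cced)) (.node 1 (.leaf 0x280d53b) (.leaf 0x280dbf6)))) (.node 4 (.node 2 (.node 1 (.leaf 0x80e657) (.leaf 0xc0e63b)) (.node 1 (.leaf 0x1c0e4d2) (.leaf 0x240e3ac))) (.node 2 (.node 1 (.leaf 0x1410e38) (.leaf 0x1411abe)) (.node 1 (.leaf 0x2814625) (.leaf 0x1416bf4)))))))

def orbU3Len : ℕ := 64

def orbU4 : Tree := (.node 128 (.node 64 (.node 32 (.node 16 (.node 8 (.node 4 (.node 2 (.node 1 (.leaf 0x1d7) (.leaf 0x1b6)) (.node 1 (.leaf 0x40013b) (.leaf 0x8001ac))) (.node 2 (.node 1 (.leaf 0xc00052) (.leaf 0x100053e)) (.node 1 (.leaf 0x1800517) (.leaf 0x1c006e1)))) (.node 4 (.node 2 (.node 1 (.leaf 0x200025a) (.leaf 0x2400530)) (.node 1 (.leaf 0x280052f) (.leaf 0x2c003e2))) (.node 2 (.node 1 (.leaf 0x4009d6) (.leaf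 0x80092d)) (.node 1 (.leaf 0xc00851) (.leaf 0x1000cea))))) (.node 8 (.node 4 (.node 2 (.node 1 (.leaf 0x1800da1) (.leaf 0x1c00e5e)) (.node 1 (.leaf 0x2000a5c) (.leaf 0x2400e5a))) (.node 2 (.node 1 (.leaf 0x2800bd0) (.leaf 0x2c00d40)) (.node 1 (.leaf 0x8011c7) (.leaf 0xc0102f)))) (.node 4 (.node 2 (.node 1 (.leaf 0x10013e0) (.leaf 0x18013ba)) (.node 1 (.leaf 0x1c016e2) (.leaf 0x2001240))) (.node 2 (.node 1 (.leaf 0x2c0153f) (.leaf 0x10019c5)) (.node 1 (.leaf 0x1801d33) (.leaf 0x1c018ea)))))) (.node 16 (.node 8 (.node 4 (.node 2 (.node 1 (.leaf 0x2001ce6) (.leaf 0x240184c)) (.node 1 (.leaf 0x2c01b0d) (.leaf 0x1002449))) (.node 2 (.node 1 (.leaf 0x18024ec) (.leaf 0x1c02079)) (.node 1 (.leaf 0x20024e1) (.leaf 0x2c0227e)))) (.node 4 (.node 2 (.node 1 (.leaf 0xc02af9) (.leaf 0x180287f)) (.node 1 (.leaf 0x1c02ceb) (.leaf 0x20028ef)))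 (.node 2 (.node 1 (.leaf 0x2402912) (.leaf 0x280298c)) (.node 1 (.leaf 0x2c02b8c) (.leaf 0x14034d5))))) (.node 8 (.node 4 (.node 2 (.node 1 (.leaf 0x1c0343c) (.leaf 0x2003135)) (.node 1 (.leaf 0x2403165) (.leaf 0x2c03502))) (.node 2 (.node 1 (.leaf 0x1003cc9) (.leaf 0x1403ed3)) (.node 1 (.leaf 0x200390f) (.leaf 0x2403915)))) (.node 4 (.node 2 (.node 1 (.leaf 0x2803914) (.leaf 0x2c03ea4)) (.node 1 (.leaf 0xc044df) (.leaf 0x1004635))) (.node 2 (.node 1 (.leaf 0x1c04188) (.leaf 0x240416c)) (.node 1 (.leaf 0x2804218) (.leaf 0x2c0462f))))))) (.node 32 (.node 16 (.node 8 (.node 4 (.node 2 (.node 1 (.leaf 0x1c0490b) (.leaf 0x20048b2)) (.node 1 (.leaf 0x2c04c5f) (.leaf 0xc051c9))) (.node 2 (.node 1 (.leaf 0x18050e7) (.leaf 0x1c050b3)) (.node 1 (.leaf 0x20050ac) (.leaf 0x2c05461)))) (.node 4 (.node 2 (.node 1 (.leaf 0x1005cca)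 (.leaf 0x1405cf3)) (.node 1 (.leaf 0x1c05b88) (.leaf 0x2005a0a))) (.node 2 (.node 1 (.leaf 0x2405b0b) (.leaf 0x100653c)) (.node 1 (.leaf 0x2006194) (.leaf 0x2c063f5))))) (.node 8 (.node 4 (.node 2 (.node 1 (.leaf 0x1006a78) (.leaf 0x1806bd6)) (.node 1 (.leaf 0x1c068e9) (.leaf 0x2006b7f))) (.node 2 (.node 1 (.leaf 0x2c06b67) (.leaf 0x100744a)) (.node 1 (.leaf 0x1c0704f) (.leaf 0x20075ba)))) (.node 4 (.node 2 (.node 1 (.leaf 0x2c071ae) (.leaf 0x1807880)) (.node 1 (.leaf 0x1c07b82) (.leaf 0x20078f0))) (.node 2 (.node 1 (.leaf 0x240799b) (.leaf 0x280799c)) (.node 1 (.leaf 0x2c07cf2) (.leaf 0x20080c4)))))) (.node 16 (.node 8 (.node 4 (.node 2 (.node 1 (.leaf 0x2408166) (.leaf 0x2c0839e)) (.node 1 (.leaf 0x2c08ef0) (.leaf 0xc09379))) (.node 2 (.node 1 (.leaf 0x10096a6) (.leaf 0x240916d)) (.node 1 (.leaf 0x2809216) (.leaf 0x2c094d9))))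 (.node 4 (.node 2 (.node 1 (.leaf 0x20098b1) (.leaf 0x180a15a)) (.node 1 (.leaf 0x200a073) (.leaf 0x2c0a30e))) (.node 2 (.node 1 (.leaf 0x1c0ab8d) (.leaf 0x200aaed)) (.node 1 (.leaf 0x100b29e) (.leaf 0x180b3d5))))) (.node 8 (.node 4 (.node 2 (.node 1 (.leaf 0x1c0b095) (.leaf 0x200b4e8)) (.node 1 (.leaf 0x2c0b217) (.leaf 0x2c0bbaa))) (.node 2 (.node 1 (.leaf 0x200c0e2) (.leaf 0x200c922)) (.node 1 (.leaf 0x2c0cd19) (.leaf 0x200d198)))) (.node 4 (.node 2 (.node 1 (.leaf 0x2c0d653) (.leaf 0x100dce0)) (.node 1 (.leaf 0x1c0d996) (.leaf 0x240d95e))) (.node 2 (.node 1 (.leaf 0x280d96a) (.leaf 0x2c0de67)) (.node 1 (.leaf 0x1c0e38b) (.leaf 0x200e2fd)))))))) (.node 64 (.node 32 (.node 16 (.node 8 (.node 4 (.node 2 (.node 1 (.leaf 0x2c0e92a) (.leaf 0x200f0b0)) (.node 1 (.leaf 0x2c0f507) (.leaf 0x200f9b4))) (.node 2 (.node 1 (.leaf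 0x2c0fb8a) (.leaf 0x1c101d4)) (.node 1 (.leaf 0x24102ac) (.leaf 0x2810133)))) (.node 4 (.node 2 (.node 1 (.leaf 0x2c10a7f) (.leaf 0x10111c1)) (.node 1 (.leaf 0x14111bb) (.leaf 0x1c11141))) (.node 2 (.node 1 (.leaf 0x2011a5f) (.leaf 0x2c11943)) (.node 1 (.leaf 0x2c1263a) (.leaf 0x20129d0))))) (.node 8 (.node 4 (.node 2 (.node 1 (.leaf 0x24128df) (.leaf 0x2c12b51)) (.node 1 (.leaf 0x1013256) (.leaf 0x1c131b1))) (.node 2 (.node 1 (.leaf 0x28131d3) (.leaf 0x2c13131)) (.node 1 (.leaf 0xc13a4e) (.leaf 0x10138cd)))) (.node 4 (.node 2 (.node 1 (.leaf 0x1413944) (.leaf 0x1c139c3)) (.node 1 (.leaf 0x2013d3d) (.leaf 0x20144e7))) (.node 2 (.node 1 (.leaf 0x2c14cbf) (.leaf 0x20150ed)) (.node 1 (.leaf 0x2c153cb) (.leaf 0x1015ce9)))))) (.node 16 (.node 8 (.node 4 (.node 2 (.node 1 (.leaf 0x2815910) (.leaf 0x2c158c8)) (.node 1 (.leaf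 0xc1629c) (.leaf 0x2016308))) (.node 2 (.node 1 (.leaf 0x1c16aa2) (.leaf 0x20173bb)) (.node 1 (.leaf 0x2017937) (.leaf 0x2c17d03)))) (.node 4 (.node 2 (.node 1 (.leaf 0x2018380) (.leaf 0x2c18b73)) (.node 1 (.leaf 0x20192ad) (.leaf 0x2c19292))) (.node 2 (.node 1 (.leaf 0xc19bc0) (.leaf 0x1019cbe)) (.node 1 (.leaf 0x20198c7) (.leaf 0x2419bb9))))) (.node 8 (.node 4 (.node 2 (.node 1 (.leaf 0x2c1a529) (.leaf 0x2c1aea0)) (.node 1 (.leaf 0xc1b1ce) (.leaf 0x101b1cf))) (.node 2 (.node 1 (.leaf 0x241b098) (.leaf 0x2c1b2ab)) (.node 1 (.leaf 0x2c1bd1f) (.leaf 0x2c1c6a2)))) (.node 4 (.node 2 (.node 1 (.leaf 0xc1cda6) (.leaf 0x101cd27)) (.node 1 (.leaf 0x1c1cbcc) (.leaf 0x201c8b8))) (.node 2 (.node 1 (.leaf 0x241cda4) (.leaf 0x2c1d11e)) (.node 1 (.leaf 0x1c1da82) (.leaf 0x2c1e3df))))))) (.node 32 (.node 16 (.node 8 (.node 4 (.node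 2 (.node 1 (.leaf 0x2c1e999) (.leaf 0x241f307)) (.node 1 (.leaf 0x2c1f630) (.leaf 0xc1faaa))) (.node 2 (.node 1 (.leaf 0x101fb70) (.leaf 0x141fb83)) (.node 1 (.leaf 0x1c1fb81) (.leaf 0x241fa60)))) (.node 4 (.node 2 (.node 1 (.leaf 0x281fa61) (.leaf 0x2020204)) (.node 1 (.leaf 0x2420911) (.leaf 0x142126b))) (.node 2 (.node 1 (.leaf 0x2423107) (.leaf 0x2024a8e)) (.node 1 (.leaf 0x202509a) (.leaf 0x10258c6))))) (.node 8 (.node 4 (.node 2 (.node 1 (.leaf 0x142589b) (.leaf 0x2425848)) (.node 1 (.leaf 0x2825892) (.leaf 0x20260c0))) (.node 2 (.node 1 (.leaf 0x1027634) (.leaf 0x2c27548)) (.node 1 (.leaf 0x2027afb) (.leaf 0x2c29431)))) (.node 4 (.node 2 (.node 1 (.leaf 0x202ab7e) (.leaf 0x102ba14)) (.node 1 (.leaf 0x282b936) (.leaf 0x2c2b92f))) (.node 2 (.node 1 (.leaf 0x202c3e1) (.leaf 0x2c2cd8e)) (.node 1 (.leaf 0x2c2d8bc) (.leaf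 0x202f457)))))) (.node 16 (.node 8 (.node 4 (.node 2 (.node 1 (.leaf 0x2c2fb75) (.leaf 0xc30bc2)) (.node 1 (.leaf 0x203093a) (.leaf 0x203107d))) (.node 2 (.node 1 (.leaf 0x2c336d2) (.leaf 0xc33bde)) (.node 1 (.leaf 0x1433b59) (.leaf 0x1036881)))) (.node 4 (.node 2 (.node 1 (.leaf 0x2436870) (.leaf 0x2836863)) (.node 1 (.leaf 0x2c37bca) (.leaf 0x2c3826a))) (.node 2 (.node 1 (.leaf 0x2c3ab4f) (.leaf 0x203b13c)) (.node 1 (.leaf 0x2c3b9cd) (.leaf 0x1c3c29a))))) (.node 8 (.node 4 (.node 2 (.node 1 (.leaf 0x203c0c2) (.leaf 0x2c3d2a9)) (.node 1 (.leaf 0x2c3da62) (.leaf 0x2c3e553))) (.node 2 (.node 1 (.leaf 0x243ea45) (.leaf 0x243f875)) (.node 1 (.leaf 0x2c43a00) (.leaf 0x2c47a0c)))) (.node 4 (.node 2 (.node 1 (.leaf 0x2c48389) (.leaf 0x2c49a0d)) (.node 1 (.leaf 0x2c50126) (.leaf 0x24528c3))) (.node 2 (.node 1 (.leaf 0x2c53258)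 (.leaf 0x2c59163)) (.node 1 (.leaf 0xc5ae77) (.leaf 0x105a874)))))))))

def orbU4Len : ℕ := 256

def orbV0 : Tree := (.leaf 0x1)

def orbV0Len : ℕ := 1

def orbV1 : Tree := (.node 2 (.node 1 (.leaf 0x648) (.leaf 0x14006db)) (.node 1 (.leaf 0x28006d6) (.leaf 0x2800ef3)))

def orbV1Len : ℕ := 4

def orbV2 : Tree := (.node 8 (.node 4 (.node 2 (.node 1 (.leaf 0x10) (.leaf 0x800104)) (.node 1 (.leaf 0xc00044) (.leaf 0x2000103))) (.node 2 (.node 1 (.leaf 0x240001e) (.leaf 0x2c006ed)) (.node 1 (.leaf 0x2000833) (.leaf 0x2c00eee)))) (.node 4 (.node 2 (.node 1 (.leaf 0x2001056) (.leaf 0x2c0169a)) (.node 1 (.leaf 0x28018a8) (.leaf 0x2c01834))) (.node 2 (.node 1 (.leaf 0x2c026da) (.leaf 0x200286d)) (.node 1 (.leaf 0x2c040a9) (.leaf 0x200481d)))))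

def orbV2Len : ℕ := 16

def orbV3 : Tree := (.node 32 (.node 16 (.node 8 (.node 4 (.node 2 (.node 1 (.leaf 0xb5) (.leaf 0x118)) (.node 1 (.leaf 0x400119) (.leaf 0x8001a2))) (.node 2 (.node 1 (.leaf 0xc00549) (.leaf 0x10003b7)) (.node 1 (.leaf 0x14005a8) (.leaf 0x1c004b0)))) (.node 4 (.node 2 (.node 1 (.leaf 0x20001bc) (.leaf 0x24002c1)) (.node 1 (.leaf 0x28002c0) (.leaf 0x2c003f7))) (.node 2 (.node 1 (.leaf 0xc00bf9) (.leaf 0x1000a90)) (.node 1 (.leaf 0x1400c4c) (.leaf 0x1c00cb8))))) (.node 8 (.node 4 (.node 2 (.node 1 (.leaf 0x2000a8a) (.leaf 0x28009e2)) (.node 1 (.leaf 0x1401666) (.leaf 0x1c01361))) (.node 2 (.node 1 (.leaf 0x28013ee) (.leaf 0x1401d46)) (.node 1 (.leaf 0x1c01b4c) (.leaf 0x2801ac2)))) (.node 4 (.node 2 (.node 1 (.leaf 0x1402592) (.leaf 0x2802249)) (.node 1 (.leaf 0x1402ed8) (.leaf 0x2802ccd))) (.node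 2 (.node 1 (.leaf 0xc035ae) (.leaf 0x1003654)) (.node 1 (.leaf 0x1c03542) (.leaf 0x20032b6)))))) (.node 16 (.node 8 (.node 4 (.node 2 (.node 1 (.leaf 0x28034c0) (.leaf 0x1403be6)) (.node 1 (.leaf 0x2803a8c) (.leaf 0x280424c))) (.node 2 (.node 1 (.leaf 0x280490c) (.leaf 0xc0518f)) (.node 1 (.leaf 0x1c051be) (.leaf 0x240518d)))) (.node 4 (.node 2 (.node 1 (.leaf 0x1405cf0) (.leaf 0x1406459)) (.node 1 (.leaf 0x1406e44) (.leaf 0x2806b63))) (.node 2 (.node 1 (.leaf 0x100769e) (.leaf 0x20073e8)) (.node 1 (.leaf 0x2807453) (.leaf 0x280835e))))) (.node 8 (.node 4 (.node 2 (.node 1 (.leaf 0x2809458) (.leaf 0x28099b9)) (.node 1 (.leaf 0x1c0a128) (.leaf 0x280ab06))) (.node 2 (.node 1 (.leaf 0x280c445) (.leaf 0x280d3e5)) (.node 1 (.leaf 0x280e44b) (.leaf 0x280e9dd)))) (.node 4 (.node 2 (.node 1 (.leaf 0x280f504) (.leaf 0x280fda0))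 (.node 1 (.leaf 0xc102fa) (.leaf 0x1c10643))) (.node 2 (.node 1 (.leaf 0x2c102b5) (.leaf 0x1412d9e)) (.node 1 (.leaf 0x28152b4) (.leaf 0x2816d20)))))))

def orbV3Len : ℕ := 64

def orbV4 : Tree := (.node 128 (.node 64 (.node 32 (.node 16 (.node 8 (.node 4 (.node 2 (.node 1 (.leaf 0x19) (.leaf 0x2c)) (.node 1 (.leaf 0x40002e) (.leaf 0x800358))) (.node 2 (.node 1 (.leaf 0xc0018a) (.leaf 0x1000078)) (.node 1 (.leaf 0x140004e) (.leaf 0x1800518)))) (.node 4 (.node 2 (.node 1 (.leaf 0x2000341) (.leaf 0x240011c)) (.node 1 (.leaf 0x2c003b6) (.leaf 0x40084b))) (.node 2 (.node 1 (.leaf 0x800cc8) (.leaf 0xc00908)) (.node 1 (.leaf 0x1800d2e) (.leaf 0x2000a37))))) (.node 8 (.node 4 (.node 2 (.node 1 (.leaf 0x24008be) (.leaf 0x2c00a8f)) (.node 1 (.leaf 0x80142c) (.leaf 0xc0118b))) (.node 2 (.node 1 (.leaf 0x100104a) (.leaf 0x140102d))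 (.node 1 (.leaf 0x180163f) (.leaf 0x2001281)))) (.node 4 (.node 2 (.node 1 (.leaf 0x24011ab) (.leaf 0x2c01516)) (.node 1 (.leaf 0xc018de) (.leaf 0x1001d38))) (.node 2 (.node 1 (.leaf 0x1401e39) (.leaf 0x18018e6)) (.node 1 (.leaf 0x20018ab) (.leaf 0x2401bd4)))))) (.node 16 (.node 8 (.node 4 (.node 2 (.node 1 (.leaf 0x2801d1a) (.leaf 0x2c01b0a)) (.node 1 (.leaf 0x10024fa) (.leaf 0x1802208))) (.node 2 (.node 1 (.leaf 0x2002105) (.leaf 0x240265c)) (.node 1 (.leaf 0x2c02642) (.leaf 0x180290a)))) (.node 4 (.node 2 (.node 1 (.leaf 0x2002e93) (.leaf 0x2c028cb)) (.node 1 (.leaf 0xc033bd) (.leaf 0x18030db))) (.node 2 (.node 1 (.leaf 0x2003632) (.leaf 0x2403094)) (.node 1 (.leaf 0x2c03083) (.leaf 0x20038e0))))) (.node 8 (.node 4 (.node 2 (.node 1 (.leaf 0x2403984) (.leaf 0x28039b5)) (.node 1 (.leaf 0x2c03c56) (.leaf 0xc0410e)))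 (.node 2 (.node 1 (.leaf 0x10040eb) (.leaf 0x140410d)) (.node 1 (.leaf 0x24044e3) (.leaf 0x28044e2)))) (.node 4 (.node 2 (.node 1 (.leaf 0x2c0434e) (.leaf 0xc04e41)) (.node 1 (.leaf 0x20048b9) (.leaf 0x2c049bd))) (.node 2 (.node 1 (.leaf 0xc050bd) (.leaf 0x10050cc)) (.node 1 (.leaf 0x1c052e6) (.leaf 0x20056d1))))))) (.node 32 (.node 16 (.node 8 (.node 4 (.node 2 (.node 1 (.leaf 0x240528b) (.leaf 0x805ccc)) (.node 1 (.leaf 0xc05954) (.leaf 0x1805e4e))) (.node 2 (.node 1 (.leaf 0x20059b0) (.leaf 0x240592c)) (.node 1 (.leaf 0x2c05bbc) (.leaf 0x1806159)))) (.node 4 (.node 2 (.node 1 (.leaf 0x2006072) (.leaf 0x2c0645e)) (.node 1 (.leaf 0x1806aeb) (.leaf 0x20068ae))) (.node 2 (.node 1 (.leaf 0x2c06d9d) (.leaf 0x2007096)) (.node 1 (.leaf 0x2407239) (.leaf 0x2807125))))) (.node 8 (.node 4 (.node 2 (.node 1 (.leaf 0x2c073c9) (.leaf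 0xc07987)) (.node 1 (.leaf 0x100795c) (.leaf 0x1407986))) (.node 2 (.node 1 (.leaf 0x2407e36) (.leaf 0x2807b7c)) (.node 1 (.leaf 0x2c07a57) (.leaf 0x2008120)))) (.node 4 (.node 2 (.node 1 (.leaf 0xc08927) (.leaf 0x1008940)) (.node 1 (.leaf 0x1c08c2e) (.leaf 0x2008e68))) (.node 2 (.node 1 (.leaf 0xc0908f) (.leaf 0x1809093)) (.node 1 (.leaf 0x200906e) (.leaf 0x2c093e9)))))) (.node 16 (.node 8 (.node 4 (.node 2 (.node 1 (.leaf 0x1809af8) (.leaf 0x2c09da2)) (.node 1 (.leaf 0x180a109) (.leaf 0x200a6c8))) (.node 2 (.node 1 (.leaf 0x180a8ad) (.leaf 0x200aed4)) (.node 1 (.leaf 0x240a860) (.leaf 0x200b15d)))) (.node 4 (.node 2 (.node 1 (.leaf 0x2c0b505) (.leaf 0x100b969)) (.node 1 (.leaf 0x140b993) (.leaf 0x240be37))) (.node 2 (.node 1 (.leaf 0x280bcb9) (.leaf 0x2c0ba3e)) (.node 1 (.leaf 0x200c0fe) (.leaf 0x2c0c291))))) (.node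 8 (.node 4 (.node 2 (.node 1 (.leaf 0xc0c929) (.leaf 0x1c0c9fa)) (.node 1 (.leaf 0x200ce2e) (.leaf 0x240cbb8))) (.node 2 (.node 1 (.leaf 0x180d6eb) (.leaf 0x180d92b)) (.node 1 (.leaf 0x2c0dda3) (.leaf 0x180e1c4)))) (.node 4 (.node 2 (.node 1 (.leaf 0x2c0e69b) (.leaf 0x140ea77)) (.node 1 (.leaf 0x200ee33) (.leaf 0x240ec47))) (.node 2 (.node 1 (.leaf 0x280ecd4) (.leaf 0x2c0eb5f)) (.node 1 (.leaf 0x240f106) (.leaf 0x200fa3f)))))))) (.node 64 (.node 32 (.node 16 (.node 8 (.node 4 (.node 2 (.node 1 (.leaf 0x2c0fc54) (.leaf 0x18102f7)) (.node 1 (.leaf 0x2c10309) (.leaf 0x1010ed7))) (.node 2 (.node 1 (.leaf 0x1c10c33) (.leaf 0x2410b03)) (.node 1 (.leaf 0x2810d45) (.leaf 0x181136e)))) (.node 4 (.node 2 (.node 1 (.leaf 0x2c11215) (.leaf 0x2011982)) (.node 1 (.leaf 0x24119aa) (.leaf 0x2c11c2f))) (.node 2 (.node 1 (.leaf 0x1012181)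 (.leaf 0x2412090)) (.node 1 (.leaf 0x2812046) (.leaf 0x2c126c2))))) (.node 8 (.node 4 (.node 2 (.node 1 (.leaf 0x2c12e9f) (.leaf 0x1c135ff)) (.node 1 (.leaf 0x2013305) (.leaf 0x20138e1))) (.node 2 (.node 1 (.leaf 0x2813ee8) (.leaf 0x24141b3)) (.node 1 (.leaf 0x2c14091) (.leaf 0x1c14a4d)))) (.node 4 (.node 2 (.node 1 (.leaf 0x2014aa7) (.leaf 0x2015897)) (.node 1 (.leaf 0x2415ef2) (.leaf 0x2815ee3))) (.node 2 (.node 1 (.leaf 0x2c15ae8) (.leaf 0x2416121)) (.node 1 (.leaf 0x2c16062) (.leaf 0x20173da)))))) (.node 16 (.node 8 (.node 4 (.node 2 (.node 1 (.leaf 0x10179af) (.leaf 0x2817968)) (.node 1 (.leaf 0x2c178bb) (.leaf 0x2018071))) (.node 2 (.node 1 (.leaf 0x2c18d25) (.leaf 0xc194ef)) (.node 1 (.leaf 0x1019269) (.leaf 0x14193a4)))) (.node 4 (.node 2 (.node 1 (.leaf 0x2019161) (.leaf 0x2419506)) (.node 1 (.leaf 0x2c19e78)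 (.leaf 0x241a191))) (.node 2 (.node 1 (.leaf 0x2c1abdb) (.leaf 0xc1b061)) (.node 1 (.leaf 0x281b236) (.leaf 0x2c1b0bf))))) (.node 8 (.node 4 (.node 2 (.node 1 (.leaf 0x181ba55) (.leaf 0x241b97e)) (.node 1 (.leaf 0x2c1bb6f) (.leaf 0xc1c254))) (.node 2 (.node 1 (.leaf 0x101c39c) (.leaf 0x1c1c04d)) (.node 1 (.leaf 0x241c11d) (.leaf 0x281c07c)))) (.node 4 (.node 2 (.node 1 (.leaf 0x201ca03) (.leaf 0x241d4dd)) (.node 1 (.leaf 0x2c1d047) (.leaf 0x101d9ba))) (.node 2 (.node 1 (.leaf 0x1c1dd8c) (.leaf 0x201dcfe)) (.node 1 (.leaf 0x1c1e39b) (.leaf 0x1c1ea48))))))) (.node 32 (.node 16 (.node 8 (.node 4 (.node 2 (.node 1 (.leaf 0x141f2e4) (.leaf 0x201f244)) (.node 1 (.leaf 0x101f83c) (.leaf 0x1c1fb57))) (.node 2 (.node 1 (.leaf 0x241f989) (.leaf 0x2020539)) (.node 1 (.leaf 0x18208dd) (.leaf 0x182143b)))) (.node 4 (.node 2 (.node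 1 (.leaf 0x2c21448) (.leaf 0x20218ec)) (.node 1 (.leaf 0x2422617) (.leaf 0x28224e4))) (.node 2 (.node 1 (.leaf 0x2c22192) (.leaf 0x2023555)) (.node 1 (.leaf 0x2023e15) (.leaf 0x24240af))))) (.node 8 (.node 4 (.node 2 (.node 1 (.leaf 0x2025238) (.leaf 0x2c25e73)) (.node 1 (.leaf 0x102691f) (.leaf 0x2c26924))) (.node 2 (.node 1 (.leaf 0x20270aa) (.leaf 0x2c27db2)) (.node 1 (.leaf 0xc28387) (.leaf 0x1028386)))) (.node 4 (.node 2 (.node 1 (.leaf 0x20281fe) (.leaf 0x2c28eec)) (.node 1 (.leaf 0x2c29d37) (.leaf 0x182aa13))) (.node 2 (.node 1 (.leaf 0xc2b212) (.leaf 0x102b3dc)) (.node 1 (.leaf 0x1c2b077) (.leaf 0x282b0b7)))))) (.node 16 (.node 8 (.node 4 (.node 2 (.node 1 (.leaf 0x242bd8d) (.leaf 0x2c2b86f)) (.node 1 (.leaf 0x1c2c362) (.leaf 0x1c2c98e))) (.node 2 (.node 1 (.leaf 0x102d85f) (.leaf 0x242da43)) (.node 1 (.leaf 0x2c302e5)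 (.leaf 0x2c33902)))) (.node 4 (.node 2 (.node 1 (.leaf 0xc34591) (.leaf 0x2034209)) (.node 1 (.leaf 0x2c3587b) (.leaf 0x24368b6))) (.node 2 (.node 1 (.leaf 0x2c3702a) (.leaf 0x1c37c2d)) (.node 1 (.leaf 0x1c38275) (.leaf 0x2038ae3))))) (.node 8 (.node 4 (.node 2 (.node 1 (.leaf 0x1c3935a) (.leaf 0x24391f9)) (.node 1 (.leaf 0x1c41434) (.leaf 0x2c43a4b))) (.node 2 (.node 1 (.leaf 0x2044045) (.leaf 0x2c44958)) (.node 1 (.leaf 0x2045901) (.leaf 0x1c47a46)))) (.node 4 (.node 2 (.node 1 (.leaf 0x2c4a962) (.leaf 0x244b1ff)) (.node 1 (.leaf 0x244c0ba) (.leaf 0x284f2ec))) (.node 2 (.node 1 (.leaf 0x244f87a) (.leaf 0x14540e5)) (.node 1 (.leaf 0x2c580a7) (.leaf 0x1c5a183)))))))))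

def orbV4Len : ℕ := 256

def orbV5_0 : Tree := (.node 128 (.node 64 (.node 32 (.node 16 (.node 8 (.node 4 (.node 2 (.node 1 (.leaf 0x2) (.leaf 0x3)) (.node 1 (.leaf 0x400005) (.leaf 0x80064d))) (.node 2 (.node 1 (.leaf 0xc006ad) (.leaf 0x1000223)) (.node 1 (.leaf 0x14005bb) (.leaf 0x18003b0)))) (.node 4 (.node 2 (.node 1 (.leaf 0x1c0026c) (.leaf 0x200035c)) (.node 1 (.leaf 0x2400439) (.leaf 0x280064b))) (.node 2 (.node 1 (.leaf 0x2c00205) (.leaf 0x400806)) (.node 1 (.leaf 0x800d31) (.leaf 0xc00ddf))))) (.node 8 (.node 4 (.node 2 (.node 1 (.leaf 0x10009f0) (.leaf 0x1400c63)) (.node 1 (.leaf 0x1800d0c) (.leaf 0x1c00b8e))) (.node 2 (.node 1 (.leaf 0x2000ad9) (.leaf 0x2400d15)) (.node 1 (.leaf 0x2800d97) (.leaf 0x2c009e9)))) (.node 4 (.node 2 (.node 1 (.leaf 0x801512) (.leaf 0xc015f4)) (.node 1 (.leaf 0x1001231) (.leaf 0x140161d)))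 (.node 2 (.node 1 (.leaf 0x1801511) (.leaf 0x1c01360)) (.node 1 (.leaf 0x200141a) (.leaf 0x2401598)))))) (.node 16 (.node 8 (.node 4 (.node 2 (.node 1 (.leaf 0x280163e) (.leaf 0x2c011ee)) (.node 1 (.leaf 0xc01c11) (.leaf 0x1001d2c))) (.node 2 (.node 1 (.leaf 0x14018c1) (.leaf 0x1801cf5)) (.node 1 (.leaf 0x2401ab3) (.leaf 0x28019e5)))) (.node 4 (.node 2 (.node 1 (.leaf 0x2c01c29) (.leaf 0x100268c)) (.node 1 (.leaf 0x14025fd) (.leaf 0x18022a8))) (.node 2 (.node 1 (.leaf 0x1c0214a) (.leaf 0x20021ed)) (.node 1 (.leaf 0x2402233) (.leaf 0x28022d2))))) (.node 8 (.node 4 (.node 2 (.node 1 (.leaf 0x2c025b0) (.leaf 0xc02d7a)) (.node 1 (.leaf 0x1402e23) (.leaf 0x1802d86))) (.node 2 (.node 1 (.leaf 0x1c02ec1) (.leaf 0x2002ec6)) (.node 1 (.leaf 0x2402c80) (.leaf 0x2802d68)))) (.node 4 (.node 2 (.node 1 (.leaf 0x2c02830) (.leaf 0x803067))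 (.node 1 (.leaf 0xc035cf) (.leaf 0x10035d6))) (.node 2 (.node 1 (.leaf 0x1803416) (.leaf 0x1c03629)) (.node 1 (.leaf 0x2003066) (.leaf 0x2403354))))))) (.node 32 (.node 16 (.node 8 (.node 4 (.node 2 (.node 1 (.leaf 0x2803621) (.leaf 0x2c03369)) (.node 1 (.leaf 0x1403d76) (.leaf 0x1c03ad8))) (.node 2 (.node 1 (.leaf 0x200381a) (.leaf 0x24039e3)) (.node 1 (.leaf 0x28038ce) (.leaf 0x2c03a9b)))) (.node 4 (.node 2 (.node 1 (.leaf 0x10046c5) (.leaf 0x14046cf)) (.node 1 (.leaf 0x240401b) (.leaf 0x2804012))) (.node 2 (.node 1 (.leaf 0x2c04222) (.leaf 0xc04c08)) (.node 1 (.leaf 0x1004eac) (.leaf 0x1404b43))))) (.node 8 (.node 4 (.node 2 (.node 1 (.leaf 0x2404a1c) (.leaf 0x2804a07)) (.node 1 (.leaf 0x2c04e87) (.leaf 0xc05310))) (.node 2 (.node 1 (.leaf 0x1c05021) (.leaf 0x200521f)) (.node 1 (.leaf 0x2805004) (.leaf 0x2c05483))))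 (.node 4 (.node 2 (.node 1 (.leaf 0x805947) (.leaf 0xc05b3c)) (.node 1 (.leaf 0x18059df) (.leaf 0x1c0580f))) (.node 2 (.node 1 (.leaf 0x20059dc) (.leaf 0x2405807)) (.node 1 (.leaf 0x2c05aca) (.leaf 0xc06492)))))) (.node 16 (.node 8 (.node 4 (.node 2 (.node 1 (.leaf 0x100605d) (.leaf 0x14064d8)) (.node 1 (.leaf 0x1c06605) (.leaf 0x2006234))) (.node 2 (.node 1 (.leaf 0x24065c5) (.leaf 0x28065c4)) (.node 1 (.leaf 0x806dc7) (.leaf 0xc06eb4)))) (.node 4 (.node 2 (.node 1 (.leaf 0x1006a80) (.leaf 0x1406dbd)) (.node 1 (.leaf 0x1806e4a) (.leaf 0x1c06b6c))) (.node 2 (.node 1 (.leaf 0x2006c1b) (.leaf 0x2406cf6)) (.node 1 (.leaf 0x2806e98) (.leaf 0x2c0694d))))) (.node 8 (.node 4 (.node 2 (.node 1 (.leaf 0xc0740a) (.leaf 0x10073cf)) (.node 1 (.leaf 0x14070a1) (.leaf 0x180763d))) (.node 2 (.node 1 (.leaf 0x24072c4) (.leaf 0x2c072e2))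 (.node 1 (.leaf 0x1007e0c) (.leaf 0x1407c9e)))) (.node 4 (.node 2 (.node 1 (.leaf 0x1807a99) (.leaf 0x1c0795f)) (.node 1 (.leaf 0x2007ace) (.leaf 0x2407b3b))) (.node 2 (.node 1 (.leaf 0x2c07e90) (.leaf 0xc085e4)) (.node 1 (.leaf 0x14085ec) (.leaf 0x1808427)))))))) (.node 64 (.node 32 (.node 16 (.node 8 (.node 4 (.node 2 (.node 1 (.leaf 0x1c08606) (.leaf 0x24085db)) (.node 1 (.leaf 0x28085dc) (.leaf 0x2c08049))) (.node 2 (.node 1 (.leaf 0x808885) (.leaf 0xc08df6)) (.node 1 (.leaf 0x1008e92) (.leaf 0x200885c)))) (.node 4 (.node 2 (.node 1 (.leaf 0x2408cc2) (.leaf 0x2808cc4)) (.node 1 (.leaf 0x2c08b7d) (.leaf 0x1c09417))) (.node 2 (.node 1 (.leaf 0x200902b) (.leaf 0x2409146)) (.node 1 (.leaf 0x2809145) (.leaf 0x2c093cd))))) (.node 8 (.node 4 (.node 2 (.node 1 (.leaf 0xc0a2cc) (.leaf 0x100a674)) (.node 1 (.leaf 0x140a23b)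 (.leaf 0x240a170))) (.node 2 (.node 1 (.leaf 0x280a2f3) (.leaf 0x2c0a688)) (.node 1 (.leaf 0xc0ac64) (.leaf 0x200ab17)))) (.node 4 (.node 2 (.node 1 (.leaf 0x80b13f) (.leaf 0x180b142)) (.node 1 (.leaf 0x2c0b2f2) (.leaf 0xc0bdf1))) (.node 2 (.node 1 (.leaf 0x100b854) (.leaf 0x140be2d)) (.node 1 (.leaf 0x1c0bec0) (.leaf 0x280bc6a)))))) (.node 16 (.node 8 (.node 4 (.node 2 (.node 1 (.leaf 0xc0c2d0) (.leaf 0x100c51e)) (.node 1 (.leaf 0x180c50f) (.leaf 0x240c1db))) (.node 2 (.node 1 (.leaf 0x2c0c48b) (.leaf 0x180c9cc)) (.node 1 (.leaf 0x1c0c8d5) (.leaf 0x280cc06)))) (.node 4 (.node 2 (.node 1 (.leaf 0x2c0ce1e) (.leaf 0x180d489)) (.node 1 (.leaf 0x240d327) (.leaf 0x280d5c6))) (.node 2 (.node 1 (.leaf 0x180dad4) (.leaf 0x1c0ded0)) (.node 1 (.leaf 0x200d83d) (.leaf 0x240dcc5))))) (.node 8 (.node 4 (.node 2 (.node 1 (.leaf 0x280dde1)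 (.leaf 0x2c0db7b)) (.node 1 (.leaf 0x140e415) (.leaf 0x1c0e1f2))) (.node 2 (.node 1 (.leaf 0x200e031) (.leaf 0x240e2bc)) (.node 1 (.leaf 0x2c0e3bf) (.leaf 0x140eecc)))) (.node 4 (.node 2 (.node 1 (.leaf 0x240e80d) (.leaf 0x280e80c)) (.node 1 (.leaf 0x2c0eafe) (.leaf 0x100f5cc))) (.node 2 (.node 1 (.leaf 0x140f4af) (.leaf 0x240f316)) (.node 1 (.leaf 0x280f2f5) (.leaf 0x2c0f56d))))))) (.node 32 (.node 16 (.node 8 (.node 4 (.node 2 (.node 1 (.leaf 0x1c0f817) (.leaf 0x200fb1d)) (.node 1 (.leaf 0x280f809) (.leaf 0x2c0fde0))) (.node 2 (.node 1 (.leaf 0xc103e4) (.leaf 0x1c10008)) (.node 1 (.leaf 0x241000a) (.leaf 0x2c101ef)))) (.node 4 (.node 2 (.node 1 (.leaf 0xc10df2) (.leaf 0x1410df8)) (.node 1 (.leaf 0x1c10ca2) (.leaf 0x2010b40))) (.node 2 (.node 1 (.leaf 0x2410ddd) (.leaf 0x2810e83)) (.node 1 (.leaf 0x1011581) (.leaf 0x1411271)))))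 (.node 8 (.node 4 (.node 2 (.node 1 (.leaf 0x1811174) (.leaf 0x2411611)) (.node 1 (.leaf 0x281149d) (.leaf 0xc11c25))) (.node 2 (.node 1 (.leaf 0x141188b) (.leaf 0x1c11eae)) (.node 1 (.leaf 0x2411d1c) (.leaf 0x2811d1d)))) (.node 4 (.node 2 (.node 1 (.leaf 0x2c119e0) (.leaf 0xc124f8)) (.node 1 (.leaf 0x10120f4) (.leaf 0x1812407))) (.node 2 (.node 1 (.leaf 0x2012331) (.leaf 0x241234b)) (.node 1 (.leaf 0x2812467) (.leaf 0x2c12036)))))) (.node 16 (.node 8 (.node 4 (.node 2 (.node 1 (.leaf 0x1412d67) (.leaf 0x2812884)) (.node 1 (.leaf 0x2c12c81) (.leaf 0xc13660))) (.node 2 (.node 1 (.leaf 0x201343e) (.leaf 0x2813514)) (.node 1 (.leaf 0x2c1332d) (.leaf 0xc13dfc)))) (.node 4 (.node 2 (.node 1 (.leaf 0x1813876) (.leaf 0x2413bd1)) (.node 1 (.leaf 0x2c13c2a) (.leaf 0x1414043))) (.node 2 (.node 1 (.leaf 0x1c14476) (.leaf 0x281448a))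 (.node 1 (.leaf 0x1414d99) (.leaf 0x1814cdb))))) (.node 8 (.node 4 (.node 2 (.node 1 (.leaf 0x1c14c7b) (.leaf 0x2414ca5)) (.node 1 (.leaf 0x2814ca6) (.leaf 0x2c14d09))) (.node 2 (.node 1 (.leaf 0x10153b1) (.leaf 0x18151f5)) (.node 1 (.leaf 0x1c1548e) (.leaf 0x24153c5)))) (.node 4 (.node 2 (.node 1 (.leaf 0x2815279) (.leaf 0x2c15394)) (.node 1 (.leaf 0x14159e7) (.leaf 0x1c15a97))) (.node 2 (.node 1 (.leaf 0x2015dc3) (.leaf 0x2415c8d)) (.node 1 (.leaf 0x2815ba9) (.leaf 0x2c15dbf)))))))))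

def orbV5_1 : Tree := (.node 128 (.node 64 (.node 32 (.node 16 (.node 8 (.node 4 (.node 2 (.node 1 (.leaf 0x10165ad) (.leaf 0x241668d)) (.node 1 (.leaf 0x2816551) (.leaf 0x2c16376))) (.node 2 (.node 1 (.leaf 0x1016e14) (.leaf 0x1c16c0e)) (.node 1 (.leaf 0x2416eb5) (.leaf 0x2816eb8)))) (.node 4 (.node 2 (.node 1 (.leaf 0x2c16d77) (.leaf 0x1c17665)) (.node 1 (.leaf 0x2017491) (.leaf 0x2817602))) (.node 2 (.node 1 (.leaf 0x2c1745d) (.leaf 0x817ded)) (.node 1 (.leaf 0x1817ba6) (.leaf 0x1c17d85))))) (.node 8 (.node 4 (.node 2 (.node 1 (.leaf 0x2417ca4) (.leaf 0x2c17daf)) (.node 1 (.leaf 0xc1842b) (.leaf 0x1018330))) (.node 2 (.node 1 (.leaf 0x14183ef) (.leaf 0x1c18402)) (.node 1 (.leaf 0x20184d1) (.leaf 0x24184de)))) (.node 4 (.node 2 (.node 1 (.leaf 0x28185b7) (.leaf 0x1c18e0a)) (.node 1 (.leaf 0x2418c65) (.leaf 0x2818d66)))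 (.node 2 (.node 1 (.leaf 0x18192c6) (.leaf 0x1c195c0)) (.node 1 (.leaf 0x201921d) (.leaf 0x241952d)))))) (.node 16 (.node 8 (.node 4 (.node 2 (.node 1 (.leaf 0x281969c) (.leaf 0x2c195a7)) (.node 1 (.leaf 0x1419a29) (.leaf 0x1c19c79))) (.node 2 (.node 1 (.leaf 0x2019cc7) (.leaf 0x2819dea)) (.node 1 (.leaf 0x2c199e4) (.leaf 0x141a5fa)))) (.node 4 (.node 2 (.node 1 (.leaf 0x281a235) (.leaf 0x141acd7)) (.node 1 (.leaf 0x281a973) (.leaf 0xc1b33d))) (.node 2 (.node 1 (.leaf 0x281b323) (.leaf 0x2c1b62b)) (.node 1 (.leaf 0x81bbce) (.leaf 0xc1bc1e))))) (.node 8 (.node 4 (.node 2 (.node 1 (.leaf 0x1c1ba0b) (.leaf 0x201bc82)) (.node 1 (.leaf 0x241bad3) (.leaf 0xc1c664))) (.node 2 (.node 1 (.leaf 0x281c4d3) (.leaf 0x181cd64)) (.node 1 (.leaf 0x1c1cb48) (.leaf 0x201cba7)))) (.node 4 (.node 2 (.node 1 (.leaf 0x241ca3d) (.leaf 0x281cadd))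 (.node 1 (.leaf 0x2c1c86c) (.leaf 0x181d2c8))) (.node 2 (.node 1 (.leaf 0x1c1d493) (.leaf 0x241d2a1)) (.node 1 (.leaf 0x281d4fd) (.leaf 0x2c1d390))))))) (.node 32 (.node 16 (.node 8 (.node 4 (.node 2 (.node 1 (.leaf 0x181db2b) (.leaf 0x1c1de2c)) (.node 1 (.leaf 0x201dc69) (.leaf 0x241de1a))) (.node 2 (.node 1 (.leaf 0x281debc) (.leaf 0x1c1e0d3)) (.node 1 (.leaf 0x201e328) (.leaf 0x241e05a)))) (.node 4 (.node 2 (.node 1 (.leaf 0x281e0a4) (.leaf 0x2c1e345)) (.node 1 (.leaf 0x201eb91) (.leaf 0x241eb53))) (.node 2 (.node 1 (.leaf 0x281eb52) (.leaf 0x101f67d)) (.node 1 (.leaf 0x241f326) (.leaf 0x281f468))))) (.node 8 (.node 4 (.node 2 (.node 1 (.leaf 0x2c1f5e2) (.leaf 0xc1fba0)) (.node 1 (.leaf 0x1c1fcc1) (.leaf 0x201f88c))) (.node 2 (.node 1 (.leaf 0x281fe26) (.leaf 0x2c1fc1f)) (.node 1 (.leaf 0x820420) (.leaf 0xc20396))))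 (.node 4 (.node 2 (.node 1 (.leaf 0x1820058) (.leaf 0x1c20241)) (.node 1 (.leaf 0x202000b) (.leaf 0x24204cb))) (.node 2 (.node 1 (.leaf 0x2c20428) (.leaf 0xc20bc4)) (.node 1 (.leaf 0x1c20c1c) (.leaf 0x2020a24)))))) (.node 16 (.node 8 (.node 4 (.node 2 (.node 1 (.leaf 0x2820d62) (.leaf 0xc212de)) (.node 1 (.leaf 0x1021335) (.leaf 0x1c210f9))) (.node 2 (.node 1 (.leaf 0x2021227) (.leaf 0x2821089)) (.node 1 (.leaf 0x1021dd7) (.leaf 0x2821c3d)))) (.node 4 (.node 2 (.node 1 (.leaf 0xc225d3) (.leaf 0x1022232)) (.node 1 (.leaf 0x142255c) (.leaf 0x2422202))) (.node 2 (.node 1 (.leaf 0x2822438) (.leaf 0x1c22b1c)) (.node 1 (.leaf 0x2822a87) (.leaf 0x2c22d00))))) (.node 8 (.node 4 (.node 2 (.node 1 (.leaf 0x823053) (.leaf 0xc2339a)) (.node 1 (.leaf 0x1c23446) (.leaf 0x202308e))) (.node 2 (.node 1 (.leaf 0x24233ad) (.leaf 0x2c2352b))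 (.node 1 (.leaf 0xc23e16) (.leaf 0x1423d9a)))) (.node 4 (.node 2 (.node 1 (.leaf 0x2023b20) (.leaf 0x2823b9d)) (.node 1 (.leaf 0xc244a7) (.leaf 0x282417d))) (.node 2 (.node 1 (.leaf 0xc2566c) (.leaf 0x282536d)) (.node 1 (.leaf 0x825c41) (.leaf 0x1825af6)))))))) (.node 64 (.node 32 (.node 16 (.node 8 (.node 4 (.node 2 (.node 1 (.leaf 0x2425b42) (.leaf 0xc26418)) (.node 1 (.leaf 0x142657f) (.leaf 0x28266e4))) (.node 2 (.node 1 (.leaf 0x1026e1b) (.leaf 0x2426eb6)) (.node 1 (.leaf 0x2826dfe) (.leaf 0x2c26d74)))) (.node 4 (.node 2 (.node 1 (.leaf 0x14273fc) (.leaf 0x2827571)) (.node 1 (.leaf 0x1027d57) (.leaf 0x1827c01))) (.node 2 (.node 1 (.leaf 0x2427855) (.leaf 0x2827826)) (.node 1 (.leaf 0xc286c7) (.leaf 0x2828247))))) (.node 8 (.node 4 (.node 2 (.node 1 (.leaf 0xc28ebe) (.leaf 0x1828c3a)) (.node 1 (.leaf 0x2428b5b) (.leaf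 0xc29259))) (.node 2 (.node 1 (.leaf 0x102921e) (.leaf 0x1429148)) (.node 1 (.leaf 0x28295c1) (.leaf 0x1429bd3)))) (.node 4 (.node 2 (.node 1 (.leaf 0x1c29d4c) (.leaf 0x2029ba5)) (.node 1 (.leaf 0x2829e07) (.leaf 0xc2ab99))) (.node 2 (.node 1 (.leaf 0x102adc9) (.leaf 0x142ab12)) (.node 1 (.leaf 0x242aad5) (.leaf 0x282aad7)))))) (.node 16 (.node 8 (.node 4 (.node 2 (.node 1 (.leaf 0x82b3b3) (.leaf 0xc2b608)) (.node 1 (.leaf 0x182b50e) (.leaf 0xc2b8f6))) (.node 2 (.node 1 (.leaf 0x142bc6c) (.leaf 0x202ba1a)) (.node 1 (.leaf 0xc2c6b9) (.leaf 0x142c313)))) (.node 4 (.node 2 (.node 1 (.leaf 0x242c46b) (.leaf 0x2c2c58b)) (.node 1 (.leaf 0x102cc12) (.leaf 0x142cb9f))) (.node 2 (.node 1 (.leaf 0x182ca7d) (.leaf 0x2c2cc55)) (.node 1 (.leaf 0x142d069) (.leaf 0x1c2d442))))) (.node 8 (.node 4 (.node 2 (.node 1 (.leaf 0x242d3b2) (.leaf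 0x102e501)) (.node 1 (.leaf 0x2c2e589) (.leaf 0xc2f689))) (.node 2 (.node 1 (.leaf 0x142f681) (.leaf 0x1c2f604)) (.node 1 (.leaf 0x202f2d1) (.leaf 0x142f9a1)))) (.node 4 (.node 2 (.node 1 (.leaf 0x1c2f8d2) (.leaf 0x242f923)) (.node 1 (.leaf 0x282f8e8) (.leaf 0xc30609))) (.node 2 (.node 1 (.leaf 0x143025e) (.leaf 0x283038f)) (.node 1 (.leaf 0x83081f) (.leaf 0xc309fd))))))) (.node 32 (.node 16 (.node 8 (.node 4 (.node 2 (.node 1 (.leaf 0x1830d54) (.leaf 0x1c30e8f)) (.node 1 (.leaf 0x2030a88) (.leaf 0x2430c94))) (.node 2 (.node 1 (.leaf 0x2830bd7) (.leaf 0x10312f0)) (.node 1 (.leaf 0x14315d4) (.leaf 0x28310fa)))) (.node 4 (.node 2 (.node 1 (.leaf 0x1431d35) (.leaf 0x2831ec4)) (.node 1 (.leaf 0xc320d7) (.leaf 0x1c3217c))) (.node 2 (.node 1 (.leaf 0x203230f) (.leaf 0x832d87)) (.node 1 (.leaf 0xc32900) (.leaf 0x1832e40)))))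 (.node 8 (.node 4 (.node 2 (.node 1 (.leaf 0x1c3297b) (.leaf 0x2032b39)) (.node 1 (.leaf 0x1833aa5) (.leaf 0x1c3394e))) (.node 2 (.node 1 (.leaf 0x2c33eca) (.leaf 0x2034838)) (.node 1 (.leaf 0x2434cb7) (.leaf 0x2834c90)))) (.node 4 (.node 2 (.node 1 (.leaf 0x2035039) (.leaf 0x2c36685)) (.node 1 (.leaf 0xc37e10) (.leaf 0x1c37e00))) (.node 2 (.node 1 (.leaf 0x2837dc2) (.leaf 0x1038423)) (.node 1 (.leaf 0x183814f) (.leaf 0x24384ac)))))) (.node 16 (.node 8 (.node 4 (.node 2 (.node 1 (.leaf 0xc38d83) (.leaf 0x143889d)) (.node 1 (.leaf 0xc39395) (.leaf 0x10390d9))) (.node 2 (.node 1 (.leaf 0x243934d) (.leaf 0x2c39042)) (.node 1 (.leaf 0xc3a60f) (.leaf 0x143a837)))) (.node 4 (.node 2 (.node 1 (.leaf 0x283ade8) (.leaf 0x143b513)) (.node 1 (.leaf 0x183b378) (.leaf 0x2c3b3a8))) (.node 2 (.node 1 (.leaf 0x103bd0d) (.leaf 0x2c3bb97))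 (.node 1 (.leaf 0x1c3c1c0) (.leaf 0x203c49f))))) (.node 8 (.node 4 (.node 2 (.node 1 (.leaf 0x103d5bc) (.leaf 0x283d6b0)) (.node 1 (.leaf 0x2c3d536) (.leaf 0x143e2bb))) (.node 2 (.node 1 (.leaf 0x1c3e55f) (.leaf 0x203e365)) (.node 1 (.leaf 0x283e588) (.leaf 0x203f315)))) (.node 4 (.node 2 (.node 1 (.leaf 0x243f59f) (.leaf 0x283f5fb)) (.node 1 (.leaf 0x1c3fdd2) (.leaf 0xc41e6e))) (.node 2 (.node 1 (.leaf 0x2841bb5) (.leaf 0x2c42a70)) (.node 1 (.leaf 0x2043319) (.leaf 0x2443652)))))))))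

def orbV5_2 : Tree := (.node 128 (.node 64 (.node 32 (.node 16 (.node 8 (.node 4 (.node 2 (.node 1 (.leaf 0x28436c9) (.leaf 0x1043e79)) (.node 1 (.leaf 0x2443c7d) (.leaf 0x2843c7f))) (.node 2 (.node 1 (.leaf 0x2c43c85) (.leaf 0x204409e)) (.node 1 (.leaf 0x2044813) (.leaf 0x2c44c1d)))) (.node 4 (.node 2 (.node 1 (.leaf 0xc453a1) (.leaf 0x1c452da)) (.node 1 (.leaf 0x2045324) (.leaf 0x2845405))) (.node 2 (.node 1 (.leaf 0xc4667a) (.leaf 0x24462ef)) (.node 1 (.leaf 0x28462ea) (.leaf 0xc47eb2))))) (.node 8 (.node 4 (.node 2 (.node 1 (.leaf 0x2847cff) (.leaf 0x10484bc)) (.node 1 (.leaf 0x24485e6) (.leaf 0x1448c7e))) (.node 2 (.node 1 (.leaf 0x2848d6e) (.leaf 0x1049558)) (.node 1 (.leaf 0x244903e) (.leaf 0x284903a)))) (.node 4 (.node 2 (.node 1 (.leaf 0x184a596) (.leaf 0x144a96f)) (.node 1 (.leaf 0x284ad6f) (.leaf 0x204b27c)))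 (.node 2 (.node 1 (.leaf 0x104bc6f) (.leaf 0x144bc66)) (.node 1 (.leaf 0x284ba0f) (.leaf 0xc4d5eb)))))) (.node 16 (.node 8 (.node 4 (.node 2 (.node 1 (.leaf 0x144d5f9) (.leaf 0x1c4d663)) (.node 1 (.leaf 0x144d957) (.leaf 0x1c4d8e3))) (.node 2 (.node 1 (.leaf 0x244d8ff) (.leaf 0xc4e544)) (.node 1 (.leaf 0x284e4f4) (.leaf 0x84e828)))) (.node 4 (.node 2 (.node 1 (.leaf 0xc4e9fc) (.leaf 0x204ebae)) (.node 1 (.leaf 0x284ed34) (.leaf 0x84fe8e))) (.node 2 (.node 1 (.leaf 0x184fcfb) (.leaf 0x204fbab)) (.node 1 (.leaf 0x185017f) (.leaf 0x1c529ca))))) (.node 8 (.node 4 (.node 2 (.node 1 (.leaf 0x28533f3) (.leaf 0x1c53d50)) (.node 1 (.leaf 0x2c53e1c) (.leaf 0x145454b))) (.node 2 (.node 1 (.leaf 0x1c54499) (.leaf 0x2854563)) (.node 1 (.leaf 0x1c5614c) (.leaf 0x205622b)))) (.node 4 (.node 2 (.node 1 (.leaf 0x2456cb6) (.leaf 0x2856cb5))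 (.node 1 (.leaf 0x1057697) (.leaf 0x2857314))) (.node 2 (.node 1 (.leaf 0x2c57486) (.leaf 0x1c57def)) (.node 1 (.leaf 0x205785b) (.leaf 0x2857ecb))))))) (.node 32 (.node 16 (.node 8 (.node 4 (.node 2 (.node 1 (.leaf 0x1c5834a) (.leaf 0x2058015)) (.node 1 (.leaf 0x2458628) (.leaf 0x2c582e1))) (.node 2 (.node 1 (.leaf 0xc58aa0) (.leaf 0x1c58ae0)) (.node 1 (.leaf 0x2858d5e) (.leaf 0x1c5917a)))) (.node 4 (.node 2 (.node 1 (.leaf 0x2059178) (.leaf 0x145a403)) (.node 1 (.leaf 0xc5b4c3) (.leaf 0x145b43f))) (.node 2 (.node 1 (.leaf 0x285c253) (.leaf 0x245cb6b)) (.node 1 (.leaf 0x145d421) (.leaf 0x285d66d))))) (.node 8 (.node 4 (.node 2 (.node 1 (.leaf 0x285dd6c) (.leaf 0x185e2c9)) (.node 1 (.leaf 0x245e07e) (.leaf 0x285e041))) (.node 2 (.node 1 (.leaf 0x285eb5d) (.leaf 0x245f371)) (.node 1 (.leaf 0x145f9e8) (.leaf 0x285fc71))))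 (.node 4 (.node 2 (.node 1 (.leaf 0x1460a1b) (.leaf 0x2860b7a)) (.node 1 (.leaf 0x1461b1e) (.leaf 0x2c624bd))) (.node 2 (.node 1 (.leaf 0xc63d72) (.leaf 0x1463df7)) (.node 1 (.leaf 0x1c63ebf) (.leaf 0x1c6408a)))))) (.node 16 (.node 8 (.node 4 (.node 2 (.node 1 (.leaf 0x286409f) (.leaf 0x1864bf8)) (.node 1 (.leaf 0x1c64de9) (.leaf 0x20649b8))) (.node 2 (.node 1 (.leaf 0x2464c72) (.leaf 0x2864c73)) (.node 1 (.leaf 0x1465508) (.leaf 0x286516b)))) (.node 4 (.node 2 (.node 1 (.leaf 0x1465d80) (.leaf 0x2865ec3)) (.node 1 (.leaf 0xc668a6) (.leaf 0x1c66a19))) (.node 2 (.node 1 (.leaf 0x1467432) (.leaf 0x28676cd)) (.node 1 (.leaf 0x1067e5f) (.leaf 0x1867c96))))) (.node 8 (.node 4 (.node 2 (.node 1 (.leaf 0x2467811) (.leaf 0x1468334)) (.node 1 (.leaf 0x2868675) (.leaf 0x2068c51))) (.node 2 (.node 1 (.leaf 0x2868d6b) (.leaf 0x1869676))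 (.node 1 (.leaf 0x246940b) (.leaf 0x2c69631)))) (.node 4 (.node 2 (.node 1 (.leaf 0x2869e27) (.leaf 0x286a3fa)) (.node 1 (.leaf 0x286ac0c) (.leaf 0xc6b620))) (.node 2 (.node 1 (.leaf 0xc6bece) (.leaf 0x186ca30)) (.node 1 (.leaf 0x246c829) (.leaf 0x2c6cbd2)))))))) (.node 64 (.node 32 (.node 16 (.node 8 (.node 4 (.node 2 (.node 1 (.leaf 0x206d5d9) (.leaf 0x286d3fb)) (.node 1 (.leaf 0x206dacb) (.leaf 0x286e669))) (.node 2 (.node 1 (.leaf 0xc6e816) (.leaf 0x206ed70)) (.node 1 (.leaf 0x286e932) (.leaf 0xc6f024)))) (.node 4 (.node 2 (.node 1 (.leaf 0x246f0f8) (.leaf 0x206fb2c)) (.node 1 (.leaf 0x286fb49) (.leaf 0xc70336))) (.node 2 (.node 1 (.leaf 0x20701eb) (.leaf 0x2870426)) (.node 1 (.leaf 0xc70d52) (.leaf 0x1471820))))) (.node 8 (.node 4 (.node 2 (.node 1 (.leaf 0x2071b22) (.leaf 0x2871c10)) (.node 1 (.leaf 0xc724a9) (.leaf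 0x2872022))) (.node 2 (.node 1 (.leaf 0xc72bfd) (.leaf 0x1073e22)) (.node 1 (.leaf 0x1873e61) (.leaf 0x1475059)))) (.node 4 (.node 2 (.node 1 (.leaf 0x1c75221) (.leaf 0xc75bf1)) (.node 1 (.leaf 0x1c759a6) (.leaf 0x2075e6a))) (.node 2 (.node 1 (.leaf 0x2875a74) (.leaf 0x147611b)) (.node 1 (.leaf 0x287647a) (.leaf 0x1c76c70)))))) (.node 16 (.node 8 (.node 4 (.node 2 (.node 1 (.leaf 0x1877593) (.leaf 0x2477658)) (.node 1 (.leaf 0x2877444) (.leaf 0x1477c36))) (.node 2 (.node 1 (.leaf 0x1c77e47) (.leaf 0x287868b)) (.node 1 (.leaf 0x2878e0b) (.leaf 0x1c795f0)))) (.node 4 (.node 2 (.node 1 (.leaf 0x24794a8) (.leaf 0x2879aa6)) (.node 1 (.leaf 0x187a3ff) (.leaf 0x247a443))) (.node 2 (.node 1 (.leaf 0x287a440) (.leaf 0x287a9a7)) (.node 1 (.leaf 0x287b5e3) (.leaf 0x207bb11))))) (.node 8 (.node 4 (.node 2 (.node 1 (.leaf 0x287bc9c)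 (.leaf 0x187c392)) (.node 1 (.leaf 0x247c338) (.leaf 0x1c7c865))) (.node 2 (.node 1 (.leaf 0x287ca20) (.leaf 0x107d559)) (.node 1 (.leaf 0x287d26d) (.leaf 0x107ddd0)))) (.node 4 (.node 2 (.node 1 (.leaf 0x287db98) (.leaf 0x107e4ab)) (.node 1 (.leaf 0x1c7e1b2) (.leaf 0x247e33e))) (.node 2 (.node 1 (.leaf 0x287e413) (.leaf 0x287ebd9)) (.node 1 (.leaf 0x1c7f273) (.leaf 0x247f3c8))))))) (.node 32 (.node 16 (.node 8 (.node 4 (.node 2 (.node 1 (.leaf 0x147fd9b) (.leaf 0x287fea7)) (.node 1 (.leaf 0x2880579) (.leaf 0x28808ee))) (.node 2 (.node 1 (.leaf 0x18811ad) (.leaf 0x248116e)) (.node 1 (.leaf 0x2c81377) (.leaf 0x2881cbb)))) (.node 4 (.node 2 (.node 1 (.leaf 0x28825f3) (.leaf 0x28832cf)) (.node 1 (.leaf 0x1883ca0) (.leaf 0x2483c0d))) (.node 2 (.node 1 (.leaf 0x28845d8) (.leaf 0x2885298)) (.node 1 (.leaf 0x2c8533f) (.leaf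 0x1885bd8))))) (.node 8 (.node 4 (.node 2 (.node 1 (.leaf 0x1487272) (.leaf 0x1c8727b)) (.node 1 (.leaf 0x1087e8a) (.leaf 0x2c87cda))) (.node 2 (.node 1 (.leaf 0x1488bf0) (.leaf 0x1c88d82)) (.node 1 (.leaf 0x1c8a55a) (.leaf 0x288a2c5)))) (.node 4 (.node 2 (.node 1 (.leaf 0x148ae7b) (.leaf 0x288ae1f)) (.node 1 (.leaf 0x148b6e7) (.leaf 0x288b5b1))) (.node 2 (.node 1 (.leaf 0x1c8be24) (.leaf 0x1c8c6af)) (.node 1 (.leaf 0x208c422) (.leaf 0x208d0d6)))))) (.node 16 (.node 8 (.node 4 (.node 2 (.node 1 (.leaf 0x288d60d) (.leaf 0x1c8e050)) (.node 1 (.leaf 0x208e695) (.leaf 0x288e035))) (.node 2 (.node 1 (.leaf 0x288ec74) (.leaf 0x288f31a)) (.node 1 (.leaf 0x208f8f7) (.leaf 0x288fe46)))) (.node 4 (.node 2 (.node 1 (.leaf 0x8902c3) (.leaf 0xc9052a)) (.node 1 (.leaf 0x189006b) (.leaf 0x1c905ce))) (.node 2 (.node 1 (.leaf 0x24906b7)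 (.leaf 0x2c9049a)) (.node 1 (.leaf 0x2090a85) (.leaf 0x2890dcd))))) (.node 8 (.node 4 (.node 2 (.node 1 (.leaf 0x1c9103f) (.leaf 0x20916e9)) (.node 1 (.leaf 0x2891040) (.leaf 0x2891b1b))) (.node 2 (.node 1 (.leaf 0x1492025) (.leaf 0x289231f)) (.node 1 (.leaf 0x1c92c6e) (.leaf 0x1894832)))) (.node 4 (.node 2 (.node 1 (.leaf 0x2894d7d) (.leaf 0x1495d9c)) (.node 1 (.leaf 0x1497556) (.leaf 0x1497af4))) (.node 2 (.node 1 (.leaf 0x28998fd) (.leaf 0xc9a0f5)) (.node 1 (.leaf 0x1c9a01c) (.leaf 0x209a94b)))))))))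

def orbV5_3 : Tree := (.node 128 (.node 64 (.node 32 (.node 16 (.node 8 (.node 4 (.node 2 (.node 1 (.leaf 0x249b068) (.leaf 0x289b05e)) (.node 1 (.leaf 0x289bc87) (.leaf 0x209c680))) (.node 2 (.node 1 (.leaf 0x289c0a0) (.leaf 0x249c8cf)) (.node 1 (.leaf 0x289d452) (.leaf 0x1c9d9ea)))) (.node 4 (.node 2 (.node 1 (.leaf 0x289e5e5) (.leaf 0x289ec75)) (.node 1 (.leaf 0x249f498) (.leaf 0x289f951))) (.node 2 (.node 1 (.leaf 0x20a0696) (.leaf 0x28a0dc8)) (.node 1 (.leaf 0x28a13af) (.leaf 0x2ca1671))))) (.node 8 (.node 4 (.node 2 (.node 1 (.leaf 0x20a1a25) (.leaf 0x28a1e91)) (.node 1 (.leaf 0x24a258a) (.leaf 0x28a2a3a))) (.node 2 (.node 1 (.leaf 0x10a3211) (.leaf 0x28a3488)) (.node 1 (.leaf 0x28a3cb4) (.leaf 0x1ca4185)))) (.node 4 (.node 2 (.node 1 (.leaf 0x20a429f) (.leaf 0x20a4db8)) (.node 1 (.leaf 0x10a558f) (.leaf 0x28a5dbe)))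 (.node 2 (.node 1 (.leaf 0x18a623c) (.leaf 0x24a66a8)) (.node 1 (.leaf 0x1ca6d4f) (.leaf 0x28a6e70)))))) (.node 16 (.node 8 (.node 4 (.node 2 (.node 1 (.leaf 0x28a708d) (.leaf 0x18a7d6a)) (.node 1 (.leaf 0x24a7887) (.leaf 0x28a832f))) (.node 2 (.node 1 (.leaf 0x10a9d94) (.leaf 0x28a9acd)) (.node 1 (.leaf 0x18aa2ff) (.leaf 0x1cac344)))) (.node 4 (.node 2 (.node 1 (.leaf 0x20ac293) (.leaf 0x10ad595)) (.node 1 (.leaf 0x24ad393) (.leaf 0x20ad971))) (.node 2 (.node 1 (.leaf 0xcae1c6) (.leaf 0x1cae24f)) (.node 1 (.leaf 0x28aeb37) (.leaf 0x28af561))))) (.node 8 (.node 4 (.node 2 (.node 1 (.leaf 0x28af864) (.leaf 0xcb049b)) (.node 1 (.leaf 0x1cb0404) (.leaf 0x20b04f9))) (.node 2 (.node 1 (.leaf 0x20b16ea) (.leaf 0x10b2301)) (.node 1 (.leaf 0x24b25e7) (.leaf 0x28b240f)))) (.node 4 (.node 2 (.node 1 (.leaf 0xcb35d5) (.leaf 0x24b3b02))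 (.node 1 (.leaf 0x10b44aa) (.leaf 0x14b4e86))) (.node 2 (.node 1 (.leaf 0x10b56bd) (.leaf 0x28b5195)) (.node 1 (.leaf 0x28b580e) (.leaf 0xcb650b))))))) (.node 32 (.node 16 (.node 8 (.node 4 (.node 2 (.node 1 (.leaf 0x24b6018) (.leaf 0x14bb3e7)) (.node 1 (.leaf 0x28bb57b) (.leaf 0xcbbcee))) (.node 2 (.node 1 (.leaf 0x28bb972) (.leaf 0xcbcc19)) (.node 1 (.leaf 0x28be0a3) (.leaf 0xcbe8fc)))) (.node 4 (.node 2 (.node 1 (.leaf 0x28c0dde) (.leaf 0x28c14d6)) (.node 1 (.leaf 0x8c1dcb) (.leaf 0xcc1d7e))) (.node 2 (.node 1 (.leaf 0x18c1c77) (.leaf 0x28c2d69)) (.node 1 (.leaf 0x24c3409) (.leaf 0x18c4619))))) (.node 8 (.node 4 (.node 2 (.node 1 (.leaf 0x28c40f2) (.leaf 0x2cc41f8)) (.node 1 (.leaf 0xcc4c95) (.leaf 0x18c56a9))) (.node 2 (.node 1 (.leaf 0x28c5149) (.leaf 0x24c59f7)) (.node 1 (.leaf 0x28c5a5d) (.leaf 0x28c64ad)))) (.node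 4 (.node 2 (.node 1 (.leaf 0xcc6b25) (.leaf 0x24c6b46)) (.node 1 (.leaf 0x18c847c) (.leaf 0x14c8b68))) (.node 2 (.node 1 (.leaf 0x14c9d4d) (.leaf 0x28c9b50)) (.node 1 (.leaf 0x28cab47) (.leaf 0x28cc9cb)))))) (.node 16 (.node 8 (.node 4 (.node 2 (.node 1 (.leaf 0x2ccd4dc) (.leaf 0x28cdbc7)) (.node 1 (.leaf 0x14ce1a8) (.leaf 0x28ce321))) (.node 2 (.node 1 (.leaf 0x28ce8d4) (.leaf 0xccf12e)) (.node 1 (.leaf 0x14d19f3) (.leaf 0xcd21f1)))) (.node 4 (.node 2 (.node 1 (.leaf 0x20d2304) (.leaf 0x14d6d4a)) (.node 1 (.leaf 0x1cd6c24) (.leaf 0x20d73c3))) (.node 2 (.node 1 (.leaf 0x14d9adb) (.leaf 0x1cd986a)) (.node 1 (.leaf 0xcda1f4) (.leaf 0x1cda478))))) (.node 8 (.node 4 (.node 2 (.node 1 (.leaf 0x20da268) (.leaf 0x14dadd1)) (.node 1 (.leaf 0x1cdb603) (.leaf 0x18dbc37))) (.node 2 (.node 1 (.leaf 0x1cdb976) (.leaf 0x28db8dc)) (.node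 1 (.leaf 0x28dc575) (.leaf 0x18dd2df)))) (.node 4 (.node 2 (.node 1 (.leaf 0x1cdd414) (.leaf 0x28dd964)) (.node 1 (.leaf 0x28de565) (.leaf 0xcde980))) (.node 2 (.node 1 (.leaf 0x28df1a9) (.leaf 0x18dfc00)) (.node 1 (.leaf 0x1cdf975) (.leaf 0x28df9fb)))))))) (.node 64 (.node 32 (.node 16 (.node 8 (.node 4 (.node 2 (.node 1 (.leaf 0x28e0152) (.leaf 0x28e0e18)) (.node 1 (.leaf 0x28e12a3) (.leaf 0xce1950))) (.node 2 (.node 1 (.leaf 0x20e1af1) (.leaf 0x8e2276)) (.node 1 (.leaf 0xce2156) (.leaf 0x18e20f3)))) (.node 4 (.node 2 (.node 1 (.leaf 0x1ce24ba) (.leaf 0x20e2510)) (.node 1 (.leaf 0x8e326e) (.leaf 0x28e4372))) (.node 2 (.node 1 (.leaf 0x14e52d6) (.leaf 0x1ce560e)) (.node 1 (.leaf 0x14e6a6f) (.leaf 0x14e7155))))) (.node 8 (.node 4 (.node 2 (.node 1 (.leaf 0x14e78d8) (.leaf 0x1cea584)) (.node 1 (.leaf 0x28f69f6) (.leaf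 0x28f9573))) (.node 2 (.node 1 (.leaf 0x28f9bfe) (.leaf 0x28facb3)) (.node 1 (.leaf 0x28fba86) (.leaf 0x28ff46d)))) (.node 4 (.node 2 (.node 1 (.leaf 0x2900ee6) (.leaf 0x1901d60)) (.node 1 (.leaf 0x290222d) (.leaf 0x1102dda))) (.node 2 (.node 1 (.leaf 0x2902ac7) (.leaf 0x1103543)) (.node 1 (.leaf 0x25034f7) (.leaf 0x2905057)))))) (.node 16 (.node 8 (.node 4 (.node 2 (.node 1 (.leaf 0x2105cfc) (.leaf 0x29098d0)) (.node 1 (.leaf 0x290a953) (.leaf 0x290ccae))) (.node 2 (.node 1 (.leaf 0x290daa4) (.leaf 0x290e8fb)) (.node 1 (.leaf 0x150fadc) (.leaf 0x1d0f8a5)))) (.node 4 (.node 2 (.node 1 (.leaf 0x2914bb4) (.leaf 0x2115649)) (.node 1 (.leaf 0x151954e) (.leaf 0x1d1957c))) (.node 2 (.node 1 (.leaf 0x2919ae9) (.leaf 0x291a6b1)) (.node 1 (.leaf 0x1d1ae5d) (.leaf 0x291c6ab))))) (.node 8 (.node 4 (.node 2 (.node 1 (.leaf 0x251ceaa)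 (.leaf 0x291d66f)) (.node 1 (.leaf 0x291e32a) (.leaf 0x291f1ec))) (.node 2 (.node 1 (.leaf 0x1120e3c) (.leaf 0x2922497)) (.node 1 (.leaf 0x2922e7f) (.leaf 0xd235f5)))) (.node 4 (.node 2 (.node 1 (.leaf 0x1d2355d) (.leaf 0x292762a)) (.node 1 (.leaf 0x2929578) (.leaf 0x2529cb1))) (.node 2 (.node 1 (.leaf 0x292b4b2) (.leaf 0x292c088)) (.node 1 (.leaf 0x152de6b) (.leaf 0x1d2dd24))))))) (.node 32 (.node 16 (.node 8 (.node 4 (.node 2 (.node 1 (.leaf 0x1d2e099) (.leaf 0x1d2edca)) (.node 1 (.leaf 0x152f48c) (.leaf 0x292fdee))) (.node 2 (.node 1 (.leaf 0x1d3048f) (.leaf 0x293169d)) (.node 1 (.leaf 0x2931b18) (.leaf 0x1d32e13)))) (.node 4 (.node 2 (.node 1 (.leaf 0x2132e4c) (.leaf 0x29344ce)) (.node 1 (.leaf 0x2939ca3) (.leaf 0x1d3b8f1))) (.node 2 (.node 1 (.leaf 0xd3cd5b) (.leaf 0x29406e5)) (.node 1 (.leaf 0x29410da) (.leaf 0x1941886)))))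 (.node 8 (.node 4 (.node 2 (.node 1 (.leaf 0x2942c84) (.leaf 0x2944b32)) (.node 1 (.leaf 0x29460d1) (.leaf 0x294833a))) (.node 2 (.node 1 (.leaf 0x2949601) (.leaf 0x1d4b979)) (.node 1 (.leaf 0x154c22e) (.leaf 0x294cc35)))) (.node 4 (.node 2 (.node 1 (.leaf 0x294d014) (.leaf 0x294de84)) (.node 1 (.leaf 0x1d4e023) (.leaf 0x214e541))) (.node 2 (.node 1 (.leaf 0x2950e99) (.leaf 0x195709c)) (.node 1 (.leaf 0x29578a2) (.leaf 0x29599e6)))))) (.node 16 (.node 8 (.node 4 (.node 2 (.node 1 (.leaf 0x295dca1) (.leaf 0x1d6a6ba)) (.node 1 (.leaf 0x156ae7c) (.leaf 0x296b694))) (.node 2 (.node 1 (.leaf 0x1d6bebb) (.leaf 0x296d6d5)) (.node 1 (.leaf 0x156f2e7) (.leaf 0x2970b33)))) (.node 4 (.node 2 (.node 1 (.leaf 0x29716b3) (.leaf 0x1d71a2f)) (.node 1 (.leaf 0x2572a89) (.leaf 0x2973177))) (.node 2 (.node 1 (.leaf 0x2978e82) (.leaf 0x2981a2c))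 (.node 1 (.leaf 0x2987e7e) (.leaf 0x2988228))))) (.node 8 (.node 4 (.node 2 (.node 1 (.leaf 0x298a20e) (.leaf 0x258ab29)) (.node 1 (.leaf 0x298cb2e) (.leaf 0x198fa10))) (.node 2 (.node 1 (.leaf 0x2992590) (.leaf 0x1199bf2)) (.node 1 (.leaf 0x299a967) (.leaf 0x29a0c30)))) (.node 4 (.node 2 (.node 1 (.leaf 0x19a483b) (.leaf 0x15a5612)) (.node 1 (.leaf 0x15a6027) (.leaf 0x29ae662))) (.node 2 (.node 1 (.leaf 0x29b4300) (.leaf 0x29ba22a)) (.node 1 (.leaf 0x29bf226) (.leaf 0x19c1672)))))))))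

def orbV5 : Tree := (.node 512 (.node 256 orbV5_0 orbV5_1) (.node 256 orbV5_2 orbV5_3))

def orbV5Len : ℕ := 1024

end Cfsg.Agent.Lib.SuzUnique.Data
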