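import Cfsg.Agent.Lib.CosetCert.Check

/-!
Certificate data for the graph of the Suzuki group on 1782 points: subgroups of index 416.
-/

set_option autoImplicit false
set_option linter.all false
set_option maxRecDepth 100000

namespace Cfsg.Agent.Lib.SuzUnique.Data

open Cfsg.Agent.CosetCert

def seven : List ℕ := [0, 2, 1, 0, 1, 0, 4, 3, 2, 1, 3, 2, 4, 3, 2, 1, 0, 3, 2, 1, 3, 4]

def three : List ℕ := [1, 0, 1, 2, 5, 1, 3, 4, 3, 2, 1, 0, 1, 2, 3, 2, 1, 0, 1, 5, 1, 0, 1]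

def zPath_0 : Tree := (.node 128 (.node 64 (.node 32 (.node 16 (.node 8 (.node 4 (.node 2 (.node 1 (.leaf 0x0) (.leaf 0x1)) (.node 1 (.leaf 0x101) (.leaf 0x201))) (.node 2 (.node 1 (.leaf 0x301) (.leaf 0x401)) (.node 1 (.leaf 0x501) (.leaf 0x802)))) (.node 4 (.node 2 (.node 1 (.leaf 0x1002) (.leaf 0x1802)) (.node 1 (.leaf 0x2002) (.leaf 0x2802))) (.node 2 (.node 1 (.leaf 0x102) (.leaf 0x1102)) (.node 1 (.leaf 0x1902) (.leaf 0x2102))))) (.node 8 (.node 4 (.node 2 (.node 1 (.leaf 0x2902) (.leaf 0xa02)) (.node 1 (.leaf 0x1a02) (.leaf 0x2202))) (.node 2 (.node 1 (.leaf 0x2a02) (.leaf 0x1302)) (.node 1 (.leaf 0x2302) (.leaf 0x2b02)))) (.node 4 (.node 2 (.node 1 (.leaf 0x1c02) (.leaf 0x2c02)) (.node 1 (.leaf 0xd02) (.leaf 0x803))) (.node 2 (.node 1 (.leaf 0xc803) (.leaf 0x10803)) (.node 1 (.leaf 0x14803) (.leaf 0x5003)))))) (.node 16 (.node 8 (.node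 4 (.node 2 (.node 1 (.leaf 0xd003) (.leaf 0x11003)) (.node 1 (.leaf 0x15003) (.leaf 0x9803))) (.node 2 (.node 1 (.leaf 0x11803) (.leaf 0x15803)) (.node 1 (.leaf 0xe003) (.leaf 0x16003)))) (.node 4 (.node 2 (.node 1 (.leaf 0x6803) (.leaf 0x4103)) (.node 1 (.leaf 0x8103) (.leaf 0xc103))) (.node 2 (.node 1 (.leaf 0x10103) (.leaf 0x14103)) (.node 1 (.leaf 0x5103) (.leaf 0xd103))))) (.node 8 (.node 4 (.node 2 (.node 1 (.leaf 0x11103) (.leaf 0x15103)) (.node 1 (.leaf 0x9903) (.leaf 0x11903))) (.node 2 (.node 1 (.leaf 0x15903) (.leaf 0xe103)) (.node 1 (.leaf 0x16103) (.leaf 0x6903)))) (.node 4 (.node 2 (.node 1 (.leaf 0xa03) (.leaf 0xca03)) (.node 1 (.leaf 0x10a03) (.leaf 0x14a03))) (.node 2 (.node 1 (.leaf 0x9a03) (.leaf 0x11a03)) (.node 1 (.leaf 0x15a03) (.leaf 0xe203))))))) (.node 32 (.node 16 (.node 8 (.node 4 (.node 2 (.node 1 (.leaf 0x16203) (.leaf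 0x6a03)) (.node 1 (.leaf 0x5303) (.leaf 0xd303))) (.node 2 (.node 1 (.leaf 0x11303) (.leaf 0x15303)) (.node 1 (.leaf 0xe303) (.leaf 0x16303)))) (.node 4 (.node 2 (.node 1 (.leaf 0x6b03) (.leaf 0x9c03)) (.node 1 (.leaf 0x15c03) (.leaf 0x6c03))) (.node 2 (.node 1 (.leaf 0xd03) (.leaf 0x8d03)) (.node 1 (.leaf 0x20804) (.leaf 0x60804))))) (.node 8 (.node 4 (.node 2 (.node 1 (.leaf 0x4c804) (.leaf 0x8c804)) (.node 1 (.leaf 0xac804) (.leaf 0x70804))) (.node 2 (.node 1 (.leaf 0x34804) (.leaf 0x5004)) (.node 1 (.leaf 0x65004) (.leaf 0x85004)))) (.node 4 (.node 2 (.node 1 (.leaf 0xa5004) (.leaf 0x4d004)) (.node 1 (.leaf 0x8d004) (.leaf 0xad004))) (.node 2 (.node 1 (.leaf 0x71004) (.leaf 0xb1004)) (.node 1 (.leaf 0x35004) (.leaf 0x29804)))))) (.node 16 (.node 8 (.node 4 (.node 2 (.node 1 (.leaf 0x69804) (.leaf 0x89804)) (.node 1 (.leaf 0xa9804) (.leaf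 0x71804))) (.node 2 (.node 1 (.leaf 0xb1804) (.leaf 0x35804)) (.node 1 (.leaf 0x4e004) (.leaf 0xae004)))) (.node 4 (.node 2 (.node 1 (.leaf 0x36004) (.leaf 0x6804)) (.node 1 (.leaf 0x46804) (.leaf 0x4104))) (.node 2 (.node 1 (.leaf 0x44104) (.leaf 0x64104)) (.node 1 (.leaf 0x84104) (.leaf 0xa4104))))) (.node 8 (.node 4 (.node 2 (.node 1 (.leaf 0x28104) (.leaf 0x68104)) (.node 1 (.leaf 0x88104) (.leaf 0xa8104))) (.node 2 (.node 1 (.leaf 0x4c104) (.leaf 0x8c104)) (.node 1 (.leaf 0xac104) (.leaf 0x70104)))) (.node 4 (.node 2 (.node 1 (.leaf 0xb0104) (.leaf 0x34104)) (.node 1 (.leaf 0x5104) (.leaf 0x65104))) (.node 2 (.node 1 (.leaf 0x85104) (.leaf 0xa5104)) (.node 1 (.leaf 0x4d104) (.leaf 0x8d104)))))))) (.node 64 (.node 32 (.node 16 (.node 8 (.node 4 (.node 2 (.node 1 (.leaf 0xad104) (.leaf 0x29904)) (.node 1 (.leaf 0x69904) (.leaf 0x89904))) (.node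 2 (.node 1 (.leaf 0xa9904) (.leaf 0x71904)) (.node 1 (.leaf 0xb1904) (.leaf 0x35904)))) (.node 4 (.node 2 (.node 1 (.leaf 0x4e104) (.leaf 0xae104)) (.node 1 (.leaf 0x36104) (.leaf 0x6904))) (.node 2 (.node 1 (.leaf 0x46904) (.leaf 0x20a04)) (.node 1 (.leaf 0x60a04) (.leaf 0x80a04))))) (.node 8 (.node 4 (.node 2 (.node 1 (.leaf 0xa0a04) (.leaf 0x4ca04)) (.node 1 (.leaf 0x8ca04) (.leaf 0xaca04))) (.node 2 (.node 1 (.leaf 0x70a04) (.leaf 0xb0a04)) (.node 1 (.leaf 0x34a04) (.leaf 0x29a04)))) (.node 4 (.node 2 (.node 1 (.leaf 0x69a04) (.leaf 0x89a04)) (.node 1 (.leaf 0xa9a04) (.leaf 0x71a04))) (.node 2 (.node 1 (.leaf 0xb1a04) (.leaf 0x35a04)) (.node 1 (.leaf 0x4e204) (.leaf 0xae204)))))) (.node 16 (.node 8 (.node 4 (.node 2 (.node 1 (.leaf 0x36204) (.leaf 0x6a04)) (.node 1 (.leaf 0x46a04) (.leaf 0x5304))) (.node 2 (.node 1 (.leaf 0x65304) (.leaf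 0x85304)) (.node 1 (.leaf 0xa5304) (.leaf 0x4d304)))) (.node 4 (.node 2 (.node 1 (.leaf 0x8d304) (.leaf 0xad304)) (.node 1 (.leaf 0x71304) (.leaf 0xb1304))) (.node 2 (.node 1 (.leaf 0x35304) (.leaf 0x4e304)) (.node 1 (.leaf 0xae304) (.leaf 0x36304))))) (.node 8 (.node 4 (.node 2 (.node 1 (.leaf 0x6b04) (.leaf 0x46b04)) (.node 1 (.leaf 0x29c04) (.leaf 0x69c04))) (.node 2 (.node 1 (.leaf 0xa9c04) (.leaf 0x35c04)) (.node 1 (.leaf 0x6c04) (.leaf 0x46c04)))) (.node 4 (.node 2 (.node 1 (.leaf 0x20d04) (.leaf 0x40d04)) (.node 1 (.leaf 0x68d04) (.leaf 0x20805))) (.node 2 (.node 1 (.leaf 0x320805) (.leaf 0x260805)) (.node 1 (.leaf 0x460805) (.leaf 0x14c805))))))) (.node 32 (.node 16 (.node 8 (.node 4 (.node 2 (.node 1 (.leaf 0x34c805) (.leaf 0x44c805)) (.node 1 (.leaf 0x54c805) (.leaf 0x38c805))) (.node 2 (.node 1 (.leaf 0x58c805) (.leaf 0x1ac805)) (.node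 1 (.leaf 0x270805) (.leaf 0x34805)))) (.node 4 (.node 2 (.node 1 (.leaf 0x105005) (.leaf 0x305005)) (.node 1 (.leaf 0x405005) (.leaf 0x505005))) (.node 2 (.node 1 (.leaf 0x265005) (.leaf 0x465005)) (.node 1 (.leaf 0x565005) (.leaf 0x385005))))) (.node 8 (.node 4 (.node 2 (.node 1 (.leaf 0x1a5005) (.leaf 0x14d005)) (.node 1 (.leaf 0x44d005) (.leaf 0x54d005))) (.node 2 (.node 1 (.leaf 0x38d005) (.leaf 0x58d005)) (.node 1 (.leaf 0x1ad005) (.leaf 0x271005)))) (.node 4 (.node 2 (.node 1 (.leaf 0x571005) (.leaf 0x1b1005)) (.node 1 (.leaf 0x235005) (.leaf 0x329805))) (.node 2 (.node 1 (.leaf 0x429805) (.leaf 0x529805)) (.node 1 (.leaf 0x469805) (.leaf 0x569805)))))) (.node 16 (.node 8 (.node 4 (.node 2 (.node 1 (.leaf 0x389805) (.leaf 0x589805)) (.node 1 (.leaf 0x1a9805) (.leaf 0x271805))) (.node 2 (.node 1 (.leaf 0x571805) (.leaf 0x1b1805)) (.node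 1 (.leaf 0x35805) (.leaf 0x235805)))) (.node 4 (.node 2 (.node 1 (.leaf 0x14e005) (.leaf 0x34e005)) (.node 1 (.leaf 0x54e005) (.leaf 0x1ae005))) (.node 2 (.node 1 (.leaf 0x36005) (.leaf 0x106805)) (.node 1 (.leaf 0x206805) (.leaf 0x346805))))) (.node 8 (.node 4 (.node 2 (.node 1 (.leaf 0x204105) (.leaf 0x304105)) (.node 1 (.leaf 0x404105) (.leaf 0x504105))) (.node 2 (.node 1 (.leaf 0x144105) (.leaf 0x344105)) (.node 1 (.leaf 0x444105) (.leaf 0x544105)))) (.node 4 (.node 2 (.node 1 (.leaf 0x464105) (.leaf 0x564105)) (.node 1 (.leaf 0x384105) (.leaf 0x584105))) (.node 2 (.node 1 (.leaf 0x1a4105) (.leaf 0x328105)) (.node 1 (.leaf 0x428105) (.leaf 0x268105)))))))))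

def zPath_1 : Tree := (.node 128 (.node 64 (.node 32 (.node 16 (.node 8 (.node 4 (.node 2 (.node 1 (.leaf 0x468105) (.leaf 0x568105)) (.node 1 (.leaf 0x388105) (.leaf 0x588105))) (.node 2 (.node 1 (.leaf 0x34c105) (.leaf 0x44c105)) (.node 1 (.leaf 0x54c105) (.leaf 0x38c105)))) (.node 4 (.node 2 (.node 1 (.leaf 0x58c105) (.leaf 0x1ac105)) (.node 1 (.leaf 0x270105) (.leaf 0x570105))) (.node 2 (.node 1 (.leaf 0x1b0105) (.leaf 0x405105)) (.node 1 (.leaf 0x385105) (.leaf 0x585105))))) (.node 8 (.node 4 (.node 2 (.node 1 (.leaf 0x14d105) (.leaf 0x34d105)) (.node 1 (.leaf 0x44d105) (.leaf 0x54d105))) (.node 2 (.node 1 (.leaf 0x29905) (.leaf 0x329905)) (.node 1 (.leaf 0x429905) (.leaf 0x529905)))) (.node 4 (.node 2 (.node 1 (.leaf 0x269905) (.leaf 0x469905)) (.node 1 (.leaf 0x569905) (.leaf 0x389905))) (.node 2 (.node 1 (.leaf 0x589905) (.leaf 0x1a9905))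 (.node 1 (.leaf 0x271905) (.leaf 0x571905)))))) (.node 16 (.node 8 (.node 4 (.node 2 (.node 1 (.leaf 0x1b1905) (.leaf 0x35905)) (.node 1 (.leaf 0x235905) (.leaf 0x14e105))) (.node 2 (.node 1 (.leaf 0x34e105) (.leaf 0x54e105)) (.node 1 (.leaf 0x1ae105) (.leaf 0x36105)))) (.node 4 (.node 2 (.node 1 (.leaf 0x206905) (.leaf 0x346905)) (.node 1 (.leaf 0x20a05) (.leaf 0x320a05))) (.node 2 (.node 1 (.leaf 0x420a05) (.leaf 0x520a05)) (.node 1 (.leaf 0x260a05) (.leaf 0x460a05))))) (.node 8 (.node 4 (.node 2 (.node 1 (.leaf 0x560a05) (.leaf 0x380a05)) (.node 1 (.leaf 0x580a05) (.leaf 0x1a0a05))) (.node 2 (.node 1 (.leaf 0x14ca05) (.leaf 0x34ca05)) (.node 1 (.leaf 0x44ca05) (.leaf 0x54ca05)))) (.node 4 (.node 2 (.node 1 (.leaf 0x38ca05) (.leaf 0x58ca05)) (.node 1 (.leaf 0x1aca05) (.leaf 0x270a05))) (.node 2 (.node 1 (.leaf 0x570a05) (.leaf 0x1b0a05)) (.node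 1 (.leaf 0x34a05) (.leaf 0x234a05))))))) (.node 32 (.node 16 (.node 8 (.node 4 (.node 2 (.node 1 (.leaf 0x29a05) (.leaf 0x329a05)) (.node 1 (.leaf 0x429a05) (.leaf 0x469a05))) (.node 2 (.node 1 (.leaf 0x569a05) (.leaf 0x389a05)) (.node 1 (.leaf 0x589a05) (.leaf 0x271a05)))) (.node 4 (.node 2 (.node 1 (.leaf 0x571a05) (.leaf 0x1b1a05)) (.node 1 (.leaf 0x35a05) (.leaf 0x14e205))) (.node 2 (.node 1 (.leaf 0x34e205) (.leaf 0x54e205)) (.node 1 (.leaf 0x1ae205) (.leaf 0x36205))))) (.node 8 (.node 4 (.node 2 (.node 1 (.leaf 0x236205) (.leaf 0x206a05)) (.node 1 (.leaf 0x346a05) (.leaf 0x105305))) (.node 2 (.node 1 (.leaf 0x305305) (.leaf 0x405305)) (.node 1 (.leaf 0x505305) (.leaf 0x265305)))) (.node 4 (.node 2 (.node 1 (.leaf 0x465305) (.leaf 0x565305)) (.node 1 (.leaf 0x385305) (.leaf 0x585305))) (.node 2 (.node 1 (.leaf 0x1a5305) (.leaf 0x14d305))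 (.node 1 (.leaf 0x44d305) (.leaf 0x54d305)))))) (.node 16 (.node 8 (.node 4 (.node 2 (.node 1 (.leaf 0x38d305) (.leaf 0x58d305)) (.node 1 (.leaf 0x1ad305) (.leaf 0x271305))) (.node 2 (.node 1 (.leaf 0x571305) (.leaf 0x1b1305)) (.node 1 (.leaf 0x35305) (.leaf 0x235305)))) (.node 4 (.node 2 (.node 1 (.leaf 0x14e305) (.leaf 0x34e305)) (.node 1 (.leaf 0x54e305) (.leaf 0x1ae305))) (.node 2 (.node 1 (.leaf 0x36305) (.leaf 0x236305)) (.node 1 (.leaf 0x106b05) (.leaf 0x206b05))))) (.node 8 (.node 4 (.node 2 (.node 1 (.leaf 0x346b05) (.leaf 0x29c05)) (.node 1 (.leaf 0x329c05) (.leaf 0x529c05))) (.node 2 (.node 1 (.leaf 0x269c05) (.leaf 0x469c05)) (.node 1 (.leaf 0x569c05) (.leaf 0x1a9c05)))) (.node 4 (.node 2 (.node 1 (.leaf 0x35c05) (.leaf 0x106c05)) (.node 1 (.leaf 0x206c05) (.leaf 0x346c05))) (.node 2 (.node 1 (.leaf 0x20d05) (.leaf 0x220d05)) (.node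 1 (.leaf 0x140d05) (.leaf 0x340d05)))))))) (.node 64 (.node 32 (.node 16 (.node 8 (.node 4 (.node 2 (.node 1 (.leaf 0x268d05) (.leaf 0x468d05)) (.node 1 (.leaf 0x1820806) (.leaf 0x1320806))) (.node 2 (.node 1 (.leaf 0x2320806) (.leaf 0xa60806)) (.node 1 (.leaf 0x1a60806) (.leaf 0x2260806)))) (.node 4 (.node 2 (.node 1 (.leaf 0x194c806) (.leaf 0x214c806)) (.node 1 (.leaf 0x294c806) (.leaf 0x234c806))) (.node 2 (.node 1 (.leaf 0x2b4c806) (.leaf 0x1c4c806)) (.node 1 (.leaf 0x2c4c806) (.leaf 0xd4c806))))) (.node 8 (.node 4 (.node 2 (.node 1 (.leaf 0x138c806) (.leaf 0xd8c806)) (.node 1 (.leaf 0xa70806) (.leaf 0x1a70806))) (.node 2 (.node 1 (.leaf 0x105006) (.leaf 0x1105006)) (.node 1 (.leaf 0x1905006) (.leaf 0x2105006)))) (.node 4 (.node 2 (.node 1 (.leaf 0x2905006) (.leaf 0x1305006)) (.node 1 (.leaf 0x2305006) (.leaf 0x2b05006))) (.node 2 (.node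 1 (.leaf 0x1c05006) (.leaf 0xd05006)) (.node 1 (.leaf 0xa65006) (.leaf 0x1a65006)))))) (.node 16 (.node 8 (.node 4 (.node 2 (.node 1 (.leaf 0x2265006) (.leaf 0x2a65006)) (.node 1 (.leaf 0x1c65006) (.leaf 0x2c65006))) (.node 2 (.node 1 (.leaf 0xd65006) (.leaf 0x14d006)) (.node 1 (.leaf 0x214d006) (.leaf 0x294d006)))) (.node 4 (.node 2 (.node 1 (.leaf 0x1c4d006) (.leaf 0x2c4d006)) (.node 1 (.leaf 0xd4d006) (.leaf 0x138d006))) (.node 2 (.node 1 (.leaf 0x2b8d006) (.leaf 0xd8d006)) (.node 1 (.leaf 0x1ad006) (.leaf 0x11ad006))))) (.node 8 (.node 4 (.node 2 (.node 1 (.leaf 0xa71006) (.leaf 0x2a71006)) (.node 1 (.leaf 0x1a35006) (.leaf 0x1329806))) (.node 2 (.node 1 (.leaf 0x2329806) (.leaf 0x2b29806)) (.node 1 (.leaf 0x1c29806) (.leaf 0x2c29806)))) (.node 4 (.node 2 (.node 1 (.leaf 0xd29806) (.leaf 0x1c69806)) (.node 1 (.leaf 0x2c69806) (.leaf 0xd69806)))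 (.node 2 (.node 1 (.leaf 0x1389806) (.leaf 0x2b89806)) (.node 1 (.leaf 0xd89806) (.leaf 0x11a9806))))))) (.node 32 (.node 16 (.node 8 (.node 4 (.node 2 (.node 1 (.leaf 0xa71806) (.leaf 0x1a71806)) (.node 1 (.leaf 0x2a71806) (.leaf 0xd71806))) (.node 2 (.node 1 (.leaf 0x1b1806) (.leaf 0x11b1806)) (.node 1 (.leaf 0x835806) (.leaf 0x14e006)))) (.node 4 (.node 2 (.node 1 (.leaf 0x194e006) (.leaf 0x294e006)) (.node 1 (.leaf 0x234e006) (.leaf 0x2b4e006))) (.node 2 (.node 1 (.leaf 0xd4e006) (.leaf 0x1ae006)) (.node 1 (.leaf 0x11ae006) (.leaf 0x836006))))) (.node 8 (.node 4 (.node 2 (.node 1 (.leaf 0x106806) (.leaf 0x1106806)) (.node 1 (.leaf 0x2906806) (.leaf 0xa06806))) (.node 2 (.node 1 (.leaf 0x1a06806) (.leaf 0x2346806)) (.node 1 (.leaf 0x1a04106) (.leaf 0x2204106)))) (.node 4 (.node 2 (.node 1 (.leaf 0x2a04106) (.leaf 0x2304106)) (.node 1 (.leaf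 0x2b04106) (.leaf 0x2c04106))) (.node 2 (.node 1 (.leaf 0xd04106) (.leaf 0x1944106)) (.node 1 (.leaf 0x2144106) (.leaf 0x2b44106)))))) (.node 16 (.node 8 (.node 4 (.node 2 (.node 1 (.leaf 0x2c44106) (.leaf 0x1c64106)) (.node 1 (.leaf 0x2c64106) (.leaf 0xd64106))) (.node 2 (.node 1 (.leaf 0x2b84106) (.leaf 0xd84106)) (.node 1 (.leaf 0x1328106) (.leaf 0x1c28106)))) (.node 4 (.node 2 (.node 1 (.leaf 0xa68106) (.leaf 0x2a68106)) (.node 1 (.leaf 0x1c68106) (.leaf 0x2c68106))) (.node 2 (.node 1 (.leaf 0x234c106) (.leaf 0x2b4c106)) (.node 1 (.leaf 0x1c4c106) (.leaf 0x2c4c106))))) (.node 8 (.node 4 (.node 2 (.node 1 (.leaf 0xd4c106) (.leaf 0x138c106)) (.node 1 (.leaf 0x2b8c106) (.leaf 0xd8c106))) (.node 2 (.node 1 (.leaf 0x1ac106) (.leaf 0x11ac106)) (.node 1 (.leaf 0x1385106) (.leaf 0x14d106)))) (.node 4 (.node 2 (.node 1 (.leaf 0x194d106) (.leaf 0x234d106))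 (.node 1 (.leaf 0x2b4d106) (.leaf 0x1c4d106))) (.node 2 (.node 1 (.leaf 0xd4d106) (.leaf 0x829906)) (.node 1 (.leaf 0x1829906) (.leaf 0x2029906)))))))))

def zPath_2 : Tree := (.node 128 (.node 64 (.node 32 (.node 16 (.node 8 (.node 4 (.node 2 (.node 1 (.leaf 0x2829906) (.leaf 0x1329906)) (.node 1 (.leaf 0x2329906) (.leaf 0x2b29906))) (.node 2 (.node 1 (.leaf 0x1c29906) (.leaf 0x2c29906)) (.node 1 (.leaf 0xd29906) (.leaf 0xa69906)))) (.node 4 (.node 2 (.node 1 (.leaf 0x2269906) (.leaf 0x2a69906)) (.node 1 (.leaf 0x1c69906) (.leaf 0x2c69906))) (.node 2 (.node 1 (.leaf 0xd69906) (.leaf 0x1389906)) (.node 1 (.leaf 0x2b89906) (.leaf 0xd89906))))) (.node 8 (.node 4 (.node 2 (.node 1 (.leaf 0x1a9906) (.leaf 0x11a9906)) (.node 1 (.leaf 0xa71906) (.leaf 0x1a71906))) (.node 2 (.node 1 (.leaf 0x2a71906) (.leaf 0xd71906)) (.node 1 (.leaf 0x1b1906) (.leaf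 0x11b1906)))) (.node 4 (.node 2 (.node 1 (.leaf 0x835906) (.leaf 0x1035906)) (.node 1 (.leaf 0x1a35906) (.leaf 0x194e106))) (.node 2 (.node 1 (.leaf 0x234e106) (.leaf 0xa06906)) (.node 1 (.leaf 0x1a06906) (.leaf 0x1346906)))))) (.node 16 (.node 8 (.node 4 (.node 2 (.node 1 (.leaf 0x2346906) (.leaf 0x1820a06)) (.node 1 (.leaf 0x1320a06) (.leaf 0x2320a06))) (.node 2 (.node 1 (.leaf 0x2b20a06) (.leaf 0x1c20a06)) (.node 1 (.leaf 0xd20a06) (.leaf 0xa60a06)))) (.node 4 (.node 2 (.node 1 (.leaf 0x2260a06) (.leaf 0x1c60a06)) (.node 1 (.leaf 0x2c60a06) (.leaf 0xd60a06))) (.node 2 (.node 1 (.leaf 0x1380a06) (.leaf 0x2b80a06)) (.node 1 (.leaf 0xd80a06) (.leaf 0x1a0a06))))) (.node 8 (.node 4 (.node 2 (.node 1 (.leaf 0x11a0a06) (.leaf 0x14ca06)) (.node 1 (.leaf 0x194ca06) (.leaf 0x214ca06))) (.node 2 (.node 1 (.leaf 0x234ca06) (.leaf 0x1c4ca06)) (.node 1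 (.leaf 0x2c4ca06) (.leaf 0x138ca06)))) (.node 4 (.node 2 (.node 1 (.leaf 0x2b8ca06) (.leaf 0xd8ca06)) (.node 1 (.leaf 0x1aca06) (.leaf 0xa70a06))) (.node 2 (.node 1 (.leaf 0x1a70a06) (.leaf 0x2a70a06)) (.node 1 (.leaf 0xd70a06) (.leaf 0x1b0a06))))))) (.node 32 (.node 16 (.node 8 (.node 4 (.node 2 (.node 1 (.leaf 0x834a06) (.leaf 0x1034a06)) (.node 1 (.leaf 0x1a34a06) (.leaf 0x829a06))) (.node 2 (.node 1 (.leaf 0x1829a06) (.leaf 0x2029a06)) (.node 1 (.leaf 0x1329a06) (.leaf 0x2329a06)))) (.node 4 (.node 2 (.node 1 (.leaf 0x1c29a06) (.leaf 0x1c69a06)) (.node 1 (.leaf 0x2c69a06) (.leaf 0x1389a06))) (.node 2 (.node 1 (.leaf 0x2b89a06) (.leaf 0xa71a06)) (.node 1 (.leaf 0x1a71a06) (.leaf 0x2a71a06))))) (.node 8 (.node 4 (.node 2 (.node 1 (.leaf 0xd71a06) (.leaf 0x1b1a06)) (.node 1 (.leaf 0x835a06) (.leaf 0x14e206))) (.node 2 (.node 1 (.leaf 0x194e206)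 (.leaf 0x234e206)) (.node 1 (.leaf 0x2b4e206) (.leaf 0x11ae206)))) (.node 4 (.node 2 (.node 1 (.leaf 0x1036206) (.leaf 0x1a36206)) (.node 1 (.leaf 0xa06a06) (.leaf 0x1a06a06))) (.node 2 (.node 1 (.leaf 0x1346a06) (.leaf 0x2346a06)) (.node 1 (.leaf 0x1105306) (.leaf 0x1905306)))))) (.node 16 (.node 8 (.node 4 (.node 2 (.node 1 (.leaf 0x2105306) (.leaf 0x2905306)) (.node 1 (.leaf 0x2305306) (.leaf 0x1c05306))) (.node 2 (.node 1 (.leaf 0x2c05306) (.leaf 0xa65306)) (.node 1 (.leaf 0x1a65306) (.leaf 0x2265306)))) (.node 4 (.node 2 (.node 1 (.leaf 0x1c65306) (.leaf 0x2c65306)) (.node 1 (.leaf 0xd65306) (.leaf 0x1385306))) (.node 2 (.node 1 (.leaf 0x2b85306) (.leaf 0xd85306)) (.node 1 (.leaf 0x1a5306) (.leaf 0x11a5306))))) (.node 8 (.node 4 (.node 2 (.node 1 (.leaf 0x214d306) (.leaf 0x294d306)) (.node 1 (.leaf 0x1c4d306) (.leaf 0x2c4d306))) (.node 2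 (.node 1 (.leaf 0xd4d306) (.leaf 0x138d306)) (.node 1 (.leaf 0x2b8d306) (.leaf 0xd8d306)))) (.node 4 (.node 2 (.node 1 (.leaf 0x1ad306) (.leaf 0x11ad306)) (.node 1 (.leaf 0xa71306) (.leaf 0x1a71306))) (.node 2 (.node 1 (.leaf 0x2a71306) (.leaf 0xd71306)) (.node 1 (.leaf 0x1b1306) (.leaf 0x11b1306)))))))) (.node 64 (.node 32 (.node 16 (.node 8 (.node 4 (.node 2 (.node 1 (.leaf 0x1035306) (.leaf 0x1a35306)) (.node 1 (.leaf 0x14e306) (.leaf 0x194e306))) (.node 2 (.node 1 (.leaf 0x294e306) (.leaf 0x134e306)) (.node 1 (.leaf 0x234e306) (.leaf 0x2b4e306)))) (.node 4 (.node 2 (.node 1 (.leaf 0xd4e306) (.leaf 0x1ae306)) (.node 1 (.leaf 0x836306) (.leaf 0x1036306))) (.node 2 (.node 1 (.leaf 0x1a36306) (.leaf 0x106b06)) (.node 1 (.leaf 0x1106b06) (.leaf 0x2906b06))))) (.node 8 (.node 4 (.node 2 (.node 1 (.leaf 0x1a06b06) (.leaf 0x1346b06)) (.node 1 (.leaf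 0x2346b06) (.leaf 0x2b29c06))) (.node 2 (.node 1 (.leaf 0xa69c06) (.leaf 0x2269c06)) (.node 1 (.leaf 0x2a69c06) (.leaf 0x2c69c06)))) (.node 4 (.node 2 (.node 1 (.leaf 0xd69c06) (.leaf 0x1a9c06)) (.node 1 (.leaf 0xa06c06) (.leaf 0x1a06c06))) (.node 2 (.node 1 (.leaf 0x2346c06) (.leaf 0xa20d06)) (.node 1 (.leaf 0x1a20d06) (.leaf 0x140d06)))))) (.node 16 (.node 8 (.node 4 (.node 2 (.node 1 (.leaf 0x1940d06) (.leaf 0x2940d06)) (.node 1 (.leaf 0x1340d06) (.leaf 0x2340d06))) (.node 2 (.node 1 (.leaf 0x2268d06) (.leaf 0x9820807)) (.node 1 (.leaf 0x11820807) (.leaf 0x5320807)))) (.node 4 (.node 2 (.node 1 (.leaf 0xd320807) (.leaf 0x11320807)) (.node 1 (.leaf 0x10a60807) (.leaf 0x11a60807))) (.node 2 (.node 1 (.leaf 0xe260807) (.leaf 0x994c807)) (.node 1 (.leaf 0x1194c807) (.leaf 0x1594c807))))) (.node 8 (.node 4 (.node 2 (.node 1 (.leaf 0xe14c807) (.leaf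 0x1614c807)) (.node 1 (.leaf 0x694c807) (.leaf 0xe34c807))) (.node 2 (.node 1 (.leaf 0x1634c807) (.leaf 0x6b4c807)) (.node 1 (.leaf 0x9c4c807) (.leaf 0x15c4c807)))) (.node 4 (.node 2 (.node 1 (.leaf 0x6c4c807) (.leaf 0xd4c807)) (.node 1 (.leaf 0x538c807) (.leaf 0xd38c807))) (.node 2 (.node 1 (.leaf 0x11a70807) (.leaf 0x8105007)) (.node 1 (.leaf 0xc105007) (.leaf 0xd105007))))))) (.node 32 (.node 16 (.node 8 (.node 4 (.node 2 (.node 1 (.leaf 0x11105007) (.leaf 0x15105007)) (.node 1 (.leaf 0x9905007) (.leaf 0x11905007))) (.node 2 (.node 1 (.leaf 0xe105007) (.leaf 0x6905007)) (.node 1 (.leaf 0xd305007) (.leaf 0x15305007)))) (.node 4 (.node 2 (.node 1 (.leaf 0xe305007) (.leaf 0x16305007)) (.node 1 (.leaf 0x6b05007) (.leaf 0xd05007))) (.node 2 (.node 1 (.leaf 0x8d05007) (.leaf 0xca65007)) (.node 1 (.leaf 0x14a65007) (.leaf 0x9a65007))))) (.node 8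 (.node 4 (.node 2 (.node 1 (.leaf 0x11a65007) (.leaf 0x15a65007)) (.node 1 (.leaf 0x6c65007) (.leaf 0x8d65007))) (.node 2 (.node 1 (.leaf 0x1414d007) (.leaf 0x1614d007)) (.node 1 (.leaf 0x694d007) (.leaf 0x9c4d007)))) (.node 4 (.node 2 (.node 1 (.leaf 0x15c4d007) (.leaf 0x6c4d007)) (.node 1 (.leaf 0xd4d007) (.leaf 0x8d4d007))) (.node 2 (.node 1 (.leaf 0x538d007) (.leaf 0xd38d007)) (.node 1 (.leaf 0x1538d007) (.leaf 0x6b8d007)))))) (.node 16 (.node 8 (.node 4 (.node 2 (.node 1 (.leaf 0x8d8d007) (.leaf 0x81ad007)) (.node 1 (.leaf 0xd1ad007) (.leaf 0x6a71007))) (.node 2 (.node 1 (.leaf 0x11a35007) (.leaf 0xd329807)) (.node 1 (.leaf 0x11329807) (.leaf 0x15329807)))) (.node 4 (.node 2 (.node 1 (.leaf 0xe329807) (.leaf 0x16329807)) (.node 1 (.leaf 0x6b29807) (.leaf 0x9c29807))) (.node 2 (.node 1 (.leaf 0x15c29807) (.leaf 0x6c29807)) (.node 1 (.leaf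 0x8d29807) (.leaf 0x9c69807))))) (.node 8 (.node 4 (.node 2 (.node 1 (.leaf 0x15c69807) (.leaf 0x6c69807)) (.node 1 (.leaf 0x5389807) (.leaf 0x15389807))) (.node 2 (.node 1 (.leaf 0x6b89807) (.leaf 0x8d89807)) (.node 1 (.leaf 0xa71807) (.leaf 0xca71807)))) (.node 4 (.node 2 (.node 1 (.leaf 0x14a71807) (.leaf 0x11a71807)) (.node 1 (.leaf 0x15a71807) (.leaf 0x6a71807))) (.node 2 (.node 1 (.leaf 0xd71807) (.leaf 0x8d71807)) (.node 1 (.leaf 0x41b1807) (.leaf 0x835807)))))))))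

def zPath_3 : Tree := (.node 128 (.node 64 (.node 32 (.node 16 (.node 8 (.node 4 (.node 2 (.node 1 (.leaf 0x14835807) (.leaf 0xc14e007)) (.node 1 (.leaf 0x994e007) (.leaf 0x1194e007))) (.node 2 (.node 1 (.leaf 0x1594e007) (.leaf 0x694e007)) (.node 1 (.leaf 0x1634e007) (.leaf 0xd4e007)))) (.node 4 (.node 2 (.node 1 (.leaf 0x8d4e007) (.leaf 0x41ae007)) (.node 1 (.leaf 0x81ae007) (.leaf 0xd1ae007))) (.node 2 (.node 1 (.leaf 0x14106807) (.leaf 0x5106807)) (.node 1 (.leaf 0xd106807) (.leaf 0x15106807))))) (.node 8 (.node 4 (.node 2 (.node 1 (.leaf 0xa06807) (.leaf 0x15a04107)) (.node 1 (.leaf 0x16204107) (.leaf 0x6a04107))) (.node 2 (.node 1 (.leaf 0x16304107) (.leaf 0x6b04107)) (.node 1 (.leaf 0xd04107) (.leaf 0x8d04107)))) (.node 4 (.node 2 (.node 1 (.leaf 0x9944107) (.leaf 0x15c64107)) (.node 1 (.leaf 0x6c64107) (.leaf 0xd64107))) (.node 2 (.node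 1 (.leaf 0x8d64107) (.leaf 0xd328107)) (.node 1 (.leaf 0x9c28107) (.leaf 0x14a68107)))))) (.node 16 (.node 8 (.node 4 (.node 2 (.node 1 (.leaf 0x6a68107) (.leaf 0xe34c107)) (.node 1 (.leaf 0x1634c107) (.leaf 0x6b4c107))) (.node 2 (.node 1 (.leaf 0x9c4c107) (.leaf 0x15c4c107)) (.node 1 (.leaf 0x6c4c107) (.leaf 0x8d4c107)))) (.node 4 (.node 2 (.node 1 (.leaf 0xd38c107) (.leaf 0x6b8c107)) (.node 1 (.leaf 0x8d8c107) (.leaf 0x81ac107))) (.node 2 (.node 1 (.leaf 0xd1ac107) (.leaf 0xd385107)) (.node 1 (.leaf 0x414d107) (.leaf 0xc14d107))))) (.node 8 (.node 4 (.node 2 (.node 1 (.leaf 0x1194d107) (.leaf 0xe34d107)) (.node 1 (.leaf 0x1634d107) (.leaf 0x6b4d107))) (.node 2 (.node 1 (.leaf 0x9c4d107) (.leaf 0xd4d107)) (.node 1 (.leaf 0x8829907) (.leaf 0xc829907)))) (.node 4 (.node 2 (.node 1 (.leaf 0x10829907) (.leaf 0x9829907)) (.node 1 (.leaf 0x11829907)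 (.leaf 0x15829907))) (.node 2 (.node 1 (.leaf 0xe029907) (.leaf 0x16029907)) (.node 1 (.leaf 0x5329907) (.leaf 0xd329907))))))) (.node 32 (.node 16 (.node 8 (.node 4 (.node 2 (.node 1 (.leaf 0x11329907) (.leaf 0x15329907)) (.node 1 (.leaf 0xe329907) (.leaf 0x16329907))) (.node 2 (.node 1 (.leaf 0x6b29907) (.leaf 0x9c29907)) (.node 1 (.leaf 0x15c29907) (.leaf 0x6c29907)))) (.node 4 (.node 2 (.node 1 (.leaf 0xd29907) (.leaf 0x8d29907)) (.node 1 (.leaf 0x10a69907) (.leaf 0x14a69907))) (.node 2 (.node 1 (.leaf 0x16269907) (.leaf 0x6a69907)) (.node 1 (.leaf 0x9c69907) (.leaf 0x15c69907))))) (.node 8 (.node 4 (.node 2 (.node 1 (.leaf 0x6c69907) (.leaf 0xd69907)) (.node 1 (.leaf 0x8d69907) (.leaf 0x5389907))) (.node 2 (.node 1 (.leaf 0xd389907) (.leaf 0x15389907)) (.node 1 (.leaf 0x6b89907) (.leaf 0xd89907)))) (.node 4 (.node 2 (.node 1 (.leaf 0x8d89907)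 (.leaf 0x81a9907)) (.node 1 (.leaf 0xd1a9907) (.leaf 0xca71907))) (.node 2 (.node 1 (.leaf 0x9a71907) (.leaf 0x11a71907)) (.node 1 (.leaf 0x15a71907) (.leaf 0x6a71907)))))) (.node 16 (.node 8 (.node 4 (.node 2 (.node 1 (.leaf 0xd71907) (.leaf 0xd1b1907)) (.node 1 (.leaf 0x9a35907) (.leaf 0x11a35907))) (.node 2 (.node 1 (.leaf 0xca06907) (.leaf 0x14a06907)) (.node 1 (.leaf 0x9a06907) (.leaf 0x11a06907)))) (.node 4 (.node 2 (.node 1 (.leaf 0x5346907) (.leaf 0x11346907)) (.node 1 (.leaf 0x9820a07) (.leaf 0x11820a07))) (.node 2 (.node 1 (.leaf 0xe320a07) (.leaf 0x9c20a07)) (.node 1 (.leaf 0x8d20a07) (.leaf 0xe260a07))))) (.node 8 (.node 4 (.node 2 (.node 1 (.leaf 0x9c60a07) (.leaf 0x15c60a07)) (.node 1 (.leaf 0x5380a07) (.leaf 0xd380a07))) (.node 2 (.node 1 (.leaf 0x15380a07) (.leaf 0x6b80a07)) (.node 1 (.leaf 0x8d80a07) (.leaf 0x81a0a07)))) (.node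 4 (.node 2 (.node 1 (.leaf 0x414ca07) (.leaf 0xc14ca07)) (.node 1 (.leaf 0x1014ca07) (.leaf 0x994ca07))) (.node 2 (.node 1 (.leaf 0x1194ca07) (.leaf 0xe14ca07)) (.node 1 (.leaf 0xe34ca07) (.leaf 0x9c4ca07)))))))) (.node 64 (.node 32 (.node 16 (.node 8 (.node 4 (.node 2 (.node 1 (.leaf 0x15c4ca07) (.leaf 0x538ca07)) (.node 1 (.leaf 0xd38ca07) (.leaf 0x1538ca07))) (.node 2 (.node 1 (.leaf 0x6b8ca07) (.leaf 0xd8ca07)) (.node 1 (.leaf 0x41aca07) (.leaf 0xa70a07)))) (.node 4 (.node 2 (.node 1 (.leaf 0xca70a07) (.leaf 0x14a70a07)) (.node 1 (.leaf 0x11a70a07) (.leaf 0xd70a07))) (.node 2 (.node 1 (.leaf 0x8d70a07) (.leaf 0x41b0a07)) (.node 1 (.leaf 0x834a07) (.leaf 0x5034a07))))) (.node 8 (.node 4 (.node 2 (.node 1 (.leaf 0x11a34a07) (.leaf 0xc829a07)) (.node 1 (.leaf 0x10829a07) (.leaf 0x14829a07))) (.node 2 (.node 1 (.leaf 0x9829a07) (.leaf 0x11829a07))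 (.node 1 (.leaf 0xe029a07) (.leaf 0xd329a07)))) (.node 4 (.node 2 (.node 1 (.leaf 0x11329a07) (.leaf 0xe329a07)) (.node 1 (.leaf 0x9c29a07) (.leaf 0x9c69a07))) (.node 2 (.node 1 (.leaf 0x15c69a07) (.leaf 0x5389a07)) (.node 1 (.leaf 0xd389a07) (.leaf 0x15389a07)))))) (.node 16 (.node 8 (.node 4 (.node 2 (.node 1 (.leaf 0x14a71a07) (.leaf 0x11a71a07)) (.node 1 (.leaf 0x6a71a07) (.leaf 0xd71a07))) (.node 2 (.node 1 (.leaf 0x8d71a07) (.leaf 0xc14e207)) (.node 1 (.leaf 0x5036207) (.leaf 0xd036207)))) (.node 4 (.node 2 (.node 1 (.leaf 0x9a36207) (.leaf 0x11a36207)) (.node 1 (.leaf 0xa06a07) (.leaf 0xca06a07))) (.node 2 (.node 1 (.leaf 0x14a06a07) (.leaf 0x11a06a07)) (.node 1 (.leaf 0x11346a07) (.leaf 0xd105307))))) (.node 8 (.node 4 (.node 2 (.node 1 (.leaf 0x11105307) (.leaf 0x15105307)) (.node 1 (.leaf 0x9905307) (.leaf 0x11905307))) (.node 2 (.node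 1 (.leaf 0xe105307) (.leaf 0x16105307)) (.node 1 (.leaf 0xe305307) (.leaf 0x9c05307)))) (.node 4 (.node 2 (.node 1 (.leaf 0x15c05307) (.leaf 0x10a65307)) (.node 1 (.leaf 0x14a65307) (.leaf 0x9a65307))) (.node 2 (.node 1 (.leaf 0x11a65307) (.leaf 0xe265307)) (.node 1 (.leaf 0x9c65307) (.leaf 0x15c65307))))))) (.node 32 (.node 16 (.node 8 (.node 4 (.node 2 (.node 1 (.leaf 0x6c65307) (.leaf 0x5385307)) (.node 1 (.leaf 0xd385307) (.leaf 0x15385307))) (.node 2 (.node 1 (.leaf 0x6b85307) (.leaf 0xd85307)) (.node 1 (.leaf 0x8d85307) (.leaf 0x41a5307)))) (.node 4 (.node 2 (.node 1 (.leaf 0x81a5307) (.leaf 0xd1a5307)) (.node 1 (.leaf 0x1614d307) (.leaf 0x694d307))) (.node 2 (.node 1 (.leaf 0x9c4d307) (.leaf 0x15c4d307)) (.node 1 (.leaf 0x6c4d307) (.leaf 0xd4d307))))) (.node 8 (.node 4 (.node 2 (.node 1 (.leaf 0x8d4d307) (.leaf 0x538d307)) (.node 1 (.leaf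 0xd38d307) (.leaf 0x1538d307))) (.node 2 (.node 1 (.leaf 0x6b8d307) (.leaf 0xd8d307)) (.node 1 (.leaf 0x8d8d307) (.leaf 0xa71307)))) (.node 4 (.node 2 (.node 1 (.leaf 0xca71307) (.leaf 0x14a71307)) (.node 1 (.leaf 0x11a71307) (.leaf 0x15a71307))) (.node 2 (.node 1 (.leaf 0x6a71307) (.leaf 0xd71307)) (.node 1 (.leaf 0x8d71307) (.leaf 0x81b1307)))))) (.node 16 (.node 8 (.node 4 (.node 2 (.node 1 (.leaf 0xd1b1307) (.leaf 0xd035307)) (.node 1 (.leaf 0x11a35307) (.leaf 0x994e307))) (.node 2 (.node 1 (.leaf 0x1594e307) (.leaf 0x694e307)) (.node 1 (.leaf 0x534e307) (.leaf 0x1134e307)))) (.node 4 (.node 2 (.node 1 (.leaf 0x1534e307) (.leaf 0x1634e307)) (.node 1 (.leaf 0x6b4e307) (.leaf 0xd4e307))) (.node 2 (.node 1 (.leaf 0x8d4e307) (.leaf 0x836307)) (.node 1 (.leaf 0xd036307) (.leaf 0x11a36307))))) (.node 8 (.node 4 (.node 2 (.node 1 (.leaf 0x8106b07)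 (.leaf 0xd106b07)) (.node 1 (.leaf 0xa69c07) (.leaf 0x6c69c07))) (.node 2 (.node 1 (.leaf 0xd69c07) (.leaf 0x41a9c07)) (.node 1 (.leaf 0xca06c07) (.leaf 0x14a06c07)))) (.node 4 (.node 2 (.node 1 (.leaf 0x11a06c07) (.leaf 0xca20d07)) (.node 1 (.leaf 0x11a20d07) (.leaf 0xc140d07))) (.node 2 (.node 1 (.leaf 0x9940d07) (.leaf 0x11940d07)) (.node 1 (.leaf 0x15940d07) (.leaf 0x5340d07)))))))))

def zPath_4 : Tree := (.node 128 (.node 64 (.node 32 (.node 16 (.node 8 (.node 4 (.node 2 (.node 1 (.leaf 0x11340d07) (.leaf 0x89820808)) (.node 1 (.leaf 0x65320808) (.leaf 0x85320808))) (.node 2 (.node 1 (.leaf 0x71320808) (.leaf 0x70a60808)) (.node 1 (.leaf 0x71a60808) (.leaf 0x4e260808)))) (.node 4 (.node 2 (.node 1 (.leaf 0x6994c808) (.leaf 0x8994c808)) (.node 1 (.leaf 0xa994c808) (.leaf 0x7194c808))) (.node 2 (.node 1 (.leaf 0xb194c808) (.leaf 0x3594c808))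 (.node 1 (.leaf 0x4e14c808) (.leaf 0xae14c808))))) (.node 8 (.node 4 (.node 2 (.node 1 (.leaf 0x3614c808) (.leaf 0x694c808)) (.node 1 (.leaf 0x4e34c808) (.leaf 0xae34c808))) (.node 2 (.node 1 (.leaf 0x3634c808) (.leaf 0x6b4c808)) (.node 1 (.leaf 0x46b4c808) (.leaf 0x29c4c808)))) (.node 4 (.node 2 (.node 1 (.leaf 0x69c4c808) (.leaf 0x35c4c808)) (.node 1 (.leaf 0x6c4c808) (.leaf 0x20d4c808))) (.node 2 (.node 1 (.leaf 0x6538c808) (.leaf 0x4d38c808)) (.node 1 (.leaf 0x8d38c808) (.leaf 0x68105008)))))) (.node 16 (.node 8 (.node 4 (.node 2 (.node 1 (.leaf 0x4d105008) (.leaf 0xad105008)) (.node 1 (.leaf 0x35105008) (.leaf 0x46905008))) (.node 2 (.node 1 (.leaf 0xad305008) (.leaf 0x35305008)) (.node 1 (.leaf 0x40d05008) (.leaf 0x68d05008)))) (.node 4 (.node 2 (.node 1 (.leaf 0xaca65008) (.leaf 0x89a65008)) (.node 1 (.leaf 0xa9a65008) (.leaf 0x3414d008)))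 (.node 2 (.node 1 (.leaf 0x694d008) (.leaf 0xa9c4d008)) (.node 1 (.leaf 0x35c4d008) (.leaf 0x20d4d008))))) (.node 8 (.node 4 (.node 2 (.node 1 (.leaf 0x8d329808) (.leaf 0xad329808)) (.node 1 (.leaf 0x71329808) (.leaf 0xb1329808))) (.node 2 (.node 1 (.leaf 0x35329808) (.leaf 0x4e329808)) (.node 1 (.leaf 0xae329808) (.leaf 0x36329808)))) (.node 4 (.node 2 (.node 1 (.leaf 0x29c29808) (.leaf 0x69c29808)) (.node 1 (.leaf 0xa9c29808) (.leaf 0x35c29808))) (.node 2 (.node 1 (.leaf 0x46c29808) (.leaf 0x29c69808)) (.node 1 (.leaf 0x69c69808) (.leaf 0xa9c69808))))))) (.node 32 (.node 16 (.node 8 (.node 4 (.node 2 (.node 1 (.leaf 0x35c69808) (.leaf 0x5389808)) (.node 1 (.leaf 0x60a71808) (.leaf 0x4ca71808))) (.node 2 (.node 1 (.leaf 0x8ca71808) (.leaf 0xaca71808)) (.node 1 (.leaf 0x34a71808) (.leaf 0xb1a71808)))) (.node 4 (.node 2 (.node 1 (.leaf 0x35a71808)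 (.leaf 0x6a71808)) (.node 1 (.leaf 0x46a71808) (.leaf 0x20d71808))) (.node 2 (.node 1 (.leaf 0x40d71808) (.leaf 0x68d71808)) (.node 1 (.leaf 0x41b1808) (.leaf 0xa41b1808))))) (.node 8 (.node 4 (.node 2 (.node 1 (.leaf 0xa0835808) (.leaf 0x4c14e008)) (.node 1 (.leaf 0x8c14e008) (.leaf 0x8994e008))) (.node 2 (.node 1 (.leaf 0xb194e008) (.leaf 0x4694e008)) (.node 1 (.leaf 0x20d4e008) (.leaf 0x40d4e008)))) (.node 4 (.node 2 (.node 1 (.leaf 0x68d4e008) (.leaf 0x441ae008)) (.node 1 (.leaf 0x281ae008) (.leaf 0x8d1ae008))) (.node 2 (.node 1 (.leaf 0x5106808) (.leaf 0x4d106808)) (.node 1 (.leaf 0x8d106808) (.leaf 0xad106808)))))) (.node 16 (.node 8 (.node 4 (.node 2 (.node 1 (.leaf 0x35106808) (.leaf 0x35a04108)) (.node 1 (.leaf 0x36204108) (.leaf 0x6a04108))) (.node 2 (.node 1 (.leaf 0x46a04108) (.leaf 0x36304108)) (.node 1 (.leaf 0x6b04108) (.leaf 0x46b04108))))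 (.node 4 (.node 2 (.node 1 (.leaf 0x68d04108) (.leaf 0x69944108)) (.node 1 (.leaf 0x35c64108) (.leaf 0x46c64108))) (.node 2 (.node 1 (.leaf 0x68d64108) (.leaf 0x34a68108)) (.node 1 (.leaf 0x6a68108) (.leaf 0x4e34c108))))) (.node 8 (.node 4 (.node 2 (.node 1 (.leaf 0xae34c108) (.leaf 0x3634c108)) (.node 1 (.leaf 0x46b4c108) (.leaf 0x29c4c108))) (.node 2 (.node 1 (.leaf 0xa9c4c108) (.leaf 0x35c4c108)) (.node 1 (.leaf 0x46c4c108) (.leaf 0x68d4c108)))) (.node 4 (.node 2 (.node 1 (.leaf 0x46b8c108) (.leaf 0x68d8c108)) (.node 1 (.leaf 0x681ac108) (.leaf 0x8d1ac108))) (.node 2 (.node 1 (.leaf 0x8d385108) (.leaf 0x6414d108)) (.node 1 (.leaf 0xa414d108) (.leaf 0x8c14d108)))))))) (.node 64 (.node 32 (.node 16 (.node 8 (.node 4 (.node 2 (.node 1 (.leaf 0x4e34d108) (.leaf 0x3634d108)) (.node 1 (.leaf 0x6b4d108) (.leaf 0x46b4d108))) (.node 2 (.node 1 (.leaf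 0x29c4d108) (.leaf 0x20d4d108)) (.node 1 (.leaf 0x68829908) (.leaf 0x88829908)))) (.node 4 (.node 2 (.node 1 (.leaf 0x4c829908) (.leaf 0x8c829908)) (.node 1 (.leaf 0x70829908) (.leaf 0x29829908))) (.node 2 (.node 1 (.leaf 0x89829908) (.leaf 0xa9829908)) (.node 1 (.leaf 0x71829908) (.leaf 0xb1829908))))) (.node 8 (.node 4 (.node 2 (.node 1 (.leaf 0x4e029908) (.leaf 0xae029908)) (.node 1 (.leaf 0x85329908) (.leaf 0x8d329908))) (.node 2 (.node 1 (.leaf 0x71329908) (.leaf 0xb1329908)) (.node 1 (.leaf 0x35329908) (.leaf 0x4e329908)))) (.node 4 (.node 2 (.node 1 (.leaf 0xae329908) (.leaf 0x36329908)) (.node 1 (.leaf 0x6b29908) (.leaf 0x46b29908))) (.node 2 (.node 1 (.leaf 0x29c29908) (.leaf 0x69c29908)) (.node 1 (.leaf 0xa9c29908) (.leaf 0x35c29908)))))) (.node 16 (.node 8 (.node 4 (.node 2 (.node 1 (.leaf 0x6c29908) (.leaf 0x46c29908)) (.node 1 (.leaf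 0x20d29908) (.leaf 0x40d29908))) (.node 2 (.node 1 (.leaf 0x68d29908) (.leaf 0xb0a69908)) (.node 1 (.leaf 0x34a69908) (.leaf 0x36269908)))) (.node 4 (.node 2 (.node 1 (.leaf 0x6a69908) (.leaf 0x46a69908)) (.node 1 (.leaf 0x29c69908) (.leaf 0x69c69908))) (.node 2 (.node 1 (.leaf 0xa9c69908) (.leaf 0x35c69908)) (.node 1 (.leaf 0x6c69908) (.leaf 0x46c69908))))) (.node 8 (.node 4 (.node 2 (.node 1 (.leaf 0x40d69908) (.leaf 0x68d69908)) (.node 1 (.leaf 0x5389908) (.leaf 0x65389908))) (.node 2 (.node 1 (.leaf 0xa5389908) (.leaf 0x8d389908)) (.node 1 (.leaf 0xad389908) (.leaf 0x35389908)))) (.node 4 (.node 2 (.node 1 (.leaf 0x6b89908) (.leaf 0x46b89908)) (.node 1 (.leaf 0x40d89908) (.leaf 0x68d89908))) (.node 2 (.node 1 (.leaf 0x281a9908) (.leaf 0x4ca71908)) (.node 1 (.leaf 0x29a71908) (.leaf 0x89a71908))))))) (.node 32 (.node 16 (.node 8 (.node 4 (.node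 2 (.node 1 (.leaf 0xa9a71908) (.leaf 0x35a71908)) (.node 1 (.leaf 0x8d1b1908) (.leaf 0x29a35908))) (.node 2 (.node 1 (.leaf 0x4ca06908) (.leaf 0x8ca06908)) (.node 1 (.leaf 0xaca06908) (.leaf 0x29a06908)))) (.node 4 (.node 2 (.node 1 (.leaf 0x89a06908) (.leaf 0x85346908)) (.node 1 (.leaf 0x29c20a08) (.leaf 0x69c20a08))) (.node 2 (.node 1 (.leaf 0x4e260a08) (.leaf 0xa9c60a08)) (.node 1 (.leaf 0x65380a08) (.leaf 0x8d380a08))))) (.node 8 (.node 4 (.node 2 (.node 1 (.leaf 0x281a0a08) (.leaf 0x414ca08)) (.node 1 (.leaf 0x4414ca08) (.leaf 0x6414ca08))) (.node 2 (.node 1 (.leaf 0x8414ca08) (.leaf 0xa414ca08)) (.node 1 (.leaf 0x4c14ca08) (.leaf 0x8c14ca08)))) (.node 4 (.node 2 (.node 1 (.leaf 0x7014ca08) (.leaf 0x6994ca08)) (.node 1 (.leaf 0x8994ca08) (.leaf 0x7194ca08))) (.node 2 (.node 1 (.leaf 0x4e14ca08) (.leaf 0x29c4ca08)) (.node 1 (.leaf 0x69c4ca08)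 (.leaf 0x6538ca08)))))) (.node 16 (.node 8 (.node 4 (.node 2 (.node 1 (.leaf 0x4d38ca08) (.leaf 0x8d38ca08)) (.node 1 (.leaf 0xad38ca08) (.leaf 0x6b8ca08))) (.node 2 (.node 1 (.leaf 0x46b8ca08) (.leaf 0x20a70a08)) (.node 1 (.leaf 0x60a70a08) (.leaf 0x4ca70a08)))) (.node 4 (.node 2 (.node 1 (.leaf 0x8ca70a08) (.leaf 0x41b0a08)) (.node 1 (.leaf 0x4c829a08) (.leaf 0x8c829a08))) (.node 2 (.node 1 (.leaf 0x70829a08) (.leaf 0x29829a08)) (.node 1 (.leaf 0x69829a08) (.leaf 0x89829a08))))) (.node 8 (.node 4 (.node 2 (.node 1 (.leaf 0x71829a08) (.leaf 0x4e029a08)) (.node 1 (.leaf 0x4d329a08) (.leaf 0x8d329a08))) (.node 2 (.node 1 (.leaf 0x71329a08) (.leaf 0x4e329a08)) (.node 1 (.leaf 0x29c29a08) (.leaf 0x69c29a08)))) (.node 4 (.node 2 (.node 1 (.leaf 0x29c69a08) (.leaf 0x69c69a08)) (.node 1 (.leaf 0xa9c69a08) (.leaf 0x5389a08))) (.node 2 (.node 1 (.leaf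 0x65389a08) (.leaf 0xa5389a08)) (.node 1 (.leaf 0x68d71a08) (.leaf 0x65036208)))))))))

def zPath_5 : Tree := (.node 128 (.node 64 (.node 32 (.node 16 (.node 8 (.node 4 (.node 2 (.node 1 (.leaf 0x8d036208) (.leaf 0x89a36208)) (.node 1 (.leaf 0x60a06a08) (.leaf 0x8ca06a08))) (.node 2 (.node 1 (.leaf 0xaca06a08) (.leaf 0x71346a08)) (.node 1 (.leaf 0x4d105308) (.leaf 0x8d105308)))) (.node 4 (.node 2 (.node 1 (.leaf 0xad105308) (.leaf 0x71105308)) (.node 1 (.leaf 0xb1105308) (.leaf 0x69905308))) (.node 2 (.node 1 (.leaf 0x89905308) (.leaf 0x71905308)) (.node 1 (.leaf 0xae105308) (.leaf 0x4e305308))))) (.node 8 (.node 4 (.node 2 (.node 1 (.leaf 0x69c05308) (.leaf 0xa9c05308)) (.node 1 (.leaf 0xb0a65308) (.leaf 0x29a65308))) (.node 2 (.node 1 (.leaf 0x4e265308) (.leaf 0x29c65308)) (.node 1 (.leaf 0x69c65308) (.leaf 0xa9c65308)))) (.node 4 (.node 2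 (.node 1 (.leaf 0x35c65308) (.leaf 0x5385308)) (.node 1 (.leaf 0x65385308) (.leaf 0xa5385308))) (.node 2 (.node 1 (.leaf 0x4d385308) (.leaf 0x8d385308)) (.node 1 (.leaf 0xad385308) (.leaf 0x35385308)))))) (.node 16 (.node 8 (.node 4 (.node 2 (.node 1 (.leaf 0x6b85308) (.leaf 0x46b85308)) (.node 1 (.leaf 0x20d85308) (.leaf 0x40d85308))) (.node 2 (.node 1 (.leaf 0x68d85308) (.leaf 0x41a5308)) (.node 1 (.leaf 0x3614d308) (.leaf 0x694d308)))) (.node 4 (.node 2 (.node 1 (.leaf 0x69c4d308) (.leaf 0xa9c4d308)) (.node 1 (.leaf 0x35c4d308) (.leaf 0x6c4d308))) (.node 2 (.node 1 (.leaf 0x46c4d308) (.leaf 0x538d308)) (.node 1 (.leaf 0x6538d308) (.leaf 0xa538d308))))) (.node 8 (.node 4 (.node 2 (.node 1 (.leaf 0x8d38d308) (.leaf 0xad38d308)) (.node 1 (.leaf 0x3538d308) (.leaf 0x6b8d308))) (.node 2 (.node 1 (.leaf 0x46b8d308) (.leaf 0x68d8d308)) (.node 1 (.leaf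 0x20a71308) (.leaf 0x60a71308)))) (.node 4 (.node 2 (.node 1 (.leaf 0xa0a71308) (.leaf 0x8ca71308)) (.node 1 (.leaf 0xaca71308) (.leaf 0x34a71308))) (.node 2 (.node 1 (.leaf 0xb1a71308) (.leaf 0x35a71308)) (.node 1 (.leaf 0x6a71308) (.leaf 0x46a71308))))))) (.node 32 (.node 16 (.node 8 (.node 4 (.node 2 (.node 1 (.leaf 0x40d71308) (.leaf 0x68d71308)) (.node 1 (.leaf 0x681b1308) (.leaf 0x4d1b1308))) (.node 2 (.node 1 (.leaf 0x8d1b1308) (.leaf 0x8d035308)) (.node 1 (.leaf 0x2994e308) (.leaf 0x6994e308)))) (.node 4 (.node 2 (.node 1 (.leaf 0x3594e308) (.leaf 0x694e308)) (.node 1 (.leaf 0x534e308) (.leaf 0x8534e308))) (.node 2 (.node 1 (.leaf 0xa534e308) (.leaf 0x7134e308)) (.node 1 (.leaf 0xb134e308) (.leaf 0x3534e308))))) (.node 8 (.node 4 (.node 2 (.node 1 (.leaf 0x3634e308) (.leaf 0x6b4e308)) (.node 1 (.leaf 0x46b4e308) (.leaf 0x20d4e308))) (.node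 2 (.node 1 (.leaf 0xa41a9c08) (.leaf 0x4ca06c08)) (.node 1 (.leaf 0x8ca06c08) (.leaf 0xaca06c08)))) (.node 4 (.node 2 (.node 1 (.leaf 0x4ca20d08) (.leaf 0x8ca20d08)) (.node 1 (.leaf 0x4c140d08) (.leaf 0x8c140d08))) (.node 2 (.node 1 (.leaf 0x29940d08) (.leaf 0x69940d08)) (.node 1 (.leaf 0x89940d08) (.leaf 0xa9940d08)))))) (.node 16 (.node 8 (.node 4 (.node 2 (.node 1 (.leaf 0xb1940d08) (.leaf 0x5340d08)) (.node 1 (.leaf 0xa5340d08) (.leaf 0x389820809))) (.node 2 (.node 1 (.leaf 0x385320809) (.leaf 0x271a60809)) (.node 1 (.leaf 0x46994c809) (.leaf 0x56994c809)))) (.node 4 (.node 2 (.node 1 (.leaf 0x38994c809) (.leaf 0x58994c809)) (.node 1 (.leaf 0x1a994c809) (.leaf 0x27194c809))) (.node 2 (.node 1 (.leaf 0x57194c809) (.leaf 0x1b194c809)) (.node 1 (.leaf 0x3594c809) (.leaf 0x23594c809))))) (.node 8 (.node 4 (.node 2 (.node 1 (.leaf 0x14e14c809)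 (.leaf 0x34e14c809)) (.node 1 (.leaf 0x54e14c809) (.leaf 0x1ae14c809))) (.node 2 (.node 1 (.leaf 0x3614c809) (.leaf 0x14e34c809)) (.node 1 (.leaf 0x34e34c809) (.leaf 0x54e34c809)))) (.node 4 (.node 2 (.node 1 (.leaf 0x1ae34c809) (.leaf 0x3634c809)) (.node 1 (.leaf 0x23634c809) (.leaf 0x206b4c809))) (.node 2 (.node 1 (.leaf 0x29c4c809) (.leaf 0x329c4c809)) (.node 1 (.leaf 0x529c4c809) (.leaf 0x35c4c809)))))))) (.node 64 (.node 32 (.node 16 (.node 8 (.node 4 (.node 2 (.node 1 (.leaf 0x235c4c809) (.leaf 0x106c4c809)) (.node 1 (.leaf 0x26538c809) (.leaf 0x14d38c809))) (.node 2 (.node 1 (.leaf 0x44d38c809) (.leaf 0x1ad105009)) (.node 1 (.leaf 0x35105009) (.leaf 0x235105009)))) (.node 4 (.node 2 (.node 1 (.leaf 0x346905009) (.leaf 0x1ad305009)) (.node 1 (.leaf 0x340d05009) (.leaf 0x268d05009))) (.node 2 (.node 1 (.leaf 0x468d05009) (.leaf 0x389a65009))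 (.node 1 (.leaf 0x1a9a65009) (.leaf 0x38d329809))))) (.node 8 (.node 4 (.node 2 (.node 1 (.leaf 0x58d329809) (.leaf 0x1ad329809)) (.node 1 (.leaf 0x271329809) (.leaf 0x571329809))) (.node 2 (.node 1 (.leaf 0x1b1329809) (.leaf 0x34e329809)) (.node 1 (.leaf 0x54e329809) (.leaf 0x1ae329809)))) (.node 4 (.node 2 (.node 1 (.leaf 0x329c29809) (.leaf 0x469c29809)) (.node 1 (.leaf 0x569c29809) (.leaf 0x260a71809))) (.node 2 (.node 1 (.leaf 0x54ca71809) (.leaf 0x1aca71809)) (.node 1 (.leaf 0x234a71809) (.leaf 0x35a71809)))))) (.node 16 (.node 8 (.node 4 (.node 2 (.node 1 (.leaf 0x235a71809) (.leaf 0x106a71809)) (.node 1 (.leaf 0x206a71809) (.leaf 0x346a71809))) (.node 2 (.node 1 (.leaf 0x220d71809) (.leaf 0x140d71809)) (.node 1 (.leaf 0x340d71809) (.leaf 0x468d71809)))) (.node 4 (.node 2 (.node 1 (.leaf 0x5041b1809) (.leaf 0x34694e009)) (.node 1 (.leaf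 0x468d4e009) (.leaf 0x1441ae009))) (.node 2 (.node 1 (.leaf 0x3441ae009) (.leaf 0x54d106809)) (.node 1 (.leaf 0x58d106809) (.leaf 0x35106809))))) (.node 8 (.node 4 (.node 2 (.node 1 (.leaf 0x35a04109) (.leaf 0x36204109)) (.node 1 (.leaf 0x106a04109) (.leaf 0x206a04109))) (.node 2 (.node 1 (.leaf 0x346a04109) (.leaf 0x36304109)) (.node 1 (.leaf 0x236304109) (.leaf 0x206b04109)))) (.node 4 (.node 2 (.node 1 (.leaf 0x346b04109) (.leaf 0x268d04109)) (.node 1 (.leaf 0x468d04109) (.leaf 0x346c64109))) (.node 2 (.node 1 (.leaf 0x468d64109) (.leaf 0x34a68109)) (.node 1 (.leaf 0x106a68109) (.leaf 0x14e34c109))))))) (.node 32 (.node 16 (.node 8 (.node 4 (.node 2 (.node 1 (.leaf 0x34e34c109) (.leaf 0x54e34c109)) (.node 1 (.leaf 0x1ae34c109) (.leaf 0x23634c109))) (.node 2 (.node 1 (.leaf 0x346b4c109) (.leaf 0x346c4c109)) (.node 1 (.leaf 0x268d4c109) (.leaf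 0x468d4c109)))) (.node 4 (.node 2 (.node 1 (.leaf 0x346b8c109) (.leaf 0x268d8c109)) (.node 1 (.leaf 0x468d8c109) (.leaf 0x4681ac109))) (.node 2 (.node 1 (.leaf 0x26414d109) (.leaf 0x46414d109)) (.node 1 (.leaf 0x56414d109) (.leaf 0x14e34d109))))) (.node 8 (.node 4 (.node 2 (.node 1 (.leaf 0x34e34d109) (.leaf 0x23634d109)) (.node 1 (.leaf 0x106b4d109) (.leaf 0x268829909))) (.node 2 (.node 1 (.leaf 0x468829909) (.leaf 0x388829909)) (.node 1 (.leaf 0x14c829909) (.leaf 0x34c829909)))) (.node 4 (.node 2 (.node 1 (.leaf 0x44c829909) (.leaf 0x38c829909)) (.node 1 (.leaf 0x271829909) (.leaf 0x571829909))) (.node 2 (.node 1 (.leaf 0x54e029909) (.leaf 0x385329909)) (.node 1 (.leaf 0x1b1329909) (.leaf 0x35329909)))))) (.node 16 (.node 8 (.node 4 (.node 2 (.node 1 (.leaf 0x235329909) (.leaf 0x14e329909)) (.node 1 (.leaf 0x34e329909) (.leaf 0x54e329909)))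 (.node 2 (.node 1 (.leaf 0x1ae329909) (.leaf 0x36329909)) (.node 1 (.leaf 0x236329909) (.leaf 0x106b29909)))) (.node 4 (.node 2 (.node 1 (.leaf 0x206b29909) (.leaf 0x346b29909)) (.node 1 (.leaf 0x29c29909) (.leaf 0x329c29909))) (.node 2 (.node 1 (.leaf 0x529c29909) (.leaf 0x469c29909)) (.node 1 (.leaf 0x569c29909) (.leaf 0x1a9c29909))))) (.node 8 (.node 4 (.node 2 (.node 1 (.leaf 0x35c29909) (.leaf 0x106c29909)) (.node 1 (.leaf 0x220d29909) (.leaf 0x1b0a69909))) (.node 2 (.node 1 (.leaf 0x34a69909) (.leaf 0x234a69909)) (.node 1 (.leaf 0x36269909) (.leaf 0x236269909)))) (.node 4 (.node 2 (.node 1 (.leaf 0x106a69909) (.leaf 0x206a69909)) (.node 1 (.leaf 0x346a69909) (.leaf 0x29c69909))) (.node 2 (.node 1 (.leaf 0x329c69909) (.leaf 0x529c69909)) (.node 1 (.leaf 0x469c69909) (.leaf 0x569c69909)))))))))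

def zPath_6 : Tree := (.node 128 (.node 64 (.node 32 (.node 16 (.node 8 (.node 4 (.node 2 (.node 1 (.leaf 0x1a9c69909) (.leaf 0x35c69909)) (.node 1 (.leaf 0x235c69909) (.leaf 0x206c69909))) (.node 2 (.node 1 (.leaf 0x346c69909) (.leaf 0x140d69909)) (.node 1 (.leaf 0x340d69909) (.leaf 0x305389909)))) (.node 4 (.node 2 (.node 1 (.leaf 0x505389909) (.leaf 0x565389909)) (.node 1 (.leaf 0x1a5389909) (.leaf 0x1ad389909))) (.node 2 (.node 1 (.leaf 0x35389909) (.leaf 0x235389909)) (.node 1 (.leaf 0x206b89909) (.leaf 0x140d89909))))) (.node 8 (.node 4 (.node 2 (.node 1 (.leaf 0x14ca71909) (.leaf 0x34ca71909)) (.node 1 (.leaf 0x429a71909) (.leaf 0x389a71909))) (.node 2 (.node 1 (.leaf 0x14ca06909) (.leaf 0x34ca06909)) (.node 1 (.leaf 0x44ca06909) (.leaf 0x54ca06909)))) (.node 4 (.node 2 (.node 1 (.leaf 0x58ca06909) (.leaf 0x429a06909)) (.node 1 (.leaf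 0x529a06909) (.leaf 0x329c20a09))) (.node 2 (.node 1 (.leaf 0x469c20a09) (.leaf 0x281a0a09)) (.node 1 (.leaf 0x46414ca09) (.leaf 0x44c14ca09)))))) (.node 16 (.node 8 (.node 4 (.node 2 (.node 1 (.leaf 0x38c14ca09) (.leaf 0x27014ca09)) (.node 1 (.leaf 0x46994ca09) (.leaf 0x38994ca09))) (.node 2 (.node 1 (.leaf 0x27194ca09) (.leaf 0x14e14ca09)) (.node 1 (.leaf 0x34e14ca09) (.leaf 0x529c4ca09)))) (.node 4 (.node 2 (.node 1 (.leaf 0x46538ca09) (.leaf 0x44d38ca09)) (.node 1 (.leaf 0x346b8ca09) (.leaf 0x320a70a09))) (.node 2 (.node 1 (.leaf 0x260a70a09) (.leaf 0x460a70a09)) (.node 1 (.leaf 0x34ca70a09) (.leaf 0x44ca70a09))))) (.node 8 (.node 4 (.node 2 (.node 1 (.leaf 0x44c829a09) (.leaf 0x429829a09)) (.node 1 (.leaf 0x469829a09) (.leaf 0x389829a09))) (.node 2 (.node 1 (.leaf 0x34e029a09) (.leaf 0x44d329a09)) (.node 1 (.leaf 0x38d329a09) (.leaf 0x271329a09))))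 (.node 4 (.node 2 (.node 1 (.leaf 0x14e329a09) (.leaf 0x29c29a09)) (.node 1 (.leaf 0x529c29a09) (.leaf 0x269c29a09))) (.node 2 (.node 1 (.leaf 0x469c29a09) (.leaf 0x29c69a09)) (.node 1 (.leaf 0x329c69a09) (.leaf 0x529c69a09))))))) (.node 32 (.node 16 (.node 8 (.node 4 (.node 2 (.node 1 (.leaf 0x305389a09) (.leaf 0x505389a09)) (.node 1 (.leaf 0x465036209) (.leaf 0x389a36209))) (.node 2 (.node 1 (.leaf 0x58ca06a09) (.leaf 0x271346a09)) (.node 1 (.leaf 0x14d105309) (.leaf 0x34d105309)))) (.node 4 (.node 2 (.node 1 (.leaf 0x38d105309) (.leaf 0x58d105309)) (.node 1 (.leaf 0x271105309) (.leaf 0x269905309))) (.node 2 (.node 1 (.leaf 0x469905309) (.leaf 0x389905309)) (.node 1 (.leaf 0x34e305309) (.leaf 0x469c05309))))) (.node 8 (.node 4 (.node 2 (.node 1 (.leaf 0x569c05309) (.leaf 0x1a9c05309)) (.node 1 (.leaf 0x34e265309) (.leaf 0x29c65309))) (.node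 2 (.node 1 (.leaf 0x329c65309) (.leaf 0x529c65309)) (.node 1 (.leaf 0x269c65309) (.leaf 0x469c65309)))) (.node 4 (.node 2 (.node 1 (.leaf 0x569c65309) (.leaf 0x1a9c65309)) (.node 1 (.leaf 0x235c65309) (.leaf 0x105385309))) (.node 2 (.node 1 (.leaf 0x305385309) (.leaf 0x505385309)) (.node 1 (.leaf 0x465385309) (.leaf 0x565385309)))))) (.node 16 (.node 8 (.node 4 (.node 2 (.node 1 (.leaf 0x1a5385309) (.leaf 0x44d385309)) (.node 1 (.leaf 0x54d385309) (.leaf 0x58d385309))) (.node 2 (.node 1 (.leaf 0x1ad385309) (.leaf 0x235385309)) (.node 1 (.leaf 0x106b85309) (.leaf 0x206b85309)))) (.node 4 (.node 2 (.node 1 (.leaf 0x346b85309) (.leaf 0x20d85309)) (.node 1 (.leaf 0x268d85309) (.leaf 0x3614d309))) (.node 2 (.node 1 (.leaf 0x569c4d309) (.leaf 0x346c4d309)) (.node 1 (.leaf 0x50538d309) (.leaf 0x56538d309))))) (.node 8 (.node 4 (.node 2 (.node 1 (.leaf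 0x1a538d309) (.leaf 0x1ad38d309)) (.node 1 (.leaf 0x3538d309) (.leaf 0x23538d309))) (.node 2 (.node 1 (.leaf 0x206b8d309) (.leaf 0x346b8d309)) (.node 1 (.leaf 0x268d8d309) (.leaf 0x20a71309)))) (.node 4 (.node 2 (.node 1 (.leaf 0x560a71309) (.leaf 0x1a0a71309)) (.node 1 (.leaf 0x58ca71309) (.leaf 0x1aca71309))) (.node 2 (.node 1 (.leaf 0x34a71309) (.leaf 0x234a71309)) (.node 1 (.leaf 0x106a71309) (.leaf 0x206a71309)))))))) (.node 64 (.node 32 (.node 16 (.node 8 (.node 4 (.node 2 (.node 1 (.leaf 0x140d71309) (.leaf 0x340d71309)) (.node 1 (.leaf 0x268d71309) (.leaf 0x468d71309))) (.node 2 (.node 1 (.leaf 0x2681b1309) (.leaf 0x34d1b1309)) (.node 1 (.leaf 0x44d1b1309) (.leaf 0x32994e309)))) (.node 4 (.node 2 (.node 1 (.leaf 0x3594e309) (.leaf 0x57134e309)) (.node 1 (.leaf 0x54ca06c09) (.leaf 0x58ca06c09))) (.node 2 (.node 1 (.leaf 0x44ca20d09) (.leaf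 0x44c140d09)) (.node 1 (.leaf 0x469940d09) (.leaf 0x569940d09))))) (.node 8 (.node 4 (.node 2 (.node 1 (.leaf 0x389940d09) (.leaf 0x589940d09)) (.node 1 (.leaf 0x1a9940d09) (.leaf 0x1c6994c80a))) (.node 2 (.node 1 (.leaf 0x2c6994c80a) (.leaf 0xd6994c80a)) (.node 1 (.leaf 0x138994c80a) (.leaf 0x2b8994c80a)))) (.node 4 (.node 2 (.node 1 (.leaf 0xd8994c80a) (.leaf 0x11a994c80a)) (.node 1 (.leaf 0x1a7194c80a) (.leaf 0x2a7194c80a))) (.node 2 (.node 1 (.leaf 0xd7194c80a) (.leaf 0x1b194c80a)) (.node 1 (.leaf 0x11b194c80a) (.leaf 0x103594c80a)))))) (.node 16 (.node 8 (.node 4 (.node 2 (.node 1 (.leaf 0x294e14c80a) (.leaf 0x2b4e14c80a)) (.node 1 (.leaf 0xd4e14c80a) (.leaf 0x1ae14c80a))) (.node 2 (.node 1 (.leaf 0x11ae14c80a) (.leaf 0x1ae34c80a)) (.node 1 (.leaf 0x11ae34c80a) (.leaf 0x829c4c80a)))) (.node 4 (.node 2 (.node 1 (.leaf 0x1329c4c80a) (.leaf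 0x835c4c80a)) (.node 1 (.leaf 0x1035c4c80a) (.leaf 0x1a35c4c80a))) (.node 2 (.node 1 (.leaf 0x214d38c80a) (.leaf 0x1ad10500a)) (.node 1 (.leaf 0x1a3510500a) (.leaf 0x138d32980a))))) (.node 8 (.node 4 (.node 2 (.node 1 (.leaf 0x2b8d32980a) (.leaf 0xd8d32980a)) (.node 1 (.leaf 0x1a7132980a) (.leaf 0x2a7132980a))) (.node 2 (.node 1 (.leaf 0xd7132980a) (.leaf 0x134e32980a)) (.node 1 (.leaf 0x2b4e32980a) (.leaf 0x2c69c2980a)))) (.node 4 (.node 2 (.node 1 (.leaf 0xd4ca7180a) (.leaf 0x1a34a7180a)) (.node 1 (.leaf 0x1a06a7180a) (.leaf 0x2346a7180a))) (.node 2 (.node 1 (.leaf 0xa20d7180a) (.leaf 0x1a20d7180a)) (.node 1 (.leaf 0x1940d7180a) (.leaf 0x19441ae00a))))))) (.node 32 (.node 16 (.node 8 (.node 4 (.node 2 (.node 1 (.leaf 0x23441ae00a) (.leaf 0x835a0410a)) (.node 1 (.leaf 0x83620410a) (.leaf 0x1a06a0410a))) (.node 2 (.node 1 (.leaf 0x2346a0410a)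 (.leaf 0x103630410a)) (.node 1 (.leaf 0x1a3630410a) (.leaf 0x2346b0410a)))) (.node 4 (.node 2 (.node 1 (.leaf 0xa68d0410a) (.leaf 0x1a68d0410a)) (.node 1 (.leaf 0x2268d0410a) (.leaf 0x1346c6410a))) (.node 2 (.node 1 (.leaf 0x2346c6410a) (.leaf 0x194e34c10a)) (.node 1 (.leaf 0x1a3634c10a) (.leaf 0x2346b4c10a))))) (.node 8 (.node 4 (.node 2 (.node 1 (.leaf 0x2346c4c10a) (.leaf 0x2268d4c10a)) (.node 1 (.leaf 0x1346b8c10a) (.leaf 0x2346b8c10a))) (.node 2 (.node 1 (.leaf 0x2268d8c10a) (.leaf 0x1a6414d10a)) (.node 1 (.leaf 0x226414d10a) (.leaf 0x2a6414d10a)))) (.node 4 (.node 2 (.node 1 (.leaf 0x2c6414d10a) (.leaf 0x1a3634d10a)) (.node 1 (.leaf 0xa6882990a) (.leaf 0x1a6882990a))) (.node 2 (.node 1 (.leaf 0x226882990a) (.leaf 0x1c6882990a)) (.node 1 (.leaf 0x194c82990a) (.leaf 0x234c82990a)))))) (.node 16 (.node 8 (.node 4 (.node 2 (.node 1 (.leaf 0x1c4c82990a)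 (.leaf 0x1a7182990a)) (.node 1 (.leaf 0x2a7182990a) (.leaf 0xd4e02990a))) (.node 2 (.node 1 (.leaf 0x1b132990a) (.leaf 0x11b132990a)) (.node 1 (.leaf 0x14e32990a) (.leaf 0x194e32990a)))) (.node 4 (.node 2 (.node 1 (.leaf 0x294e32990a) (.leaf 0x234e32990a)) (.node 1 (.leaf 0xd4e32990a) (.leaf 0x1ae32990a))) (.node 2 (.node 1 (.leaf 0x83632990a) (.leaf 0x103632990a)) (.node 1 (.leaf 0x1a3632990a) (.leaf 0x829c2990a))))) (.node 8 (.node 4 (.node 2 (.node 1 (.leaf 0x1829c2990a) (.leaf 0x2829c2990a)) (.node 1 (.leaf 0x2329c2990a) (.leaf 0x2b29c2990a))) (.node 2 (.node 1 (.leaf 0xd29c2990a) (.leaf 0x1a9c2990a)) (.node 1 (.leaf 0x835c2990a) (.leaf 0x1b0a6990a)))) (.node 4 (.node 2 (.node 1 (.leaf 0x11b0a6990a) (.leaf 0x1034a6990a)) (.node 1 (.leaf 0x1a34a6990a) (.leaf 0x83626990a))) (.node 2 (.node 1 (.leaf 0x2829c6990a) (.leaf 0x2b29c6990a)) (.node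 1 (.leaf 0xd29c6990a) (.leaf 0x1035c6990a)))))))))

def zPath_7 : Tree := (.node 128 (.node 64 (.node 32 (.node 16 (.node 8 (.node 4 (.node 2 (.node 1 (.leaf 0x1940d6990a) (.leaf 0x2940d6990a)) (.node 1 (.leaf 0x2b0538990a) (.leaf 0xd0538990a))) (.node 2 (.node 1 (.leaf 0xd6538990a) (.leaf 0x1a538990a)) (.node 1 (.leaf 0x11a538990a) (.leaf 0x11ad38990a)))) (.node 4 (.node 2 (.node 1 (.leaf 0x83538990a) (.leaf 0x103538990a)) (.node 1 (.leaf 0xa06b8990a) (.leaf 0x194ca7190a))) (.node 2 (.node 1 (.leaf 0x194ca0690a) (.leaf 0x214ca0690a)) (.node 1 (.leaf 0x294ca0690a) (.leaf 0x234ca0690a))))) (.node 8 (.node 4 (.node 2 (.node 1 (.leaf 0x2b4ca0690a) (.leaf 0x1c4ca0690a)) (.node 1 (.leaf 0x2c4ca0690a) (.leaf 0xd4ca0690a))) (.node 2 (.node 1 (.leaf 0x1c4c14ca0a) (.leaf 0x1c6994ca0a)) (.node 1 (.leaf 0x138994ca0a) (.leaf 0x234e14ca0a)))) (.node 4 (.node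 2 (.node 1 (.leaf 0x234ca70a0a) (.leaf 0x1c4ca70a0a)) (.node 1 (.leaf 0x1c4c829a0a) (.leaf 0x1c29829a0a))) (.node 2 (.node 1 (.leaf 0x1c69829a0a) (.leaf 0x1389829a0a)) (.node 1 (.leaf 0x1c4d329a0a) (.leaf 0x138d329a0a)))))) (.node 16 (.node 8 (.node 4 (.node 2 (.node 1 (.leaf 0x14e329a0a) (.leaf 0x294e329a0a)) (.node 1 (.leaf 0x2269c29a0a) (.leaf 0x2829c69a0a))) (.node 2 (.node 1 (.leaf 0x1a71346a0a) (.leaf 0x294d10530a)) (.node 1 (.leaf 0x138d10530a) (.leaf 0x1c6990530a)))) (.node 4 (.node 2 (.node 1 (.leaf 0x829c6530a) (.leaf 0xd29c6530a)) (.node 1 (.leaf 0xa69c6530a) (.leaf 0xd69c6530a))) (.node 2 (.node 1 (.leaf 0x1a9c6530a) (.leaf 0x11a9c6530a)) (.node 1 (.leaf 0x1a35c6530a) (.leaf 0x190538530a))))) (.node 8 (.node 4 (.node 2 (.node 1 (.leaf 0xd6538530a) (.leaf 0x11a538530a)) (.node 1 (.leaf 0x1c4d38530a) (.leaf 0x2c4d38530a))) (.node 2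 (.node 1 (.leaf 0xd4d38530a) (.leaf 0x11ad38530a)) (.node 1 (.leaf 0x1a3538530a) (.leaf 0x106b8530a)))) (.node 4 (.node 2 (.node 1 (.leaf 0x1a06b8530a) (.leaf 0x1346b8530a)) (.node 1 (.leaf 0x2346b8530a) (.leaf 0x1a68d8530a))) (.node 2 (.node 1 (.leaf 0x1a538d30a) (.leaf 0x11a538d30a)) (.node 1 (.leaf 0x83538d30a) (.leaf 0x103538d30a))))))) (.node 32 (.node 16 (.node 8 (.node 4 (.node 2 (.node 1 (.leaf 0x1a3538d30a) (.leaf 0xa06b8d30a)) (.node 1 (.leaf 0x1a06b8d30a) (.leaf 0x2346b8d30a))) (.node 2 (.node 1 (.leaf 0x1a68d8d30a) (.leaf 0x1a0a7130a)) (.node 1 (.leaf 0x834a7130a) (.leaf 0x1034a7130a)))) (.node 4 (.node 2 (.node 1 (.leaf 0x2906a7130a) (.leaf 0x1940d7130a)) (.node 1 (.leaf 0x2340d7130a) (.leaf 0x2268d7130a))) (.node 2 (.node 1 (.leaf 0x234d1b130a) (.leaf 0x1c4d1b130a)) (.node 1 (.leaf 0xd4ca06c0a) (.leaf 0x1c4c140d0a))))) (.node 8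 (.node 4 (.node 2 (.node 1 (.leaf 0x1c69940d0a) (.leaf 0x2c69940d0a)) (.node 1 (.leaf 0x2b89940d0a) (.leaf 0xd89940d0a))) (.node 2 (.node 1 (.leaf 0x9c6994c80b) (.leaf 0x15c6994c80b)) (.node 1 (.leaf 0x6c6994c80b) (.leaf 0x8d6994c80b)))) (.node 4 (.node 2 (.node 1 (.leaf 0x538994c80b) (.leaf 0x1538994c80b)) (.node 1 (.leaf 0x6b8994c80b) (.leaf 0x8d8994c80b))) (.node 2 (.node 1 (.leaf 0xd7194c80b) (.leaf 0x8d7194c80b)) (.node 1 (.leaf 0xd4e14c80b) (.leaf 0x8d4e14c80b)))))) (.node 16 (.node 8 (.node 4 (.node 2 (.node 1 (.leaf 0x81ae14c80b) (.leaf 0xd1ae14c80b)) (.node 1 (.leaf 0x81ae34c80b) (.leaf 0xd035c4c80b))) (.node 2 (.node 1 (.leaf 0xd38d32980b) (.leaf 0x1538d32980b)) (.node 1 (.leaf 0x6b8d32980b) (.leaf 0x11a7132980b)))) (.node 4 (.node 2 (.node 1 (.leaf 0x15a7132980b) (.leaf 0x6a7132980b)) (.node 1 (.leaf 0x8d7132980b) (.leaf 0x1534e32980b)))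 (.node 2 (.node 1 (.leaf 0xca20d7180b) (.leaf 0x119441ae00b)) (.node 1 (.leaf 0x8835a0410b) (.leaf 0x11a06a0410b))))) (.node 8 (.node 4 (.node 2 (.node 1 (.leaf 0x9a3630410b) (.leaf 0x10a68d0410b)) (.node 1 (.leaf 0x11a68d0410b) (.leaf 0xe268d0410b))) (.node 2 (.node 1 (.leaf 0x5346c6410b) (.leaf 0x11346c6410b)) (.node 1 (.leaf 0x11a3634c10b) (.leaf 0xe268d4c10b)))) (.node 4 (.node 2 (.node 1 (.leaf 0x5346b8c10b) (.leaf 0x11346b8c10b)) (.node 1 (.leaf 0xe268d8c10b) (.leaf 0x11a6414d10b))) (.node 2 (.node 1 (.leaf 0x15a6414d10b) (.leaf 0xe26414d10b)) (.node 1 (.leaf 0x1626414d10b) (.leaf 0x6a6414d10b)))))))) (.node 64 (.node 32 (.node 16 (.node 8 (.node 4 (.node 2 (.node 1 (.leaf 0xca6882990b) (.leaf 0x14a6882990b)) (.node 1 (.leaf 0x11a6882990b) (.leaf 0x994c82990b))) (.node 2 (.node 1 (.leaf 0x1194c82990b) (.leaf 0xe34c82990b)) (.node 1 (.leaf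 0x6a7182990b) (.leaf 0x414e32990b)))) (.node 4 (.node 2 (.node 1 (.leaf 0xc14e32990b) (.leaf 0x1414e32990b)) (.node 1 (.leaf 0x1194e32990b) (.leaf 0x1594e32990b))) (.node 2 (.node 1 (.leaf 0x694e32990b) (.leaf 0xd4e32990b)) (.node 1 (.leaf 0x41ae32990b) (.leaf 0xc829c2990b))))) (.node 8 (.node 4 (.node 2 (.node 1 (.leaf 0x11829c2990b) (.leaf 0x15829c2990b)) (.node 1 (.leaf 0xd29c2990b) (.leaf 0x6829c6990b))) (.node 2 (.node 1 (.leaf 0x5035c6990b) (.leaf 0x6b0538990b)) (.node 1 (.leaf 0x81a538990b) (.leaf 0x1194ca0690b)))) (.node 4 (.node 2 (.node 1 (.leaf 0xe34ca0690b) (.leaf 0x1634ca0690b)) (.node 1 (.leaf 0x6b4ca0690b) (.leaf 0x9c4ca0690b))) (.node 2 (.node 1 (.leaf 0x9c4c14ca0b) (.leaf 0x9c6994ca0b)) (.node 1 (.leaf 0x538994ca0b) (.leaf 0x9c69829a0b)))))) (.node 16 (.node 8 (.node 4 (.node 2 (.node 1 (.leaf 0x9c4d329a0b) (.leaf 0xd38d329a0b))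 (.node 1 (.leaf 0x8d29c6530b) (.leaf 0x81a9c6530b))) (.node 2 (.node 1 (.leaf 0xd1a9c6530b) (.leaf 0x11a35c6530b)) (.node 1 (.leaf 0x990538530b) (.leaf 0x8d6538530b)))) (.node 4 (.node 2 (.node 1 (.leaf 0x6c4d38530b) (.leaf 0x8d4d38530b)) (.node 1 (.leaf 0xd1ad38530b) (.leaf 0x9a3538530b))) (.node 2 (.node 1 (.leaf 0x11a3538530b) (.leaf 0x11a06b8530b)) (.node 1 (.leaf 0x11346b8530b) (.leaf 0x11a68d8530b))))) (.node 8 (.node 4 (.node 2 (.node 1 (.leaf 0x81a538d30b) (.leaf 0xd1a538d30b)) (.node 1 (.leaf 0x1483538d30b) (.leaf 0xd03538d30b))) (.node 2 (.node 1 (.leaf 0xca06b8d30b) (.leaf 0x11a06b8d30b)) (.node 1 (.leaf 0x11a68d8d30b) (.leaf 0x5034a7130b)))) (.node 4 (.node 2 (.node 1 (.leaf 0x11940d7130b) (.leaf 0xe268d7130b)) (.node 1 (.leaf 0xe34d1b130b) (.leaf 0x29c6994c80c))) (.node 2 (.node 1 (.leaf 0x69c6994c80c) (.leaf 0xa9c6994c80c)) (.node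 1 (.leaf 0x35c6994c80c) (.leaf 0x46c6994c80c))))))) (.node 32 (.node 16 (.node 8 (.node 4 (.node 2 (.node 1 (.leaf 0x68d6994c80c) (.leaf 0x40d7194c80c)) (.node 1 (.leaf 0x40d4e14c80c) (.leaf 0x68d4e14c80c))) (.node 2 (.node 1 (.leaf 0x281ae14c80c) (.leaf 0x8d38d32980c)) (.node 1 (.leaf 0xad38d32980c) (.leaf 0x3538d32980c)))) (.node 4 (.node 2 (.node 1 (.leaf 0x46b8d32980c) (.leaf 0x6a7132980c)) (.node 1 (.leaf 0x46a7132980c) (.leaf 0x29a3630410c))) (.node 2 (.node 1 (.leaf 0x85346c6410c) (.leaf 0x71346c6410c)) (.node 1 (.leaf 0x5346b8c10c) (.leaf 0x85346b8c10c))))) (.node 8 (.node 4 (.node 2 (.node 1 (.leaf 0x71346b8c10c) (.leaf 0x71a6414d10c)) (.node 1 (.leaf 0xb1a6414d10c) (.leaf 0x35a6414d10c))) (.node 2 (.node 1 (.leaf 0x4e26414d10c) (.leaf 0x3626414d10c)) (.node 1 (.leaf 0xaca6882990c) (.leaf 0x6414e32990c)))) (.node 4 (.node 2 (.node 1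 (.leaf 0x8c14e32990c) (.leaf 0xac14e32990c)) (.node 1 (.leaf 0x694e32990c) (.leaf 0x4c829c2990c))) (.node 2 (.node 1 (.leaf 0x8c829c2990c) (.leaf 0x20d29c2990c)) (.node 1 (.leaf 0x281a538990c) (.leaf 0x4e34ca0690c)))))) (.node 16 (.node 8 (.node 4 (.node 2 (.node 1 (.leaf 0x29c4c14ca0c) (.leaf 0x29c6994ca0c)) (.node 1 (.leaf 0x69c6994ca0c) (.leaf 0x538994ca0c))) (.node 2 (.node 1 (.leaf 0x69c69829a0c) (.leaf 0x29c4d329a0c)) (.node 1 (.leaf 0x69c4d329a0c) (.leaf 0x68d29c6530c)))) (.node 4 (.node 2 (.node 1 (.leaf 0x281a9c6530c) (.leaf 0x681a9c6530c)) (.node 1 (.leaf 0x8d1a9c6530c) (.leaf 0x6990538530c))) (.node 2 (.node 1 (.leaf 0x68d4d38530c) (.leaf 0x4d1ad38530c)) (.node 1 (.leaf 0x8d1ad38530c) (.leaf 0x89a3538530c))))) (.node 8 (.node 4 (.node 2 (.node 1 (.leaf 0x681a538d30c) (.leaf 0x8ca06b8d30c)) (.node 1 (.leaf 0x569c6994c80d) (.leaf 0x346c6994c80d)))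 (.node 2 (.node 1 (.leaf 0x468d6994c80d) (.leaf 0x140d7194c80d)) (.node 1 (.leaf 0x340d4e14c80d) (.leaf 0x3538d32980d)))) (.node 4 (.node 2 (.node 1 (.leaf 0x23538d32980d) (.leaf 0x346b8d32980d)) (.node 1 (.leaf 0x106a7132980d) (.leaf 0x206a7132980d))) (.node 2 (.node 1 (.leaf 0x385346c6410d) (.leaf 0x105346b8c10d)) (.node 1 (.leaf 0x405346b8c10d) (.leaf 0x385346b8c10d)))))))))

def zPath_8 : Tree := (.node 16 (.node 8 (.node 4 (.node 2 (.node 1 (.leaf 0x271a6414d10d) (.leaf 0x1b1a6414d10d)) (.node 1 (.leaf 0x14e26414d10d) (.leaf 0x46414e32990d))) (.node 2 (.node 1 (.leaf 0x10694e32990d) (.leaf 0x34c829c2990d)) (.node 1 (.leaf 0x34e34ca0690d) (.leaf 0x29c6994ca0d)))) (.node 4 (.node 2 (.node 1 (.leaf 0x329c6994ca0d) (.leaf 0x329c4d329a0d)) (.node 1 (.leaf 0x3281a9c6530d) (.leaf 0x4681a9c6530d))) (.node 2 (.node 1 (.leaf 0x46990538530d) (.leaf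 0x468d4d38530d)) (.node 1 (.leaf 0x44d1ad38530d) (.leaf 0x389a3538530d))))) (.node 8 (.node 4 (.node 2 (.node 1 (.leaf 0x2346c6994c80e) (.leaf 0x83538d32980e)) (.node 1 (.leaf 0x103538d32980e) (.leaf 0x1a3538d32980e))) (.node 2 (.node 1 (.leaf 0x1385346c6410e) (.leaf 0x2105346b8c10e)) (.node 1 (.leaf 0x1c05346b8c10e) (.leaf 0x1385346b8c10e)))) (.node 4 (.node 2 (.node 1 (.leaf 0xa71a6414d10e) (.leaf 0x1a71a6414d10e)) (.node 1 (.leaf 0x23281a9c6530e) (.leaf 0xd03538d32980f))) (.node 2 (.node 1 (.leaf 0xd385346c6410f) (.leaf 0xe105346b8c10f)) (.node 1 (.leaf 0xca71a6414d10f) (.leaf 0x8d385346c64110))))))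

def zPath : Tree := (.node 1024 (.node 512 (.node 256 zPath_0 zPath_1) (.node 256 zPath_2 zPath_3)) (.node 512 (.node 256 zPath_4 zPath_5) (.node 256 zPath_6 (.node 256 zPath_7 zPath_8))))

def zKey_0 : Tree := (.node 128 (.node 64 (.node 32 (.node 16 (.node 8 (.node 4 (.node 2 (.node 1 (.leaf 0x317677966e0d0c15b) (.leaf 0x1fc0df1af2f8a195b)) (.node 1 (.leaf 0x21ee16913b5870df) (.leaf 0x3612b2306988b68e4))) (.node 2 (.node 1 (.leaf 0x280c7694811250e4) (.leaf 0x210250c26bf556a01)) (.node 1 (.leaf 0x287b8d7de95a252b8) (.leaf 0x1fc15b14d2f8f08df)))) (.node 4 (.node 2 (.node 1 (.leaf 0x161b64138e24e08e4) (.leaf 0xb4bf61fe205548e4)) (.node 1 (.leaf 0x238f029e691f5a01) (.leaf 0x2cb6341c213f691de))) (.node 2 (.node 1 (.leaf 0x2cb7f0aa750cb895) (.leaf 0x35abfd7b141f1095)) (.node 1 (.leaf 0x160c74788110a092) (.leaf 0x6ab6a965141f115a))))) (.node 8 (.node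 4 (.node 2 (.node 1 (.leaf 0x160c76e41488b079) (.leaf 0x2a71d9248834e8092)) (.node 1 (.leaf 0x26693747231c3995b) (.leaf 0x1a5966470834e8160))) (.node 2 (.node 1 (.leaf 0x1da9d2b62652253eb) (.leaf 0x1d8df582578d195b)) (.node 1 (.leaf 0xdd3c04e66ed76960) (.leaf 0x1688527e413c58389)))) (.node 4 (.node 2 (.node 1 (.leaf 0x1218c79f7b4817aee) (.leaf 0x2510527e545db8389)) (.node 1 (.leaf 0x32238a86e95ad33ea) (.leaf 0x161c3c7dce255f095))) (.node 2 (.node 1 (.leaf 0x22a55314a145ee892) (.leaf 0x691371fa9adf595a)) (.node 1 (.leaf 0x3466deb3f49e27b66) (.leaf 0x164cf0dd3c54d092)))))) (.node 16 (.node 8 (.node 4 (.node 2 (.node 1 (.leaf 0x1d8df1e4d91ef15b) (.leaf 0x3125a0c89415c160)) (.node 1 (.leaf 0x21f6a3c2013f17ab9) (.leaf 0x764ed96631def15b))) (.node 2 (.node 1 (.leaf 0x1a59662fedf862160) (.leaf 0x1a01cf2baa3417a6a)) (.node 1 (.leaf 0x1e95293e06c4622ee)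 (.leaf 0x2350c71238d017a6a)))) (.node 4 (.node 2 (.node 1 (.leaf 0x30c6d22be13f1a141) (.leaf 0xcaa6106267487870)) (.node 1 (.leaf 0x1bbd09204dccb8df) (.leaf 0xa350210a13ddc863))) (.node 2 (.node 1 (.leaf 0x4815b0644c09e0e7) (.leaf 0x7b44d1b618cec84f)) (.node 1 (.leaf 0x1f8abac02bf556870) (.leaf 0x3113bd102c862863))))) (.node 8 (.node 4 (.node 2 (.node 1 (.leaf 0x518c7c293b5870e7) (.leaf 0x160c7c061485a079)) (.node 1 (.leaf 0x160c764057920070) (.leaf 0x324d1f350a39768e2))) (.node 2 (.node 1 (.leaf 0x24b204536bf6248b8) (.leaf 0x218c772b8d017a00)) (.node 1 (.leaf 0xa93d4b26744004c) (.leaf 0x2468c74ae2089e098)))) (.node 4 (.node 2 (.node 1 (.leaf 0x338edd91c13c60063) (.leaf 0x35a0f036a31c398df)) (.node 1 (.leaf 0x1a219c366988b68e2) (.leaf 0xd8206474df9dd20a))) (.node 2 (.node 1 (.leaf 0x25c25f8f62044c0e4) (.leaf 0x238f04721209b201)) (.node 1 (.leaf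 0x30c36a96a13c17d02) (.leaf 0x2b419c47098959206))))))) (.node 32 (.node 16 (.node 8 (.node 4 (.node 2 (.node 1 (.leaf 0x301b59d3b45d2c4be) (.leaf 0x1e91b19b696ed33eb)) (.node 1 (.leaf 0x5d95b7f0819350df) (.leaf 0x8025f51e989ba0e4))) (.node 2 (.node 1 (.leaf 0xa04cf5ca50500201) (.leaf 0xf763496a13c87cbe)) (.node 1 (.leaf 0x18ded272c13f1a206) (.leaf 0x2c09117de1f417ab8)))) (.node 4 (.node 2 (.node 1 (.leaf 0x34a88280013c584f1) (.leaf 0x1abaaf3078bc17aee)) (.node 1 (.leaf 0x2c09117df129872b8) (.leaf 0x2c988280148db84f1))) (.node 2 (.node 1 (.leaf 0x2a229c0d4ac817bea) (.leaf 0x28212a424653523ea)) (.node 1 (.leaf 0x1643c86b3c5e5870) (.leaf 0x4c93d85ce32d2863))))) (.node 8 (.node 4 (.node 2 (.node 1 (.leaf 0x2a2a6132a1469d070) (.leaf 0x1a219c1f93943f8e2)) (.node 1 (.leaf 0x2b0d53a56df959251) (.leaf 0x1dae302fa7483fa00))) (.node 2 (.node 1 (.leaf 0x26eef488d39ad4a4e)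 (.leaf 0x4f93632739a91863)) (.node 1 (.leaf 0x5d95b15533e9d8df) (.leaf 0x1037908ada9f50e2)))) (.node 4 (.node 2 (.node 1 (.leaf 0x35917972ac417b70) (.leaf 0x280c7694d55548e4)) (.node 1 (.leaf 0x2101c714539927201) (.leaf 0x1b90c7af29595c39e))) (.node 2 (.node 1 (.leaf 0x11895e08013d46a06) (.leaf 0x2e2a50c0f37c17b51)) (.node 1 (.leaf 0x2356a3b2013f52b4f) (.leaf 0x2b538369031e9d8df)))))) (.node 16 (.node 8 (.node 4 (.node 2 (.node 1 (.leaf 0x7fd3f6942c2278e4) (.leaf 0x210250c273989b201)) (.node 1 (.leaf 0x11a8c71c6e8817b51) (.leaf 0x1615e46220522a06))) (.node 2 (.node 1 (.leaf 0x3110c73fe13ddc9de) (.leaf 0x2b5aaa40aee8179a3)) (.node 1 (.leaf 0x14fb64692a089b2ee) (.leaf 0x24aceb1bc9ac9e1de)))) (.node 4 (.node 2 (.node 1 (.leaf 0xef8c71c7b48179a3) (.leaf 0x2eb6d26069fda88cd)) (.node 1 (.leaf 0x34315e87c13e6f9bb) (.leaf 0x25bdaaaa93972b848))) (.node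 2 (.node 1 (.leaf 0xfb8821bc44c58092) (.leaf 0x175d020a813d7c84c)) (.node 1 (.leaf 0x18c0df0363008b0ac) (.leaf 0x2866de34230027be3))))) (.node 8 (.node 4 (.node 2 (.node 1 (.leaf 0x7629c67a3c08795b) (.leaf 0xf2996baa835ee892)) (.node 1 (.leaf 0x372566604c06415a) (.leaf 0x4f93600a1215884f))) (.node 2 (.node 1 (.leaf 0x6725600a13e81048) (.leaf 0xf1206116a3417898)) (.node 1 (.leaf 0x24b90b14ec343a87d) (.leaf 0x2cb55070d3c4d963)))) (.node 4 (.node 2 (.node 1 (.leaf 0x4f5aa2a87644c02f) (.leaf 0x225aa11a1315904f)) (.node 1 (.leaf 0x3380c700a13c3e848) (.leaf 0x1013bd8044c4004c))) (.node 2 (.node 1 (.leaf 0x2330c7c1ce0d0c0ac) (.leaf 0x8f936b77399dd163)) (.node 1 (.leaf 0x2390b29e3c09c048) (.leaf 0x2468c7ae02083a898)))))))) (.node 64 (.node 32 (.node 16 (.node 8 (.node 4 (.node 2 (.node 1 (.leaf 0x1ebb8acc8ee69d8b8) (.leaf 0x3d0c7444819a8895)) (.node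 1 (.leaf 0x23fe578f13943f84c) (.leaf 0x286a9c458d3d000ac))) (.node 2 (.node 1 (.leaf 0x2fa93bbaa8362491e) (.leaf 0x33ee344e413f6915e)) (.node 1 (.leaf 0x21a93838d6850c107) (.leaf 0x304204389142d28ed)))) (.node 4 (.node 2 (.node 1 (.leaf 0x3591760737c17aed) (.leaf 0x164d532abe71c070)) (.node 1 (.leaf 0x4c93d32675062863) (.leaf 0x308d471f8748f08e2))) (.node 2 (.node 1 (.leaf 0x1cd11a14c32464073) (.leaf 0x826ddbda13c9804c)) (.node 1 (.leaf 0x3d0c7732811c4095) (.leaf 0x18945fba443c17898))))) (.node 8 (.node 4 (.node 2 (.node 1 (.leaf 0x305bca148aded4aed) (.leaf 0x3043f67dc2044c095)) (.node 1 (.leaf 0x6913736a1209b15a) (.leaf 0x2c830d68613c17af9))) (.node 2 (.node 1 (.leaf 0x112966366834ec95e) (.leaf 0x2e1bde34cbe55496a)) (.node 1 (.leaf 0xe595e68539546afc) (.leaf 0x363996baa1443c892)))) (.node 4 (.node 2 (.node 1 (.leaf 0x7450a67a43dab15b) (.leaf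 0x3125a64418c62160)) (.node 1 (.leaf 0x34305230813c17bb9) (.leaf 0x1abaaf306ac8e82ee))) (.node 2 (.node 1 (.leaf 0x23538373013c17ba2) (.leaf 0x3112506f613c17d02)) (.node 1 (.leaf 0x2edef1a56e0d59206) (.leaf 0x2a2d1fc809ad58b55)))))) (.node 16 (.node 8 (.node 4 (.node 2 (.node 1 (.leaf 0x1934cac5b48dba4be) (.leaf 0x26e9362bfb4827ab9)) (.node 1 (.leaf 0x14f9c251296f522b8) (.leaf 0x23cabf0d71426f895))) (.node 2 (.node 1 (.leaf 0x2ea9967268352c092) (.leaf 0xa13646927797715a)) (.node 1 (.leaf 0x1a99d9c7eab954af9) (.leaf 0x919d5966e0dba15b)))) (.node 4 (.node 2 (.node 1 (.leaf 0x25c1c237896ce8160) (.leaf 0x16052b6213d58b55)) (.node 1 (.leaf 0x26ebd0699b4817aee) (.leaf 0x21152673030017beb))) (.node 2 (.node 1 (.leaf 0x1936d26f613ccbcbe) (.leaf 0x237b6a47013e6fa06)) (.node 1 (.leaf 0x178abf7e51428bb89) (.leaf 0x2d699a86e1f417bea))))) (.node 8 (.node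 4 (.node 2 (.node 1 (.leaf 0x2a71d913f49d594f1) (.leaf 0x2c830d40e13c87cf1)) (.node 1 (.leaf 0x1a99d5249a9417a00) (.leaf 0x8f8c7472e884da01))) (.node 2 (.node 1 (.leaf 0x21152679d129f13eb) (.leaf 0x2d699a86f6990c3ea)) (.node 1 (.leaf 0x36abe114613d594f1) (.leaf 0x21ad532d195d2c4f1)))) (.node 4 (.node 2 (.node 1 (.leaf 0x2c23d007e76417ab8) (.leaf 0x3308c71eaac817bea)) (.node 1 (.leaf 0x162065ee13e91cf1) (.leaf 0x7b44dcd0dfb2b848))) (.node 2 (.node 1 (.leaf 0xa93d7fd34a2484c) (.leaf 0x69117c809af51848)) (.node 1 (.leaf 0x1893f67dd9415f098) (.leaf 0x2dc37f21c2062d095))))))) (.node 32 (.node 16 (.node 8 (.node 4 (.node 2 (.node 1 (.leaf 0x826dd4b345db304c) (.leaf 0x2330c725d4983f8ac)) (.node 1 (.leaf 0x2019d913f39959251) (.leaf 0x162062f61453215e))) (.node 2 (.node 1 (.leaf 0x2e1e307a4ac9549c2) (.leaf 0x25bbf6a27394ec990)) (.node 1 (.leaf 0x287daa96eab83faed)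 (.leaf 0x2064cf19cadd7ca17)))) (.node 4 (.node 2 (.node 1 (.leaf 0x1659364b349e8b84c) (.leaf 0x23cb7f21c751dc895)) (.node 1 (.leaf 0x6d37f4af699ef098) (.leaf 0x1bd0a1522083aa8e))) (.node 2 (.node 1 (.leaf 0x3d0c7d7b33e2d095) (.leaf 0xa12a20ef49db315a)) (.node 1 (.leaf 0x1a99d5c2aab954cd5) (.leaf 0x118a0605813ddd15e))))) (.node 8 (.node 4 (.node 2 (.node 1 (.leaf 0x1f890b69aac417b70) (.leaf 0x160c7478d55ee892)) (.node 1 (.leaf 0x1a5bc04e6df93f160) (.leaf 0x26bbc6964651f5a92))) (.node 2 (.node 1 (.leaf 0x20612a0d2ee417aee) (.leaf 0x2513c0a98e25b827a)) (.node 1 (.leaf 0x2330c7864959f5278) (.leaf 0x19c882d8a13dd1206)))) (.node 4 (.node 2 (.node 1 (.leaf 0x24c0c7d8a4df28242) (.leaf 0x2e736ad2d6e417a40)) (.node 1 (.leaf 0x2e2a0668613edca8e) (.leaf 0x36abe14782c2d4892))) (.node 2 (.node 1 (.leaf 0x6ab6a96549c9b15a) (.leaf 0x107bc0722121f5be3)) (.node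 1 (.leaf 0x1a5bc04e6c343e960) (.leaf 0x1ae771ac5048b242)))))) (.node 16 (.node 8 (.node 4 (.node 2 (.node 1 (.leaf 0x20653b9f6a09ef2ee) (.leaf 0x261ea32be13e812b9)) (.node 1 (.leaf 0x1900c7122e8817a40) (.leaf 0x1615e7f031daca06))) (.node 2 (.node 1 (.leaf 0x1156e12b2750f0a6a) (.leaf 0x30c0c73dc13d7c941)) (.node 1 (.leaf 0x2f0bc08a74995891a) (.leaf 0x2089111b8ee817a4a)))) (.node 4 (.node 2 (.node 1 (.leaf 0x2824cf5caeb09b200) (.leaf 0x440df47b8d1ab201)) (.node 1 (.leaf 0x1b293d2f8e30642b9) (.leaf 0xa053d1ac6908b141))) (.node 2 (.node 1 (.leaf 0xf010b88aae5ab11a) (.leaf 0x362634420aad200cd)) (.node 1 (.leaf 0x34891192ec353512a) (.leaf 0x495e68413f6ea8d))))) (.node 8 (.node 4 (.node 2 (.node 1 (.leaf 0x2f08c711b49a91863) (.leaf 0x1759b19f213d7c82f)) (.node 1 (.leaf 0x22b529969a91ee873) (.leaf 0x82a615cb33e813e3))) (.node 2 (.node 1 (.leaf 0xb48521ac2c8580e4)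 (.leaf 0x330ed212231f1a0df)) (.node 1 (.leaf 0x10e8732b21f45a0e2) (.leaf 0x1d693d00a1f427be3)))) (.node 4 (.node 2 (.node 1 (.leaf 0x1615e0baee817879) (.leaf 0x175d3b27e65dba3e3)) (.node 1 (.leaf 0x80355042ae464107) (.leaf 0x13653b27e0bc87be3))) (.node 2 (.node 1 (.leaf 0xef42304c027be3) (.leaf 0x1eda5f8f6989548e4)) (.node 1 (.leaf 0x11f2564663004da01) (.leaf 0x16230d14ebf69d070)))))))))

def zKey_1 : Tree := (.node 128 (.node 64 (.node 32 (.node 16 (.node 8 (.node 4 (.node 2 (.node 1 (.leaf 0xe5c3c8f1394b68e2) (.leaf 0x2f48c700a13df187d)) (.node 1 (.leaf 0x34629c458eb31c200) (.leaf 0x6d0cd00aac43982f))) (.node 2 (.node 1 (.leaf 0x1ca8c700ba8d7682f) (.leaf 0x16091a00ae8817873)) (.node 1 (.leaf 0x19a0cd4669fc4d8c0) (.leaf 0x31e4ea0b63c1200ed)))) (.node 4 (.node 2 (.node 1 (.leaf 0x1f95261fc2ca278b0) (.leaf 0x10e9170d717c5a07d)) (.node 1 (.leaf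 0x1bdac152a383aa0a) (.leaf 0x7b1b13f2eb09b048))) (.node 2 (.node 1 (.leaf 0x16c4d1b4ac83c82f) (.leaf 0x11e13b00a2c017873)) (.node 1 (.leaf 0x3b936d4f49d46907) (.leaf 0x250b8dc22be5ef0ed))))) (.node 8 (.node 4 (.node 2 (.node 1 (.leaf 0x691171fa4dc9c048) (.leaf 0x27c9b13e16950002f)) (.node 1 (.leaf 0x1cd11a1ae3244d873) (.leaf 0x2360c776940a2d11e))) (.node 2 (.node 1 (.leaf 0x190b8ac293b71a0df) (.leaf 0x4fe57644df862063)) (.node 1 (.leaf 0xf03d02f8ae5770e7) (.leaf 0x120996c22749ef2f9)))) (.node 4 (.node 2 (.node 1 (.leaf 0x1930c71b74983f84c) (.leaf 0x250996baa145ee879)) (.node 1 (.leaf 0x2f8b7992065d5f1ac) (.leaf 0x1c36a46604c122907))) (.node 2 (.node 1 (.leaf 0x2c9b798f1684b6988) (.leaf 0x14793b8f698ad29ae)) (.node 1 (.leaf 0x36a9d288a13f17a04) (.leaf 0x3170c725d4fddd0ac)))))) (.node 16 (.node 8 (.node 4 (.node 2 (.node 1 (.leaf 0x35593825994187163)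 (.leaf 0x5da062f6aaedc95e)) (.node 1 (.leaf 0x35a29c7e13b75196a) (.leaf 0x12090b4216e417aed))) (.node 2 (.node 1 (.leaf 0x2a76de8a749d22c3c) (.leaf 0x1620651ebe6d4892)) (.node 1 (.leaf 0xb7cd521cee674895) (.leaf 0x2723e114a9ad32092)))) (.node 4 (.node 2 (.node 1 (.leaf 0x2fe4d57fcab95f0ac) (.leaf 0x11e11714af849e0b0)) (.node 1 (.leaf 0x221d296a13ccb82f) (.leaf 0x160c792e811c2070))) (.node 2 (.node 1 (.leaf 0x2730dc5065c17879) (.leaf 0xf0df2cef8c17930)) (.node 1 (.leaf 0x5d95b58257a650df) (.leaf 0x2a13c696cadd768e7))))) (.node 8 (.node 4 (.node 2 (.node 1 (.leaf 0x1f890b1f6f29acc3c) (.leaf 0x760c7d243c2d28ed)) (.node 1 (.leaf 0x1625f0d717dc4204) (.leaf 0x2b2d261fcaba27aed))) (.node 2 (.node 1 (.leaf 0x35c55386a1443c870) (.leaf 0x4fea485cadc62063)) (.node 1 (.leaf 0x4cd2985c18c620e7) (.leaf 0x34a88220813c17af9)))) (.node 4 (.node 2 (.node 1 (.leaf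 0x1a99d5248764b6a00) (.leaf 0x1b2be195c13c17bba)) (.node 1 (.leaf 0x261c5f87c13c17bb9) (.leaf 0x1802947a6bf558a04))) (.node 2 (.node 1 (.leaf 0x26e2944da779f1a14) (.leaf 0x20653b4d8ee5eea17)) (.node 1 (.leaf 0x20891191444f1a364) (.leaf 0x972aa8a7499d1242))))))) (.node 32 (.node 16 (.node 8 (.node 4 (.node 2 (.node 1 (.leaf 0x3558cd87432462863) (.leaf 0x213baa92065dc00df)) (.node 1 (.leaf 0x103798f01303f8e2) (.leaf 0x2101c74669fc60201))) (.node 2 (.node 1 (.leaf 0xfd472046ec5a2fc) (.leaf 0x3635ac44537da8a06)) (.node 1 (.leaf 0x2e285230813c17a8d) (.leaf 0x1218c77a4ac956aee)))) (.node 4 (.node 2 (.node 1 (.leaf 0x2b09179faac4f0a7e) (.leaf 0x3384ed54a13c17ba2)) (.node 1 (.leaf 0x2eb6d240a6748b39e) (.leaf 0x1f2ef5a273b4ec95e))) (.node 2 (.node 1 (.leaf 0x69ba2b3f37e27960) (.leaf 0x22a2af0d0e30ecb64)) (.node 1 (.leaf 0x1a5bc0a5869158b55) (.leaf 0x43ed21c60bf1a351)))))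 (.node 8 (.node 4 (.node 2 (.node 1 (.leaf 0x23fbf641f95dba389) (.leaf 0x3196f53f98bc279de)) (.node 1 (.leaf 0x695e76613e8bb89) (.leaf 0x2102ba14ebf6dc870))) (.node 2 (.node 1 (.leaf 0x2de0c711a13e91863) (.leaf 0x15e4ea1498bd870e7)) (.node 1 (.leaf 0x3135ac9bd94017c3c) (.leaf 0x358882152bf5b8070)))) (.node 4 (.node 2 (.node 1 (.leaf 0x1a212a4e0650b68e2) (.leaf 0x2d6966cd0dfa1e20a)) (.node 1 (.leaf 0x34629c47b8d017a00) (.leaf 0x1185539f4df9c23ba))) (.node 2 (.node 1 (.leaf 0x2062b29f2addeebb9) (.leaf 0x35a2af6913b52c0df)) (.node 1 (.leaf 0x266a50c2696d56a01) (.leaf 0x162b272a13cecb64)))))) (.node 16 (.node 8 (.node 4 (.node 2 (.node 1 (.leaf 0x1615e4ea13f1a206) (.leaf 0x25bdaad3aac417a7e)) (.node 1 (.leaf 0x2fd8829b613d58b55) (.leaf 0x3194ea3e18bc17aee))) (.node 2 (.node 1 (.leaf 0x30c1119fb140f0d02) (.leaf 0x277bca54a4c017beb)) (.node 1 (.leaf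 0x43ed260737d22b51) (.leaf 0x23fc5f2c213ccbb89)))) (.node 4 (.node 2 (.node 1 (.leaf 0x30f25036613edc95e) (.leaf 0x2518c7470c34cb960)) (.node 1 (.leaf 0x1142a25413b68bcbe) (.leaf 0x1802ba800bf691cf1))) (.node 2 (.node 1 (.leaf 0x2d93de1eaaca9dbea) (.leaf 0x2bf1d52ce30017bea)) (.node 1 (.leaf 0x1e6ab20cd398ecb89) (.leaf 0x1f8abadaef29594f1))))) (.node 8 (.node 4 (.node 2 (.node 1 (.leaf 0x2d93645e969817bea) (.leaf 0xf6eddb76ee932163)) (.node 1 (.leaf 0xef8c736ae886415a) (.leaf 0x1679c21b8ee9c220a))) (.node 2 (.node 1 (.leaf 0xd8359c0ea343a960) (.leaf 0x7651f4723c28115b)) (.node 1 (.leaf 0x4256a5a13e24d02) (.leaf 0x277bcaa0169956beb)))) (.node 4 (.node 2 (.node 1 (.leaf 0x2bf1d51f5a90b6bea) (.leaf 0x1f953f0d013cecb89)) (.node 1 (.leaf 0x33e9d913e13d594f1) (.leaf 0x95b1d64c017bea))) (.node 2 (.node 1 (.leaf 0x3434cf95c13f529de) (.leaf 0x2be117568ac417beb))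 (.node 1 (.leaf 0x740c713c76417ab8) (.leaf 0x2509962e6adde5cf1)))))))) (.node 64 (.node 32 (.node 16 (.node 8 (.node 4 (.node 2 (.node 1 (.leaf 0x164d513e13f2bcf1) (.leaf 0x28263041169817bea)) (.node 1 (.leaf 0x1ca9d2c7e13ddc82f) (.leaf 0x1013bbdadaa2484c))) (.node 2 (.node 1 (.leaf 0x2edd5386b685e5879) (.leaf 0x2390ba5869351848)) (.node 1 (.leaf 0x225aad3b45dba02f) (.leaf 0x11e4ea9fbb74f0873)))) (.node 4 (.node 2 (.node 1 (.leaf 0x338edd32748d27063) (.leaf 0x518c717ef28620e7)) (.node 1 (.leaf 0x16ac4d87418d5c3e3) (.leaf 0x160c76e533e25079))) (.node 2 (.node 1 (.leaf 0xf1660d465c17b66) (.leaf 0x2776a338ca39a8907)) (.node 1 (.leaf 0x250d3b1eaac9ef1c2) (.leaf 0x3212b20cd49cec990))))) (.node 8 (.node 4 (.node 2 (.node 1 (.leaf 0x164d5734145c2204) (.leaf 0x2c2529764765ee92a)) (.node 1 (.leaf 0x32244d6faadc622ed) (.leaf 0x17c547b5f68417c3c))) (.node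 2 (.node 1 (.leaf 0x27c9b16f613c8782f) (.leaf 0x1668c71b6f2a8b84c)) (.node 1 (.leaf 0x2eb26132a6757c870) (.leaf 0x2be2616e512a9d879)))) (.node 4 (.node 2 (.node 1 (.leaf 0x330911864da8f08df) (.leaf 0x190bc036a4de810df)) (.node 1 (.leaf 0x15e4ea17ea349e0e7) (.leaf 0x31308220994017bba))) (.node 2 (.node 1 (.leaf 0x31e4ea3896945a0ed) (.leaf 0xfbaa2041485a1bb)) (.node 1 (.leaf 0x160c7c02d929d070) (.leaf 0x261ea3d1169900063)))))) (.node 16 (.node 8 (.node 4 (.node 2 (.node 1 (.leaf 0xf00c7c28f29b30e7) (.leaf 0x12090b768749ef4d5)) (.node 1 (.leaf 0x2fe1c2094be417a00) (.leaf 0x118166cd0df9c243c))) (.node 2 (.node 1 (.leaf 0x250aaf968addeecd5) (.leaf 0x11d6dd30813f28063)) (.node 1 (.leaf 0xe5d1f3513953f0e2) (.leaf 0x2518c75ce6c577160)))) (.node 4 (.node 2 (.node 1 (.leaf 0x1191d972c13d59206) (.leaf 0x3018c76912f92c1bf)) (.node 1 (.leaf 0x180294c2696df5bc1)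 (.leaf 0x2b6bc6cdb40817aee))) (.node 2 (.node 1 (.leaf 0x1b4eddcdb694641ae) (.leaf 0x2a2d1f7e13c5b81ac)) (.node 1 (.leaf 0x11e0c736ba90641c5) (.leaf 0x1a219c424651f51c5))))) (.node 8 (.node 4 (.node 2 (.node 1 (.leaf 0x16052ce013dd115e) (.leaf 0x2fb5472047536eafc)) (.node 1 (.leaf 0x1620647413f6ebba) (.leaf 0x33e9d907e43f1c070))) (.node 2 (.node 1 (.leaf 0xe5d1f35117c3e8e2) (.leaf 0x1243e195c13ddd3e3)) (.node 1 (.leaf 0x1a9bde72aeb29da00) (.leaf 0x2abaa4db2f839be3)))) (.node 4 (.node 2 (.node 1 (.leaf 0x11351f9ec121f5be3) (.leaf 0x19bcca72d399aca06)) (.node 1 (.leaf 0x1b4edd29c674d19ae) (.leaf 0x91ee11bc7789e188))) (.node 2 (.node 1 (.leaf 0x2b68c77a46c554aee) (.leaf 0x2eb6d240b12a74b9e)) (.node 1 (.leaf 0x2c86a31c213e8134f) (.leaf 0x11099a11ca3417a14))))))) (.node 32 (.node 16 (.node 8 (.node 4 (.node 2 (.node 1 (.leaf 0x1620658231e6515e) (.leaf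 0x33d15e72683627960)) (.node 1 (.leaf 0x1820c74444dd5f351) (.leaf 0x2b5e7729c674a19a3))) (.node 2 (.node 1 (.leaf 0x2be1b1a0aac69d0cd) (.leaf 0x3434ed19c13d7c9bb)) (.node 1 (.leaf 0x36bd1f604f295891a) (.leaf 0x2bf6a452339a1e163)))) (.node 4 (.node 2 (.node 1 (.leaf 0x17215b699b49c015a) (.leaf 0x2d89d25d013f2b848)) (.node 1 (.leaf 0x1d8df3529ff6915b) (.leaf 0x2eba246630156b9e))) (.node 2 (.node 1 (.leaf 0x2c93d4593484db4f) (.leaf 0x210250b3a9fd320cd)) (.node 1 (.leaf 0xdd0c7bd29405a1bb) (.leaf 0x2519175ead3dc011a))))) (.node 8 (.node 4 (.node 2 (.node 1 (.leaf 0x2e2b64b2c13f17941) (.leaf 0x363677478f850a12a)) (.node 1 (.leaf 0x1fc0c7058579dd3e3) (.leaf 0x35c19a73317cd19c2))) (.node 2 (.node 1 (.leaf 0x1036abda44e8b9bf) (.leaf 0x261b7f4d9a8c17bb9)) (.node 1 (.leaf 0x2a22bf0d62066f895) (.leaf 0x2d92b21b569a9d098)))) (.node 4 (.node 2 (.node 1 (.leaf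 0x550c708133ddcbe3) (.leaf 0x163f6728ee81784f)) (.node 1 (.leaf 0x175ed26984c1b33e3) (.leaf 0x40c7582e89b33e3))) (.node 2 (.node 1 (.leaf 0x1637f692d92813e3) (.leaf 0x3176341c631f6915b)) (.node 1 (.leaf 0x10907329c1f43a960) (.leaf 0x1a493600a120583e3)))))) (.node 16 (.node 8 (.node 4 (.node 2 (.node 1 (.leaf 0x1b693800a0bc583e3) (.leaf 0x1bc3810724dda88b8)) (.node 1 (.leaf 0x1653f34296c983e3) (.leaf 0x1b6bde19643d2c3e3))) (.node 2 (.node 1 (.leaf 0x1653f34213dd13e3) (.leaf 0x16bde1960bccbbe3)) (.node 1 (.leaf 0x153b7967ae0def15b) (.leaf 0x26ebd02f8a0a74aee)))) (.node 4 (.node 2 (.node 1 (.leaf 0x30445f0d71422d095) (.leaf 0x2460f034213df18c0)) (.node 1 (.leaf 0x1625f6414fe6515e) (.leaf 0x28691a00af8c178b0))) (.node 2 (.node 1 (.leaf 0x160cd00a8136e84f) (.leaf 0xb0bd02f8e327492d)) (.node 1 (.leaf 0x518c700b95c178b0) (.leaf 0x2a78c767a3c1ab10f)))))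 (.node 8 (.node 4 (.node 2 (.node 1 (.leaf 0x1ed8cd660aac64130) (.leaf 0x27719a2062c90a16a)) (.node 1 (.leaf 0x254bca2fc31e65073) (.leaf 0x36abca14844ed48b0))) (.node 2 (.node 1 (.leaf 0x2d93de6dad929d0b8) (.leaf 0x18c50a2534fc8b0c0)) (.node 1 (.leaf 0x5b1cf604f29d1188) (.leaf 0x31bd5386ae31c2070)))) (.node 4 (.node 2 (.node 1 (.leaf 0x221d22fb1257702f) (.leaf 0x160cd46257b2804f)) (.node 1 (.leaf 0x72ee1a289adc01ac) (.leaf 0xc890b1ff4fc8b0b0))) (.node 2 (.node 1 (.leaf 0x2b68c7a0b40a9d1ae) (.leaf 0x31738dc1ce0f6915b)) (.node 1 (.leaf 0x1643cb76eead4892) (.leaf 0xef8c7d7bb49f115a)))))))))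

def zKey_2 : Tree := (.node 128 (.node 64 (.node 32 (.node 16 (.node 8 (.node 4 (.node 2 (.node 1 (.leaf 0x2dd93b00bb7417c3c) (.leaf 0x7b3ca6053989b048)) (.node 1 (.leaf 0x2d925f8f620554898) (.leaf 0x1b8c7ae0da83aa0a))) (.node 2 (.node 1 (.leaf 0x2bf6a446630132163) (.leaf 0x19babab77399323ba)) (.node 1 (.leaf 0x27ca5fcc86c69dbb9) (.leaf 0x2a78c711af2862063)))) (.node 4 (.node 2 (.node 1 (.leaf 0x2e1a612a81469d079) (.leaf 0x318d3b27e65cf092d)) (.node 1 (.leaf 0x1668c79206c4cb8b8) (.leaf 0x2332a2660e3098278))) (.node 2 (.node 1 (.leaf 0x34125a67a43de5a7a) (.leaf 0x277ef498a4c1ac988)) (.node 1 (.leaf 0x2e72a26416e665240) (.leaf 0x167a5a645940e8242))))) (.node 8 (.node 4 (.node 2 (.node 1 (.leaf 0x2958c700b2f958a7e) (.leaf 0xdebd0a98e0f51a17)) (.node 1 (.leaf 0x25e9b15ea13f52a04) (.leaf 0x23b6f1b3a94225256))) (.node 2 (.node 1 (.leaf 0x3616f437917ddd0e2)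 (.leaf 0x1908c717ef85468e7)) (.node 1 (.leaf 0x1a9bde2fba95c0200) (.leaf 0x3680c7865b75f120a)))) (.node 4 (.node 2 (.node 1 (.leaf 0x1d95e4629fe6fa06) (.leaf 0x3d26114af8752a04)) (.node 1 (.leaf 0x1ebcd5a9b12464214) (.leaf 0x19bef46053993243c))) (.node 2 (.node 1 (.leaf 0x2be117a0a6c69dcd5) (.leaf 0x2064d585cadde58e7)) (.node 1 (.leaf 0x23313d86ae32d0907) (.leaf 0x1890cd510aac6410f)))))) (.node 16 (.node 8 (.node 4 (.node 2 (.node 1 (.leaf 0x2d89d21f87527487d) (.leaf 0xa31d2b6213f51848)) (.node 1 (.leaf 0x160c73be57932092) (.leaf 0x2fe294b16ab9768ac))) (.node 2 (.node 1 (.leaf 0x24b1d541ee25ba1c8) (.leaf 0x1b8c7c444de248b8)) (.node 1 (.leaf 0x9415b1d6f8c178c0) (.leaf 0x1d8df7f0819ac95b)))) (.node 4 (.node 2 (.node 1 (.leaf 0x1f2ef55caeb10015a) (.leaf 0x20eea3c2d9404d963)) (.node 1 (.leaf 0x2c23d02a6a0a2d4d5) (.leaf 0x2b09172fd49a6543c))) (.node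 2 (.node 1 (.leaf 0xb4b811ac2cb5196a) (.leaf 0x2de1b111a13ed3256)) (.node 1 (.leaf 0x2819614ec35c2204) (.leaf 0x3135ac1522083aa0a))))) (.node 8 (.node 4 (.node 2 (.node 1 (.leaf 0x2b3b812fa749ab200) (.leaf 0x36844d6fa2089c048)) (.node 1 (.leaf 0xfb6a47fcab83f84c) (.leaf 0xae307fc1303f8ac))) (.node 2 (.node 1 (.leaf 0x2503f67dc205c4098) (.leaf 0x107e577dce244c163)) (.node 1 (.leaf 0x24a88220813c17bba) (.leaf 0x12090ba58ac50c2ed)))) (.node 4 (.node 2 (.node 1 (.leaf 0x8695b722f8d3528e) (.leaf 0x338d3fb2c13c17a8d)) (.node 1 (.leaf 0x348911bd244c5a292) (.leaf 0x2a13c69fb14158a04))) (.node 2 (.node 1 (.leaf 0x16f63454a13c98256) (.leaf 0x1bc137072ae5f1a40)) (.node 1 (.leaf 0x1b4bc671e505f1a4a) (.leaf 0x1726e1b9fb485a24e))))))) (.node 32 (.node 16 (.node 8 (.node 4 (.node 2 (.node 1 (.leaf 0x16219abd22cb694cf) (.leaf 0x2b5aaa2fe6766fb55)) (.node 1 (.leaf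 0x43ed2607a969d351) (.leaf 0x1658cd8843244004c))) (.node 2 (.node 1 (.leaf 0x12412ab30f855f095) (.leaf 0x492a5e02089c098)) (.node 1 (.leaf 0x2c3ab20d465e74895) (.leaf 0xa12a2660aac9815a)))) (.node 4 (.node 2 (.node 1 (.leaf 0x363d476416e52015e) (.leaf 0x26ebd02f8ae717aee)) (.node 1 (.leaf 0x20e91130444d25217) (.leaf 0x3624eb5778d135206))) (.node 2 (.node 1 (.leaf 0x23cbaa2051405a1bb) (.leaf 0x218c7764765f1200)) (.node 1 (.leaf 0x2acbe75265c4da01) (.leaf 0x20199c07e7655f24e))))) (.node 8 (.node 4 (.node 2 (.node 1 (.leaf 0x7f90b7a6ac4a1a7e) (.leaf 0x3636773dc6748b27a)) (.node 1 (.leaf 0x1996342ba7509e278) (.leaf 0x3041112041489c0ed))) (.node 2 (.node 1 (.leaf 0x21f3a288d6e6d48e2) (.leaf 0x280c78aac37178e4)) (.node 1 (.leaf 0x470731421f4e8292) (.leaf 0x2101c7ca8940ecb64)))) (.node 4 (.node 2 (.node 1 (.leaf 0x2e4ca3b80be6fa6a) (.leaf 0x1d0df2ce30017ab8))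 (.node 1 (.leaf 0x2b3ef15d1a9427941) (.leaf 0x2e4ca3b96e5eea6a))) (.node 2 (.node 1 (.leaf 0x43a246213e8bcbe) (.leaf 0x2c25295e912817ab8)) (.node 1 (.leaf 0x1a5b0db2083752892) (.leaf 0x16f0c71b613e8b84c)))))) (.node 16 (.node 8 (.node 4 (.node 2 (.node 1 (.leaf 0x35c3811fda950c0ac) (.leaf 0x2513c041ee25f1a58)) (.node 1 (.leaf 0x18937f1b569817898) (.leaf 0x8f8c71f6f29c4163))) (.node 2 (.node 1 (.leaf 0x16204bf013ed2cd5) (.leaf 0x304052205141b8095)) (.node 1 (.leaf 0x1936dd20813ed084c) (.leaf 0x23319a2069590c0ac)))) (.node 4 (.node 2 (.node 1 (.leaf 0x1620635213f6915e) (.leaf 0x2e1e30c2b3555496a)) (.node 1 (.leaf 0x2c099caa93961e2fc) (.leaf 0x305bca9bd37c17aed))) (.node 2 (.node 1 (.leaf 0x3380f073813c3ea8e) (.leaf 0x1a03f6729395c428d)) (.node 1 (.leaf 0x17215b0c86ec5a292) (.leaf 0x2b6b8a3f2eb29d502))))) (.node 8 (.node 4 (.node 2 (.node 1 (.leaf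 0x28636a964651f115a) (.leaf 0x1a5ede57669122a06)) (.node 1 (.leaf 0x1e90c79f6ac817aee) (.leaf 0x2f08c74e476417a4e))) (.node 2 (.node 1 (.leaf 0x2fd9d99f613d594cf) (.leaf 0x1615e46213e6fa06)) (.node 1 (.leaf 0xefee1c809ad873a2) (.leaf 0x2b0c4dc5aac417a7e)))) (.node 4 (.node 2 (.node 1 (.leaf 0x2116de8a749a1e242) (.leaf 0x296ccf08013cecb64)) (.node 1 (.leaf 0x2b3b812fba9417a00) (.leaf 0x300d0a29ebf5ab201))) (.node 2 (.node 1 (.leaf 0x3433f66c73b55f3b9) (.leaf 0x30099a7a6bf4a1d02)) (.node 1 (.leaf 0x2498c788a6c717ab9) (.leaf 0x1c32af1d64c017ab8)))))))) (.node 64 (.node 32 (.node 16 (.node 8 (.node 4 (.node 2 (.node 1 (.leaf 0x2e4ca1238d1aca6a) (.leaf 0x26bccf41112817ab8)) (.node 1 (.leaf 0x2360c7c227497c8ed) (.leaf 0x3088c736717c878e2))) (.node 2 (.node 1 (.leaf 0x1ebb8a19cab97c96a) (.leaf 0x2e9ef17529fccba01)) (.node 1 (.leaf 0x1edab23064c2278e4)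 (.leaf 0x1643c734145eeb55)))) (.node 4 (.node 2 (.node 1 (.leaf 0x2959c7740e0e91cbe) (.leaf 0x1129962e68372bcf1)) (.node 1 (.leaf 0x2c253b13c765ef2b8) (.leaf 0x22b0c7c88aca2d3ea))) (.node 2 (.node 1 (.leaf 0x1612a41ef8dba4f1) (.leaf 0xde95b7226ef51a6a)) (.node 1 (.leaf 0x295bc0cd0df958cbe) (.leaf 0xab8349f348cbb9e))))) (.node 8 (.node 4 (.node 2 (.node 1 (.leaf 0x3308c7c88daad4bea) (.leaf 0x22b294a9ba9017bea)) (.node 1 (.leaf 0x4f9d976613e91cf1) (.leaf 0x164cf19c13f51af9))) (.node 2 (.node 1 (.leaf 0x363ccad2cee85a0e2) (.leaf 0xb4c5fc202c9dc8e4)) (.node 1 (.leaf 0x6c3c30813e24bb9) (.leaf 0x11ab79b5f68417ba2)))) (.node 4 (.node 2 (.node 1 (.leaf 0x2a56bf013ed2d02) (.leaf 0x249ea46ca13ddd2b9)) (.node 1 (.leaf 0xc0ab20cc13cecb89) (.leaf 0xf29c0d465c17bea))) (.node 2 (.node 1 (.leaf 0x163642c213ccbcf1) (.leaf 0x7f90b3b8ac417beb)) (.node 1 (.leaf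 0x1cab835d013f17d02) (.leaf 0x91ceb1bc2089e1de)))))) (.node 16 (.node 8 (.node 4 (.node 2 (.node 1 (.leaf 0x24b25f1e8ab95f389) (.leaf 0xfbaa6b733d203e3)) (.node 1 (.leaf 0x2e1a617e0eb14d4f1) (.leaf 0x2bf1d51f5349c43ea))) (.node 2 (.node 1 (.leaf 0x3220c71eba9017bea) (.leaf 0x27cb5500a13e8102f)) (.node 1 (.leaf 0x19cd539f4a341784f) (.leaf 0x3113b91c942d2863)))) (.node 4 (.node 2 (.node 1 (.leaf 0x25eb0d92e1f71c070) (.leaf 0x2b430dc516854d079)) (.node 1 (.leaf 0xf6b817a7b74a1873) (.leaf 0x1637fb6296e2504f))) (.node 2 (.node 1 (.leaf 0x1f952673013c178b0) (.leaf 0x3380c700b95d3f048)) (.node 1 (.leaf 0x2468c74aed92d3098) (.leaf 0x179dacb30ee50a3e3))))) (.node 8 (.node 4 (.node 2 (.node 1 (.leaf 0x20eea32586ed20163) (.leaf 0x1d3795e0e244c3e3)) (.node 1 (.leaf 0x28adaa884131f53e3) (.leaf 0x1bc381536ae50a0b8))) (.node 2 (.node 1 (.leaf 0x1653f14613c984cf)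 (.leaf 0x7419c07e43c17a4e)) (.node 1 (.leaf 0x31e547db0d3d35188) (.leaf 0xf28f02e6add76a95)))) (.node 4 (.node 2 (.node 1 (.leaf 0x1a9bde13c7669d92a) (.leaf 0x28691a388d3ed2a4a)) (.node 1 (.leaf 0x164d5550205c4204) (.leaf 0x1b93aa5413b587256))) (.node 2 (.node 1 (.leaf 0x16204a5a13e24cd5) (.leaf 0x1ca8c700a13c5802f)) (.node 1 (.leaf 0x3111b19b613f51848) (.leaf 0x208aba14e146dc870))))))) (.node 32 (.node 16 (.node 8 (.node 4 (.node 2 (.node 1 (.leaf 0x2c21d92a912a2d079) (.leaf 0x2a22b20d53495f095)) (.node 1 (.leaf 0x348b0db2044d7c892) (.leaf 0x35c38125cee88b0ac))) (.node 2 (.node 1 (.leaf 0x1bc3815371243a8b8) (.leaf 0x7419aaf2940a195b)) (.node 1 (.leaf 0x30f1d9248302d4892) (.leaf 0x2ddaba1b9b7417bba)))) (.node 4 (.node 2 (.node 1 (.leaf 0x2dd93b25844f28163) (.leaf 0x1643c20813ed2af9)) (.node 1 (.leaf 0x1a005230968417a8d) (.leaf 0x162b213c31cec92a)))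 (.node 2 (.node 1 (.leaf 0x1ad3d1ac1488b141) (.leaf 0x826a3d811297704c)) (.node 1 (.leaf 0x2e9ef1692a0977201) (.leaf 0x3110c700ba9176848))))) (.node 8 (.node 4 (.node 2 (.node 1 (.leaf 0x2468c7ae057a91898) (.leaf 0x2f89b1a2948d4d370)) (.node 1 (.leaf 0x20199caa9395c443c) (.leaf 0x2e1a9c3f2eb29d4d5))) (.node 2 (.node 1 (.leaf 0x33d5accc8ee43a960) (.leaf 0x280c7576819228e4)) (.node 1 (.leaf 0x3088c73f6749000e2) (.leaf 0xbd95e05813d59206)))) (.node 4 (.node 2 (.node 1 (.leaf 0x2a12af478f85ee92a) (.leaf 0x2fa8c79672f9ba295)) (.node 1 (.leaf 0x3138ad102cad33c1) (.leaf 0x11296651296d5c29d))) (.node 2 (.node 1 (.leaf 0x1a4a94a9b40817a00) (.leaf 0xc0b83a98690e0a01)) (.node 1 (.leaf 0x20e911305a8c9e217) (.leaf 0x26e6dda9b1244d91e)))))) (.node 16 (.node 8 (.node 4 (.node 2 (.node 1 (.leaf 0x22a2af2d13c52c12d) (.leaf 0x1894eb4af6989e278)) (.node 1 (.leaf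 0x2512065ef45c17a58) (.leaf 0x3135ac1526776ea0a))) (.node 2 (.node 1 (.leaf 0xcaa6134da8c17af9) (.leaf 0x17be570cc13e6a84c)) (.node 1 (.leaf 0x970c70d14fc600ac) (.leaf 0x13a8c705813ddd3e3)))) (.node 4 (.node 2 (.node 1 (.leaf 0x2a73594e549e6515e) (.leaf 0x286d47686be417be3)) (.node 1 (.leaf 0x1653fb2c13d46be3) (.leaf 0x1209d22a6ade2d2ed))) (.node 2 (.node 1 (.leaf 0x86bde34cbe5353e3) (.leaf 0x16ad0a71f2f839be3)) (.node 1 (.leaf 0x180a5a0c818d5c3e3) (.leaf 0x1182aaa56df922a06))))) (.node 8 (.node 4 (.node 2 (.node 1 (.leaf 0xf00c73dcf868ba7a) (.leaf 0x26e6dd2b27513511e)) (.node 1 (.leaf 0x1ca8c7764749eea00) (.leaf 0x34891179d129c0292))) (.node 2 (.node 1 (.leaf 0x1996342bb69b1c278) (.leaf 0x34ab8310813ddca8e)) (.node 1 (.leaf 0x250d3b37d355ef0ed) (.leaf 0x36120651e98ad48e2)))) (.node 4 (.node 2 (.node 1 (.leaf 0x11e6de569a9017873) (.leaf 0x11492a4e0c34b68e4))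 (.node 1 (.leaf 0x11d4be644dfb28242) (.leaf 0x2360c76403c1e5a40))) (.node 2 (.node 1 (.leaf 0x308e77c86749ab11a) (.leaf 0x208b8dd5e44ce0a4a)) (.node 1 (.leaf 0x1209d2768ac62d0cd) (.leaf 0x3248df9eca3b519a3)))))))))

def zKey_3 : Tree := (.node 128 (.node 64 (.node 32 (.node 16 (.node 8 (.node 4 (.node 2 (.node 1 (.leaf 0x325b7908a131f53e3) (.leaf 0x20653b6c6ee49e0e7)) (.node 1 (.leaf 0x216d022f98be748e7) (.leaf 0x5d95b4eaaaf1a0df))) (.node 2 (.node 1 (.leaf 0x4391756937d3502f) (.leaf 0x7b1b13f813f2b848)) (.node 1 (.leaf 0xf70c767ae0c87a7a) (.leaf 0x21ede24830017a58)))) (.node 4 (.node 2 (.node 1 (.leaf 0x1b8c7914da83aa8e) (.leaf 0x2e736a888aad228cd)) (.node 1 (.leaf 0x1a596692ec35c212a) (.leaf 0x1ca45f91413f1a28d))) (.node 2 (.node 1 (.leaf 0x86ceb138d91253e3) (.leaf 0x363ee16954fd251c2)) (.node 1 (.leaf 0x23b0c7690959871bf) (.leaf 0x161aba1b8811dd3e3)))))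 (.node 8 (.node 4 (.node 2 (.node 1 (.leaf 0x2469d91ea31d591c2) (.leaf 0x16a38a0c818c87be3)) (.node 1 (.leaf 0x69d90d2a35b33e3) (.leaf 0x550c7058d917cbe3))) (.node 2 (.node 1 (.leaf 0x160c74eb33ccbbe3) (.leaf 0x2cb63447a301273e3)) (.node 1 (.leaf 0x1ad3d0dd33d0a3e3) (.leaf 0x1637f4d8d55dcbe3)))) (.node 4 (.node 2 (.node 1 (.leaf 0x36137f1fe207178e4) (.leaf 0x1a4ef127f40817be3)) (.node 1 (.leaf 0x1243e1230650603e3) (.leaf 0x69d95e813c983e3))) (.node 2 (.node 1 (.leaf 0x1366a300a2c1b83e3) (.leaf 0x82cd58f6650b68e4)) (.node 1 (.leaf 0x3194ea3e06c5c02ee) (.leaf 0x34ad0a6f643c1784f)))))) (.node 16 (.node 8 (.node 4 (.node 2 (.node 1 (.leaf 0x3c13723013df1930) (.leaf 0x1ca43c00a13f5207d)) (.node 1 (.leaf 0x11e0c7444f855f1c5) (.leaf 0x17d29c45934b1c1c8))) (.node 2 (.node 1 (.leaf 0x6ab6a96b48c1790f) (.leaf 0x26ba5f8f76944c194)) (.node 1 (.leaf 0x11c0c79204ddc0197)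 (.leaf 0x153baa380f849e130)))) (.node 4 (.node 2 (.node 1 (.leaf 0x11099a2062c90c214) (.leaf 0xf6d261f631dac873)) (.node 1 (.leaf 0x33eced31e6771c10f) (.leaf 0x22b0c7768d55ee91e))) (.node 2 (.node 1 (.leaf 0x14fcd537ca0b2b92d) (.leaf 0x2e6344218be2d240)) (.node 1 (.leaf 0x2c3bf67dd349c4095) (.leaf 0x821387fd125f504c))))) (.node 8 (.node 4 (.node 2 (.node 1 (.leaf 0x160cd2f681ad084f) (.leaf 0x25e9b12fe6771c07d)) (.node 1 (.leaf 0x1894eb888aacf0a78) (.leaf 0xf7677c86691ab27a))) (.node 2 (.node 1 (.leaf 0x86cebba517c5a10f) (.leaf 0x21690b1ff8bc8b27e)) (.node 1 (.leaf 0x36145fc2098b178e4) (.leaf 0xf143cd4ea36278e4)))) (.node 4 (.node 2 (.node 1 (.leaf 0x8f8c7c038d156a01) (.leaf 0x164cf75aeeb1c070)) (.node 1 (.leaf 0x3308c7c2317d7c8e2) (.leaf 0x35a0400a1f417aed))) (.node 2 (.node 1 (.leaf 0x11f256d1169862a00) (.leaf 0x1620400a13f51cd5)) (.node 1 (.leaf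 0x1f95268a749c9b048) (.leaf 0x2e10b4218d1a882f))))))) (.node 32 (.node 16 (.node 8 (.node 4 (.node 2 (.node 1 (.leaf 0x22b1b176831def073) (.leaf 0x2c93d4673484d963)) (.node 1 (.leaf 0x3088c767a748878ed) (.leaf 0x1ebb8ad102c94d16a))) (.node 2 (.node 1 (.leaf 0x2668c7c069405a2fc) (.leaf 0x2d6966cd01f5c220a)) (.node 1 (.leaf 0x16f0c7c298d1b328e) (.leaf 0xd82bfd4f49d22a8d)))) (.node 4 (.node 2 (.node 1 (.leaf 0x1038dd8013177292) (.leaf 0x1cab8d2a6a0a2d502)) (.node 1 (.leaf 0x1d2b7f1b42062d098) (.leaf 0x11c1b19b613ed307d))) (.node 2 (.node 1 (.leaf 0x1a215e3429ac981c5) (.leaf 0x22c3de19643ca19c8)) (.node 1 (.leaf 0x165936752a08cb91e) (.leaf 0x346136458eb352b4f))))) (.node 8 (.node 4 (.node 2 (.node 1 (.leaf 0x1d69c74673486039e) (.leaf 0x33865700a13df1ba2)) (.node 1 (.leaf 0x2ca4ed6902c14d1bf) (.leaf 0x2116de6ba30265242))) (.node 2 (.node 1 (.leaf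 0x1900c78aa3c0b6a40) (.leaf 0x2c01d5973a95c4214)) (.node 1 (.leaf 0x2c39c744537dacb51) (.leaf 0x15443c00aac5f5b55)))) (.node 4 (.node 2 (.node 1 (.leaf 0xf68c7af3b7556afc) (.leaf 0x1e6b79d3ee24eca4e)) (.node 1 (.leaf 0x1d2cd5cdb6944da4a) (.leaf 0x3226f5888daad3256))) (.node 2 (.node 1 (.leaf 0x18fb7fb6269225194) (.leaf 0x3411d2c8745ce0b70)) (.node 1 (.leaf 0x162064ea13c6015e) (.leaf 0x1a5ede4e0c3546960)))))) (.node 16 (.node 8 (.node 4 (.node 2 (.node 1 (.leaf 0x23cbaa1faaadd115a) (.leaf 0x16204b2013ed0af9)) (.node 1 (.leaf 0x2363aad371249e240) (.leaf 0x1b8c7ce04ded0a8e))) (.node 2 (.node 1 (.leaf 0x1d693d7dd34b28163) (.leaf 0x18c50a6dad91a8be3)) (.node 1 (.leaf 0x1a2355db09aed0988) (.leaf 0x358e307fd1255f0b8)))) (.node 4 (.node 2 (.node 1 (.leaf 0x2c38cd7529fc4d997) (.leaf 0x2de0c76ba4ddc00c0)) (.node 1 (.leaf 0x676a330813ed2863) (.leaf 0xf6aaad3bb7417873)))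 (.node 2 (.node 1 (.leaf 0x2776a3c8d68464107) (.leaf 0x2c93dd367522491e)) (.node 1 (.leaf 0xde11a00af8c1787d) (.leaf 0xde95b69843c17a00))))) (.node 8 (.node 4 (.node 2 (.node 1 (.leaf 0x1b4e7729db743aa0a) (.leaf 0x16ac4d1b548c17b70)) (.node 1 (.leaf 0xfbcea1bc44f51a17) (.leaf 0x43bde1c7b4a9da14))) (.node 2 (.node 1 (.leaf 0x2d8852d2413f52194) (.leaf 0x16f1d21b613e25256)) (.node 1 (.leaf 0x1da062f69fd3215e) (.leaf 0x2dd93b1f43244d963)))) (.node 4 (.node 2 (.node 1 (.leaf 0x1135aa96e1489c048) (.leaf 0x1ca3ca9bd9412702f)) (.node 1 (.leaf 0x291a55032462873) (.leaf 0x16f0c71b67483f84c))) (.node 2 (.node 1 (.leaf 0x11855386a145c2079) (.leaf 0x254e5786b3c43c907)) (.node 1 (.leaf 0x180d2985c18d5c0ed) (.leaf 0x16aa5acd12f839a0a)))))))) (.node 64 (.node 32 (.node 16 (.node 8 (.node 4 (.node 2 (.node 1 (.leaf 0x34ad0a152bf43aa8e) (.leaf 0x35917c80ac5872ed))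 (.node 1 (.leaf 0x2c9ee1c5b48c17c3c) (.leaf 0xc8873042f8da8b4f))) (.node 2 (.node 1 (.leaf 0x1a8df9ecf8cd19bb) (.leaf 0x362634d5e44c5a1bf)) (.node 1 (.leaf 0x11099a9142c83abc1) (.leaf 0x35a0c7d601486296a)))) (.node 4 (.node 2 (.node 1 (.leaf 0x2f4ed273013c60256) (.leaf 0x208bd0daf17d591c2)) (.node 1 (.leaf 0x2f89b16f665c17b70) (.leaf 0x25b852d601209b190))) (.node 2 (.node 1 (.leaf 0x20ebc07226edf19a3) (.leaf 0x2b5677d5f8d03ab66)) (.node 1 (.leaf 0xf2ef18aa3c317ccf) (.leaf 0x2721cf1f8752dcb55))))) (.node 8 (.node 4 (.node 2 (.node 1 (.leaf 0x30c0c788b49adcab9) (.leaf 0x161c2a1b4fde5870)) (.node 1 (.leaf 0x161c26021489c079) (.leaf 0x2498c736a4dc641c5))) (.node 2 (.node 1 (.leaf 0x13a95b14caacf08df) (.leaf 0x15e3649e8e32748e7)) (.node 1 (.leaf 0x1d2b646db6962d0ed) (.leaf 0x2a7e5713e13e6a863)))) (.node 4 (.node 2 (.node 1 (.leaf 0xf00c7146f84980e7)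 (.leaf 0x34629c458d3f52a00)) (.node 1 (.leaf 0x35c3de973a950a204) (.leaf 0x3194ea5ce77b692ee))) (.node 2 (.node 1 (.leaf 0x20891130444d8724a) (.leaf 0x2eb53d3bfb48d195e)) (.node 1 (.leaf 0x11c0c75ce940a1960) (.leaf 0x1908c73dd3b48b141)))))) (.node 16 (.node 8 (.node 4 (.node 2 (.node 1 (.leaf 0x160c7a56acb1c251) (.leaf 0x91ede98a3c09815b)) (.node 1 (.leaf 0x2dc1660d4ac9e5b66) (.leaf 0x8013b29c324401ae))) (.node 2 (.node 1 (.leaf 0x740c7d3e764e0a4e) (.leaf 0x684f30820840098)) (.node 1 (.leaf 0x43b595680bedc9a3) (.leaf 0x72ced3f813e811de)))) (.node 4 (.node 2 (.node 1 (.leaf 0x2acbe00a1f417beb) (.leaf 0x114ccf40e13c87b89)) (.node 1 (.leaf 0x2468826fa145588cd) (.leaf 0x43b5956937d549a3))) (.node 2 (.node 1 (.leaf 0x1cd1c2080144ec92a) (.leaf 0x3434ed3f9397529de)) (.node 1 (.leaf 0x2be1b13e112817beb) (.leaf 0x1b99c864da9f50df))))) (.node 8 (.node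 4 (.node 2 (.node 1 (.leaf 0x363ccad2d6e4b68e2) (.leaf 0x3018c700b2f9f1b70)) (.node 1 (.leaf 0xfb6a4bda13e8b84c) (.leaf 0x2eb2612a912817879))) (.node 2 (.node 1 (.leaf 0x11a8c72fd499c2107) (.leaf 0xb79c2512f8d5c194)) (.node 1 (.leaf 0x250b8d2a6ade2d0ed) (.leaf 0xd835977f49e6520a)))) (.node 4 (.node 2 (.node 1 (.leaf 0x1f8bcaa00bf556b70) (.leaf 0x1d6911304959870e7)) (.node 1 (.leaf 0x21050ac06941aca06) (.leaf 0x23fa0450a13ed084c))) (.node 2 (.node 1 (.leaf 0x35888220912417879) (.leaf 0x2776a32062c90a107)) (.node 1 (.leaf 0x164d5bf013f17a04) (.leaf 0x11e1d59722c017a14))))))) (.node 32 (.node 16 (.node 8 (.node 4 (.node 2 (.node 1 (.leaf 0x1d2d29969355eea17) (.leaf 0x2b2d26b5f6e417aed)) (.node 1 (.leaf 0x2469966fa2086243c) (.leaf 0x338c3c71c13c6034f))) (.node 2 (.node 1 (.leaf 0x1889374ec13c3e9bb) (.leaf 0x3624eb13844d251bf)) (.node 1 (.leaf 0x11adaa2fd49a653a2)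 (.leaf 0x3248df08aa383abc1)))) (.node 4 (.node 2 (.node 1 (.leaf 0x216d02ddc5048b39e) (.leaf 0x1b95aa2a912817beb)) (.node 1 (.leaf 0x1e90c75ce6c4a1aee) (.leaf 0x2a2ef43be9ad3215e))) (.node 2 (.node 1 (.leaf 0x14fb8d094ac817aee) (.leaf 0xe5c5f35139674990)) (.node 1 (.leaf 0x36b8c772cac817b66) (.leaf 0x2eb50ad7bb490a4cf))))) (.node 8 (.node 4 (.node 2 (.node 1 (.leaf 0x296b6405813d594cf) (.leaf 0x162062f613edc95e)) (.node 1 (.leaf 0x33d5ac2ff37ca1960) (.leaf 0x15e53f49ae31f128d))) (.node 2 (.node 1 (.leaf 0x235677a586910c3a2) (.leaf 0x13d8c7a0b3569d1ae)) (.node 1 (.leaf 0x2019cf0d276417a4e) (.leaf 0x35593852232439963)))) (.node 4 (.node 2 (.node 1 (.leaf 0x10e3aa1fb141c015a) (.leaf 0xb4b818ab33e9d9c8)) (.node 1 (.leaf 0xd48df1ae9fd0c15b) (.leaf 0x188ba252339b6eafc))) (.node 2 (.node 1 (.leaf 0x2edd5399ce0de5af9) (.leaf 0x2e9ef1b3a9fe2539e)) (.node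 1 (.leaf 0x33d45fc20834e0bb9) (.leaf 0x1996341c2a0b691de)))))) (.node 16 (.node 8 (.node 4 (.node 2 (.node 1 (.leaf 0xf11c22d0f8d2c389) (.leaf 0x24aceb1bc44f6e9de)) (.node 1 (.leaf 0x23fab25ee13e8bb89) (.leaf 0x2fe294b174fc580ac))) (.node 2 (.node 1 (.leaf 0x2a21c21b8ee817a14) (.leaf 0xfbb8d108adddca17)) (.node 1 (.leaf 0x1f2ef5510aac8795a) (.leaf 0x153d3d98a4c1ab15b)))) (.node 4 (.node 2 (.node 1 (.leaf 0x164cfa5a1469d364) (.leaf 0x28adaa96f3943fa7e)) (.node 1 (.leaf 0x1643c55020554b55) (.leaf 0x31738399cbe417b51))) (.node 2 (.node 1 (.leaf 0x1e6a5f1e898b2bb89) (.leaf 0x26e3aa4dbb75251de)) (.node 1 (.leaf 0x160c7daeac9b34f1) (.leaf 0x26a29451296df1bea))))) (.node 8 (.node 4 (.node 2 (.node 1 (.leaf 0x147cbeddc506d2b51) (.leaf 0x24d1d9c7e13d7cb55)) (.node 1 (.leaf 0x355bf60bb94017898) (.leaf 0x33825a9bd94017ba2))) (.node 2 (.node 1 (.leaf 0xab8349e6762539e)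 (.leaf 0xd0ea449a13d46b4f)) (.node 1 (.leaf 0x743d007e43c17ab8) (.leaf 0x15d2650ad3db33e3)))) (.node 4 (.node 2 (.node 1 (.leaf 0x160c714613c984f1) (.leaf 0x17d4ed3f813f52d02)) (.node 1 (.leaf 0x24996656937c17ba2) (.leaf 0x24b8c7123a8c17a6a))) (.node 2 (.node 1 (.leaf 0x2fa917768748f0cbe) (.leaf 0x1c32af142e31c22b8)) (.node 1 (.leaf 0x160526033c5b83e3) (.leaf 0x178b7fa98a08e0b89)))))))))

def zKey_4 : Tree := (.node 128 (.node 64 (.node 32 (.node 16 (.node 8 (.node 4 (.node 2 (.node 1 (.leaf 0x2d699a864daa653ea) (.leaf 0x1188cd00ae881784f)) (.node 1 (.leaf 0x35c5f7321f674895) (.leaf 0x167c5fba5940e0898))) (.node 2 (.node 1 (.leaf 0x358a94c451249c0b8) (.leaf 0x36abca54a13c178b0)) (.node 1 (.leaf 0x2d89d296a13c1787d) (.leaf 0x2a78c772a13c1790f)))) (.node 4 (.node 2 (.node 1 (.leaf 0x17bcbe00a13e6a82f) (.leaf 0x1cd11a00ad5752073)) (.node 1 (.leaf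 0x10e117071409203e3) (.leaf 0x31e4ea388d3d250ed))) (.node 2 (.node 1 (.leaf 0x3baa29e8a3946be3) (.leaf 0xfd47a1abe5253e3)) (.node 1 (.leaf 0x1b4e7771e5050a20a) (.leaf 0x16ad0a6da43c17be3))))) (.node 8 (.node 4 (.node 2 (.node 1 (.leaf 0x86a5a6033c43cbe3) (.leaf 0x48825e0651f5be3)) (.node 1 (.leaf 0x26e6ddd367792011e) (.leaf 0x1801d51f4811c43c1))) (.node 2 (.node 1 (.leaf 0x19cbe10d013c60364) (.leaf 0x918c74aee0c9e217)) (.node 1 (.leaf 0x7fb5500a2c017a7e) (.leaf 0x1bc5acde6ae4d1a42)))) (.node 4 (.node 2 (.node 1 (.leaf 0x2e73aad36aacf0a40) (.leaf 0x1689371e8ab9769bf)) (.node 1 (.leaf 0x20eceb259941201bb) (.leaf 0x32591a536ae624a14))) (.node 2 (.node 1 (.leaf 0x23350a740e0d0c256) (.leaf 0x26babf965141f1194)) (.node 1 (.leaf 0x1f952679d141f1370) (.leaf 0x25b8cd00aac427848)))))) (.node 16 (.node 8 (.node 4 (.node 2 (.node 1 (.leaf 0x2b5a6114a14752892)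 (.leaf 0x2f093613e76427863)) (.node 1 (.leaf 0x2c21d907ee31e5870) (.leaf 0x7fb7f576690e08e4))) (.node 2 (.node 1 (.leaf 0x2264cf19c13d7ca8e) (.leaf 0x338abf11db7417a8d)) (.node 1 (.leaf 0x1605296e205588cd) (.leaf 0x13d8c71c7a8c179a3)))) (.node 4 (.node 2 (.node 1 (.leaf 0xf0df47a65c17aee) (.leaf 0x1cd11a00a8132b873)) (.node 1 (.leaf 0x318966b9995de5a58) (.leaf 0x363d47c22be45a0e2))) (.node 2 (.node 1 (.leaf 0x16785230994017898) (.leaf 0x1f2ced540aae9d0cd)) (.node 1 (.leaf 0x1801d56954fd549c2) (.leaf 0x1038dd8044e25292))))) (.node 8 (.node 4 (.node 2 (.node 1 (.leaf 0x160c713d0f017879) (.leaf 0x17bb7908a65df53e3)) (.node 1 (.leaf 0x1c36a4142e31c2107) (.leaf 0x324b8d094be417be3))) (.node 2 (.node 1 (.leaf 0x13a8c708013d46be3) (.leaf 0x1f8daa1f6f29c4204)) (.node 1 (.leaf 0x86250474779dd3e3) (.leaf 0x16a5ac87cee417be3)))) (.node 4 (.node 2 (.node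 1 (.leaf 0x27c9b13f2aba9d2ed) (.leaf 0x1637f1b4ac817c3c)) (.node 1 (.leaf 0xc8e7751ebe5a8be3) (.leaf 0x179d3b4d8ee4d1be3))) (.node 2 (.node 1 (.leaf 0x1079d5138e244c3e3) (.leaf 0x2019cfa273953215e)) (.node 1 (.leaf 0x251edeb3ed3db3160) (.leaf 0xa12a2540aae8b9bf))))))) (.node 32 (.node 16 (.node 8 (.node 4 (.node 2 (.node 1 (.leaf 0x1e90c73ff4fe919ac) (.leaf 0x28acbe88413040163)) (.node 1 (.leaf 0x25053f25348c17898) (.leaf 0x3173de99ce0f1c0ac))) (.node 2 (.node 1 (.leaf 0x161c237917ce8092) (.leaf 0x36a9d25d013f178b0)) (.node 1 (.leaf 0x22b6f43b9a9017873) (.leaf 0x1b69388f7695549ae)))) (.node 4 (.node 2 (.node 1 (.leaf 0x28acbe8f1396d0988) (.leaf 0x24d0c736613c87994)) (.node 1 (.leaf 0x1ebb8ab9e2c94d214) (.leaf 0x251ee1a286c5c011a))) (.node 2 (.node 1 (.leaf 0x2fe53fb16aba27990) (.leaf 0xfbbc6da020b51a17)) (.node 1 (.leaf 0x1b4d0a71fb750a141) (.leaf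 0xc8aaf0dd3c43cbe3))))) (.node 8 (.node 4 (.node 2 (.node 1 (.leaf 0x28c71e49595c3e3) (.leaf 0x2b68c736b4086415a)) (.node 1 (.leaf 0x2fb53f49a75146895) (.leaf 0x3d0c7444f866f895))) (.node 2 (.node 1 (.leaf 0x30f6f15d077b1784f) (.leaf 0x4fea491c13e91863)) (.node 1 (.leaf 0xef43064c017b74) (.leaf 0x35b5500a1f417b70)))) (.node 4 (.node 2 (.node 1 (.leaf 0x25eb0dbd213f693ba) (.leaf 0x2c038117ef85ac92a)) (.node 1 (.leaf 0x2a299c73317dc41c2) (.leaf 0x2262bfb9fb4817bb9))) (.node 2 (.node 1 (.leaf 0x1cd12a058205591c2) (.leaf 0x18fede764651f127a)) (.node 1 (.leaf 0x26bbc6965141b8292) (.leaf 0x1605219c13c583e3)))))) (.node 16 (.node 8 (.node 4 (.node 2 (.node 1 (.leaf 0x162bf11c81146be3) (.leaf 0x2538d08a130cbbe3)) (.node 1 (.leaf 0x162b2094ee9273e3) (.leaf 0x10e917070811253e3))) (.node 2 (.node 1 (.leaf 0x82a6134cd557cbe3) (.leaf 0x160c7352d9087be3))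 (.node 1 (.leaf 0x40c7154959f53e3) (.leaf 0x21f6a300a1f53f3e3)))) (.node 4 (.node 2 (.node 1 (.leaf 0xa33c671e504583e3) (.leaf 0x550df1ae9590c15b)) (.node 1 (.leaf 0x216ef519740817be3) (.leaf 0x13a8c700a9583ebe3))) (.node 2 (.node 1 (.leaf 0x1d693d00a959d13e3) (.leaf 0x3c3aa96a65c1784f)) (.node 1 (.leaf 0x3c4ed14613d59130) (.leaf 0x1396d273013ed30c0))))) (.node 8 (.node 4 (.node 2 (.node 1 (.leaf 0x5b11a64418f28258) (.leaf 0x22b0c76414fde5a9d)) (.node 1 (.leaf 0x22604f91cdaad4a95) (.leaf 0x272506f745c17997))) (.node 2 (.node 1 (.leaf 0x1b913800ba8c39a56) (.leaf 0x26a196bab1243ca5b)) (.node 1 (.leaf 0xc0b8349e75274997) (.leaf 0x2824d5526eb32b9c8)))) (.node 4 (.node 2 (.node 1 (.leaf 0x167abf1b420522898) (.leaf 0x114a0449a13ed2994)) (.node 1 (.leaf 0x1e96f4a286c6919ac) (.leaf 0x2bf4ca523a91ac9c5))) (.node 2 (.node 1 (.leaf 0x17d0c75eaf2a6fb4f)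 (.leaf 0x35593885d6955c063)) (.node 1 (.leaf 0x1343ca71cae5273e3) (.leaf 0x1620486b3c6d0879)))))))) (.node 64 (.node 32 (.node 16 (.node 8 (.node 4 (.node 2 (.node 1 (.leaf 0x30f25091c44ed48c0) (.leaf 0x2eb53db3a9fca1b9e)) (.node 1 (.leaf 0xbdcbe1ae9fc4dba2) (.leaf 0x16884fbda942279bf))) (.node 2 (.node 1 (.leaf 0x213d3dc50c343a997) (.leaf 0x18211714ba949e27e)) (.node 1 (.leaf 0x266966af29415c15b) (.leaf 0xd8359c0f37ce8160)))) (.node 4 (.node 2 (.node 1 (.leaf 0x1608df1aee89ab15b) (.leaf 0xdd0c7cc8c35dc960)) (.node 1 (.leaf 0x104256d81128402ee) (.leaf 0xf13649e8a3674895))) (.node 2 (.node 1 (.leaf 0x2a229ca1b4fd7c8ac) (.leaf 0x219d524830017a00)) (.node 1 (.leaf 0x246abaae020a9195e) (.leaf 0x2fc4d500a13c58204))))) (.node 8 (.node 4 (.node 2 (.node 1 (.leaf 0x10907300ba909c2ed) (.leaf 0x6d4d500a0bf2bb70)) (.node 1 (.leaf 0x13d9d2a0a31e9d873) (.leaf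 0x25e90b5eaae76904f))) (.node 2 (.node 1 (.leaf 0x27c9b1a289894d0b0) (.leaf 0x2360c767a3c1e58ed)) (.node 1 (.leaf 0x21a93d660e3064107) (.leaf 0x2fe294c2aab85816a)))) (.node 4 (.node 2 (.node 1 (.leaf 0x2a229cd7b33f69214) (.leaf 0xfbb8dd8044ce0a17)) (.node 1 (.leaf 0x18029cc02bf69d364) (.leaf 0x25c6771ac6908b242))) (.node 2 (.node 1 (.leaf 0x2c099caa81f5c42fc) (.leaf 0x363996c7f6e417af9)) (.node 1 (.leaf 0xfb6a4b3f37db334f) (.leaf 0x2f48c7c1db49271bb)))))) (.node 16 (.node 8 (.node 4 (.node 2 (.node 1 (.leaf 0x2b50c7c068183c9bf) (.leaf 0x8fc4d1f6f29acba2)) (.node 1 (.leaf 0x3138ad1018d003c1) (.leaf 0xab830641317739e))) (.node 2 (.node 1 (.leaf 0x11f44d1b569817beb) (.leaf 0x2c944dc5b48c178b0)) (.node 1 (.leaf 0xc1d2b6213e2507d) (.leaf 0x25c2062306906029d)))) (.node 4 (.node 2 (.node 1 (.leaf 0x1079d51f595cb69c8) (.leaf 0x2c93839662c0e0a95)) (.node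 1 (.leaf 0xca936510eb0879ae) (.leaf 0x35a0c77a54fd549ac))) (.node 2 (.node 1 (.leaf 0x3059c7738adedca8e) (.leaf 0x26e9362f8a0b17ab9)) (.node 1 (.leaf 0x5525600af8c17d02) (.leaf 0x2863c6964da83ea92))))) (.node 8 (.node 4 (.node 2 (.node 1 (.leaf 0x33885247413df1a8d) (.leaf 0x1653f47831dac92a)) (.node 1 (.leaf 0x2ea93800ba9039b55) (.leaf 0x11a8c76084dce8351))) (.node 2 (.node 1 (.leaf 0x372af2d02c12c3e3) (.leaf 0x2c813bb3e8344db4f)) (.node 1 (.leaf 0x113294c2a121f596a) (.leaf 0x1abaaf69b8bdc224a)))) (.node 4 (.node 2 (.node 1 (.leaf 0x11c6a400a13e1e4be) (.leaf 0x2138c75778d122a6a)) (.node 1 (.leaf 0x1ec996ca87655c364) (.leaf 0x124204c2013f283b9))) (.node 2 (.node 1 (.leaf 0x21da5adaf3c559366) (.leaf 0x2823f690f34b52194)) (.node 1 (.leaf 0x2a2a619b69aed325b) (.leaf 0x2ca677d3b45ca1a58))))))) (.node 32 (.node 16 (.node 8 (.node 4 (.node 2 (.node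 1 (.leaf 0x164d500a13c3ea04) (.leaf 0x1615e35213c98206)) (.node 1 (.leaf 0x26a196d2d12417bba) (.leaf 0x1b6d0addd6948b351))) (.node 2 (.node 1 (.leaf 0x2866de964dab6ea0a) (.leaf 0x1d2d2985d695e58ed)) (.node 1 (.leaf 0x48825e0e25b83e3) (.leaf 0x25c355de669328242)))) (.node 4 (.node 2 (.node 1 (.leaf 0x2ea938d37124f091e) (.leaf 0x518c798a3c1ab130)) (.node 1 (.leaf 0xca93dddc676d29ae) (.leaf 0xd0ba2db09ac9e1ac))) (.node 2 (.node 1 (.leaf 0x147cbe00a2c017aed) (.leaf 0x107bc0c2d95c17a58)) (.node 1 (.leaf 0x2e53b1238d1ef24a) (.leaf 0x2266d22bf49f1a28e))))) (.node 8 (.node 4 (.node 2 (.node 1 (.leaf 0x8013b14232464107) (.leaf 0x160c76414fedc870)) (.node 1 (.leaf 0x18093830814862863) (.leaf 0x22526b5f685b302f))) (.node 2 (.node 1 (.leaf 0x411a73432440073) (.leaf 0x1900c74723c04da9d)) (.node 1 (.leaf 0x1390c700bb753f02f) (.leaf 0x160cdbf0d92d284f)))) (.node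 4 (.node 2 (.node 1 (.leaf 0x2c944d740e0de58b0) (.leaf 0x2b430d14f6e69d070)) (.node 1 (.leaf 0x19baba2a814532079) (.leaf 0x166e307fc131f50b8))) (.node 2 (.node 1 (.leaf 0x2501c26033c43c988) (.leaf 0x301b79aa92f839afc)) (.node 1 (.leaf 0x33e9d9c7e13e6faf9) (.leaf 0x21de77d3b45c17c3c)))))) (.node 16 (.node 8 (.node 4 (.node 2 (.node 1 (.leaf 0x21a93d00b95c17c3c) (.leaf 0x2fdb0d9b613ed34d5)) (.node 1 (.leaf 0x4cced03618d00278) (.leaf 0x16052da031c3992a))) (.node 2 (.node 1 (.leaf 0xf95b4daf8d25141) (.leaf 0x918c7da020840217)) (.node 1 (.leaf 0x1ebb8ab9eee417a14) (.leaf 0x246052b6213c3e994)))) (.node 4 (.node 2 (.node 1 (.leaf 0x3411d296a43c17b70) (.leaf 0x2dc355b3f37c4db66)) (.node 1 (.leaf 0x1604fb2117d4d092) (.leaf 0x2a24cf75b34b1c0ac))) (.node 2 (.node 1 (.leaf 0x1ebccf6b71269d0b8) (.leaf 0x13a8df1ae9fca195b)) (.node 1 (.leaf 0x2edd5314ba95ee892)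 (.leaf 0xefceb1fa9adc015a))))) (.node 8 (.node 4 (.node 2 (.node 1 (.leaf 0x5b11a71cf2b28163) (.leaf 0x13dbde527a8e9d96a)) (.node 1 (.leaf 0x1f920400a13e6a848) (.leaf 0x2468c71eb0f017898))) (.node 2 (.node 1 (.leaf 0x2bf6a41f5349c4163) (.leaf 0x305bca738a3adcaed)) (.node 1 (.leaf 0x348d3b69b8bd25204) (.leaf 0x2de294c2aab958a56)))) (.node 4 (.node 2 (.node 1 (.leaf 0x2b3b813f65071a200) (.leaf 0x3008c75778d0e0a01)) (.node 1 (.leaf 0x2b5aaa40a675f11a3) (.leaf 0x23653b37d409ef0ed))) (.node 2 (.node 1 (.leaf 0x2fa8c73f6da8f08e2) (.leaf 0x114b0d68613d7cbe3)) (.node 1 (.leaf 0x25ba5fca8ab8ec990) (.leaf 0xf73835d013e81141)))))))))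

def zKey_5 : Tree := (.node 128 (.node 64 (.node 32 (.node 16 (.node 8 (.node 4 (.node 2 (.node 1 (.leaf 0x5aef43b8e8817a6a) (.leaf 0xd4ba200a13c584be)) (.node 1 (.leaf 0x166b599bcf29b311a) (.leaf 0x18db835d0dfb17941))) (.node 2 (.node 1 (.leaf 0x8615b0c89405a1bf) (.leaf 0x23653d29e3c1ab502)) (.node 1 (.leaf 0x2cbf675b349f5095) (.leaf 0x35a4ed7e13c54d15a)))) (.node 4 (.node 2 (.node 1 (.leaf 0x4fe5700a13d58cd5) (.leaf 0x24a937ce013e1e15e)) (.node 1 (.leaf 0x7950200af8df5a56) (.leaf 0x160c792ed5535070))) (.node 2 (.node 1 (.leaf 0x348b0dc5112817879) (.leaf 0x1ebb8a3f2aba9d0b8)) (.node 1 (.leaf 0x33eced76613c1790f) (.leaf 0x2e1bde526eb29d96a))))) (.node 8 (.node 4 (.node 2 (.node 1 (.leaf 0x35c55399da9417af9) (.leaf 0x2a725a644834e8258)) (.node 1 (.leaf 0x14fb8dd80a08e0aee) (.leaf 0x338a0471c13f28063))) (.node 2 (.node 1 (.leaf 0x31e5470b63c120188)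 (.leaf 0x164d5a5a13f52a04)) (.node 1 (.leaf 0x51a9ca0134ad3256) (.leaf 0x1893646da43c17a40)))) (.node 4 (.node 2 (.node 1 (.leaf 0xc8aaf69a2c017a4a) (.leaf 0x3680c7ae02084c20a)) (.node 1 (.leaf 0x1625f96e1483fc3c) (.leaf 0x760c7c8933e2d295))) (.node 2 (.node 1 (.leaf 0x1cd35500a3249b43c) (.leaf 0x1620455020462cd5)) (.node 1 (.leaf 0x31baa29e8e3146a78) (.leaf 0x23fc3c50a13c982b9)))))) (.node 16 (.node 8 (.node 4 (.node 2 (.node 1 (.leaf 0x161c21e4d915c12a) (.leaf 0x11d25091c13c60141)) (.node 1 (.leaf 0xa053d0dc2c90a295) (.leaf 0x3635acde6674d1a7a))) (.node 2 (.node 1 (.leaf 0x2b0d261fda9627a7e) (.leaf 0x36b8c798af29ab3c1)) (.node 1 (.leaf 0x2f08c73f6748f0a00) (.leaf 0x3041112051405a0ed)))) (.node 4 (.node 2 (.node 1 (.leaf 0x2e995e0eea39b3201) (.leaf 0x9711179d499c011a)) (.node 1 (.leaf 0x1a5b0d4e6dfb1c251) (.leaf 0x305dacc28a3b1a366))) (.node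 2 (.node 1 (.leaf 0x3212aa094ac817b66) (.leaf 0x11307337c1209c0ed)) (.node 1 (.leaf 0x363d471f96e4f08e2) (.leaf 0x18fedeb3f49db329d))))) (.node 8 (.node 4 (.node 2 (.node 1 (.leaf 0xa037f1fe693178e4) (.leaf 0x11d4be31e13f281bb)) (.node 1 (.leaf 0x2c03e16cb34956bba) (.leaf 0x363677c8745dab27a))) (.node 2 (.node 1 (.leaf 0x2e2a5fc0e940b6a8d) (.leaf 0x161a06144e2527190)) (.node 1 (.leaf 0x21a93877e32439907) (.leaf 0x179d3b6c73b6748e7)))) (.node 4 (.node 2 (.node 1 (.leaf 0x16219a7a6bf6811c8) (.leaf 0xd495b14caad870df)) (.node 1 (.leaf 0x2498c798a940b6930) (.leaf 0x22a4ea608d91ef12d))) (.node 2 (.node 1 (.leaf 0x13653b37da8def217) (.leaf 0x3bba277f49f6ea0a)) (.node 1 (.leaf 0x19cb0d9f413c17c3c) (.leaf 0x2b430db209894d2f9))))))) (.node 32 (.node 16 (.node 8 (.node 4 (.node 2 (.node 1 (.leaf 0x2518c7bd2c3625292) (.leaf 0x2c099caf2941acafc)) (.node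 1 (.leaf 0x441cf2bb8d017a6a) (.leaf 0x160ba200af8db84be))) (.node 2 (.node 1 (.leaf 0x26bbc6424651f1ab8) (.leaf 0x1366e12b3a8c5a26a)) (.node 1 (.leaf 0x2a13c696cf84580e7) (.leaf 0x165936c8c326d0907)))) (.node 4 (.node 2 (.node 1 (.leaf 0x15e12a11ca3417a4a) (.leaf 0x2b2d47c1c6ef6924e)) (.node 1 (.leaf 0x3041c2a1b3c5e58e7) (.leaf 0x21ceb6ba301c00df))) (.node 2 (.node 1 (.leaf 0x2b5a6132a6771c2f9) (.leaf 0x280c78ab33d200e4)) (.node 1 (.leaf 0x325b79b5f4983fa4e) (.leaf 0x16364bf02062d4cf))))) (.node 8 (.node 4 (.node 2 (.node 1 (.leaf 0x295c4d6fadf86227e) (.leaf 0x11835977f0f265242)) (.node 1 (.leaf 0x164cf1e431def364) (.leaf 0x179ced6c6ee417a40))) (.node 2 (.node 1 (.leaf 0x35899a152bf43a8b8) (.leaf 0x7fa0400a2c017beb)) (.node 1 (.leaf 0x19c8c70d013c60389) (.leaf 0xf91175a6ed203e3)))) (.node 4 (.node 2 (.node 1 (.leaf 0x2262b29f213edcbb9) (.leaf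 0x19019c3b96e417ba2)) (.node 1 (.leaf 0x19a50a6db69417b51) (.leaf 0xd0ba21c213f6e9de))) (.node 2 (.node 1 (.leaf 0x11410ba0a6c4a1cbe) (.leaf 0x2b4379a2898954b55)) (.node 1 (.leaf 0x277bca6049ad323eb) (.leaf 0x162b25ef3c52c3e3)))))) (.node 16 (.node 8 (.node 4 (.node 2 (.node 1 (.leaf 0x287daa884959f53e3) (.leaf 0x1156e14d8ee417a6a)) (.node 1 (.leaf 0x18db833dc13f1a141) (.leaf 0x2f48c700bb741787d))) (.node 2 (.node 1 (.leaf 0x26bbc6d256949c0ed) (.leaf 0x2de0c74e413c178c0)) (.node 1 (.leaf 0x160cd00b0f01784f) (.leaf 0x17bb830644c1773e3)))) (.node 4 (.node 2 (.node 1 (.leaf 0xd0ba200a13f6e8b0) (.leaf 0x5b4ea0b6d3dd13e3)) (.node 1 (.leaf 0x21690b043409a8be3) (.leaf 0x27719a9eca38d196a))) (.node 2 (.node 1 (.leaf 0x1343ca71c13c603e3) (.leaf 0x699c775a6eddd3e3)) (.node 1 (.leaf 0x1625f6dad904c3e3) (.leaf 0x1ae7734cbe4d1be3))))) (.node 8 (.node 4 (.node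 2 (.node 1 (.leaf 0x26e6e14da779252fc) (.leaf 0x1612a4d8f8c17af9)) (.node 1 (.leaf 0x1079d52ce2c017be3) (.leaf 0x2abaa6b665c17be3))) (.node 2 (.node 1 (.leaf 0x16ac4d8752f92c3e3) (.leaf 0x1b4eddddc505a89ae)) (.node 1 (.leaf 0x286d47db0d3dc01ac) (.leaf 0x112dac64057a6529d)))) (.node 4 (.node 2 (.node 1 (.leaf 0x1abaaf142811c2292) (.leaf 0x1a01cf32675156afc)) (.node 1 (.leaf 0x118c3c00a13c3eb55) (.leaf 0x8013b510988641ae))) (.node 2 (.node 1 (.leaf 0x2be5aaa0a6c554b55) (.leaf 0x19a50addc9fca1b51)) (.node 1 (.leaf 0x19953f49a13e6fa8d) (.leaf 0x1190c717e2086228d)))))))) (.node 64 (.node 32 (.node 16 (.node 8 (.node 4 (.node 2 (.node 1 (.leaf 0xf70c77647490027a) (.leaf 0x27753d38d685a8a8e)) (.node 1 (.leaf 0x1a225f8f6988b6994) (.leaf 0x1802bac26bf556a5b))) (.node 2 (.node 1 (.leaf 0x2a78c76913b587258) (.leaf 0x251360ccac82784c)) (.node 1 (.leaf 0x3110c700a13c58048)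 (.leaf 0x2be2613be9ad4d092)))) (.node 4 (.node 2 (.node 1 (.leaf 0xdd1cf5ce9436915b) (.leaf 0x168b6410813ddc9bb)) (.node 1 (.leaf 0x974cab5f4992711a) (.leaf 0x1d2d2925369417a4a))) (.node 2 (.node 1 (.leaf 0x188ba22be13f6e941) (.leaf 0x2cb50200a13f518b0)) (.node 1 (.leaf 0x22c19cd3995d5f374) (.leaf 0x24b1d51e8ab95f0b8))))) (.node 8 (.node 4 (.node 2 (.node 1 (.leaf 0x162bf0dd3c4983e3) (.leaf 0x16aa5a0c843d5c3e3)) (.node 1 (.leaf 0x277ef46049ad32188) (.leaf 0x287aa20eea39b33e3))) (.node 2 (.node 1 (.leaf 0x17238a0d2ee417be3) (.leaf 0x23b4ea14844d87256)) (.node 1 (.leaf 0x5aef4378ae5dd3e3) (.leaf 0x28636a68450546be3)))) (.node 4 (.node 2 (.node 1 (.leaf 0x1eca612a876417c3c) (.leaf 0x2252611a13d594d5)) (.node 1 (.leaf 0x160c75830f1b33e3) (.leaf 0x254a9c97395c17873))) (.node 2 (.node 1 (.leaf 0x33ee3472a13f6910f) (.leaf 0x27c9b13f813f528b0)) (.node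 1 (.leaf 0x2d945fba569817898) (.leaf 0x1ca8c736613edc90f)))))) (.node 16 (.node 8 (.node 4 (.node 2 (.node 1 (.leaf 0x32591a50b49ad0907) (.leaf 0x160c747013ccba5b)) (.node 1 (.leaf 0x2fc50200a13c58256) (.leaf 0x2fe294d6014b5196a))) (.node 2 (.node 1 (.leaf 0x2e9b7f21ca0a74990) (.leaf 0x2a13e196caded4a51)) (.node 1 (.leaf 0xe5d1fc8d0f017a4e) (.leaf 0x3018c7d61b7462afc)))) (.node 4 (.node 2 (.node 1 (.leaf 0x107bc0144e25b83e3) (.leaf 0x3d0c7732d54d1895)) (.node 1 (.leaf 0x3622bad5f8d017af9) (.leaf 0x22a4ea25d4fe651c2))) (.node 2 (.node 1 (.leaf 0x69ba22586ec5a1bf) (.leaf 0x162b25ee13c87be3)) (.node 1 (.leaf 0x1d69111b81f417be3) (.leaf 0xfbaa0aa819353e3))))) (.node 8 (.node 4 (.node 2 (.node 1 (.leaf 0x252aa064130983e3) (.leaf 0xa30f00b66ed76be3)) (.node 1 (.leaf 0xc890b0428110a3e3) (.leaf 0x18c50a062578d1be3))) (.node 2 (.node 1 (.leaf 0x1a4a944da778583e3)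 (.leaf 0x11351f0ef3c5b83e3)) (.node 1 (.leaf 0x160c700ad54583e3) (.leaf 0x69d95e8651f53e3)))) (.node 4 (.node 2 (.node 1 (.leaf 0x3713b00a95a6abe3) (.leaf 0x6738a0c86ec87be3)) (.node 1 (.leaf 0x4719a9ec1f4d1be3) (.leaf 0x1b693800b40839be3))) (.node 2 (.node 1 (.leaf 0x790c700b409b83e3) (.leaf 0x3c3e13804c017879)) (.node 1 (.leaf 0xc0b830d013cec8c0) (.leaf 0x1b763454a13e25130))))))) (.node 32 (.node 16 (.node 8 (.node 4 (.node 2 (.node 1 (.leaf 0x22a4ea9fa8103992d) (.leaf 0x3bba200a1236eb70)) (.node 1 (.leaf 0x2511a8f0132d0b74) (.leaf 0x2d93deba517d4d3c1))) (.node 2 (.node 1 (.leaf 0x3d30d73231def1c2) (.leaf 0x162046ca13e24a5b)) (.node 1 (.leaf 0x3221c7740ade91a95) (.leaf 0x1c335977fa926529d)))) (.node 4 (.node 2 (.node 1 (.leaf 0x26bbc62a7141b80ed) (.leaf 0xd4d0200a13f51a56)) (.node 1 (.leaf 0x33d5ac6c794017a58) (.leaf 0x2d6b6a88969922a78)))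 (.node 2 (.node 1 (.leaf 0x3680c700ba8df5848) (.leaf 0x161a047dce2728098)) (.node 1 (.leaf 0x4419a9e8a39a8be3) (.leaf 0x6ab6abda2ca27930))))) (.node 8 (.node 4 (.node 2 (.node 1 (.leaf 0x30411173317def12d) (.leaf 0x348d3bc50c34e0a92)) (.node 1 (.leaf 0xbdcbe14caac643a2) (.leaf 0x25c0521ac691f58e4))) (.node 2 (.node 1 (.leaf 0xdeb83a98e24e0a01) (.leaf 0x270f0d8a13e1e206)) (.node 1 (.leaf 0x16095b14ce89c00df) (.leaf 0x1abd3f1ff8bd228e4)))) (.node 4 (.node 2 (.node 1 (.leaf 0xa053d29e9fe81201) (.leaf 0x162bfc0614a8ba06)) (.node 1 (.leaf 0x1cd4d500a3272ba04) (.leaf 0x32213600ba9027a56))) (.node 2 (.node 1 (.leaf 0x4f359d3a0be91a58) (.leaf 0x36a9d2c86834e08b0)) (.node 1 (.leaf 0x3110c79204dd5f0b8) (.leaf 0x2ca5aa5413b55f0b0)))))) (.node 16 (.node 8 (.node 4 (.node 2 (.node 1 (.leaf 0x2c9ee11bc9ac9e188) (.leaf 0xfbbc6968adc58217)) (.node 1 (.leaf 0x2a229c97281352a14)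 (.leaf 0x3308c78ab33f17a40))) (.node 2 (.node 1 (.leaf 0x208bd0c02d931a24a) (.leaf 0x2f08c7c1d4990c24e)) (.node 1 (.leaf 0xcaea329c674a19ae) (.leaf 0x2a13d0d7b1422d4cf)))) (.node 4 (.node 2 (.node 1 (.leaf 0x112a5ac86835eeb55) (.leaf 0x1820c71c740817b51)) (.node 1 (.leaf 0x358e304af6984c364) (.leaf 0x33d25f9f337c17bb9))) (.node 2 (.node 1 (.leaf 0x480f040e43db83e3) (.leaf 0x237b0d9f413f52bba)) (.node 1 (.leaf 0x24c0c7a5681922a78) (.leaf 0x1b2ea488d6e5272b9))))) (.node 8 (.node 4 (.node 2 (.node 1 (.leaf 0x2fd996cc8ee46212a) (.leaf 0x760c7ae05784c295)) (.node 1 (.leaf 0x23bc0a5812176a9d) (.leaf 0x2ca5aad3b45c178b0))) (.node 2 (.node 1 (.leaf 0x1b6bde52740a9d8b8) (.leaf 0x15b8373013e250c0)) (.node 1 (.leaf 0x112a5a2e68375229d) (.leaf 0x266a94c269403ebc1)))) (.node 4 (.node 2 (.node 1 (.leaf 0x254aaf14395ce812d) (.leaf 0x16ad0a74148d0c295)) (.node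 1 (.leaf 0x283e169431e651c2) (.leaf 0x25bcd500a1232ba7e))) (.node 2 (.node 1 (.leaf 0x1538c7764f85eea7a) (.leaf 0x2863c64246503ebe3)) (.node 1 (.leaf 0x31bef5a56dfb1c278) (.leaf 0x348b0d9f58bc17bba)))))))))

def zKey_6 : Tree := (.node 128 (.node 64 (.node 32 (.node 16 (.node 8 (.node 4 (.node 2 (.node 1 (.leaf 0x2b2aa24ecaba6f9bb) (.leaf 0x1e90c700b35417beb)) (.node 1 (.leaf 0x3196f55ce6c7691de) (.leaf 0x829c234cf8c17bb9))) (.node 2 (.node 1 (.leaf 0x2c253b72aa09ef364) (.leaf 0x8208268413df1bba)) (.node 1 (.leaf 0x237e3468613e6f9bb) (.leaf 0x118ba200a13c3ecbe)))) (.node 4 (.node 2 (.node 1 (.leaf 0x13425047413e1e3e3) (.leaf 0x3baa21d6e8817be3)) (.node 1 (.leaf 0x159d541e2c1ba3e3) (.leaf 0x3683c6968121f5a17))) (.node 2 (.node 1 (.leaf 0xb7b5521cee462990) (.leaf 0x1218c73bfb49321a3)) (.node 1 (.leaf 0xc0d3f7e413e1e389) (.leaf 0x1625fc88ac9f54cf)))))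 (.node 8 (.node 4 (.node 2 (.node 1 (.leaf 0x22a553b60e335225b) (.leaf 0x21f3a2bcc13ed290f)) (.node 1 (.leaf 0x2c96e1c5b48cf0b74) (.leaf 0x6951fc80121769c5))) (.node 2 (.node 1 (.leaf 0x266ef4c269436eafc) (.leaf 0x221d972a13d592f9)) (.node 1 (.leaf 0x13d8c7691a8d4d16a) (.leaf 0x28c75832f92c3e3)))) (.node 4 (.node 2 (.node 1 (.leaf 0x11f44d8749595c3e3) (.leaf 0x355938ddd694a19ae)) (.node 1 (.leaf 0x3434ed3fe13f691de) (.leaf 0x5aba2de66908b27a))) (.node 2 (.node 1 (.leaf 0x2abaad36750f0a78) (.leaf 0x7f8cd00aac4178b0)) (.node 1 (.leaf 0x160cda5b33e2484f) (.leaf 0x160cd00ad575184f)))))) (.node 16 (.node 8 (.node 4 (.node 2 (.node 1 (.leaf 0x1ca3caa013495687d) (.leaf 0x22c6f55109894d10f)) (.node 1 (.leaf 0x2b2b8a1fd49b528ac) (.leaf 0x358a943f2bf5b80b8))) (.node 2 (.node 1 (.leaf 0x165c3c884131f511e) (.leaf 0x25112a5e0e244c242)) (.node 1 (.leaf 0x2e73aa6b712417a40)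 (.leaf 0x114b0d40e13e813e3)))) (.node 4 (.node 2 (.node 1 (.leaf 0x1645fb6213e254d5) (.leaf 0x296a0400a13f524d5)) (.node 1 (.leaf 0x2b5e7734cbe4179a3) (.leaf 0x208b8dd5ebe417a4a))) (.node 2 (.node 1 (.leaf 0x2360c712340817a40) (.leaf 0x3380c791413d46a8e)) (.node 1 (.leaf 0x3413aa96b140f090f) (.leaf 0x2ca677d3a2c017a58))))) (.node 8 (.node 4 (.node 2 (.node 1 (.leaf 0x330ccad2cdaad48e2) (.leaf 0x5ad3d29e691ab201)) (.node 1 (.leaf 0x2b39cf1f9396dc8e2) (.leaf 0x2826302fb69817a00))) (.node 2 (.node 1 (.leaf 0x2c063038112417a14) (.leaf 0x1cd11a00b0f017873)) (.node 1 (.leaf 0x250aaf2e6adde58ed) (.leaf 0x2d6966864daa6520a)))) (.node 4 (.node 2 (.node 1 (.leaf 0x2b2d264ec6ee6faed) (.leaf 0x1eb92a4d8ee55496a)) (.node 1 (.leaf 0xd48c705813d7cbe3) (.leaf 0x2d8b7f764748ec994))) (.node 2 (.node 1 (.leaf 0x6d44dcd0ac5c2370) (.leaf 0x2ddedd523399d1163)) (.node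 1 (.leaf 0x2b68c73bfb494d15a) (.leaf 0xde38195cee817be3))))))) (.node 32 (.node 16 (.node 8 (.node 4 (.node 2 (.node 1 (.leaf 0x19a53f25230017898) (.leaf 0x5a90b042e89a8be3)) (.node 1 (.leaf 0xefede568e88179a3) (.leaf 0xca93600ba8c27b55))) (.node 2 (.node 1 (.leaf 0x178b6413844ce0a92) (.leaf 0x1ebabfb9e2ca27bb9)) (.node 1 (.leaf 0x21ad539e8e315c070) (.leaf 0x188ba250a13d46863)))) (.node 4 (.node 2 (.node 1 (.leaf 0x2fe294a9b35417a00) (.leaf 0x15435500aac417c3c)) (.node 1 (.leaf 0x1b2ea400a13e1e204) (.leaf 0x160c7608d91a8892))) (.node 2 (.node 1 (.leaf 0x94294b167793f0ac) (.leaf 0x1668c7c4420a248b8)) (.node 1 (.leaf 0x153e303804c017a14) (.leaf 0x18dbe16ca13edcbba))))) (.node 8 (.node 4 (.node 2 (.node 1 (.leaf 0x2fb547444819ac9c5) (.leaf 0x1e6b798f0988b6b74)) (.node 1 (.leaf 0x1eda061164c017a40) (.leaf 0x18091ad1018c6296a))) (.node 2 (.node 1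 (.leaf 0x2333d079ce3225256) (.leaf 0x23b0c7daef29b33c1)) (.node 1 (.leaf 0x6aabf964dab52194) (.leaf 0x6d44d74148de5b70)))) (.node 4 (.node 2 (.node 1 (.leaf 0x2c9b795e02084c188) (.leaf 0x2c3ccf6b665c17b51)) (.node 1 (.leaf 0x86a5aba443c179a3) (.leaf 0xf68c7c061483cafc))) (.node 2 (.node 1 (.leaf 0x160c7c221483faf9) (.leaf 0xf2ef1726835dca95)) (.node 1 (.leaf 0x16204734144404d5) (.leaf 0x162bfdaf3c5b31c2)))))) (.node 16 (.node 8 (.node 4 (.node 2 (.node 1 (.leaf 0x2b50c7ca8d929d1bf) (.leaf 0x1620400a31c9c4d5)) (.node 1 (.leaf 0x2726e1c809add11c5) (.leaf 0x11512ab30ee55f1ac))) (.node 2 (.node 1 (.leaf 0x2c39c775b349dd39e) (.leaf 0x19336abda13c981de)) (.node 1 (.leaf 0x1612a15533df51c2) (.leaf 0x1604f00ad55f58cd)))) (.node 4 (.node 2 (.node 1 (.leaf 0x1218c773317dc41a3) (.leaf 0xf2ef17529fe2d295)) (.node 1 (.leaf 0x201ccab5f6e5ab24e) (.leaf 0x2ddedd30444d87163)))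 (.node 2 (.node 1 (.leaf 0x1604fa5ad929d0cd) (.leaf 0x1615e0ef3c5b3251)) (.node 1 (.leaf 0x1905aca58e890c29d) (.leaf 0x2548c7a56ac922b74))))) (.node 8 (.node 4 (.node 2 (.node 1 (.leaf 0x2726f488d399271c5) (.leaf 0xc4be49e13ed0a8e)) (.node 1 (.leaf 0x24d3e1c7e13c17cd5) (.leaf 0x2e7196d2cda8e83ba))) (.node 2 (.node 1 (.leaf 0x362634d5f45e279bf) (.leaf 0x168937d8a13f519bb)) (.node 1 (.leaf 0x1fc07300b2f93f11a) (.leaf 0x2ca5aac2aab9548b0)))) (.node 4 (.node 2 (.node 1 (.leaf 0x19963454a6910c130) (.leaf 0x3041119fb1428112d)) (.node 1 (.leaf 0x318ef1752834e0997) (.leaf 0x1390c76bada8e80c0))) (.node 2 (.node 1 (.leaf 0x2fb547a1b4fd251ac) (.leaf 0x2a299cd38d55549ac)) (.node 1 (.leaf 0x1645f72813c17c3c) (.leaf 0x118b5500a13c17c3c)))))))) (.node 64 (.node 32 (.node 16 (.node 8 (.node 4 (.node 2 (.node 1 (.leaf 0x36b8c791517ed33c1) (.leaf 0x24ab6a91413d46b64))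 (.node 1 (.leaf 0x2116de8a669122a42) (.leaf 0x178bd0a98a08e0a17))) (.node 2 (.node 1 (.leaf 0x699c760737c17b51) (.leaf 0x1b2edd00a13dd1355)) (.node 1 (.leaf 0x1b90c700a959f1beb) (.leaf 0x2dd936c2c32728163)))) (.node 4 (.node 2 (.node 1 (.leaf 0xa12bfd4f49e27990) (.leaf 0xe585296f3953f190)) (.node 1 (.leaf 0x1ab8195c5050a3e3) (.leaf 0x69d47a1ad3d253e3))) (.node 2 (.node 1 (.leaf 0x110c5f729a9417a8d) (.leaf 0x13425671c13f282b9)) (.node 1 (.leaf 0x2b0c4d888df8e827e) (.leaf 0x4819c4246526abe3))))) (.node 8 (.node 4 (.node 2 (.node 1 (.leaf 0x300aa24218d017d02) (.leaf 0x1dae30410651f53e3)) (.node 1 (.leaf 0x69d9766e25ba3e3) (.leaf 0x24b8c700ba8c1787d))) (.node 2 (.node 1 (.leaf 0x1637f0aa818cbbe3) (.leaf 0x72ced036301003e3)) (.node 1 (.leaf 0x13425631e13f2810f) (.leaf 0x47359116a344c3e3)))) (.node 4 (.node 2 (.node 1 (.leaf 0xde381072ae5d13e3) (.leaf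 0x1726e14d8ee5353e3)) (.node 1 (.leaf 0x110b64b2da9417a14) (.leaf 0xd08f040e13c3ebe3))) (.node 2 (.node 1 (.leaf 0x15d2650a13c983e3) (.leaf 0x5b3ca71c18d273e3)) (.node 1 (.leaf 0x441cf474505dd3e3) (.leaf 0x1625f424d5439be3)))))) (.node 16 (.node 8 (.node 4 (.node 2 (.node 1 (.leaf 0x2499b188a13f1a3a2) (.leaf 0x163f641f0f1ba3e3)) (.node 1 (.leaf 0xc8aaf1d62c017be3) (.leaf 0xb0bd0b30ae5dcbe3))) (.node 2 (.node 1 (.leaf 0x1d3795ee65c17be3) (.leaf 0xb78cd21c20462bb9)) (.node 1 (.leaf 0x1218c7a265793239e) (.leaf 0x120c4d768749eeb55)))) (.node 4 (.node 2 (.node 1 (.leaf 0x24b8c7576c34e0a6a) (.leaf 0x160c725c1483fbba)) (.node 1 (.leaf 0xbdcbe00a3249b3a2) (.leaf 0x22c65751043e9d1ae))) (.node 2 (.node 1 (.leaf 0x2958c7966e0d0c374) (.leaf 0x2511a00af8c2782f)) (.node 1 (.leaf 0x330aaa3f6dab1a0df) (.leaf 0x2fa8c7768748f091e))))) (.node 8 (.node 4 (.node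 2 (.node 1 (.leaf 0x160c715533d0a3e3) (.leaf 0x161aba138e24603e3)) (.node 1 (.leaf 0x1902a24216e417a40) (.leaf 0x1daede47ad3db33e3))) (.node 2 (.node 1 (.leaf 0x1d69c71446ed273e3) (.leaf 0x18fd3f49a675f1194)) (.node 1 (.leaf 0x160c74ea578603e3) (.leaf 0xef55cb33e6abe3)))) (.node 4 (.node 2 (.node 1 (.leaf 0x2266d29f613f1a197) (.leaf 0x3088c7d2414ad28ed)) (.node 1 (.leaf 0x2dd93600bb7427a04) (.leaf 0x1930c7da1b744020a))) (.node 2 (.node 1 (.leaf 0x1f2a6132aeb31c251) (.leaf 0x16acbe32748c62a4e)) (.node 1 (.leaf 0x21dbc0c2d0f017b66) (.leaf 0x3bba238ca383aa95))))))) (.node 32 (.node 16 (.node 8 (.node 4 (.node 2 (.node 1 (.leaf 0x348cea38844d25292) (.leaf 0x5b1cf03618c603e3)) (.node 1 (.leaf 0xb0937072a3976be3) (.leaf 0x16a1b10a8ae487be3))) (.node 2 (.node 1 (.leaf 0x10e9117221f5353e3) (.leaf 0x180a5a7673c52c3e3)) (.node 1 (.leaf 0x1a493600b40827be3)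 (.leaf 0x1608c700b0f1b83e3)))) (.node 4 (.node 2 (.node 1 (.leaf 0x287b8d08aa38cbbe3) (.leaf 0xd48c708013ddcbe3)) (.node 1 (.leaf 0x2eceb138301253e3) (.leaf 0x13653b6b6ee44c3e3))) (.node 2 (.node 1 (.leaf 0x11d6dd00a121d13e3) (.leaf 0xb4b817a6810399c8)) (.node 1 (.leaf 0x26a294d2512427ccf) (.leaf 0x2723e196d3989b251))))) (.node 8 (.node 4 (.node 2 (.node 1 (.leaf 0x17c54799d68417b74) (.leaf 0x277e30a01699c43c1)) (.node 1 (.leaf 0x1b90c76913b52c16a) (.leaf 0x23b0c71f695987163))) (.node 2 (.node 1 (.leaf 0x3008c700bb7417b70) (.leaf 0x10425600a13e1e02f)) (.node 1 (.leaf 0x1fc11a00b2fb6e873) (.leaf 0x69917070d3d353e3)))) (.node 4 (.node 2 (.node 1 (.leaf 0x21f5acb30ae50a3e3) (.leaf 0xfbbc6c4569427b64)) (.node 1 (.leaf 0x2c98821bc9adf5892) (.leaf 0x121cca1c7b49ac95b))) (.node 2 (.node 1 (.leaf 0x147e7729d2f8a1960) (.leaf 0x223bc6cdb35417aee)) (.node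 1 (.leaf 0x2c03e114ba9532092) (.leaf 0x3192aa2fe6c66f960)))))) (.node 16 (.node 8 (.node 4 (.node 2 (.node 1 (.leaf 0x175d3b3e11283faee) (.leaf 0x5550200a31f51a56)) (.node 1 (.leaf 0x28237fb6369827994) (.leaf 0x16ccac5a0be8bb74))) (.node 2 (.node 1 (.leaf 0x25ed2679ce31f107d) (.leaf 0x261ea32b2750f091e)) (.node 1 (.leaf 0x2f09cf32618e91a4e) (.leaf 0x208bd069a81317a4a)))) (.node 4 (.node 2 (.node 1 (.leaf 0x1d69c72ce958603e3) (.leaf 0x34a8f07396e576a8e)) (.node 1 (.leaf 0x3170c7608d9352b51) (.leaf 0xe5abfd4e20546990))) (.node 2 (.node 1 (.leaf 0x36b8c7c28f2987366) (.leaf 0x25bdaab3b394b6a7e)) (.node 1 (.leaf 0x1538c73dce0d7ca7a) (.leaf 0x223d296e51283cccf))))) (.node 8 (.node 4 (.node 2 (.node 1 (.leaf 0x251cea388d3dc0292) (.leaf 0xd0ea400a13e1e3e3)) (.node 1 (.leaf 0x2e2c5f72813f17a8d) (.leaf 0x11d2505e813c603e3))) (.node 2 (.node 1 (.leaf 0x1d1372c265db83e3)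 (.leaf 0x2d884f00ba8c9b3eb)) (.node 1 (.leaf 0x1625fc22be43f9c2) (.leaf 0x338edd77f49dd1107)))) (.node 4 (.node 2 (.node 1 (.leaf 0x3413aa96b45c1790f) (.leaf 0x1366a321cee62d11e)) (.node 1 (.leaf 0x693c69fa1213f12d) (.leaf 0x1e6b791e898b521c5))) (.node 2 (.node 1 (.leaf 0x82a6134d35417be3) (.leaf 0x325b795eee25ba3e3)) (.node 1 (.leaf 0x9429451296c3ebe3) (.leaf 0x14fb8d7df35417ab8)))))))))

def zKey_7 : Tree := (.node 128 (.node 64 (.node 32 (.node 16 (.node 8 (.node 4 (.node 2 (.node 1 (.leaf 0x2266d287c13edca8e) (.leaf 0xf16651296e6abe3)) (.node 1 (.leaf 0x44634686a38d1be3) (.leaf 0x10436a68413e1e3e3))) (.node 2 (.node 1 (.leaf 0x699c72cee8817be3) (.leaf 0x476dd00a0bdd13e3)) (.node 1 (.leaf 0xc19c19643dba3e3) (.leaf 0x355c3c87418d5c1ae)))) (.node 4 (.node 2 (.node 1 (.leaf 0x1635532abe440251) (.leaf 0x7907300b4089c11a)) (.node 1 (.leaf 0x3c3e180013e1e4f1)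 (.leaf 0x1b73a2b7c13e24997))) (.node 2 (.node 1 (.leaf 0x27cab29f613cecbb9) (.leaf 0x3680c7967a8ce0a17)) (.node 1 (.leaf 0x30c0c788a13f17ab9) (.leaf 0x160c74e4ac817bba))))) (.node 8 (.node 4 (.node 2 (.node 1 (.leaf 0xef551e8197cbe3) (.leaf 0x2c01d5478f85aca14)) (.node 1 (.leaf 0x1093c65ca651f5be3) (.leaf 0x40c77f12f9ba3e3))) (.node 2 (.node 1 (.leaf 0x2d8cd500a13f2b87d) (.leaf 0x2330c72fc9590c107)) (.node 1 (.leaf 0x2eaea4b988352c11e) (.leaf 0x15a5650a13ed0b4f)))) (.node 4 (.node 2 (.node 1 (.leaf 0x30f6d27309ad870c0) (.leaf 0x69d47c80e89871c5)) (.node 1 (.leaf 0x3133c0ce19402795e) (.leaf 0x223d293e112817aee))) (.node 2 (.node 1 (.leaf 0x162062f613e9195e) (.leaf 0x3220c700ba9017aed)) (.node 1 (.leaf 0x11e0c700ba90178b0) (.leaf 0x2e1a9c7e0eb14d16a)))))) (.node 16 (.node 8 (.node 4 (.node 2 (.node 1 (.leaf 0x3132aa684df946a0a) (.leaf 0x942aa094ee817be3))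 (.node 1 (.leaf 0x4f0c7a2676532258) (.leaf 0x16a5ac072ae6813e3))) (.node 2 (.node 1 (.leaf 0xe5d1fd6014b6eafc) (.leaf 0x324ef1692d926abe3)) (.node 1 (.leaf 0x3088c700b35417aed) (.leaf 0x21ae57c8d68462907)))) (.node 4 (.node 2 (.node 1 (.leaf 0x1da91ad8013040217) (.leaf 0x2f48c7d3f49927292)) (.node 1 (.leaf 0x2102bac269435225b) (.leaf 0x167a5a6021483ca42))) (.node 2 (.node 1 (.leaf 0x11c6f4a2898a91cbe) (.leaf 0x213b79c5065c17a6a)) (.node 1 (.leaf 0xf70c7d2413ed2941) (.leaf 0x2fd8c7cc8208623b9))))) (.node 8 (.node 4 (.node 2 (.node 1 (.leaf 0x19cabad3ee252712a) (.leaf 0x2dc166b98d55eea7a)) (.node 1 (.leaf 0x1f904f00bb749b370) (.leaf 0x1824ea9fb408f092d))) (.node 2 (.node 1 (.leaf 0x25c677a58691d129d) (.leaf 0x2138c7bd2da9dd292)) (.node 1 (.leaf 0x2138c792ec35c226a) (.leaf 0x1637f7a496d771c2)))) (.node 4 (.node 2 (.node 1 (.leaf 0x1e96a400a31e1e11a)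 (.leaf 0x1abaaf6954fe6524a)) (.node 1 (.leaf 0x18d9c796caded4941) (.leaf 0x14fa5f96e2061e190))) (.node 2 (.node 1 (.leaf 0x23cccf75a6ef1c278) (.leaf 0x31b937b60df93f278)) (.node 1 (.leaf 0x1653f9f213c17cd5) (.leaf 0x2fc20400a13c17cd5))))))) (.node 32 (.node 16 (.node 8 (.node 4 (.node 2 (.node 1 (.leaf 0x34a8f0ce013f51a8e) (.leaf 0x2266d2b9f48ed4a95)) (.node 1 (.leaf 0x2c9d1fda020a6a92a) (.leaf 0x1b4bc6cdbb7417a4a))) (.node 2 (.node 1 (.leaf 0x21ae5700a3266a8cd) (.leaf 0x35a0c73ff3b5dc9ac)) (.node 1 (.leaf 0x3635acb30f850a27a) (.leaf 0x24c0c773317cd192d)))) (.node 4 (.node 2 (.node 1 (.leaf 0x162bf0ef3c5b33e3) (.leaf 0x27250bd213ddd4cf)) (.node 1 (.leaf 0x1156e1b9eee417a4e) (.leaf 0x1140c7a0a6c4a19ae))) (.node 2 (.node 1 (.leaf 0x1820c700b40817a7e) (.leaf 0x1caea300a13d58d02)) (.node 1 (.leaf 0x864eab2c779253e3) (.leaf 0x2e9b649e8a3a74b9e)))))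 (.node 8 (.node 4 (.node 2 (.node 1 (.leaf 0x2351d25ea13f693a2) (.leaf 0xf15532d10f12c3e3)) (.node 1 (.leaf 0x1889372c213c3ebe3) (.leaf 0x180d295e896d5c3e3))) (.node 2 (.node 1 (.leaf 0x19a50a253694178c0) (.leaf 0xa31d210a18ddcbe3)) (.node 1 (.leaf 0x82a6106257887be3) (.leaf 0xb0e5700a1f576be3)))) (.node 4 (.node 2 (.node 1 (.leaf 0x10425649e13ed0997) (.leaf 0x2e93800ae8839be3)) (.node 1 (.leaf 0x16cca0baee83cbe3) (.leaf 0x942aa68477946be3))) (.node 2 (.node 1 (.leaf 0x4719a9e8a35a8be3) (.leaf 0xc36a41013c983e3)) (.node 1 (.leaf 0x161aba144e25273e3) (.leaf 0x86a5a76643c17be3)))))) (.node 16 (.node 8 (.node 4 (.node 2 (.node 1 (.leaf 0x72ee14da77a813e3) (.leaf 0xc19c4241f5f53e3)) (.node 1 (.leaf 0x7925600a31c9c502) (.leaf 0x10787300b95c9c27e))) (.node 2 (.node 1 (.leaf 0x2f8b79a2948d549ac) (.leaf 0x160c735333d203e3)) (.node 1 (.leaf 0x160c71e4d91253e3)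 (.leaf 0x17d0c75ea13f52b4f)))) (.node 4 (.node 2 (.node 1 (.leaf 0x11329469296df5be3) (.leaf 0xde6f4698ae5273e3)) (.node 1 (.leaf 0x2863c65ca5053f3e3) (.leaf 0x160c700a8103ebe3))) (.node 2 (.node 1 (.leaf 0x17bcbe4b345c40366) (.leaf 0xb4b815362c90a3c1)) (.node 1 (.leaf 0x3b93600a1203ebe3) (.leaf 0x18c4ca0ba301a8be3))))) (.node 8 (.node 4 (.node 2 (.node 1 (.leaf 0x16a38a19cee427be3) (.leaf 0x5ad3d0dc4c10a3e3)) (.node 1 (.leaf 0x441cf0d2a3417be3) (.leaf 0x160c71e4d915c3e3))) (.node 2 (.node 1 (.leaf 0x16bde6dabe43cbe3) (.leaf 0x188d2650a18d46be3)) (.node 1 (.leaf 0x16873c2c0bed0b66) (.leaf 0x16364bf013e254cf)))) (.node 4 (.node 2 (.node 1 (.leaf 0x16f0c7966e0dba217) (.leaf 0x18fede964651f120a)) (.node 1 (.leaf 0x1620400a13c17cd5) (.leaf 0x160cd00b3541784f))) (.node 2 (.node 1 (.leaf 0x1046300644c1ba3e3) (.leaf 0x1f943c00a13f520b0)) (.node 1 (.leaf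 0x2cb4ea0b6779203e3) (.leaf 0x5a90b042ae4d1be3)))))))) (.node 64 (.node 32 (.node 16 (.node 8 (.node 4 (.node 2 (.node 1 (.leaf 0x213b591238d2650df) (.leaf 0x28693d00ad566abe3)) (.node 1 (.leaf 0x26eed22bea0b1a201) (.leaf 0x2e719614f6e5c2070))) (.node 2 (.node 1 (.leaf 0x2b39cf1f874adc8e2) (.leaf 0x1615e4621468ba06)) (.node 1 (.leaf 0x223a619b712827a5b) (.leaf 0x252aa4b21328bb66)))) (.node 4 (.node 2 (.node 1 (.leaf 0x2fe37f21c205dc990) (.leaf 0x550c700b35417be3)) (.node 1 (.leaf 0x1689374ed37d769bb) (.leaf 0xdebc041ee24583e3))) (.node 2 (.node 1 (.leaf 0x287aa21d6958983e3) (.leaf 0x1fc3a200a31f6ecbe)) (.node 1 (.leaf 0x21dabab76145dd251) (.leaf 0xde381536ae5ab3c1))))) (.node 8 (.node 4 (.node 2 (.node 1 (.leaf 0x3624eb258aad201bf) (.leaf 0x160c700ad55f5be3)) (.node 1 (.leaf 0x1243e195ca3417be3) (.leaf 0x1637f4d935417be3))) (.node 2 (.node 1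 (.leaf 0x26a38a86f35417bea) (.leaf 0x1726d287c6ed353e3)) (.node 1 (.leaf 0x2ecca1b80bd46be3) (.leaf 0x1190c772c76417a8d)))) (.node 4 (.node 2 (.node 1 (.leaf 0x2e9ef1350a0a74a8e) (.leaf 0x1645f378ee9773e3)) (.node 1 (.leaf 0x324ef1726579dcbe3) (.leaf 0x2e72a2420aad22a40))) (.node 2 (.node 1 (.leaf 0x2de25091c13e918c0) (.leaf 0x1a219c90e650b6988)) (.node 1 (.leaf 0xfb6a4d38989ba1ae) (.leaf 0x164d500a13f2ba04)))))) (.node 16 (.node 8 (.node 4 (.node 2 (.node 1 (.leaf 0x1894ebba56981790f) (.leaf 0x26e294a9bb7417a14)) (.node 1 (.leaf 0x2460f090f3953f39e) (.leaf 0xc0b7fa98e0f2bb89))) (.node 2 (.node 1 (.leaf 0x1930c7c4413e249de) (.leaf 0x20ebc0c2d940179a3)) (.node 1 (.leaf 0x296a5600a3249b502) (.leaf 0x11884f00b2f93f0cd)))) (.node 4 (.node 2 (.node 1 (.leaf 0x216b817a7408a19c8) (.leaf 0x2668c791494146bc1)) (.node 1 (.leaf 0x11930d91413ed3364) (.leaf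 0x2c39c76069fd32351))) (.node 2 (.node 1 (.leaf 0xa12a2b16aba279de) (.leaf 0x1604f00b3549b0cd)) (.node 1 (.leaf 0x237ef54e6eb31c1bb) (.leaf 0x161c27353546212a))))) (.node 8 (.node 4 (.node 2 (.node 1 (.leaf 0x1909cf96c506d49c5) (.leaf 0x2c8657b7c13ed2b4f)) (.node 1 (.leaf 0x160c715533df53e3) (.leaf 0x3018c700bb7417b70))) (.node 2 (.node 1 (.leaf 0x21dbc0d6014a6a9c2) (.leaf 0x1ec8c7d610f062990)) (.node 1 (.leaf 0x15407300b0f09c11a) (.leaf 0xdd0c792ec35351c8)))) (.node 4 (.node 2 (.node 1 (.leaf 0x21de77d5ebe417b66) (.leaf 0x34125ac8745deea7a)) (.node 1 (.leaf 0xbdcbe00aac417ba2) (.leaf 0x3c3aa38112417930))) (.node 2 (.node 1 (.leaf 0x318d3b37d95def12d) (.leaf 0x676a300a122813e3)) (.node 1 (.leaf 0x1759b10a81317cbe3) (.leaf 0x550c700a810583e3))))))) (.node 32 (.node 16 (.node 8 (.node 4 (.node 2 (.node 1 (.leaf 0x14793b00b2fa813e3) (.leaf 0x2eceb722e89353e3))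 (.node 1 (.leaf 0x1fc0c700b2f93f3e3) (.leaf 0x2a9665121f55c3e3))) (.node 2 (.node 1 (.leaf 0x147e7771e506813e3) (.leaf 0x295ef5888dfad3278)) (.node 1 (.leaf 0x114b0d4e0a35003e3) (.leaf 0x160c74ead91a8be3)))) (.node 4 (.node 2 (.node 1 (.leaf 0x160c7582d54d1be3) (.leaf 0xb79966b6ee417be3)) (.node 1 (.leaf 0x942946927793f3e3) (.leaf 0x2538d108be427be3))) (.node 2 (.node 1 (.leaf 0x1b73ca71c131dd3e3) (.leaf 0x163f675b33df53e3)) (.node 1 (.leaf 0x1394cab5f48c6224e) (.leaf 0x19bef4c2696d56afc))))) (.node 8 (.node 4 (.node 2 (.node 1 (.leaf 0x160c772a13c17af9) (.leaf 0x24b8c700b95c1787d)) (.node 1 (.leaf 0x1637f0aa96ccbbe3) (.leaf 0x11f5290363012c3e3))) (.node 2 (.node 1 (.leaf 0x2a7ced31e13ed310f) (.leaf 0x216b81072505a8be3)) (.node 1 (.leaf 0xd0ea400a2c13f3e3) (.leaf 0x223a6132a1457ca51)))) (.node 4 (.node 2 (.node 1 (.leaf 0x11955317ea346212a) (.leaf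 0x1fc0c700b0f017be3)) (.node 1 (.leaf 0x2cb63468613ddcbe3) (.leaf 0x942aab1677a27a9d))) (.node 2 (.node 1 (.leaf 0xa053d38c9fda8a95) (.leaf 0x1653fb2cee817be3)) (.node 1 (.leaf 0x1b735911c0bddd3e3) (.leaf 0x2518c75ea6c5c034f)))))) (.node 16 (.node 8 (.node 4 (.node 2 (.node 1 (.leaf 0x10436abda13e8b930) (.leaf 0x118166b6096ce8242)) (.node 1 (.leaf 0x1bc137bcd94017a40) (.leaf 0x1ca04f00b95c9b27e))) (.node 2 (.node 1 (.leaf 0x2fc50200a13f51a56) (.leaf 0x2753dc5112817997)) (.node 1 (.leaf 0x24d0c7d2413ed2994) (.leaf 0x23fe57bcc13e24ab9)))) (.node 4 (.node 2 (.node 1 (.leaf 0x1f2a617e13b72bcf1) (.leaf 0x1b6d02cdb69462ab8)) (.node 1 (.leaf 0x27751fc8d68417a6a) (.leaf 0x13607300ba8c9c3eb))) (.node 2 (.node 1 (.leaf 0x1645fbd213e254cf) (.leaf 0xbdc3c00a13f52355)) (.node 1 (.leaf 0x1156e1b9f48c17a4e) (.leaf 0xf00c788a749ab2b9))))) (.node 8 (.node 4 (.node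 2 (.node 1 (.leaf 0x2513c0c2d94017a58) (.leaf 0x160c7da10f040251)) (.node 1 (.leaf 0xd48c700ae8976be3) (.leaf 0x2513600b35427be3))) (.node 2 (.node 1 (.leaf 0x1608c700ae89f5be3) (.leaf 0x5ad3d9ece88d1be3)) (.node 1 (.leaf 0xb0e5700a13e6abe3) (.leaf 0x188d2650a13d46be3)))) (.node 4 (.node 2 (.node 1 (.leaf 0x160c77f0d55353e3) (.leaf 0x1625f51e819ba3e3)) (.node 1 (.leaf 0x1625f6dabe417be3) (.leaf 0x790c700b40817be3))) (.node 2 (.node 1 (.leaf 0xf15539e8d915c3e3) (.leaf 0x1b73599bd45c3fb66)) (.node 1 (.leaf 0x164cfa5a206d3364) (.leaf 0x2fd8c79f613c17bb9)))))))))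

def zKey_8 : Tree := (.node 16 (.node 8 (.node 4 (.node 2 (.node 1 (.leaf 0x19a50a25348c178c0) (.leaf 0x82a6106265087be3)) (.node 1 (.leaf 0x17bb8349e13e25197) (.leaf 0x163f625cee83f9c2))) (.node 2 (.node 1 (.leaf 0x175ed287c13d7cbe3) (.leaf 0x17c51fc8d68417b74)) (.node 1 (.leaf 0x2d6b6a888df922a78) (.leaf 0x1643c00a31f52355)))) (.node 4 (.node 2 (.node 1 (.leaf 0x31e0f0b7d68417b51) (.leaf 0x160c7c4413e24a5b)) (.node 1 (.leaf 0x175d02a9b124403ea) (.leaf 0x19c8c7d8a20b28389))) (.node 2 (.node 1 (.leaf 0x118ba200a3276ecbe) (.leaf 0x21de77d5f45c17b66)) (.node 1 (.leaf 0x1820c700b95c17a7e) (.leaf 0x2c0a50b3b3953239e))))) (.node 8 (.node 4 (.node 2 (.node 1 (.leaf 0x1046a400a0be1e3e3) (.leaf 0x1b73ca71c13ddd3e3)) (.node 1 (.leaf 0x11d6dd00a13dd13e3) (.leaf 0xb79967265792c3e3))) (.node 2 (.node 1 (.leaf 0x1608c700ad55f5be3) (.leaf 0x16364bf0146254cf))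 (.node 1 (.leaf 0x21152979d499c2292) (.leaf 0x296a5600a13c17d02)))) (.node 4 (.node 2 (.node 1 (.leaf 0x3c3aa38145c17930) (.leaf 0x318d3b37ca09ef12d)) (.node 1 (.leaf 0x160c7ce014ad0cf1) (.leaf 0x790c700a811b83e3))) (.node 2 (.node 1 (.leaf 0x1046a400a13e1e3e3) (.leaf 0x277e30a00f29c43c1)) (.node 1 (.leaf 0x22c3de526eb29d9c8) (.leaf 0x160c700b35417be3))))))

def zKey : Tree := (.node 1024 (.node 512 (.node 256 zKey_0 zKey_1) (.node 256 zKey_2 zKey_3)) (.node 512 (.node 256 zKey_4 zKey_5) (.node 256 zKey_6 (.node 256 zKey_7 zKey_8))))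

def zKeyInv_0 : Tree := (.node 128 (.node 64 (.node 32 (.node 16 (.node 8 (.node 4 (.node 2 (.node 1 (.leaf 0x2fb3552b275062afc) (.leaf 0x5dccfa5aaae9d364)) (.node 1 (.leaf 0x18fb5529c6744020a) (.leaf 0x24c166b604dc9c242))) (.node 2 (.node 1 (.leaf 0x2fd8c73fef849e3b9) (.leaf 0xfbcea1bc2089e217)) (.node 1 (.leaf 0x3588829b7699f5a5b) (.leaf 0x1db64bf09fe2d4cf)))) (.node 4 (.node 2 (.node 1 (.leaf 0x3d55314af85eeb55) (.leaf 0x2f491179d141c0292)) (.node 1 (.leaf 0x2b2d47b5f499c024e) (.leaf 0x30f1d913e13d5925b))) (.node 2 (.node 1 (.leaf 0x19010b14f6e43aaed) (.leaf 0x23b13bb7644c40163)) (.node 1 (.leaf 0x160c73dd4fc8b2f9) (.leaf 0xb4b811ac1488b16a))))) (.node 8 (.node 4 (.node 2 (.node 1 (.leaf 0x160c73bf17cd1892) (.leaf 0x4819c90e3c09c188)) (.node 1 (.leaf 0x2e284fb7c4dc64351) (.leaf 0xca93dd38324641ae))) (.node 2 (.node 1 (.leaf 0x2ea996513a915c25b)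 (.leaf 0x296a5614caac64502)) (.node 1 (.leaf 0x1a037f2ba75274a8d) (.leaf 0x11c2506f613e91997)))) (.node 4 (.node 2 (.node 1 (.leaf 0xf68c7123b7417a4a) (.leaf 0x2959cfc5b2fa91b74)) (.node 1 (.leaf 0x26b852b63129f5994) (.leaf 0x285538aac369dccf))) (.node 2 (.node 1 (.leaf 0x13419aa00bf5ab3c1) (.leaf 0x305dac9bcf29ab366)) (.node 1 (.leaf 0x4cd2985ce315c0e7) (.leaf 0x163f61ff4fd54b55)))))) (.node 16 (.node 8 (.node 4 (.node 2 (.node 1 (.leaf 0x118ba214caacf0cbe) (.leaf 0x2b39d21f939674a7e)) (.node 1 (.leaf 0x25eb0d47013d5925b) (.leaf 0x24604f49f3b674b9e))) (.node 2 (.node 1 (.leaf 0x3623aa540aad871bf) (.leaf 0x2c39c70d537c17997)) (.node 1 (.leaf 0x2fe05296eab976990) (.leaf 0x3170c71eaac817b74)))) (.node 4 (.node 2 (.node 1 (.leaf 0x6aab20cc13cec994) (.leaf 0x699170d737c5a2ed)) (.node 1 (.leaf 0x110a04459a944da00) (.leaf 0x7b1b11b613cecc3c))) (.node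 2 (.node 1 (.leaf 0x16238a1fc2cb52a04) (.leaf 0x113073884f8c4c063)) (.node 1 (.leaf 0x3713bd4e2c862907) (.leaf 0x305b8dc28a3a748e7))))) (.node 8 (.node 4 (.node 2 (.node 1 (.leaf 0x760c7c221485a0ed) (.leaf 0x160c7c034fd25070)) (.node 1 (.leaf 0x160c7c2317c5a2f9) (.leaf 0x2b5a6140a6771c3ba))) (.node 2 (.node 1 (.leaf 0x21cea3f78d0f08df) (.leaf 0x11e0c71c7b7417a14)) (.node 1 (.leaf 0x2b39cf3f6506d48e2) (.leaf 0x280c7576c35350e4)))) (.node 4 (.node 2 (.node 1 (.leaf 0x6ab6a36613cec90f) (.leaf 0x34304fbcc3c04da40)) (.node 1 (.leaf 0x2c93db983244d91e) (.leaf 0x4f379aa995dc4073))) (.node 2 (.node 1 (.leaf 0x235547db07509e26a) (.leaf 0x1bc138bcc4dc642b9)) (.node 1 (.leaf 0x22615e76613c17997) (.leaf 0x136073b982c1e5a7a))))))) (.node 32 (.node 16 (.node 8 (.node 4 (.node 2 (.node 1 (.leaf 0x1e692a41ee272bb74) (.leaf 0xfb25f425a91f5194)) (.node 1 (.leaf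 0x296a561ae9fc4dd02) (.leaf 0xef91714a9ac9e3eb))) (.node 2 (.node 1 (.leaf 0x11abaa1fa4ddc03a2) (.leaf 0xc0b642c213f2b997)) (.node 1 (.leaf 0xa35021c213f519bb) (.leaf 0x277ceb54b69817930)))) (.node 4 (.node 2 (.node 1 (.leaf 0xc36a96a13e8b90f) (.leaf 0x167a5aba5940179a3)) (.node 1 (.leaf 0x23bc0a586905829d) (.leaf 0x28aaaad3b2fa8ba58))) (.node 2 (.node 1 (.leaf 0x3434ed6c78bc17a40) (.leaf 0x1b953b7df1295c256)) (.node 1 (.leaf 0x163f660917def364) (.leaf 0x277e3098a4c0b6bc1))))) (.node 8 (.node 4 (.node 2 (.node 1 (.leaf 0xd0edeb3e83627a9d) (.leaf 0x19a50a7409fd0c295)) (.node 1 (.leaf 0x2e9387dd941c4163) (.leaf 0xfb8826faadd76a51))) (.node 2 (.node 1 (.leaf 0xae307fd349f50ac) (.leaf 0x1182aa25ceea65242)) (.node 1 (.leaf 0x118ba21ae9fca1cbe) (.leaf 0x3191b12fedfb1c27e)))) (.node 4 (.node 2 (.node 1 (.leaf 0x15e4eab2d8bc17a4a) (.leaf 0x19c8c70d0f855f389))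 (.node 1 (.leaf 0x2be1171fa9adc03eb) (.leaf 0x2138c7470da8e8197))) (.node 2 (.node 1 (.leaf 0x44be2f613ed0ba2) (.leaf 0x3616f4306ac817b74)) (.node 1 (.leaf 0x2d8c5f36613cec994) (.leaf 0x19904f31ee0f1c278)))))) (.node 16 (.node 8 (.node 4 (.node 2 (.node 1 (.leaf 0xf013d6caf8624ab9) (.leaf 0x363359380f85f127a)) (.node 1 (.leaf 0x2138c79f78d017997) (.leaf 0x161c2734811c212a))) (.node 2 (.node 1 (.leaf 0x2498c714613f17930) (.leaf 0x33eaa207f6e41790f)) (.node 1 (.leaf 0x308bde2fa7490011a) (.leaf 0x112a5a2e73c5e5a9d)))) (.node 4 (.node 2 (.node 1 (.leaf 0x218c713c76417a58) (.leaf 0x4815b0b63c09c240)) (.node 1 (.leaf 0x518f073813d58a56) (.leaf 0xd835911ca35c220a))) (.node 2 (.node 1 (.leaf 0x4419a2bb8d08b200) (.leaf 0x221d211a13d5943c)) (.node 1 (.leaf 0x208b8d14844f17a04) (.leaf 0x473591d60bc603e3))))) (.node 8 (.node 4 (.node 2 (.node 1 (.leaf 0x1aba042f98bc642ee)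 (.leaf 0x3baa266149df115a)) (.node 1 (.leaf 0xf29c76403c2dc95e) (.leaf 0x18091a00af8c39848))) (.node 2 (.node 1 (.leaf 0x4fea400a13d58c3c) (.leaf 0x1ecaba2a876417cd5)) (.node 1 (.leaf 0x2cd3fa1ad3db3095) (.leaf 0x23310b2fd4990c256)))) (.node 4 (.node 2 (.node 1 (.leaf 0x35585260218df1898) (.leaf 0x16873874f8c3c84c)) (.node 1 (.leaf 0x518c700a13d588b0) (.leaf 0x2b2b8ac1c6ef1c0ac))) (.node 2 (.node 1 (.leaf 0x1b8c7cc82083a8b8) (.leaf 0x6d2bfae148e65098)) (.node 1 (.leaf 0x34663447ad3dc015a) (.leaf 0x3d0c7d7af850a095)))))))) (.node 64 (.node 32 (.node 16 (.node 8 (.node 4 (.node 2 (.node 1 (.leaf 0x165936d80a0a2504c) (.leaf 0x2fd8c7cc8c343abb9)) (.node 1 (.leaf 0x167a5aae057a6520a) (.leaf 0x208abab7644ed4bba))) (.node 2 (.node 1 (.leaf 0x35a5f44537d5f095) (.leaf 0xb0d022be13f51a8e)) (.node 1 (.leaf 0x1f2ceb3be9af6915a) (.leaf 0x121b815cfb48a195b))))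 (.node 4 (.node 2 (.node 1 (.leaf 0x1894eb0bb94017a40) (.leaf 0x1637f3bf17f6915e)) (.node 1 (.leaf 0x3192aa5ce77a27960) (.leaf 0x25c53f1fe691228e4))) (.node 2 (.node 1 (.leaf 0x1d8df4ea9fda895b) (.leaf 0x2725047013d59197)) (.node 1 (.leaf 0x24d0c7366c34b6994) (.leaf 0x21ef1248764178c0))))) (.node 8 (.node 4 (.node 2 (.node 1 (.leaf 0xae30064e0dba0ac) (.leaf 0x30c3815362c83aa14)) (.node 1 (.leaf 0x31e138b7c3c04db4f) (.leaf 0x729b19f213c178b0))) (.node 2 (.node 1 (.leaf 0xc8873d382c15f1ac) (.leaf 0x7b44d968adf52048)) (.node 1 (.leaf 0x254a5acd195dc2073) (.leaf 0x21f5acde66748b1a3)))) (.node 4 (.node 2 (.node 1 (.leaf 0xa10cdd36aae249de) (.leaf 0x26e3aad367509e1de)) (.node 1 (.leaf 0x17d0f0b7c13c17997) (.leaf 0x2460f090f3483eb9e))) (.node 2 (.node 1 (.leaf 0x1993645e813c17930) (.leaf 0x168a065ee13c1790f)) (.node 1 (.leaf 0x1b6d0251043d4d1bf) (.leaf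 0x18c0df2ce3010c29d)))))) (.node 16 (.node 8 (.node 4 (.node 2 (.node 1 (.leaf 0x3211c22d13c72ba58) (.leaf 0x2e6341220bf69240)) (.node 1 (.leaf 0x16f3de86f699f5256) (.leaf 0x1b953db3b128a1b9e))) (.node 2 (.node 1 (.leaf 0x5a90b1fe6908b3eb) (.leaf 0x19050a29e3c1ab3a2)) (.node 1 (.leaf 0x11f52996895839a17) (.leaf 0x15e204142e30642b8)))) (.node 4 (.node 2 (.node 1 (.leaf 0xf75471f8750f0cbe) (.leaf 0x164cf41013ed325b)) (.node 1 (.leaf 0x2b39d22fba9417a7e) (.leaf 0x1c32a21d7a9017930))) (.node 2 (.node 1 (.leaf 0x6accf40e13f2b90f) (.leaf 0x6725691c13ed2941)) (.node 1 (.leaf 0x24b99a7a61f4a19c8) (.leaf 0x21153d731128178c0))))) (.node 8 (.node 4 (.node 2 (.node 1 (.leaf 0x2ecca522e89ac988) (.leaf 0x15d267e413e8b8b0)) (.node 1 (.leaf 0x2b4379c5168417a6a) (.leaf 0x1908c7d244ded2941))) (.node 2 (.node 1 (.leaf 0x3138a0c894087bc1) (.leaf 0x6951fc809ac581c5))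 (.node 1 (.leaf 0x2cb6dd49a13e6fb4f) (.leaf 0x325d267e4e268bb70)))) (.node 4 (.node 2 (.node 1 (.leaf 0x2edb8399da9417b51) (.leaf 0x30c0c71c7b4817a14)) (.node 1 (.leaf 0x160527e413d58a04) (.leaf 0x19bcca1b8ee9c42fc))) (.node 2 (.node 1 (.leaf 0x2115296ba300e8292) (.leaf 0x1c33591d64c10c29d)) (.node 1 (.leaf 0x2faef1752834cba95) (.leaf 0x249ef488c98ad49c5))))))) (.node 32 (.node 16 (.node 8 (.node 4 (.node 2 (.node 1 (.leaf 0x17c1cfa5681959374) (.leaf 0x24b8c78aac34b69c8)) (.node 1 (.leaf 0x4735977fb766520a) (.leaf 0x1612a550811c41c2))) (.node 2 (.node 1 (.leaf 0x6725685caded28ed) (.leaf 0x11a93886b685c2107)) (.node 1 (.leaf 0xcaa615caeb100251) (.leaf 0x4f630c2ba9154873)))) (.node 4 (.node 2 (.node 1 (.leaf 0x1a01cf17ea35ac988) (.leaf 0x11ad3d38d6843ab51)) (.node 1 (.leaf 0x2b693632aeb17c9ae) (.leaf 0xa153fb1677a27990))) (.node 2 (.node 1 (.leaf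 0x19c8c7d3ec34e0b89) (.leaf 0x7f90b29e691ab3eb)) (.node 1 (.leaf 0x440df9eca38d1a17) (.leaf 0x2cbe46213f283a2))))) (.node 8 (.node 4 (.node 2 (.node 1 (.leaf 0x2c038195da9417a14) (.leaf 0x160c71474fde5cf1)) (.node 1 (.leaf 0x2c23d007ee3274ab8) (.leaf 0x2c39c70d534956997))) (.node 2 (.node 1 (.leaf 0x2366302fb12417d02) (.leaf 0x1edef53069894d130)) (.node 1 (.leaf 0x740c7366940b690f) (.leaf 0x6cd530813ed0a8d)))) (.node 4 (.node 2 (.node 1 (.leaf 0x22b0c7473a904da9d) (.leaf 0x2a76de24876417a58)) (.node 1 (.leaf 0x2de1374ec13d58a56) (.leaf 0x28693d49b4fed2b4f))) (.node 2 (.node 1 (.leaf 0x2504ca2534fd569ac) (.leaf 0x179dac87ca38d1be3)) (.node 1 (.leaf 0x2edb8399d68674b51) (.leaf 0x19babac2739956a5b)))))) (.node 16 (.node 8 (.node 4 (.node 2 (.node 1 (.leaf 0x355938526324399ae) (.leaf 0x19963472c13f69130)) (.node 1 (.leaf 0x740c772bb481790f) (.leaf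 0x1604f2f6579320cd))) (.node 2 (.node 1 (.leaf 0x24b1d51f5349f51c8) (.leaf 0x1390c70d013f528c0)) (.node 1 (.leaf 0x1a020611768532188) (.leaf 0x36a917973a94178b0)))) (.node 4 (.node 2 (.node 1 (.leaf 0x166d3b3e06c57711a) (.leaf 0x31b9371faaad588cd)) (.node 1 (.leaf 0x18029cdaf3c54d3c1) (.leaf 0x1e6b791e8e255f1c5))) (.node 2 (.node 1 (.leaf 0x2c8cd0703244db4f) (.leaf 0x1d0df0724dc9c351)) (.node 1 (.leaf 0x372562062c862a14) (.leaf 0x19c9d99f413ddd204))))) (.node 8 (.node 4 (.node 2 (.node 1 (.leaf 0x8f8c71f6e8932163) (.leaf 0x8208210813df1af9)) (.node 1 (.leaf 0x2fe364108ab9dc96a) (.leaf 0x69d90d2ee5773e3))) (.node 2 (.node 1 (.leaf 0x12191140bb489e2ee) (.leaf 0x6a84f1c3b489b15a)) (.node 1 (.leaf 0x2b5e773fe6776915e) (.leaf 0x2e93800a0bc3ebe3)))) (.node 4 (.node 2 (.node 1 (.leaf 0x162bf1b4ac817cd5) (.leaf 0xaaf2d13c61e3e3)) (.node 1 (.leaf 0x23b1171f6f2987256)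 (.leaf 0xdebd02c243c27be3))) (.node 2 (.node 1 (.leaf 0x16cca2ce0bc983e3) (.leaf 0x8f9c746739956a01)) (.node 1 (.leaf 0x31baa24444de6fa06) (.leaf 0x5b4ea148f29870e7)))))))))

def zKeyInv_1 : Tree := (.node 128 (.node 64 (.node 32 (.node 16 (.node 8 (.node 4 (.node 2 (.node 1 (.leaf 0x35a25a9213b69d8df) (.leaf 0x1390c700a13c3e82f)) (.node 1 (.leaf 0x103798f0989ba0e2) (.leaf 0x36813600a121f1873))) (.node 2 (.node 1 (.leaf 0x3088c700ad55f1aed) (.leaf 0x15420400aac417cd5)) (.node 1 (.leaf 0x1baa2c28a39b30df) (.leaf 0x2f89b13f2bf69d370)))) (.node 4 (.node 2 (.node 1 (.leaf 0x30411175b33d200e7) (.leaf 0x1b2be1b30ae527070)) (.node 1 (.leaf 0x1a23f690f394b6994) (.leaf 0x250d3b6b733e2d0ed))) (.node 2 (.node 1 (.leaf 0x820825e0131f1879) (.leaf 0x358cd00aac41787d)) (.node 1 (.leaf 0x1f8abac0745dac879) (.leaf 0x4f936d10eb2d3063))))) (.node 8 (.node 4 (.node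 2 (.node 1 (.leaf 0x26eed2698ae5ab201) (.leaf 0x2fe294692d91f1a00)) (.node 1 (.leaf 0x5d95b352aad200df) (.leaf 0x1668c71b66c62504c))) (.node 2 (.node 1 (.leaf 0x26bcd5d81128e0a92) (.leaf 0x19bb79c06819acafc)) (.node 1 (.leaf 0x110abfd4e2ca27a8d) (.leaf 0x1096a48f66504c1ae)))) (.node 4 (.node 2 (.node 1 (.leaf 0xf68c71f6811c4163) (.leaf 0x6738ad10eb10016a)) (.node 1 (.leaf 0x3113b64483728063) (.leaf 0x3059c7c28f2b1a28e))) (.node 2 (.node 1 (.leaf 0x2a13d02f8e33178e7) (.leaf 0x1209966416e5e5870)) (.node 1 (.leaf 0x72cbe0a813ed2b4f) (.leaf 0x1ca8c73f78d2d4a00)))))) (.node 16 (.node 8 (.node 4 (.node 2 (.node 1 (.leaf 0xa053d5766931a201) (.leaf 0x790df1af409ab15b)) (.node 1 (.leaf 0x1abab23078bce08e4) (.leaf 0x2edd3d11768417b51))) (.node 2 (.node 1 (.leaf 0x1798df072a39a8988) (.leaf 0x1637f1ff4ff17a04)) (.node 1 (.leaf 0x28261576c371a206) (.leaf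 0x16a5ac2fe6c4a1960)))) (.node 4 (.node 2 (.node 1 (.leaf 0x266d2998a941ac95b) (.leaf 0x8045f378ae5770e4)) (.node 1 (.leaf 0x270f040e13df1997) (.leaf 0x160c747117ce825b))) (.node 2 (.node 1 (.leaf 0xef5306ac817930) (.leaf 0x2753d7304c01784f)) (.node 1 (.leaf 0x2fc5021ae9fd0c256) (.leaf 0x2a76de24883627a58))))) (.node 8 (.node 4 (.node 2 (.node 1 (.leaf 0x10e502070d3d35107) (.leaf 0x2548c736b95c6412d)) (.node 1 (.leaf 0x162060aa96d56870) (.leaf 0x4cd290373b52c0e7))) (.node 2 (.node 1 (.leaf 0x2cb4ea38844c5a24a) (.leaf 0x2e1e306e533e9d96a)) (.node 1 (.leaf 0x27753d38c2c83aa8e) (.leaf 0xb0937bcc13c1790f)))) (.node 4 (.node 2 (.node 1 (.leaf 0x31b937b60e303ea78) (.leaf 0x1343ca72813c1787d)) (.node 1 (.leaf 0xf71d2c7e13c178b0) (.leaf 0x8695b19643cf092d))) (.node 2 (.node 1 (.leaf 0x2e10b69b8bd0a02f) (.leaf 0x25bdaac2aabb52048)) (.node 1 (.leaf 0xc88732062c08b0ac)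 (.leaf 0x2502b21b548d32098))))))) (.node 32 (.node 16 (.node 8 (.node 4 (.node 2 (.node 1 (.leaf 0x166daa1b61303f91a) (.leaf 0xa00cdddc9fed2941)) (.node 1 (.leaf 0x1b4d0addc6748b141) (.leaf 0x2b4547db1685c026a))) (.node 2 (.node 1 (.leaf 0x118553b60df8e825b) (.leaf 0x1da91adb0d3ed0a6a)) (.node 1 (.leaf 0x249937bcc13c17930) (.leaf 0x2f48c76bada860292)))) (.node 4 (.node 2 (.node 1 (.leaf 0x16229c40ebf4879c8) (.leaf 0x2464cf41013c178c0)) (.node 1 (.leaf 0x2c9ee11bc2089c188) (.leaf 0x10e50275265ce0a95))) (.node 2 (.node 1 (.leaf 0x2726f4764f84ec92a) (.leaf 0x10e8731f41f4b6bc1)) (.node 1 (.leaf 0x8615b1d64c1871c5) (.leaf 0x3461361c38d027b4f))))) (.node 8 (.node 4 (.node 2 (.node 1 (.leaf 0x36bbca8013c691b70) (.leaf 0x43bde9720bf17a14)) (.node 1 (.leaf 0x11908280013d58a04) (.leaf 0x11f4eb889698f0a78))) (.node 2 (.node 1 (.leaf 0x2498c788a13edcab9)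 (.leaf 0x18fedec866928ba7a)) (.node 1 (.leaf 0x2860df47a30017a4e) (.leaf 0x864eac0e9405a2b8)))) (.node 4 (.node 2 (.node 1 (.leaf 0x1145ac2fe674a1cbe) (.leaf 0x2e53b69b8bdc424a)) (.node 1 (.leaf 0x3191b13e18bc17a7e) (.leaf 0x11351faa8121b82fc))) (.node 2 (.node 1 (.leaf 0x1b9630c2a9583996a) (.leaf 0x2a22041f53484dbea)) (.node 1 (.leaf 0x168a5f1e84dd5f389) (.leaf 0x1643c13e13f5225b)))))) (.node 16 (.node 8 (.node 4 (.node 2 (.node 1 (.leaf 0x1643c2f613edcb55) (.leaf 0x1e6b795ef48c17b74)) (.node 1 (.leaf 0x6b645e813e25194) (.leaf 0x2b2d47b5f6e417a4e))) (.node 2 (.node 1 (.leaf 0xb49c22d13c52c1c8) (.leaf 0x2bf1c72cfa90178c0)) (.node 1 (.leaf 0x277ef4604f2a1e188) (.leaf 0x51bca80013e918b0)))) (.node 4 (.node 2 (.node 1 (.leaf 0x15a56bda13e249de) (.leaf 0xef8c7733a8e749a3)) (.node 1 (.leaf 0x19a364138300e0a95) (.leaf 0x10e9119fa1f4f092d))) (.node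 2 (.node 1 (.leaf 0x261ea337ca0a8111e) (.leaf 0x2c0daa7df1281787d)) (.node 1 (.leaf 0x11ab5977ee8a65242) (.leaf 0x476ddd4ea3522907))))) (.node 8 (.node 4 (.node 2 (.node 1 (.leaf 0x13db8d7dfa8c17873) (.leaf 0x1f92bfd3f498ecb89)) (.node 1 (.leaf 0x918c7c443c2249de) (.leaf 0x2a7d1faa939558cbe))) (.node 2 (.node 1 (.leaf 0x23cbaa204753519bb) (.leaf 0x167c3cc2d940641a3)) (.node 1 (.leaf 0x2fc36408013ddcccf) (.leaf 0x1038d08ada8cba92)))) (.node 4 (.node 2 (.node 1 (.leaf 0x4cced31ee3087a78) (.leaf 0x30c6dd6ca13edcab9)) (.node 1 (.leaf 0x21f6d22be13f1a28e) (.leaf 0x2239117df12817cd5))) (.node 2 (.node 1 (.leaf 0x2a78f05d013d58cbe) (.leaf 0x2b45476876e417a6a)) (.node 1 (.leaf 0x3008c71238d017a4a) (.leaf 0x1ab811ac5048b16a)))))))) (.node 64 (.node 32 (.node 16 (.node 8 (.node 4 (.node 2 (.node 1 (.leaf 0x162b24e413cec95e) (.leaf 0x25bdaa7deac417aed))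 (.node 1 (.leaf 0x26185219c13df1bb9) (.leaf 0x2c0a50af21f556b9e))) (.node 2 (.node 1 (.leaf 0x147ef5510988879bf) (.leaf 0x2bf4ca2ce301871c5)) (.node 1 (.leaf 0x17c51f2d13c5f1b74) (.leaf 0x24b3642c2bf4cb9c8)))) (.node 4 (.node 2 (.node 1 (.leaf 0x3212aaa26578eca58) (.leaf 0x2548c760917ce812d)) (.node 1 (.leaf 0x10e117070d3d253e3) (.leaf 0x160c77a4ac97725b))) (.node 2 (.node 1 (.leaf 0x17c55399d68417af9) (.leaf 0x277ceb98af29ac930)) (.node 1 (.leaf 0xa3502526eb35196a) (.leaf 0xf6cca523b75acafc))))) (.node 8 (.node 4 (.node 2 (.node 1 (.leaf 0x1612a58257a651c2) (.leaf 0x287a567fcaba248b8)) (.node 1 (.leaf 0x165b7f692a0977190) (.leaf 0x95b6984c017b66))) (.node 2 (.node 1 (.leaf 0x1689372c213df190f) (.leaf 0x11a8c72fce8922907)) (.node 1 (.leaf 0x2eceb2599405a240) (.leaf 0x1a493621ca09dc91e)))) (.node 4 (.node 2 (.node 1 (.leaf 0xb4a042062c86296a)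 (.leaf 0x1a043cc8d6844da6a)) (.node 1 (.leaf 0x8013b5362ca24ab9) (.leaf 0x3bd1fc8ce8817a4e))) (.node 2 (.node 1 (.leaf 0xaaaa4b26768ba7a) (.leaf 0x18dbe196c506d4a51)) (.node 1 (.leaf 0x160c7daf17d4d4f1) (.leaf 0x14fb8dca8d90ecab8)))))) (.node 16 (.node 8 (.node 4 (.node 2 (.node 1 (.leaf 0x740c7ca894227ab8) (.leaf 0x69ba2070d3d251ae)) (.node 1 (.leaf 0x3115293e169417d02) (.leaf 0x1a8df71e5050a2fc))) (.node 2 (.node 1 (.leaf 0xf95b7226ed3516a) (.leaf 0x7b082ce013f2bcf1)) (.node 1 (.leaf 0x2a229c0d534b1c3ea) (.leaf 0x218c7a273b674a58)))) (.node 4 (.node 2 (.node 1 (.leaf 0x4cd50cc13f2bb89) (.leaf 0x1538c7146e0de5930)) (.node 1 (.leaf 0x33eaa207ee31f110f) (.leaf 0x1eb85230912417bb9))) (.node 2 (.node 1 (.leaf 0x23a944723c32b9c8) (.leaf 0x30f6f1248834e08c0)) (.node 1 (.leaf 0x918c7ce03c2d0988) (.leaf 0x7f90ba586910c0b0))))) (.node 8 (.node 4 (.node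 2 (.node 1 (.leaf 0x164d520813f283ba) (.leaf 0x2d93deba56983abc1)) (.node 1 (.leaf 0x162b272813d46a04) (.leaf 0x324ef135117f51a8e))) (.node 2 (.node 1 (.leaf 0x3434ed6c79431c240) (.leaf 0x488268413c3ebe3)) (.node 1 (.leaf 0x2ea93837c3243991e) (.leaf 0x44634b2c5050a3e3)))) (.node 4 (.node 2 (.node 1 (.leaf 0xfd476866ed353e3) (.leaf 0x11307377e1209c242)) (.node 1 (.leaf 0x2c96e1966e0def374) (.leaf 0x18fabf96549df1194))) (.node 2 (.node 1 (.leaf 0x3680c74ae2084c217) (.leaf 0x16238a4e6c372b9c8)) (.node 1 (.leaf 0x30f6d24e413f1a0c0) (.leaf 0x7f90b69b8bc178b0))))))) (.node 32 (.node 16 (.node 8 (.node 4 (.node 2 (.node 1 (.leaf 0x1604f462819228cd) (.leaf 0xf019c1f87483f91a)) (.node 1 (.leaf 0x2fa8c7c88da9f5295) (.leaf 0x22a2af142e315c12d))) (.node 2 (.node 1 (.leaf 0x1da91a10a74a2491e) (.leaf 0x1ca3ca73813edc87d)) (.node 1 (.leaf 0x16795e0bb94122a42)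 (.leaf 0x43b591c7b4a651a3)))) (.node 4 (.node 2 (.node 1 (.leaf 0xf28f029e9fd588cd) (.leaf 0x199634b2c13f529de)) (.node 1 (.leaf 0x15407314cac5c011a) (.leaf 0x2e72a2c88da9594cf))) (.node 2 (.node 1 (.leaf 0x178bd0d3ee24e0a92) (.leaf 0xde95b064e0c9e278)) (.node 1 (.leaf 0x2958c78652f8f0a78) (.leaf 0x800cd042324642b9))))) (.node 8 (.node 4 (.node 2 (.node 1 (.leaf 0x11c1373f813d58cbe) (.leaf 0x2acbe2b275062a6a)) (.node 1 (.leaf 0x28c77f0e89273e3) (.leaf 0x15a5630444c4024a))) (.node 2 (.node 1 (.leaf 0x27719a207a8c8b16a) (.leaf 0x3089d2c7ebe417aed)) (.node 1 (.leaf 0x51aaf1498bc620e7) (.leaf 0x308b8d2a674a810ed)))) (.node 4 (.node 2 (.node 1 (.leaf 0x40c71e5409773e3) (.leaf 0x1612a11cf8c17bba)) (.node 1 (.leaf 0xf1c714481a1e3e3) (.leaf 0x1fc0c708081946be3))) (.node 2 (.node 1 (.leaf 0x162b2094be5003e3) (.leaf 0xc084f2bf8d09b201)) (.node 1 (.leaf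 0x2726e13dc7531a206) (.leaf 0x2a93d00a1f439be3)))))) (.node 16 (.node 8 (.node 4 (.node 2 (.node 1 (.leaf 0x14793b00a2c027be3) (.leaf 0x3411d22a71422d370)) (.node 1 (.leaf 0x1625f425355f53e3) (.leaf 0x1d1d541ee261e3e3))) (.node 2 (.node 1 (.leaf 0x162b241013c603e3) (.leaf 0xf29c40e65c27be3)) (.node 1 (.leaf 0xd843c644df8e8160) (.leaf 0x3125a6448352c160)))) (.node 4 (.node 2 (.node 1 (.leaf 0x973811fd4990c0ac) (.leaf 0x1ca3ca54a13c6002f)) (.node 1 (.leaf 0x164d5baa96ce8092) (.leaf 0x2c813b00a2c01784f))) (.node 2 (.node 1 (.leaf 0x164d500af8d3f204) (.leaf 0x1802bab7614532092)) (.node 1 (.leaf 0x36b8c700b0f017b70) (.leaf 0x35a0c7d7b33d0a15a))))) (.node 8 (.node 4 (.node 2 (.node 1 (.leaf 0xdd1c7c1c6ed2715b) (.leaf 0x318966b98835eea58)) (.node 1 (.leaf 0x23f84f50af29b3163) (.leaf 0x35c19a9e8d91a88ac))) (.node 2 (.node 1 (.leaf 0x2d89d22a6a089b048)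 (.leaf 0x24a8821bc7793f092)) (.node 1 (.leaf 0x2a71d92a945d22879) (.leaf 0x1a4ef1752a08e0a01)))) (.node 4 (.node 2 (.node 1 (.leaf 0x223bc65cb33df1aee) (.leaf 0x162067f0f8d2715e)) (.node 1 (.leaf 0x11299614e145c2070) (.leaf 0x2c830d4e0d3d00092))) (.node 2 (.node 1 (.leaf 0x2f08c711a74ad3063) (.leaf 0x2d94d5d116994d3c1)) (.node 1 (.leaf 0x162bfc034ff1a364) (.leaf 0x23b0c7c069428b9bf)))))))))

def zKeyInv_2 : Tree := (.node 128 (.node 64 (.node 32 (.node 16 (.node 8 (.node 4 (.node 2 (.node 1 (.leaf 0x1d6a5600a1f417a7e) (.leaf 0x11835911681922a42)) (.node 1 (.leaf 0x16f38dd80a0977217) (.leaf 0xf00c767a749ab27a))) (.node 2 (.node 1 (.leaf 0x2b2aa2c1d49b691bb) (.leaf 0x180a5a64418d2c242)) (.node 1 (.leaf 0x22b6a4baa96c3c91e) (.leaf 0x2548c72fc811c2107)))) (.node 4 (.node 2 (.node 1 (.leaf 0xa33c62a6add768ed) (.leaf 0x2390b7a6bf76e848)) (.node 1 (.leaf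 0x1538c7d7bb4a2d214) (.leaf 0x19a25f8f7694b6898))) (.node 2 (.node 1 (.leaf 0x1013b8f098ad084c) (.leaf 0x346136b3f49e6fb4f)) (.node 1 (.leaf 0x2dd93646739860163) (.leaf 0x2a229c45934b528ac))))) (.node 8 (.node 4 (.node 2 (.node 1 (.leaf 0x3680c700bb75b8048) (.leaf 0x1a99d9249a954d092)) (.node 1 (.leaf 0xc4be10a13e24ab9) (.leaf 0x18915e06243df1278))) (.node 2 (.node 1 (.leaf 0x27c9b12ff37f1c2ed) (.leaf 0x2b68c75cfb4a27aee)) (.node 1 (.leaf 0x21050a29e9fdd1201) (.leaf 0xdd0c74709426f960)))) (.node 4 (.node 2 (.node 1 (.leaf 0x7915b14d409c00df) (.leaf 0xb795e726ee6278e4)) (.node 1 (.leaf 0xdd3c64723c1d115b) (.leaf 0xf95b0b66ed20242))) (.node 2 (.node 1 (.leaf 0x5aba2042ae50a11e) (.leaf 0x213e306badaa650df)) (.node 1 (.leaf 0x7fbf68ab8bcb68e4) (.leaf 0x91ef15ce7797715b)))))) (.node 16 (.node 8 (.node 4 (.node 2 (.node 1 (.leaf 0x25c67751e819a8960)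 (.leaf 0x4f9d95e813ed325b)) (.node 1 (.leaf 0x160c77a54fd56a5b) (.leaf 0x3616f430698ad4b74))) (.node 2 (.node 1 (.leaf 0x359179fb140f087d) (.leaf 0x24b8c747395c4d9c8)) (.node 1 (.leaf 0x24aceb54a3001784f) (.leaf 0x2fc50214caad87256)))) (.node 4 (.node 2 (.node 1 (.leaf 0x1f890b29ebf5ab370) (.leaf 0x6951f36a4df521c5)) (.node 1 (.leaf 0x8615b0b6779200b8) (.leaf 0x216d02042ae4d1963))) (.node 2 (.node 1 (.leaf 0x2504ca25348c9e1ac) (.leaf 0xfb35510a13e2484c)) (.node 1 (.leaf 0x8295e062651f1095) (.leaf 0x1f2ced7e09ad4d15a))))) (.node 8 (.node 4 (.node 2 (.node 1 (.leaf 0x691371fb141b815a) (.leaf 0x165ab20941303f990)) (.node 1 (.leaf 0x1d2d294aed91ef217) (.leaf 0x20eceb25844c5a1bb))) (.node 2 (.node 1 (.leaf 0x1932aa4b349db320a) (.leaf 0x2b0d5325d49a653ba)) (.node 1 (.leaf 0xd08f0b7c13c178c0) (.leaf 0x2726f42309ac601c5)))) (.node 4 (.node 2 (.node 1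 (.leaf 0x33eaa24eca3a6f84f) (.leaf 0x2f4d269f413c1787d)) (.node 1 (.leaf 0x21a93d20632462907) (.leaf 0x1798df27e65ca19c8))) (.node 2 (.node 1 (.leaf 0xc0a0623013f520c0) (.leaf 0x43917607b492002f)) (.node 1 (.leaf 0x43917973a952502f) (.leaf 0x3130821526743e870))))))) (.node 32 (.node 16 (.node 8 (.node 4 (.node 2 (.node 1 (.leaf 0x1078733042c09e0e7) (.leaf 0x8695b0c843c5a0e2)) (.node 1 (.leaf 0x3413d02a674a6a8ed) (.leaf 0x2f0c4d11a18c6211a))) (.node 2 (.node 1 (.leaf 0x2830d14e1469d0cd) (.leaf 0x1ec9d92a81443c8cd)) (.node 1 (.leaf 0xdd6f54e6c37519bb) (.leaf 0x33d5acde7941ab1a3)))) (.node 4 (.node 2 (.node 1 (.leaf 0xde11ade6ae7281a3) (.leaf 0x26e3aad37125201de)) (.node 1 (.leaf 0x22c19cd3898954b74) (.leaf 0x287a5638ca3ad0b51))) (.node 2 (.node 1 (.leaf 0x28263090e650b69c8) (.leaf 0x23b0c798a940983c1)) (.node 1 (.leaf 0x31bef56084df52b64) (.leaf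 0xf28f02e683458295))))) (.node 8 (.node 4 (.node 2 (.node 1 (.leaf 0x178bd02c3140cb92d) (.leaf 0x2ea93b2b23246291e)) (.node 1 (.leaf 0x25c6771ac1489c242) (.leaf 0x2266d2b9e2c83aa95))) (.node 2 (.node 1 (.leaf 0x2b5ede7a54fd591c2) (.leaf 0x1ec8c7a2676674990)) (.node 1 (.leaf 0x2c01d5147349594cf) (.leaf 0x5aba26604c1f1278)))) (.node 4 (.node 2 (.node 1 (.leaf 0x3059c773937c27a8e) (.leaf 0x35899a86f69817cd5)) (.node 1 (.leaf 0x2e53b69a0bf52a4a) (.leaf 0x2ca1d5c2aaba6a96a))) (.node 2 (.node 1 (.leaf 0xbda0608013cec95e) (.leaf 0x120c4d86eac417aed)) (.node 1 (.leaf 0x10919cd39a915f1c5) (.leaf 0x2350c75ea13e6fb4f)))))) (.node 16 (.node 8 (.node 4 (.node 2 (.node 1 (.leaf 0x2a2ef4a289ae919ac) (.leaf 0x6d44dc5b48d2c02f)) (.node 1 (.leaf 0x1826f1607a9417b51) (.leaf 0x2b68c7a0a6c5549ae))) (.node 2 (.node 1 (.leaf 0x164cf35213c87b64) (.leaf 0x330b81d2cda83abea))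 (.node 1 (.leaf 0x1f9052d8a13f2bb89) (.leaf 0x178c5fc2044ce0b89)))) (.node 4 (.node 2 (.node 1 (.leaf 0x1643c46213e6fb55) (.leaf 0x237b6a4ecade6f9bb)) (.node 1 (.leaf 0x43bde973a95c2214) (.leaf 0x26eef4699b4817a4e))) (.node 2 (.node 1 (.leaf 0x34353f9f213e6fbb9) (.leaf 0x3683c0cd0121b820a)) (.node 1 (.leaf 0x2c0630a01349c4204) (.leaf 0x26b92a5e06504c0ed))))) (.node 8 (.node 4 (.node 2 (.node 1 (.leaf 0xf29962e63c1e5cf1) (.leaf 0x16a11a88cae4641c5)) (.node 1 (.leaf 0x2de0c713da9017ab8) (.leaf 0x2958c71eb95c17b74))) (.node 2 (.node 1 (.leaf 0x4c3c0cc13f52194) (.leaf 0x164cfa5a13f52b64)) (.node 1 (.leaf 0x18f92a424651f529d) (.leaf 0x2a725a76745c17a58)))) (.node 4 (.node 2 (.node 1 (.leaf 0x2e6344216e532240) (.leaf 0x4502bf013e25256)) (.node 1 (.leaf 0x305dac9bd37c17b66) (.leaf 0xa125f96eab83f990))) (.node 2 (.node 1 (.leaf 0x760f02e73c5b8295) (.leaf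 0x17892a41ee25ba12d)) (.node 1 (.leaf 0x22b0c77693562d11e) (.leaf 0x2d6c4d86f6981787d)))))))) (.node 64 (.node 32 (.node 16 (.node 8 (.node 4 (.node 2 (.node 1 (.leaf 0x1c36a477f49e1e107) (.leaf 0x36838a86fa8c17873)) (.node 1 (.leaf 0x4f0c7ca87669d2b8) (.leaf 0x2350c792fa8f1c26a))) (.node 2 (.node 1 (.leaf 0x6d44d968ac5eebeb) (.leaf 0x15e4ea389695c024a)) (.node 1 (.leaf 0x1909c796cf876e941) (.leaf 0x1612a1e4d91ef1c2)))) (.node 4 (.node 2 (.node 1 (.leaf 0x1edccf0dc4c14d1bf) (.leaf 0x18c4ca2523015f1ac)) (.node 1 (.leaf 0xcaea3526eb2811ae) (.leaf 0x3110c7cc86c5dc8b8))) (.node 2 (.node 1 (.leaf 0x162bf7e53c68b84f) (.leaf 0x36335956937cd1b55)) (.node 1 (.leaf 0x1a012a11ca35c42fc) (.leaf 0x1c32af143a90e82b8))))) (.node 8 (.node 4 (.node 2 (.node 1 (.leaf 0x970c7c1d499270ac) (.leaf 0x1d285230969417898)) (.node 1 (.leaf 0x188d267e413f6e848) (.leaf 0x162b29f213ddcb55)))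 (.node 2 (.node 1 (.leaf 0x34ad0a15267751a8e) (.leaf 0xf6911305b749e24a)) (.node 1 (.leaf 0x24d082d2413e814cf) (.leaf 0xd812a0d2a3417b66)))) (.node 4 (.node 2 (.node 1 (.leaf 0x2fc4cf05813d7cb64) (.leaf 0x27cd3f3fe13f693b9)) (.node 1 (.leaf 0x2356341c213f691bb) (.leaf 0x223a6140b12817bba))) (.node 2 (.node 1 (.leaf 0x1653f7e413e8bc3c) (.leaf 0x33d5ac87d37c179a3)) (.node 1 (.leaf 0x19920647413ddd1de) (.leaf 0x2e9c5f350a3a74990)))))) (.node 16 (.node 8 (.node 4 (.node 2 (.node 1 (.leaf 0x91cea1bc7789e217) (.leaf 0x1889370725053f3e3)) (.node 1 (.leaf 0xf9112046ec5a0ed) (.leaf 0x1b4e7729c674d1a0a))) (.node 2 (.node 1 (.leaf 0x2f08c772a76417a00) (.leaf 0x3116a400a13df1d02)) (.node 1 (.leaf 0x1619c21b8f8c17a8d) (.leaf 0x2d6b6a8641f5f1278)))) (.node 4 (.node 2 (.node 1 (.leaf 0xde13bc2117f282b9) (.leaf 0xdebc0a98e0c5827a)) (.node 1 (.leaf 0x3044cf40f1408792d)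 (.leaf 0x1612a424f8df525b))) (.node 2 (.node 1 (.leaf 0x6ab6a41013c17930) (.leaf 0x36b8c700a81158b70)) (.node 1 (.leaf 0x24d0c776476500194) (.leaf 0x28aaaa064778983e3))))) (.node 8 (.node 4 (.node 2 (.node 1 (.leaf 0x21153d6bb49a650c0) (.leaf 0x69d470b66ed203e3)) (.node 1 (.leaf 0x21690b042ae50a3e3) (.leaf 0x318ef1752a0a2d197))) (.node 2 (.node 1 (.leaf 0x163556ca13e24bba) (.leaf 0x33d3f66c794017bb9)) (.node 1 (.leaf 0x1c32a266149d22930) (.leaf 0x2c0630380f855f214)))) (.node 4 (.node 2 (.node 1 (.leaf 0x1a4d0237ca0b51a17) (.leaf 0x35c381609a95a8b64)) (.node 1 (.leaf 0x161c27f0819ac92a) (.leaf 0xa020651e506d4a95))) (.node 2 (.node 1 (.leaf 0x163644ea13ccbccf) (.leaf 0xf70c700a13df18b0)) (.node 1 (.leaf 0xfb2b241013e25194) (.leaf 0x159d51fda943f8ac))))))) (.node 32 (.node 16 (.node 8 (.node 4 (.node 2 (.node 1 (.leaf 0x16a38a3f26c6810b8) (.leaf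 0x762af2e63c09c0ed)) (.node 1 (.leaf 0x4719a207b748b214) (.leaf 0x2c813b38844ed2b4f))) (.node 2 (.node 1 (.leaf 0x4c9cf326752919ac) (.leaf 0x178a0430444c40217)) (.node 1 (.leaf 0x942a2b174ff6e9de) (.leaf 0x5b3ca728a3417a7e)))) (.node 4 (.node 2 (.node 1 (.leaf 0x2eb53d6e51288b39e) (.leaf 0x16052c4413e81364)) (.node 1 (.leaf 0x8fbc0c2ce8817b66) (.leaf 0x1604f13eac89b251))) (.node 2 (.node 1 (.leaf 0x237b0d4e66ef1c251) (.leaf 0x26a38ac8933d593ea)) (.node 1 (.leaf 0x359171fb141c0370) (.leaf 0x1e90c700ad5558beb))))) (.node 8 (.node 4 (.node 2 (.node 1 (.leaf 0x19c8c7d3e76527389) (.leaf 0xaaaa064e0c9827a)) (.node 1 (.leaf 0x17215b4da7792520a) (.leaf 0x1a8df072505a88ed))) (.node 2 (.node 1 (.leaf 0x2c93ddb0752d0b4f) (.leaf 0x24d0c7764f85f1194)) (.node 1 (.leaf 0x3170c7a56e0f1c374) (.leaf 0x2ba22f613e91cbe)))) (.node 4 (.node 2 (.node 1 (.leaf 0x1d6a561f53484d9c8)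 (.leaf 0x218c70d13b55f0c0)) (.node 1 (.leaf 0x31e547db16849e188) (.leaf 0x36a917c809ad870b0))) (.node 2 (.node 1 (.leaf 0xfb88220969417af9) (.leaf 0x2fb5472041485a2fc)) (.node 1 (.leaf 0x3125091c2ca91a95) (.leaf 0x693c636a4df2b92d)))))) (.node 16 (.node 8 (.node 4 (.node 2 (.node 1 (.leaf 0x25e90b7a6bf4a187d) (.leaf 0x8013b38c2cad0907)) (.node 1 (.leaf 0x3681cfc5bb7417873) (.leaf 0x348d3bc511285a292))) (.node 2 (.node 1 (.leaf 0x16a1b19f2ee417aed) (.leaf 0x221d94e413d593ba)) (.node 1 (.leaf 0x30c0c7479b76d4a14) (.leaf 0x28c74ea13c603e3)))) (.node 4 (.node 2 (.node 1 (.leaf 0x1078735221209c188) (.leaf 0x72ee14d82c017be3)) (.node 1 (.leaf 0x1605247413c3ebe3) (.leaf 0x358e305e02084c0b8))) (.node 2 (.node 1 (.leaf 0x13419a9eca39d13e3) (.leaf 0x1726d295c779253e3)) (.node 1 (.leaf 0x1ae7751e505a8be3) (.leaf 0x18091a32618c62afc))))) (.node 8 (.node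 4 (.node 2 (.node 1 (.leaf 0x1900c7695a9227a9d) (.leaf 0x2ca6776913b69da58)) (.node 1 (.leaf 0x13d8c76e41483c96a) (.leaf 0xf29c77409fe91a95))) (.node 2 (.node 1 (.leaf 0x14fb8d35117f2b92d) (.leaf 0x25ed264ec13e6f87d)) (.node 1 (.leaf 0x18ded22beeb31a141) (.leaf 0x1e91662fe6c46211a)))) (.node 4 (.node 2 (.node 1 (.leaf 0x11515e87d6e417a6a) (.leaf 0x3d3e114a145320cd)) (.node 1 (.leaf 0x19bb79daeac9c41c2) (.leaf 0x3018c7ca89415c1bf))) (.node 2 (.node 1 (.leaf 0x2fb2060aa751569ac) (.leaf 0x2a2d1f7e09adf59ac)) (.node 1 (.leaf 0x16a11a0a86c6d29ae) (.leaf 0x363cca3b96e535355)))))))))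

def zKeyInv_3 : Tree := (.node 128 (.node 64 (.node 32 (.node 16 (.node 8 (.node 4 (.node 2 (.node 1 (.leaf 0x1726e1726779203e3) (.leaf 0xa053d1ac2cb6e941)) (.node 1 (.leaf 0x16229cd3ec34ec92a) (.leaf 0x1540731aeac5ab11a))) (.node 2 (.node 1 (.leaf 0x27751f9eca39f1a6a) (.leaf 0x18ded295c13f17941)) (.node 1 (.leaf 0x2b50c7daeac94d366) (.leaf 0x1152bfb9f48c17bb9)))) (.node 4 (.node 2 (.node 1 (.leaf 0x1140c7af32f8a1b9e) (.leaf 0x1798df0373b48b39e)) (.node 1 (.leaf 0x147cbed38988641c5) (.leaf 0x17d657b2013d7cb4f))) (.node 2 (.node 1 (.leaf 0xc36a08aa39b33e3) (.leaf 0xc4be29c674401a3)) (.node 1 (.leaf 0x918c73fee0c9e1de) (.leaf 0x4882684a353f3e3))))) (.node 8 (.node 4 (.node 2 (.node 1 (.leaf 0x484f0cc7649b190) (.leaf 0x1d1d51383004c3e3)) (.node 1 (.leaf 0x161aba144819d13e3) (.leaf 0x28c7155409003e3))) (.node 2 (.node 1 (.leaf 0x160c71e5355773e3)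 (.leaf 0x942a20ee57a1e3e3)) (.node 1 (.leaf 0x11d2500c86ed273e3) (.leaf 0x1605219cbe576be3)))) (.node 4 (.node 2 (.node 1 (.leaf 0x11c1662ff37c62160) (.leaf 0xdeb835ee43c17be3)) (.node 1 (.leaf 0xb79965133555c3e3) (.leaf 0x1243e123013dd13e3))) (.node 2 (.node 1 (.leaf 0x2a93d00b2fa1e3e3) (.leaf 0x3d196444f85aca06)) (.node 1 (.leaf 0x238f029ebf5b8201) (.leaf 0x3248df27ef8c1790f)))))) (.node 16 (.node 8 (.node 4 (.node 2 (.node 1 (.leaf 0x2252673013c9802f) (.leaf 0x51e5700a13e6aa56)) (.node 1 (.leaf 0x2fa8c7c227483f8e2) (.leaf 0x1ababfd4e205228e4))) (.node 2 (.node 1 (.leaf 0x3212aad3b0f017a58) (.leaf 0x2f0b8ad1018ed3200)) (.node 1 (.leaf 0x2668c7c02d9125201) (.leaf 0xa00521ac5053f0e4)))) (.node 4 (.node 2 (.node 1 (.leaf 0x1a219cd38989ba1c5) (.leaf 0x33884f71d49927107)) (.node 1 (.leaf 0x363ee12b2d55350e2) (.leaf 0x2de0c711a6c462063))) (.node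 2 (.node 1 (.leaf 0x2b53de1238d29d8df) (.leaf 0x2f8a9c3f26c66a8b8)) (.node 1 (.leaf 0x2b6ef5510eb14d15a) (.leaf 0x223d297a496d592ee))))) (.node 8 (.node 4 (.node 2 (.node 1 (.leaf 0x1615e582f8db3206) (.leaf 0x363ee1726579200e2)) (.node 1 (.leaf 0x24b1d51fcab83f8ac) (.leaf 0x2fb25f0d6205c4095))) (.node 2 (.node 1 (.leaf 0x34a882152a3976870) (.leaf 0x2ddaba13844c60092)) (.node 1 (.leaf 0x22b166b99a91e5a9d) (.leaf 0x3d2bad7af87694cf)))) (.node 4 (.node 2 (.node 1 (.leaf 0x3220c7ae0daa91a95) (.leaf 0x162bf0d717e6fb55)) (.node 1 (.leaf 0x1390c7c1db4b1c24e) (.leaf 0xef93b00ba8c17ba2))) (.node 2 (.node 1 (.leaf 0xfbb8dcc8209dc92a) (.leaf 0x1643c00a13c58355)) (.node 1 (.leaf 0x2504ca0ba57932188) (.leaf 0x31e0f00b6d3df1b51))))))) (.node 32 (.node 16 (.node 8 (.node 4 (.node 2 (.node 1 (.leaf 0xfb04f10a6c5771ae) (.leaf 0xa12a2ca8aba279bf)) (.node 1 (.leaf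 0x2b50c7c038d29d24a) (.leaf 0x2c39c74669fd3239e))) (.node 2 (.node 1 (.leaf 0x1e90c79206c5c01ac) (.leaf 0x2b3ef15d139717941)) (.node 1 (.leaf 0x3170c744481a6fb51) (.leaf 0x166b798f0131ba188)))) (.node 4 (.node 2 (.node 1 (.leaf 0x2bf1c7467349568c0) (.leaf 0x2d91c260296c3c8b8)) (.node 1 (.leaf 0x3112943f2ab9768b8) (.leaf 0xfb53f34213c98194))) (.node 2 (.node 1 (.leaf 0x24bdaca59a8d0c073) (.leaf 0x691179fb1436e848)) (.node 1 (.leaf 0x1edef58ab8be9da40) (.leaf 0x3413d067a43def0ed))))) (.node 8 (.node 4 (.node 2 (.node 1 (.leaf 0x2e7196bab124e8079) (.leaf 0x1ca20400a13dd102f)) (.node 1 (.leaf 0xa93d49ee0ed084c) (.leaf 0x26e93688d39adcab9))) (.node 2 (.node 1 (.leaf 0x2330c7a56e0dba278) (.leaf 0x3133c0cd0df83ea0a)) (.node 1 (.leaf 0x16593666149c98107) (.leaf 0x5511a00a95b51873)))) (.node 4 (.node 2 (.node 1 (.leaf 0x3308c7366daadc8e2) (.leaf 0x3559386459412c063))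 (.node 1 (.leaf 0x24c29436a4ddd10df) (.leaf 0x2c3a060aa65d56b9e))) (.node 2 (.node 1 (.leaf 0x11e6e1c802c1871c5) (.leaf 0x4c9cf0373b4601ac)) (.node 1 (.leaf 0x1635546213f2843c) (.leaf 0x1209d21f96e674aed)))))) (.node 16 (.node 8 (.node 4 (.node 2 (.node 1 (.leaf 0x20653b3e18bdab2ee) (.leaf 0x1645f47013ccba06)) (.node 1 (.leaf 0xa02bfd4e2c9468e4) (.leaf 0x3008c74734084da01))) (.node 2 (.node 1 (.leaf 0x2b0d53609a94e8092) (.leaf 0xd08f00b67793f3e3)) (.node 1 (.leaf 0x745acc1db490c15b) (.leaf 0x1a5edeb3e8366f960)))) (.node 4 (.node 2 (.node 1 (.leaf 0x190ef53f6505000df) (.leaf 0x2668c757681935201)) (.node 1 (.leaf 0x7b082c4413f5225b) (.leaf 0x25015e76748c17b74))) (.node 2 (.node 1 (.leaf 0x23bc04723c35229d) (.leaf 0x19a50aae148c3aa95)) (.node 1 (.leaf 0x1b293d00a1f41784f) (.leaf 0xfbcea3e169417cd5))))) (.node 8 (.node 4 (.node 2 (.node 1 (.leaf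 0x4cced31e752d3278) (.leaf 0x21ad5311768417879)) (.node 1 (.leaf 0x36335938145c8b27a) (.leaf 0x318e5737ca0a6a91e))) (.node 2 (.node 1 (.leaf 0x16f6a320813e2484c) (.leaf 0x261b550a813ed2863)) (.node 1 (.leaf 0x5515b14c959870df) (.leaf 0x2a12af146e31e58e7)))) (.node 4 (.node 2 (.node 1 (.leaf 0x4f9d90d218c62251) (.leaf 0xe5d1f0ee579f1a4e)) (.node 1 (.leaf 0x1541c20581443c92a) (.leaf 0x13d8c7a0ad55549ae))) (.node 2 (.node 1 (.leaf 0x11d1cf327399272fc) (.leaf 0x1ca3f617ef29aca8d)) (.node 1 (.leaf 0x2e1a6132aeb29d2f9) (.leaf 0x2019d99f5395c43ba)))))))) (.node 64 (.node 32 (.node 16 (.node 8 (.node 4 (.node 2 (.node 1 (.leaf 0x22a529b6096ce812d) (.leaf 0x18fede3426909829d)) (.node 1 (.leaf 0x4815b19643c17a58) (.leaf 0x36a91788ad3f1a04f))) (.node 2 (.node 1 (.leaf 0x18d9c77386eedc84f) (.leaf 0x35899a1522089c0b8)) (.node 1 (.leaf 0x2c93d30432440163)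 (.leaf 0x17d0c74723c04d9c8)))) (.node 4 (.node 2 (.node 1 (.leaf 0x6a95e34213f52130) (.leaf 0x2cb502459a971c0ac)) (.node 1 (.leaf 0x22c6f519795c1790f) (.leaf 0x1669382082084004c))) (.node 2 (.node 1 (.leaf 0x2e10b3b96e4d182f) (.leaf 0x2fb0522047503e895)) (.node 1 (.leaf 0x16acbe51043c6415a) (.leaf 0x1d0df08a65c3a960))))) (.node 8 (.node 4 (.node 2 (.node 1 (.leaf 0xf68c71f70f132163) (.leaf 0x1645f0d62062d0cd)) (.node 1 (.leaf 0x162b21b42044c0cd) (.leaf 0x2668c7d6014862afc))) (.node 2 (.node 1 (.leaf 0x1d9c2734145ee92a) (.leaf 0x2519d51fd4983f91a)) (.node 1 (.leaf 0x1e92943f26c55891a) (.leaf 0x1ca2b272c13ceca8d)))) (.node 4 (.node 2 (.node 1 (.leaf 0x3008c7695b7627a4a) (.leaf 0x1b4d0addd695a8941)) (.node 1 (.leaf 0x9415b4da77b6ea4a) (.leaf 0x1bc1385371250a2b9))) (.node 2 (.node 1 (.leaf 0x112966b988352c29d) (.leaf 0x1d6a562586ef28240)) (.node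 1 (.leaf 0x24c0c725c1488b242) (.leaf 0x3220c79669590c295)))))) (.node 16 (.node 8 (.node 4 (.node 2 (.node 1 (.leaf 0x160c760917f52892) (.leaf 0x11535588d6e46424e)) (.node 1 (.leaf 0x1689371e8988581bf) (.leaf 0x1156e13fe7509e1ac))) (.node 2 (.node 1 (.leaf 0x1140c79213b4cb9ac) (.leaf 0x1ec882d6031c399c2)) (.node 1 (.leaf 0x2b2aa24ed6e4279bb) (.leaf 0x30f1d99f413f17bba)))) (.node 4 (.node 2 (.node 1 (.leaf 0x2ea93b00ba9017cd5) (.leaf 0x1193e180013e91c3c)) (.node 1 (.leaf 0x692a0d27643f990) (.leaf 0x2c92af968ade6aa17))) (.node 2 (.node 1 (.leaf 0x4073550ac43f91a) (.leaf 0x167a5acd10f1c220a)) (.node 1 (.leaf 0x1a9b8a0d276417a00) (.leaf 0x33d355b988344da58))))) (.node 8 (.node 4 (.node 2 (.node 1 (.leaf 0x22a529b60e332b92d) (.leaf 0x4f0c700b95db802f)) (.node 1 (.leaf 0x2e2a5091413f1a28e) (.leaf 0x216ef54218bc17a40))) (.node 2 (.node 1 (.leaf 0x2360c7768749ee91e)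 (.leaf 0x2fda619b6652d304f)) (.node 1 (.leaf 0x1182aa8a6df922a42) (.leaf 0x20653b37ca09ef217)))) (.node 4 (.node 2 (.node 1 (.leaf 0x348cea4e0c3535292) (.leaf 0x16230db202c94d4f1)) (.node 1 (.leaf 0x1a4d02d367789e278) (.leaf 0x2a7bca11a13e91cbe))) (.node 2 (.node 1 (.leaf 0x1093c6cdba9017ab8) (.leaf 0x2c0911af2941acab8)) (.node 1 (.leaf 0x164cf4ea13f1a364) (.leaf 0x15e3f67298bc17a8d))))))) (.node 32 (.node 16 (.node 8 (.node 4 (.node 2 (.node 1 (.leaf 0x2e2a50738abadca8e) (.leaf 0x3466de47b8d017b66)) (.node 1 (.leaf 0x82ccf5ca65100190) (.leaf 0x30c52688a13f1a502))) (.node 2 (.node 1 (.leaf 0x18dbe1c7e13edcaf9) (.leaf 0x120c4d740adde5aed)) (.node 1 (.leaf 0x355cd587418d2c163) (.leaf 0x22a52979ce31c2204)))) (.node 4 (.node 2 (.node 1 (.leaf 0x2e73aaae0daa6515e) (.leaf 0x355a5f6db69417898)) (.node 1 (.leaf 0x24c0c76084dda892d) (.leaf 0x28691ab3ed3c4da9d)))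 (.node 2 (.node 1 (.leaf 0x2d89d22fb69817beb) (.leaf 0x7625a2e63c1e5a9d)) (.node 1 (.leaf 0x2a78c713d95c17a58) (.leaf 0x28acbed3677a24a40))))) (.node 8 (.node 4 (.node 2 (.node 1 (.leaf 0x2d02a5a13ed3256) (.leaf 0x16364bf013f17ccf)) (.node 1 (.leaf 0x178bd079d14225292) (.leaf 0x23b1d51f4959f53c1))) (.node 2 (.node 1 (.leaf 0x2fb1c251296d5c1c5) (.leaf 0x2350c75ea74b52b4f)) (.node 1 (.leaf 0x1f8bca9bd45c17b70) (.leaf 0xd835972d49e65366)))) (.node 4 (.node 2 (.node 1 (.leaf 0xf29966faadc62251) (.leaf 0x338edd389141c034f)) (.node 1 (.leaf 0x5d9c2734145c212a) (.leaf 0x1183591eaaca651c2))) (.node 2 (.node 1 (.leaf 0x1d1371e8e25b81bf) (.leaf 0x1156e1a2948dc01ac)) (.node 1 (.leaf 0x11419cd392f9ba1ac) (.leaf 0x2d93de5273569d8b8)))))) (.node 16 (.node 8 (.node 4 (.node 2 (.node 1 (.leaf 0x1192ba800e269184f) (.leaf 0x35c3de99cbe48b0ac)) (.node 1 (.leaf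 0x3383ca80013f6e848) (.leaf 0x2e2a50c0f696d4b51))) (.node 2 (.node 1 (.leaf 0x17d2af69b8bc17d02) (.leaf 0x2be5aac2aac554beb)) (.node 1 (.leaf 0x2c0381537125ab214) (.leaf 0x23c8cd258aaf281bb)))) (.node 4 (.node 2 (.node 1 (.leaf 0x1612a550d55549c2) (.leaf 0x2ddaba14539927251)) (.node 1 (.leaf 0x161c215533e9d92a) (.leaf 0x19937f2bb8d017a8d))) (.node 2 (.node 1 (.leaf 0x153b593804c1e5a7a) (.leaf 0x2b39d25d050717a7e)) (.node 1 (.leaf 0x160c7c0681a8b879) (.leaf 0x225aa7df129f502f))))) (.node 8 (.node 4 (.node 2 (.node 1 (.leaf 0x3623aac038d125364) (.leaf 0x4b6410813f51bb9)) (.node 1 (.leaf 0x301daa2a945c17b70) (.leaf 0xe59c2094ee817a4e))) (.node 2 (.node 1 (.leaf 0x26e6e12b3b745a2fc) (.leaf 0x36abe13dc13f1a2f9)) (.node 1 (.leaf 0x110b7f2bb69817a8d) (.leaf 0xc890b042d54d1be3)))) (.node 4 (.node 2 (.node 1 (.leaf 0x160c73dc13e8baf9) (.leaf 0x24615e68413d46941))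 (.node 1 (.leaf 0x3611c234cbe417a6a) (.leaf 0x740c74e5b4817a4e))) (.node 2 (.node 1 (.leaf 0x80204042ae4641ae) (.leaf 0x26e6e12b2751352fc)) (.node 1 (.leaf 0x163f60ba5784c3e3) (.leaf 0x1b99a152a383a8b8)))))))))

def zKeyInv_4 : Tree := (.node 128 (.node 64 (.node 32 (.node 16 (.node 8 (.node 4 (.node 2 (.node 1 (.leaf 0x20eea330444d25163) (.leaf 0x1fc4be00af8c17ba2)) (.node 1 (.leaf 0x25193bb20c36d0b4f) (.leaf 0x35a51f7e13b4581ac))) (.node 2 (.node 1 (.leaf 0xca936cda326d29ae) (.leaf 0x30f2505e813c178c0)) (.node 1 (.leaf 0xc0b835ee13c17997) (.leaf 0x518c772c13c17930)))) (.node 4 (.node 2 (.node 1 (.leaf 0x826dd00a13df1cd5) (.leaf 0x2fc50200aac576a56)) (.node 1 (.leaf 0x325d2650aae4983e3) (.leaf 0x22c6f5510eb29d10f))) (.node 2 (.node 1 (.leaf 0x10e3aa0aa65d353e3) (.leaf 0x11d1cf036504603e3)) (.node 1 (.leaf 0x2c0daaaa9395c407d) (.leaf 0x3753d1164c017be3)))))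 (.node 8 (.node 4 (.node 2 (.node 1 (.leaf 0x21f5ac072a39a8be3) (.leaf 0xb79966b733c3cbe3)) (.node 1 (.leaf 0x2f8d0a9206c69d997) (.leaf 0x34ab8349ee3274a8e))) (.node 2 (.node 1 (.leaf 0x114b5549a13ed2a8d) (.leaf 0x2518c76bb499c0292)) (.node 1 (.leaf 0x30093d00bb7417d02) (.leaf 0x2bf1c7467399320c0)))) (.node 4 (.node 2 (.node 1 (.leaf 0x16229c458eb1001c8) (.leaf 0x1d2d292534fde5a4a)) (.node 1 (.leaf 0x26eef488cae6dca4e) (.leaf 0x348cea8ab8bd204cf))) (.node 2 (.node 1 (.leaf 0xa115e72677a279bf) (.leaf 0xdd38a4e66ef1c1c8)) (.node 1 (.leaf 0xb4b8137917cd1bc1) (.leaf 0x4f13800a0bd58873)))))) (.node 16 (.node 8 (.node 4 (.node 2 (.node 1 (.leaf 0xc19c1f96e43f8e2) (.leaf 0x6d2b21ea0bcec898)) (.node 1 (.leaf 0x1d1d51e84dc9c0b8) (.leaf 0x11413d32a674401ae))) (.node 2 (.node 1 (.leaf 0x13936a4ec13e6fba2) (.leaf 0x975269f4ee817a7e)) (.node 1 (.leaf 0x161c2094ac862251)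 (.leaf 0x2b50c772d8d017b66)))) (.node 4 (.node 2 (.node 1 (.leaf 0x26a3812fb12417cd5) (.leaf 0x118ba200aac53f4be)) (.node 1 (.leaf 0x1036abda988981bf) (.leaf 0x1b293dde6677282b9))) (.node 2 (.node 1 (.leaf 0x254d1fc8d95c17b74) (.leaf 0x2860df08ada83aa95)) (.node 1 (.leaf 0x134256142e306412d) (.leaf 0x1bc5acde79408b242))))) (.node 8 (.node 4 (.node 2 (.node 1 (.leaf 0x160c772aac817af9) (.leaf 0xef437896ddd3e3)) (.node 1 (.leaf 0x2ca1d56913b69d96a) (.leaf 0xb0bd069843c17be3))) (.node 2 (.node 1 (.leaf 0x40c735213c983e3) (.leaf 0x16acbe87418c62907)) (.node 1 (.leaf 0x1b6d0a71f4090a3e3) (.leaf 0x147e7734c2c017be3)))) (.node 4 (.node 2 (.node 1 (.leaf 0x1d2d296021483c8ed) (.leaf 0x163646dabe417879)) (.node 1 (.leaf 0xd0ede4e0d3d46be3) (.leaf 0x1d69117226edd13e3))) (.node 2 (.node 1 (.leaf 0x216b81378ae4d1be3) (.leaf 0x32591a4b21304020a)) (.node 1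 (.leaf 0x11537f21c75274bb9) (.leaf 0x11099aa01699ab3c1))))))) (.node 32 (.node 16 (.node 8 (.node 4 (.node 2 (.node 1 (.leaf 0x2498c7479a92d49c5) (.leaf 0x2b0c4d2fd499c2204)) (.node 1 (.leaf 0x121aaa40bb48179a3) (.leaf 0x14fc5f350a089b190))) (.node 2 (.node 1 (.leaf 0x1653f1fe205228cd) (.leaf 0x24ab6a68413d469de)) (.node 1 (.leaf 0x2dc20668737c179a3) (.leaf 0x120996c88add59251)))) (.node 4 (.node 2 (.node 1 (.leaf 0x2a725ad3e765c212a) (.leaf 0x1190c791413ed328d)) (.node 1 (.leaf 0x2513c0a98691f5a7a) (.leaf 0x18f95e062675f127a))) (.node 2 (.node 1 (.leaf 0x24c529b604dce812d) (.leaf 0x2eaea4a9b1246291e)) (.node 1 (.leaf 0x3191b13f877b52a7e) (.leaf 0x2cb4ea4e0d3d353e3))))) (.node 8 (.node 4 (.node 2 (.node 1 (.leaf 0x790c705933c3cbe3) (.leaf 0xdd0c7d8a3c3281bb)) (.node 1 (.leaf 0x13de7729da8c3a9a3) (.leaf 0x1ec8c7ca876627990))) (.node 2 (.node 1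 (.leaf 0x18c0df71ef8d0a1de) (.leaf 0x237b6abd213f691bb)) (.node 1 (.leaf 0x21dabad5f45c17af9) (.leaf 0x18213b00b95c17d02)))) (.node 4 (.node 2 (.node 1 (.leaf 0xb0e57c2013ddcab9) (.leaf 0x10e5023891405a292)) (.node 1 (.leaf 0x72cbeb988344da9d) (.leaf 0x330b6ad2cee817a40))) (.node 2 (.node 1 (.leaf 0x2873734ac46211a) (.leaf 0x8013b88c988642b9)) (.node 1 (.leaf 0x1a01cf2ba75156a6a) (.leaf 0x1645f87c13ddcbe3)))))) (.node 16 (.node 8 (.node 4 (.node 2 (.node 1 (.leaf 0x16052474ee93f3e3) (.leaf 0xaaf0dc4c03cbe3)) (.node 1 (.leaf 0x162bf0ee579d13e3) (.leaf 0xc1d210aae5773e3))) (.node 2 (.node 1 (.leaf 0x4882108ee576be3) (.leaf 0x160c7155355003e3)) (.node 1 (.leaf 0x790c7080d904c3e3) (.leaf 0xde13b00a8121e3e3)))) (.node 4 (.node 2 (.node 1 (.leaf 0xf9111b8ee9253e3) (.leaf 0x5d95e462aad22a06)) (.node 1 (.leaf 0x179ced76665c17be3) (.leaf 0x790c700b355f5be3)))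 (.node 2 (.node 1 (.leaf 0x107e5700a2c1f5be3) (.leaf 0x95b196f8c17997)) (.node 1 (.leaf 0x826a349e13ccb84c) (.leaf 0x6ac5fb6213e6a994))))) (.node 8 (.node 4 (.node 2 (.node 1 (.leaf 0x2c9b79ae148c4c15e) (.leaf 0x11c0c7cc86c462160)) (.node 1 (.leaf 0x121b6aaf231dac95b) (.leaf 0x17c1cfc5b0f017b74))) (.node 2 (.node 1 (.leaf 0x25bc3c00a123522ed) (.leaf 0x2538dd80132252ee)) (.node 1 (.leaf 0x25c67729cd54d1960) (.leaf 0x153d3b1c7b49ef15b)))) (.node 4 (.node 2 (.node 1 (.leaf 0x33851f6053953f188) (.leaf 0x2fdbe13fe13e9195e)) (.node 1 (.leaf 0x2dc45f0d737e2d095) (.leaf 0x3466341c349f6915a))) (.node 2 (.node 1 (.leaf 0x2548c72fd0f122907) (.leaf 0x282630764650eca00)) (.node 1 (.leaf 0x10e917070d55353e3) (.leaf 0x163f6a56ac9ba206)))))))) (.node 64 (.node 32 (.node 16 (.node 8 (.node 4 (.node 2 (.node 1 (.leaf 0x35c19a2068110a0ac) (.leaf 0x2a12af148adc620e7))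 (.node 1 (.leaf 0x5d95b1e4d91250df) (.leaf 0x24c25086431e650df))) (.node 2 (.node 1 (.leaf 0x23c8522046ed76895) (.leaf 0x802bf0dc2c8980e4)) (.node 1 (.leaf 0x361355d3898864374) (.leaf 0x28263090f34b2b9c8)))) (.node 4 (.node 2 (.node 1 (.leaf 0x5db64bf0aaf17ccf) (.leaf 0x8f8c7c298d274b66)) (.node 1 (.leaf 0x26a38ac221497c9c2) (.leaf 0x282ba14ec36dcb55))) (.node 2 (.node 1 (.leaf 0x1ca3ca1498bed4a7e) (.leaf 0x15e25fc0f69417a8d)) (.node 1 (.leaf 0xf1204d4ea3462990) (.leaf 0x13aa5600a13f6ed02))))) (.node 8 (.node 4 (.node 2 (.node 1 (.leaf 0xcaea300a326810cd) (.leaf 0x29593600b95c27cbe)) (.node 1 (.leaf 0x26184f0a87490011e) (.leaf 0x10e873070f8d202b9))) (.node 2 (.node 1 (.leaf 0x2dc1660aa8183ca7a) (.leaf 0x2138c7d3ec35c2292)) (.node 1 (.leaf 0xf29c7c88aded4a95) (.leaf 0x2dc16656937dee9a3)))) (.node 4 (.node 2 (.node 1 (.leaf 0x23fe572f98bd772b9)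 (.leaf 0x31baa2660aad22a78)) (.node 1 (.leaf 0xde11a2f8ae46412d) (.leaf 0x14fb8d350a0a7492d))) (.node 2 (.node 1 (.leaf 0x3196f53f8dfb529de) (.leaf 0x10e9665681f4179a3)) (.node 1 (.leaf 0x3616f457681b1a26a) (.leaf 0x3308c764057adca40)))))) (.node 16 (.node 8 (.node 4 (.node 2 (.node 1 (.leaf 0x1ca8c767ae0de590f) (.leaf 0x165cd5884131ba107)) (.node 1 (.leaf 0x1c32a2660e31f1130) (.leaf 0x2d6c4d888da8e807d))) (.node 2 (.node 1 (.leaf 0x2ea9966b712417879) (.leaf 0x31896627e65c17a58)) (.node 1 (.leaf 0x1b2be123013c6025b) (.leaf 0x13dd47c81a8d87073)))) (.node 4 (.node 2 (.node 1 (.leaf 0x2a13e16cae32dc870) (.leaf 0x4c93d31f3b728063)) (.node 1 (.leaf 0x2edef1609a95ef351) (.leaf 0x3380c798a3c0b6988))) (.node 2 (.node 1 (.leaf 0x2ca1d5c2a2c15496a) (.leaf 0x2f8a9c92065e9d8b8)) (.node 1 (.leaf 0x2fc0cd00b4081784f) (.leaf 0x2c03e138112556879))))) (.node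 8 (.node 4 (.node 2 (.node 1 (.leaf 0x1395269f413d4682f) (.leaf 0x1604f6cb4fd56870)) (.node 1 (.leaf 0x1a4d0200a12351beb) (.leaf 0x1b90c7a273b52c39e))) (.node 2 (.node 1 (.leaf 0x325bd02c2e24cbbe3) (.leaf 0x2a2ef47a496d569ac)) (.node 1 (.leaf 0x250996c7eaddeeaf9) (.leaf 0xe5d1faa93943eafc)))) (.node 4 (.node 2 (.node 1 (.leaf 0x27ccd500a13f2b8b0) (.leaf 0x1668c798af2898188)) (.node 1 (.leaf 0x82b558f6652d2898) (.leaf 0x24d30d36613c8795e))) (.node 2 (.node 1 (.leaf 0x821388f1685ba04c) (.leaf 0x213d3bc5065ce8292)) (.node 1 (.leaf 0xc8e77a582c10c29d) (.leaf 0x693c69fb1403e92d))))))) (.node 32 (.node 16 (.node 8 (.node 4 (.node 2 (.node 1 (.leaf 0x1635500a13f6ec3c) (.leaf 0x163552f613ed0c3c)) (.node 1 (.leaf 0xaaf3064c017aee) (.leaf 0x3622bab7644ddd092))) (.node 2 (.node 1 (.leaf 0x2019d907f6e556870) (.leaf 0x3616f488c98adc8e2)) (.node 1 (.leaf 0xf15531168183cbe3)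 (.leaf 0x2b5547c298d1870df)))) (.node 4 (.node 2 (.node 1 (.leaf 0x21050ac02bf71a201) (.leaf 0x35a0c73be578d195a)) (.node 1 (.leaf 0x3623aac0745c5a1bf) (.leaf 0x112dacc2317def1c2))) (.node 2 (.node 1 (.leaf 0xca93d00ba8c17cd5) (.leaf 0x2c988220968417879)) (.node 1 (.leaf 0x22c657526eb26a9ae) (.leaf 0x2504ca5230f1ac988))))) (.node 8 (.node 4 (.node 2 (.node 1 (.leaf 0x24b1d50d13495f0ac) (.leaf 0x160c7c88acad4a51)) (.node 1 (.leaf 0x7b082da01209b251) (.leaf 0x21dbc0144819f1b66))) (.node 2 (.node 1 (.leaf 0x15412a0802044c1c2) (.leaf 0x1b8c7da02084020a)) (.node 1 (.leaf 0x970c700a811f1a7e) (.leaf 0x164cf154f8d00364)))) (.node 4 (.node 2 (.node 1 (.leaf 0x1036a08a131b31bf) (.leaf 0x1daedec8674a8ba7a)) (.node 1 (.leaf 0x188bc08a6df93f242) (.leaf 0x20637f21ca0a2d3b9))) (.node 2 (.node 1 (.leaf 0x1392aa8a749d22ba2) (.leaf 0xd82b2728df9c228d)) (.node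 1 (.leaf 0x13425073813dd128e) (.leaf 0xf0df27e65c17b74)))))) (.node 16 (.node 8 (.node 4 (.node 2 (.node 1 (.leaf 0x3725600a2c017b70) (.leaf 0x12420623013c60194)) (.node 1 (.leaf 0x2c0daab3a940b687d) (.leaf 0x1604f20814862879))) (.node 2 (.node 1 (.leaf 0x237ef53f85075284f) (.leaf 0x1820c736a4dc6412d)) (.node 1 (.leaf 0x1edef53078bc17930) (.leaf 0x51ced54a13ed3130)))) (.node 4 (.node 2 (.node 1 (.leaf 0x318ef127f95c17997) (.leaf 0x24c6f46ba4dc600df)) (.node 1 (.leaf 0x1645f92e31e9d92a) (.leaf 0x36baaf148f286211a))) (.node 2 (.node 1 (.leaf 0x2f0bc62a67495891a) (.leaf 0x5d92a550205549c2)) (.node 1 (.leaf 0x287aa2540aba8b9bf) (.leaf 0x2e9bf696f3943f990))))) (.node 8 (.node 4 (.node 2 (.node 1 (.leaf 0x2b0d262fcac5228cd) (.leaf 0x14fab20cca08ec990)) (.node 1 (.leaf 0x1396dd00a13d58ba2) (.leaf 0x2fd8c79f676417bb9))) (.node 2 (.node 1 (.leaf 0x2c92af966e0def217)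 (.leaf 0x20eceb723a8d351bb)) (.node 1 (.leaf 0x2860df71e5076ea14) (.leaf 0x1d29c234cbe5eea17)))) (.node 4 (.node 2 (.node 1 (.leaf 0x31e1383896952534f) (.leaf 0x1140c76e53b62539e)) (.node 1 (.leaf 0x180294c26bf5b83c1) (.leaf 0x2822b20cceb0ec994))) (.node 2 (.node 1 (.leaf 0x918c717e2089e188) (.leaf 0x488210813c583e3)) (.node 1 (.leaf 0x236138bab125ee91e) (.leaf 0x1992b272813f52a8d)))))))))

def zKeyInv_5 : Tree := (.node 128 (.node 64 (.node 32 (.node 16 (.node 8 (.node 4 (.node 2 (.node 1 (.leaf 0x3633e1c7f37c17af9) (.leaf 0xbdb5500a13f2bc3c)) (.node 1 (.leaf 0x1e6a061453989b24e) (.leaf 0x19bb79aa90f1c42fc))) (.node 2 (.node 1 (.leaf 0x2edb837409fe2d0cd) (.leaf 0x23ca061446ed2715a)) (.node 1 (.leaf 0x30090b14ebf43ab70) (.leaf 0x2463f690e3c0b6994)))) (.node 4 (.node 2 (.node 1 (.leaf 0x11d4be00a13dd1048) (.leaf 0x2cb502b7c13f280c0)) (.node 1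 (.leaf 0x2968cd00a95b5204f) (.leaf 0x160c7bd317c5a3ba))) (.node 2 (.node 1 (.leaf 0x17238ab9fb4817a14) (.leaf 0x1a01cf60539532188)) (.node 1 (.leaf 0x25e9b16f613c1787d) (.leaf 0x19bcca523399acafc))))) (.node 8 (.node 4 (.node 2 (.node 1 (.leaf 0x18c52925230017a4a) (.leaf 0x2eb50addc9fda8b9e)) (.node 1 (.leaf 0x2fb547db0751351ac) (.leaf 0x1935261b613e8bcbe))) (.node 2 (.node 1 (.leaf 0x2115268a669122beb) (.leaf 0x1636435213f694cf)) (.node 1 (.leaf 0x1ab9c2378ee8e8292) (.leaf 0xefef1607b4817ba2)))) (.node 4 (.node 2 (.node 1 (.leaf 0x35c5539f5a9417bba) (.leaf 0x8f8c7daef29c4366)) (.node 1 (.leaf 0x1636469296d77251) (.leaf 0x3380c7c293b674a8e))) (.node 2 (.node 1 (.leaf 0x5507300a9597691a) (.leaf 0x161c25825792c12a)) (.node 1 (.leaf 0x2be5aab3b128b6beb) (.leaf 0x17d3ca5ea13f69502)))))) (.node 16 (.node 8 (.node 4 (.node 2 (.node 1 (.leaf 0x1635555020462c3c)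 (.leaf 0x237b0db2013f52af9)) (.node 1 (.leaf 0x25bdaa540ab95f2ed) (.leaf 0x1a9b8ad10eb14d200))) (.node 2 (.node 1 (.leaf 0x2a13d0b30f85dc8e7) (.leaf 0x35a0c76e53b48b16a)) (.node 1 (.leaf 0xdd0c78aa3c1201c8) (.leaf 0x3212aab1749e27a9d)))) (.node 4 (.node 2 (.node 1 (.leaf 0x1824eb1fa4ddc0502) (.leaf 0xb4ccf0dc2c94d3c1)) (.node 1 (.leaf 0x1d3791e84dd5f1c5) (.leaf 0x31e138db16853534f))) (.node 2 (.node 1 (.leaf 0x1f9526b5f48c17b70) (.leaf 0x2e1bde9f6eb29dccf)) (.node 1 (.leaf 0x18029ca00bf6d33c1) (.leaf 0x1894eb258aad87240))))) (.node 8 (.node 4 (.node 2 (.node 1 (.leaf 0x301baa54145d871bf) (.leaf 0x18db8314613f17ccf)) (.node 1 (.leaf 0x372af1429595c292) (.leaf 0x31bef5888aaed3278))) (.node 2 (.node 1 (.leaf 0x24c137b6096df5a78) (.leaf 0x246d536fa208624d5)) (.node 1 (.leaf 0x201cca4e5399aca4e) (.leaf 0x16230d4e6eb09b251)))) (.node 4 (.node 2 (.node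 1 (.leaf 0x2a7359d3b45cf0a58) (.leaf 0x1d92a550205c41c2)) (.node 1 (.leaf 0x24c0c74aed904c278) (.leaf 0x1b2edd536bf5ab2b9))) (.node 2 (.node 1 (.leaf 0x1a99d913eeb159251) (.leaf 0x201cca13c765ac92a)) (.node 1 (.leaf 0x1244cf95c13c17a8d) (.leaf 0x2a966b992f92c27a))))))) (.node 32 (.node 16 (.node 8 (.node 4 (.node 2 (.node 1 (.leaf 0x1820c773395e7492d) (.leaf 0x318e57b98835ee91e)) (.node 1 (.leaf 0x3633e138145c17879) (.leaf 0xbd8cd00b2fb2b84f))) (.node 2 (.node 1 (.leaf 0x6d44d86f6995c02f) (.leaf 0x3633e16ca675dd070)) (.node 1 (.leaf 0x2e736ad2d12627a40) (.leaf 0x2513c0d8b9409c242)))) (.node 4 (.node 2 (.node 1 (.leaf 0x1821d5973a9417d02) (.leaf 0x1bc138de7940d1ab9)) (.node 1 (.leaf 0x2f4b811fc2c90c256) (.leaf 0x2e98cd38c9fed0a8e))) (.node 2 (.node 1 (.leaf 0xde6f488cae5270e2) (.leaf 0x1190c717ef849e28d)) (.node 1 (.leaf 0x3130826fadf93f251) (.leaf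 0x161c2734d55ee92a))))) (.node 8 (.node 4 (.node 2 (.node 1 (.leaf 0x165abf0ef49db3190) (.leaf 0x237e341c339b691bb)) (.node 1 (.leaf 0x1604fbf133e2d0cd) (.leaf 0x2eb26140bb4817bba))) (.node 2 (.node 1 (.leaf 0x2721cf96d39ad49c5) (.leaf 0x19013d00ba9017ba2)) (.node 1 (.leaf 0x2fd8c73fe13e91bb9) (.leaf 0x180d2903618d2c3e3)))) (.node 4 (.node 2 (.node 1 (.leaf 0x2f4b6a4ec13dd11bb) (.leaf 0x33d12a4d8ee4179a3)) (.node 1 (.leaf 0x7f90b4218bc17a7e) (.leaf 0x30f6d272a13f1a364))) (.node 2 (.node 1 (.leaf 0x2ca04070d3c4d91e) (.leaf 0x440df0365048b27a)) (.node 1 (.leaf 0x1bc5ac0724dda8a42) (.leaf 0x163f641e81039be3)))))) (.node 16 (.node 8 (.node 4 (.node 2 (.node 1 (.leaf 0x16a1b10a818d003e3) (.leaf 0x3591756937c1787d)) (.node 1 (.leaf 0x4fe5731e13ed3063) (.leaf 0x970c700b0f017a7e))) (.node 2 (.node 1 (.leaf 0x165936a9a3262491e) (.leaf 0x11c0c79f613c17997))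 (.node 1 (.leaf 0x1635500af8c17c3c) (.leaf 0xf1c775b33ddd3e3)))) (.node 4 (.node 2 (.node 1 (.leaf 0x2c86a300a13e81204) (.leaf 0x179d3b6b665da8be3)) (.node 1 (.leaf 0x5b3ca71cd3c603e3) (.leaf 0x2c944d968addee8b0))) (.node 2 (.node 1 (.leaf 0xc1d210a13ccbbe3) (.leaf 0x1b6d0a06243cd1be3)) (.node 1 (.leaf 0x1605260296df5be3) (.leaf 0x188bc07226ec3ebe3))))) (.node 8 (.node 4 (.node 2 (.node 1 (.leaf 0x2d6c4dcd0df9c207d) (.leaf 0x1625f9f2be41784f)) (.node 1 (.leaf 0x486304104c017be3) (.leaf 0x11f4eb0ba30017be3))) (.node 2 (.node 1 (.leaf 0x325d2650a131b33e3) (.leaf 0x3413aa67a749ef10f)) (.node 1 (.leaf 0x112996baa834e825b) (.leaf 0x2c86a3db09adc034f)))) (.node 4 (.node 2 (.node 1 (.leaf 0x3434ed31f34b1c1bb) (.leaf 0x1edef5510aae9d1bf)) (.node 1 (.leaf 0xd4cbe00a13f51ba2) (.leaf 0x2e9ef1a2739674b9e))) (.node 2 (.node 1 (.leaf 0x11f25687418c6291e) (.leaf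 0x178bd02f8a097712d)) (.node 1 (.leaf 0x16f38349e13ccba8e) (.leaf 0x1ec8c7a265792c190)))))))) (.node 64 (.node 32 (.node 16 (.node 8 (.node 4 (.node 2 (.node 1 (.leaf 0x13d8c73bf17d4d1a3) (.leaf 0x3466deb3ed3e6fb66)) (.node 1 (.leaf 0xf05acde6ae5ab27a) (.leaf 0x324b8d350a3a7492d))) (.node 2 (.node 1 (.leaf 0x760c76954fd2529d) (.leaf 0x221d913c0bd59079)) (.node 1 (.leaf 0x11c0c700a13d5887d) (.leaf 0x2a93d21c7506291e)))) (.node 4 (.node 2 (.node 1 (.leaf 0x25143c4b345df127a) (.leaf 0x249a5073813edcba2)) (.node 1 (.leaf 0x32115e0ef49c9b366) (.leaf 0x2dc1660d537c17b66))) (.node 2 (.node 1 (.leaf 0x237e349f613f694cf) (.leaf 0x2c865700a13e6ab55)) (.node 1 (.leaf 0x3125091c83460295) (.leaf 0x18fede96549df120a))))) (.node 8 (.node 4 (.node 2 (.node 1 (.leaf 0x1625f51ebe5ba3e3) (.leaf 0x2866de4e065146be3)) (.node 1 (.leaf 0x3413d02a71422d0ed) (.leaf 0x147ef55ca505003e3)))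 (.node 2 (.node 1 (.leaf 0x10e29c47a65c17be3) (.leaf 0x24b12ab30e255f0ac)) (.node 1 (.leaf 0x1366e1726ee5203e3) (.leaf 0x10e3aa4db409253e3)))) (.node 4 (.node 2 (.node 1 (.leaf 0xb7ccf6b6ee417898) (.leaf 0x1b73a271c13ddd04c)) (.node 1 (.leaf 0x160c7352818983e3) (.leaf 0x1abccf95d8bc17a4a))) (.node 2 (.node 1 (.leaf 0x1b2edd2be13dd12b9) (.leaf 0x2e2a5047413ddd141)) (.node 1 (.leaf 0x2b538dd5f8d017a4a) (.leaf 0x2350c7bd213ddd1bb)))))) (.node 16 (.node 8 (.node 4 (.node 2 (.node 1 (.leaf 0x1f8bca1f6ac5320cd) (.leaf 0x160c7bd213e253ba)) (.node 1 (.leaf 0xbdcbe00a13f523a2) (.leaf 0xfb6a4cdb694401ae))) (.node 2 (.node 1 (.leaf 0x23b4eb25844d871bf) (.leaf 0x4863090e3c0b69c8)) (.node 1 (.leaf 0x2460f0b7d940178c0) (.leaf 0x1668c7ce020ad0988)))) (.node 4 (.node 2 (.node 1 (.leaf 0x28aaaa094131b33e3) (.leaf 0x1190c7914c343aa8d)) (.node 1 (.leaf 0x86250c0ea3417b51)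 (.leaf 0xb0d02536bf43abc1))) (.node 2 (.node 1 (.leaf 0x2edd3d4aee0def364) (.leaf 0x1645f2c213e813e3)) (.node 1 (.leaf 0x5b4eab2ca3417be3) (.leaf 0x674ed036505003e3))))) (.node 8 (.node 4 (.node 2 (.node 1 (.leaf 0xf1660aa65c3cbe3) (.leaf 0x1ad3d116819a8be3)) (.node 1 (.leaf 0x729b10a8d3d003e3) (.leaf 0x15b83064779773e3))) (.node 2 (.node 1 (.leaf 0x4419a11ca350a3e3) (.leaf 0x11d1cf0d218d273e3)) (.node 1 (.leaf 0x160c700b35576be3) (.leaf 0xb7996512d5439be3)))) (.node 4 (.node 2 (.node 1 (.leaf 0x476dd00a1f5f5be3) (.leaf 0x1ab81378ee8d1be3)) (.node 1 (.leaf 0x17238a19c6ed7cbe3) (.leaf 0x1096a400a1221e3e3))) (.node 2 (.node 1 (.leaf 0x1fc0c700b2f83ebe3) (.leaf 0xf1c70d4ac817997)) (.node 1 (.leaf 0x261ea331e13c87863) (.leaf 0x2730d9b613e6aa5b))))))) (.node 32 (.node 16 (.node 8 (.node 4 (.node 2 (.node 1 (.leaf 0x33ee3496abf4a190f) (.leaf 0x21a93800b95c39a04))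 (.node 1 (.leaf 0x21da5ac0745c3ca06) (.leaf 0xc0b83a98a089b201))) (.node 2 (.node 1 (.leaf 0x12404fc20c34e08e4) (.leaf 0x1653f3dc13e8ba06)) (.node 1 (.leaf 0x1edbf61ff8bd548e4) (.leaf 0x26eed22bf39b1a201)))) (.node 4 (.node 2 (.node 1 (.leaf 0x1edef5420aae9d240) (.leaf 0x296cd500a13f2ba04)) (.node 1 (.leaf 0x11099a2bb69817a00) (.leaf 0x305b8d148f2b178e7))) (.node 2 (.node 1 (.leaf 0x3220c700a95958aed) (.leaf 0x1ecd53a267652c15e)) (.node 1 (.leaf 0x1dae30064131ba3e3) (.leaf 0x304111304811250e7))))) (.node 8 (.node 4 (.node 2 (.node 1 (.leaf 0x338edd2062c90c107) (.leaf 0x1f2ced7e0eb09b15a)) (.node 1 (.leaf 0x1d8df15533d0a15b) (.leaf 0x31754799ce0c9e374))) (.node 2 (.node 1 (.leaf 0x31bd53b604dce825b) (.leaf 0x175d02bcc13ed0930)) (.node 1 (.leaf 0x1dccfa5a9ff52b64) (.leaf 0x36ba9ca00f2ad33c1)))) (.node 4 (.node 2 (.node 1 (.leaf 0xd83599bd37dc0366)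 (.leaf 0x16204b76ee840251)) (.node 1 (.leaf 0x16087300ae889c11a) (.leaf 0x6d43c00a0bf523eb))) (.node 2 (.node 1 (.leaf 0x1e6abf7e548c27b89) (.leaf 0x2a299c0625784c1ac)) (.node 1 (.leaf 0x2668c7daf17dc43c1) (.leaf 0x312500c818d27295)))))) (.node 16 (.node 8 (.node 4 (.node 2 (.node 1 (.leaf 0x16238a4e6eb31c1c8) (.leaf 0x2b419c3b96e554a6a)) (.node 1 (.leaf 0x2460f05d18bd3f141) (.leaf 0x1930c75cfb49771de))) (.node 2 (.node 1 (.leaf 0x2c8657459a950034f) (.leaf 0x1908c74444dda89c5)) (.node 1 (.leaf 0x2726e1478f85ac9c5) (.leaf 0x5b11a458d3c4d9c8)))) (.node 4 (.node 2 (.node 1 (.leaf 0x9415b0647789e1ac) (.leaf 0x218c74e58d0178c0)) (.node 1 (.leaf 0x16a11a85c18ed2ab8) (.leaf 0x24b99c3b81f417a6a))) (.node 2 (.node 1 (.leaf 0x28aef127f2f8cbbe3) (.leaf 0xa30f05d013c58141)) (.node 1 (.leaf 0x3110c75ce942279de) (.leaf 0x2b5ede3be57b691a3))))) (.node 8 (.node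 4 (.node 2 (.node 1 (.leaf 0x828cd8f6206d2994) (.leaf 0x17d0c79213b55f197)) (.node 1 (.leaf 0x277ceb54a9ad87130) (.leaf 0x22c19c19643c17b74))) (.node 2 (.node 1 (.leaf 0x2c21d913ea095925b) (.leaf 0x24a8829b613c3ea5b)) (.node 1 (.leaf 0x35c3de99da955f0ac) (.leaf 0x1d2d3f253695f1098)))) (.node 4 (.node 2 (.node 1 (.leaf 0x2a253f49b34a6f895) (.leaf 0x1f2a6114a9af52892)) (.node 1 (.leaf 0x11484f49af85f1095) (.leaf 0x30193800bb7439cbe))) (.node 2 (.node 1 (.leaf 0x11a8c76ba4dce8242) (.leaf 0x372af1d64c15c3e3)) (.node 1 (.leaf 0x2ea93b7528344d91e) (.leaf 0x10e29c97340817a14)))))))))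

def zKeyInv_6 : Tree := (.node 128 (.node 64 (.node 32 (.node 16 (.node 8 (.node 4 (.node 2 (.node 1 (.leaf 0x2c92af9682c1eea17) (.leaf 0x11c0c700ba901787d)) (.node 1 (.leaf 0x318e5775265e2d11e) (.leaf 0x24d196c7eee41784f))) (.node 2 (.node 1 (.leaf 0x1090735261209c0b8) (.leaf 0x1b73ca72813ddd02f)) (.node 1 (.leaf 0x7b3ca73813f52048) (.leaf 0x296a5600a13f2bd02)))) (.node 4 (.node 2 (.node 1 (.leaf 0x21f6d295c13d46be3) (.leaf 0x28636a41030017be3)) (.node 1 (.leaf 0x286a9c40f3c487be3) (.leaf 0x1eba5f9f2ab954bb9))) (.node 2 (.node 1 (.leaf 0x246a614ae20ad3364) (.leaf 0x970c76bb49860242)) (.node 1 (.leaf 0x1cae3496a13e9190f) (.leaf 0x16355baa96e24879))))) (.node 8 (.node 4 (.node 2 (.node 1 (.leaf 0x86bdeba443cb6bc1) (.leaf 0x34a8f0c4413e6ab64)) (.node 1 (.leaf 0x23a947a6bf43e9c8) (.leaf 0x21153d7306910c0c0))) (.node 2 (.node 1 (.leaf 0x2dc2b20d537df1095)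 (.leaf 0x1046a40cc13e1e04c)) (.node 1 (.leaf 0x3170c70d0e0f528ac) (.leaf 0x1608c70588183cbe3)))) (.node 4 (.node 2 (.node 1 (.leaf 0x1da9d210a131773e3) (.leaf 0x23cbaad7b1436915a)) (.node 1 (.leaf 0x23fe5749e13e2504c) (.leaf 0x2b4547cc8c369d92a))) (.node 2 (.node 1 (.leaf 0x2102bab7739ad4a51) (.leaf 0x24b93d00a1f417873)) (.node 1 (.leaf 0x163641e4f8d774cf) (.leaf 0x1643c00af8d76b55)))))) (.node 16 (.node 8 (.node 4 (.node 2 (.node 1 (.leaf 0x1abaaf0dd33c3ca92) (.leaf 0xaaaa4b2131b327a)) (.node 1 (.leaf 0x2c0a50b3b1293239e) (.leaf 0x2edef16069fe2d351))) (.node 2 (.node 1 (.leaf 0x2b6c4da0a6c69dd02) (.leaf 0x8f9cf605399323a2)) (.node 1 (.leaf 0x2b0917607a9417a7e) (.leaf 0x69d976613ccbbe3)))) (.node 4 (.node 2 (.node 1 (.leaf 0x1615e34213c9825b) (.leaf 0x13ad0200a13c3ea56)) (.node 1 (.leaf 0x25e90b3b96e41787d) (.leaf 0x30f6f1249a94178c0))) (.node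 2 (.node 1 (.leaf 0x1538c772db4817930) (.leaf 0x17d0c747013e6f997)) (.node 1 (.leaf 0x23a947a61213f1c8) (.leaf 0x2f8d0a6f748c17997))))) (.node 8 (.node 4 (.node 2 (.node 1 (.leaf 0x32153fb1749c9b190) (.leaf 0x31bd536fadf862251)) (.node 1 (.leaf 0x21152979d129c2292) (.leaf 0x1e6b79b5f48c17a4e))) (.node 2 (.node 1 (.leaf 0x20199c07f6e417a4e) (.leaf 0x296a5600aac417d02)) (.node 1 (.leaf 0x19bef4c2739956afc) (.leaf 0x22c657d38989549ae)))) (.node 4 (.node 2 (.node 1 (.leaf 0x27753d9eda8cd1a8e) (.leaf 0x3223c6968add58a56)) (.node 1 (.leaf 0x28c735213c87be3) (.leaf 0x13dea332abe69d1ae))) (.node 2 (.node 1 (.leaf 0x1a01cf475395dd2fc) (.leaf 0x2a735913c76665258)) (.node 1 (.leaf 0x2958c74aee0ed3278) (.leaf 0x13419a11c1f417be3))))))) (.node 32 (.node 16 (.node 8 (.node 4 (.node 2 (.node 1 (.leaf 0x742a207e7641790f) (.leaf 0x1da9d210ad3ccbbe3)) (.node 1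 (.leaf 0x11553f9f36e417bb9) (.leaf 0x1b6d0200a0bf51aed))) (.node 2 (.node 1 (.leaf 0xf019aa00f29ab11a) (.leaf 0x190bc696c5053f0e7)) (.node 1 (.leaf 0x10e1170d71405a370) (.leaf 0x7b3ca1b613ceccd5)))) (.node 4 (.node 2 (.node 1 (.leaf 0x168937bcd6941790f) (.leaf 0x7911a00b40817873)) (.node 1 (.leaf 0x21f3a200a13f6e87d) (.leaf 0x160c725d4fc8b3ba))) (.node 2 (.node 1 (.leaf 0x208abad5e44ed4af9) (.leaf 0x1b90c7d61a8c6296a)) (.node 1 (.leaf 0x2063f66c78bc17bb9) (.leaf 0x674ed31e13c879bb))))) (.node 8 (.node 4 (.node 2 (.node 1 (.leaf 0x261ea3de6691ab2b9) (.leaf 0x23cbaad36aad20278)) (.node 1 (.leaf 0x2b69c7607b4817d02) (.leaf 0x250b8dc88ade2d4cf))) (.node 2 (.node 1 (.leaf 0x11092a4e0a34b6bc1) (.leaf 0x11e0c7d7af85f1214)) (.node 1 (.leaf 0x121ed240aee956b9e) (.leaf 0x1edef551e9897c9bf)))) (.node 4 (.node 2 (.node 1 (.leaf 0x2b0d268a6df922a7e) (.leaf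 0x8fef54218d017ba2)) (.node 1 (.leaf 0x363996d2d6e417bba) (.leaf 0x1390c7d3f499c224e))) (.node 2 (.node 1 (.leaf 0x160c7c8933df5251) (.leaf 0x1f8daa54145d5f370)) (.node 1 (.leaf 0x1612a7f0819ba1c2) (.leaf 0x160cdb76144403ba)))))) (.node 16 (.node 8 (.node 4 (.node 2 (.node 1 (.leaf 0x2350c7c1ce0f1c1bb) (.leaf 0x1604f00a811b80cd)) (.node 1 (.leaf 0x2c253b7df1290c2b8) (.leaf 0x2faedec868368bcbe))) (.node 2 (.node 1 (.leaf 0x6d44d889698e83eb) (.leaf 0x22645fc2013f17bb9)) (.node 1 (.leaf 0x163557341444043c) (.leaf 0x1635500a31c9c43c)))) (.node 4 (.node 2 (.node 1 (.leaf 0x1930c7864da9f520a) (.leaf 0x3132aa4b2675f120a)) (.node 1 (.leaf 0x1f2ceb1faaae8115a) (.leaf 0x16219a92ec369d9c8))) (.node 2 (.node 1 (.leaf 0x1636415431e9dccf) (.leaf 0x163f696e1483fcd5)) (.node 1 (.leaf 0x1a245fb629ae25194) (.leaf 0x3380c717ef2946988))))) (.node 8 (.node 4 (.node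 2 (.node 1 (.leaf 0x2edd3d38c9fd0c351) (.leaf 0x33eced0d013f52b64)) (.node 1 (.leaf 0x114a0668613c17bb9) (.leaf 0x480f090e651f5b9e))) (.node 2 (.node 1 (.leaf 0x2721cf96cf87521c5) (.leaf 0xfb6a4b7c13ed0b4f)) (.node 1 (.leaf 0x1cd20400a3249b4d5) (.leaf 0x20e9117226ed35217)))) (.node 4 (.node 2 (.node 1 (.leaf 0x2fb547c80d54399c5) (.leaf 0x2504cac5b48ca1b74)) (.node 1 (.leaf 0x4c9cf32618d271ac) (.leaf 0x1218c76e533c3cb9e))) (.node 2 (.node 1 (.leaf 0x2d89d2c86690e0beb) (.leaf 0x24ab6abda836279de)) (.node 1 (.leaf 0x16364b2c13c17bba) (.leaf 0x13acbe00a13c17ba2)))))))) (.node 64 (.node 32 (.node 16 (.node 8 (.node 4 (.node 2 (.node 1 (.leaf 0x17d0c792f95f1c1c8) (.leaf 0x72cbe91c13ed28c0)) (.node 1 (.leaf 0x2f8a9c3f2bf69d0b8) (.leaf 0x1a219c90f394b6988))) (.node 2 (.node 1 (.leaf 0x3622ba2a945c17879) (.leaf 0xb0d0200a13f5187d)) (.node 1 (.leaf 0x4f0c700ba91f582f)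 (.leaf 0x2c9d1fce16849c188)))) (.node 4 (.node 2 (.node 1 (.leaf 0x11450addc674a1b9e) (.leaf 0x36ba5a9bcf2862366)) (.node 1 (.leaf 0x1132944da121b83e3) (.leaf 0x10919c0626504c3e3))) (.node 2 (.node 1 (.leaf 0x300bd069b40817a4a) (.leaf 0x25ed265ea13e6fb55)) (.node 1 (.leaf 0x2eb50a062674d1b9e) (.leaf 0x2ecca2ce3015c3e3))))) (.node 8 (.node 4 (.node 2 (.node 1 (.leaf 0x19a15e0ba30017b51) (.leaf 0x1a4a9451212176be3)) (.node 1 (.leaf 0xf15532d081039be3) (.leaf 0x1900c700ae8817aed))) (.node 2 (.node 1 (.leaf 0x1653fa1abe5b33e3) (.leaf 0x942a29e8d9146be3)) (.node 1 (.leaf 0x34ab833fe13ddc95e) (.leaf 0x16aa5a60218e6abe3)))) (.node 4 (.node 2 (.node 1 (.leaf 0x86bde6da43d203e3) (.leaf 0x3bd1f9eca383ebe3)) (.node 1 (.leaf 0x24bbd069b95c17873) (.leaf 0x15b835ee13ccbbe3))) (.node 2 (.node 1 (.leaf 0x729b10a813c87be3) (.leaf 0x28adaa8852f9ba3e3)) (.node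 1 (.leaf 0x1366e14da2c1253e3) (.leaf 0x162b241096d5c3e3)))))) (.node 16 (.node 8 (.node 4 (.node 2 (.node 1 (.leaf 0xfb4d510a13ccbb4f) (.leaf 0x1645f2c33c4cbbe3)) (.node 1 (.leaf 0x18c5295e830017be3) (.leaf 0x10e91175aee9203e3))) (.node 2 (.node 1 (.leaf 0x10919c1961f417be3) (.leaf 0x24d2617646510012a)) (.node 1 (.leaf 0x30c0c73f6daad4941) (.leaf 0x287a56884130401ae)))) (.node 4 (.node 2 (.node 1 (.leaf 0x1140c77a46c5771ac) (.leaf 0x160c7a56819ba251)) (.node 1 (.leaf 0x15407300a811b811a) (.leaf 0x2b3ef13f674b1a141))) (.node 2 (.node 1 (.leaf 0x1908c7478f850a1c5) (.leaf 0x8213800a0bdf184f)) (.node 1 (.leaf 0x25043c32748d569ac) (.leaf 0x23b0c71f6f2987163))))) (.node 8 (.node 4 (.node 2 (.node 1 (.leaf 0x160c7582578d1be3) (.leaf 0xb7996726ee52c3e3)) (.node 1 (.leaf 0x19a2bf1b548c17898) (.leaf 0xdebc01446ed76be3))) (.node 2 (.node 1 (.leaf 0x28aef1692779773e3)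 (.leaf 0x2faee12b32f8f08e2)) (.node 1 (.leaf 0x160c77f10f1273e3) (.leaf 0x1b763447a65d773e3)))) (.node 4 (.node 2 (.node 1 (.leaf 0x338edd1c213dd134f) (.leaf 0x16f0c7da1a8c40217)) (.node 1 (.leaf 0x2eba200a0bf6ea7e) (.leaf 0x970c7d8a14b28242))) (.node 2 (.node 1 (.leaf 0x3753d38c2c90c295) (.leaf 0x3132aa17e2094692a)) (.node 1 (.leaf 0x3c137bcd68417930) (.leaf 0x1f2ceb6e53b69dccf))))))) (.node 32 (.node 16 (.node 8 (.node 4 (.node 2 (.node 1 (.leaf 0x2019cf32739956a4e) (.leaf 0x4819c06243c4c3e3)) (.node 1 (.leaf 0x86ceb0ba579203e3) (.leaf 0x69917070e89203e3))) (.node 2 (.node 1 (.leaf 0x324b8d108a39dcbe3) (.leaf 0x188bc041e1213f3e3)) (.node 1 (.leaf 0x1366a300a0be813e3) (.leaf 0xd48c700b2f8583e3)))) (.node 4 (.node 2 (.node 1 (.leaf 0x864ea4e0a35353e3) (.leaf 0x40c74ea13ccbbe3)) (.node 1 (.leaf 0x216ef551e5057cbe3) (.leaf 0x11f52960218e1e3e3)))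 (.node 2 (.node 1 (.leaf 0x18093800b35439be3) (.leaf 0x2266d26f7140f0997)) (.node 1 (.leaf 0x16873cda0be24aee) (.leaf 0x86359c0e94227960))))) (.node 8 (.node 4 (.node 2 (.node 1 (.leaf 0x22391140b12817aee) (.leaf 0x3192aa2fedfa6f960)) (.node 1 (.leaf 0x1538c7478f85eea14) (.leaf 0x2518c75eb499c034f))) (.node 2 (.node 1 (.leaf 0x1900c700ba9017aed) (.leaf 0x826a300a13df1c3c)) (.node 1 (.leaf 0x1544d500aac5b8204) (.leaf 0x287daa884131ba3e3)))) (.node 4 (.node 2 (.node 1 (.leaf 0x10e9660aa96c3cbe3) (.leaf 0x136073a9a0bed2a00)) (.node 1 (.leaf 0x179dac6c73b48b258) (.leaf 0x32143c77f49f5229d))) (.node 2 (.node 1 (.leaf 0x2723e16ca75156a5b) (.leaf 0x270f0b7d12417997)) (.node 1 (.leaf 0x325bd079d49a25292) (.leaf 0x2c938374148e2d295)))))) (.node 16 (.node 8 (.node 4 (.node 2 (.node 1 (.leaf 0x26a1966fa1461e251) (.leaf 0x29684f00b4089b0cd)) (.node 1 (.leaf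 0x4f53b7de0bed32b8) (.leaf 0x21daba80145c27cf1))) (.node 2 (.node 1 (.leaf 0x1801d5138d904c3c1) (.leaf 0x25c6776954fe6529d)) (.node 1 (.leaf 0x2513f67dd9404c389) (.leaf 0x24a9373f9a953f1de)))) (.node 4 (.node 2 (.node 1 (.leaf 0x480f03424c1f5be3) (.leaf 0x2b5ede568d566f9a3)) (.node 1 (.leaf 0xf70c73f78d100141) (.leaf 0x2a7a5a64594062258))) (.node 2 (.node 1 (.leaf 0x760c76403c12029d) (.leaf 0x23cbaa0aa75135278)) (.node 1 (.leaf 0x4f0c769195d4d258) (.leaf 0x2511a7fc13224bea))))) (.node 8 (.node 4 (.node 2 (.node 1 (.leaf 0x24b3f67dd3495f389) (.leaf 0x2cb6dd00a13dd13e3)) (.node 1 (.leaf 0x3111373f813c581de) (.leaf 0xa30f034213c583e3))) (.node 2 (.node 1 (.leaf 0x147ef51972f887be3) (.leaf 0x308ea300a31e8111a)) (.node 1 (.leaf 0x160cdbaa14624a5b) (.leaf 0x2504ca1eaac9acb74)))) (.node 4 (.node 2 (.node 1 (.leaf 0x2c96e1c5a2c017b74) (.leaf 0x2be2617a46c55925b))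 (.node 1 (.leaf 0x2f8d0a6f6bf4a1997) (.leaf 0x20653b6c78bde58e7))) (.node 2 (.node 1 (.leaf 0x114b0d686ee417be3) (.leaf 0x3bd1f2d01213f3e3)) (.node 1 (.leaf 0x159d52ce301f53e3) (.leaf 0xc0b83731698178c0)))))))))

def zKeyInv_7 : Tree := (.node 128 (.node 64 (.node 32 (.node 16 (.node 8 (.node 4 (.node 2 (.node 1 (.leaf 0x1f95264ec13f52048) (.leaf 0x1b73591d64c1f53e3)) (.node 1 (.leaf 0x11f4eb72295839be3) (.leaf 0x1b7634b2c13ddd3e3))) (.node 2 (.node 1 (.leaf 0x862505e84c017be3) (.leaf 0x3b93600ae8827be3)) (.node 1 (.leaf 0x324d1f2d13c4583e3) (.leaf 0x2365aa768749ef502)))) (.node 4 (.node 2 (.node 1 (.leaf 0x1637f6e414a254cf) (.leaf 0x1cd43c00a32752355)) (.node 1 (.leaf 0x175ed26f613e8b997) (.leaf 0x3c137d2413e6accf))) (.node 2 (.node 1 (.leaf 0x2de6a413e13e1e063) (.leaf 0x1908c71473b7178e7)) (.node 1 (.leaf 0x1930c71b613e2504c) (.leaf 0x160c713d35417879)))))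 (.node 8 (.node 4 (.node 2 (.node 1 (.leaf 0x10436a08a65db33e3) (.leaf 0x21ae57142e315c107)) (.node 1 (.leaf 0x287b8d094131773e3) (.leaf 0x1608c70805784c3e3))) (.node 2 (.node 1 (.leaf 0xf76a300a13e814be) (.leaf 0xf00c788af29ab2b9)) (.node 1 (.leaf 0x2b419c92ec369da6a) (.leaf 0x36abca88a13edcb55)))) (.node 4 (.node 2 (.node 1 (.leaf 0x112daca58d5439a9d) (.leaf 0x1a5b0d9b6692d325b)) (.node 1 (.leaf 0x47073c8c0bf2824e) (.leaf 0x21da5a9bd45c17b66))) (.node 2 (.node 1 (.leaf 0x164cfa5a13ed3364) (.leaf 0x2958c700b95c17a7e)) (.node 1 (.leaf 0xef8c700ae8817beb) (.leaf 0x118166b60df8e8242)))))) (.node 16 (.node 8 (.node 4 (.node 2 (.node 1 (.leaf 0x1f8daaaa8ac5c4370) (.leaf 0xd0ede47a30017be3)) (.node 1 (.leaf 0x11a8c725d499dd242) (.leaf 0x863591164c1203e3))) (.node 2 (.node 1 (.leaf 0x23fe57c2d94040163) (.leaf 0x21f6d269843d003e3)) (.node 1 (.leaf 0xf70c700ba8c178b0)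 (.leaf 0x3133c0da020b6ea0a)))) (.node 4 (.node 2 (.node 1 (.leaf 0x1a9b8aca8aba9d364) (.leaf 0xf68c7c034fd56a4a)) (.node 1 (.leaf 0x446342baa35f1278) (.leaf 0x1ca3ca6053953227e))) (.node 2 (.node 1 (.leaf 0x2dc1c2a1abe5e5a7a) (.leaf 0xd825fc0f37c17a8d)) (.node 1 (.leaf 0x16f0c7ce013ed0a8e) (.leaf 0x1ec8c7ca8d915c190))))) (.node 8 (.node 4 (.node 2 (.node 1 (.leaf 0xf10cdd4e20462a8d) (.leaf 0x2e2a5091c98ad4941)) (.node 1 (.leaf 0x976dd00a31dd111a) (.leaf 0x24b53f7e4bf68bb89))) (.node 2 (.node 1 (.leaf 0x2d93de86f699873ea) (.leaf 0x4f0c7af3a9156ab8)) (.node 1 (.leaf 0x3018c7af29415c2fc) (.leaf 0x160cd32a144402f9)))) (.node 4 (.node 2 (.node 1 (.leaf 0x27c84f00ba909b2ed) (.leaf 0x23fe571f5349f5163)) (.node 1 (.leaf 0x2e1a9c7e13c54d16a) (.leaf 0x1cabde2fb69862200))) (.node 2 (.node 1 (.leaf 0x301d3db3a940a1cbe) (.leaf 0x2b4379c50c34b6a6a)) (.node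 1 (.leaf 0x1615e87c13c17af9) (.leaf 0xd4a5600a13c17d02))))))) (.node 32 (.node 16 (.node 8 (.node 4 (.node 2 (.node 1 (.leaf 0x1b2ea4bcc13f282b9) (.leaf 0x3212aab174ff5229d)) (.node 1 (.leaf 0x2eba2c2d94062a58) (.leaf 0x1bc137bcd12417a40))) (.node 2 (.node 1 (.leaf 0x4707300bb749c370) (.leaf 0x2548c796795ce0b74)) (.node 1 (.leaf 0x2be1b1a289ad4d3eb) (.leaf 0x2de0c7af2940a1ab8)))) (.node 4 (.node 2 (.node 1 (.leaf 0x1637f69296d773e3) (.leaf 0x17bcbebda13e24930)) (.node 1 (.leaf 0x1894ebba59401790f) (.leaf 0x2330c72fd4990c107))) (.node 2 (.node 1 (.leaf 0x11e0c700bb74178b0) (.leaf 0x2d8b5500a13e1e048)) (.node 1 (.leaf 0x1093c671e121b83e3) (.leaf 0x2faceb888da8f0cbe))))) (.node 8 (.node 4 (.node 2 (.node 1 (.leaf 0x261cd50a813c87ab9) (.leaf 0x114b0d40ee2487be3)) (.node 1 (.leaf 0x674ed76613c87be3) (.leaf 0xa33c642412176be3))) (.node 2 (.node 1 (.leaf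 0x11099a2baa3417a00) (.leaf 0x1135aa8850f04c3e3)) (.node 1 (.leaf 0x1243e1b30ee5273e3) (.leaf 0xde13b00ad55d13e3)))) (.node 4 (.node 2 (.node 1 (.leaf 0x3c4ed3dc13d7ca06) (.leaf 0x107e5700a1226abe3)) (.node 1 (.leaf 0x17bb795e01326abe3) (.leaf 0xc8e7771e2c10a3e3))) (.node 2 (.node 1 (.leaf 0x10e29ca1ad3d7cbe3) (.leaf 0xb093723013c583e3)) (.node 1 (.leaf 0x82a615ca651003e3) (.leaf 0x10e96627e1f417be3)))))) (.node 16 (.node 8 (.node 4 (.node 2 (.node 1 (.leaf 0x18c4ca1b8ee90a3e3) (.leaf 0xde6f423096c603e3)) (.node 1 (.leaf 0x2fc04f00a959768cd) (.leaf 0x2ddedd00a325d10cd))) (.node 2 (.node 1 (.leaf 0x305b8d148adf178e7) (.leaf 0x160c71e4811253e3)) (.node 1 (.leaf 0x160c77f0819353e3) (.leaf 0x2a78c711a13ed3063)))) (.node 4 (.node 2 (.node 1 (.leaf 0x6738a0d218d003e3) (.leaf 0x324d1f0eea3976be3)) (.node 1 (.leaf 0x325bd0698ae5773e3) (.leaf 0x160c700b0f13f3e3)))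 (.node 2 (.node 1 (.leaf 0x17c1cf25c149dd1c2) (.leaf 0x3212aa4b349df1366)) (.node 1 (.leaf 0x3713b00a2c039be3) (.leaf 0x286d470b6d3e813e3))))) (.node 8 (.node 4 (.node 2 (.node 1 (.leaf 0x1b6bde34c0bddcbe3) (.leaf 0x1a4ef1726779dcbe3)) (.node 1 (.leaf 0x5aef46984c017be3) (.leaf 0x160c75825792c3e3))) (.node 2 (.node 1 (.leaf 0x1046305e01321e3e3) (.leaf 0x1135aa8853544c3e3)) (.node 1 (.leaf 0x17c51fd8b68427a06) (.leaf 0x1615e46213e8ba06)))) (.node 4 (.node 2 (.node 1 (.leaf 0x2b50c76954fd54a4a) (.leaf 0x2e9ef135139674a8e)) (.node 1 (.leaf 0x1635500a13c17c3c) (.leaf 0x1620400af8c17cd5))) (.node 2 (.node 1 (.leaf 0xf29ca1b3c57cbe3) (.leaf 0x2f4edd00a13dd1256)) (.node 1 (.leaf 0x18c52960296c3cbe3) (.leaf 0x11f44d87418d2c3e3)))))))) (.node 64 (.node 32 (.node 16 (.node 8 (.node 4 (.node 2 (.node 1 (.leaf 0x1e6c3c52339b521c5) (.leaf 0x2cb6dd00a2c176be3))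 (.node 1 (.leaf 0x22c3de52795e9d9c8) (.leaf 0x28aef1b3b3962539e))) (.node 2 (.node 1 (.leaf 0x2ca4ed54145e9d1bf) (.leaf 0x1612a5513543f9c2)) (.node 1 (.leaf 0x16bde86e0be253ea) (.leaf 0x17c55386b6843ccf1)))) (.node 4 (.node 2 (.node 1 (.leaf 0x2de52985d694622b8) (.leaf 0xd48c700b40817be3)) (.node 1 (.leaf 0x3616f43b8d56dca6a) (.leaf 0x2a96627e65d2c3e3))) (.node 2 (.node 1 (.leaf 0x1d137230301f5be3) (.leaf 0xbd84f00ae889b0cd)) (.node 1 (.leaf 0x17bb798f16843fb74) (.leaf 0x22a55386ae31e5cf1))))) (.node 8 (.node 4 (.node 2 (.node 1 (.leaf 0x2c252985ce31e5ab8) (.leaf 0x160c700a811b83e3)) (.node 1 (.leaf 0x161aba1b90f017be3) (.leaf 0x1645f87cbe417be3))) (.node 2 (.node 1 (.leaf 0x3c4ed54b12817930) (.leaf 0x3753d9ec95839be3)) (.node 1 (.leaf 0x5b1cf474a3427be3) (.leaf 0x2468c71eb35417898)))) (.node 4 (.node 2 (.node 1 (.leaf 0x24b1d51e8e255f0b8) (.leaf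 0x162bf0dd33c983e3)) (.node 1 (.leaf 0x1342500c843d273e3) (.leaf 0x2c9d1f6049adf5988))) (.node 2 (.node 1 (.leaf 0x168c5fc2013ddcb89) (.leaf 0xa12a2b1749e279de)) (.node 1 (.leaf 0x2dc16673317def1a3) (.leaf 0x1643c00a13f52355)))))) (.node 16 (.node 8 (.node 4 (.node 2 (.node 1 (.leaf 0x15e4eac0ea3417ab8) (.leaf 0x31e0f0b7d69417b51)) (.node 1 (.leaf 0x167a5aba517ce81a3) (.leaf 0x2b5634d5ebe54d1bf))) (.node 2 (.node 1 (.leaf 0x2f48c7d8a13f281bb) (.leaf 0x26e294a9b12417a14)) (.node 1 (.leaf 0x15407300ad55f591a) (.leaf 0x160cbe00a31c9c3a2)))) (.node 4 (.node 2 (.node 1 (.leaf 0x2a13e180114291cf1) (.leaf 0x22b0c7865a91f13ea)) (.node 1 (.leaf 0x124355c2013f28389) (.leaf 0x2513c08a6691f5a42))) (.node 2 (.node 1 (.leaf 0x178bd0a98e24e0a17) (.leaf 0x164d500a31f2ba04)) (.node 1 (.leaf 0x250aaf2e73c5e58ed) (.leaf 0x162062f62069195e))))) (.node 8 (.node 4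 (.node 2 (.node 1 (.leaf 0x25137fa98690e0b89) (.leaf 0x24a937c4413f6e9de)) (.node 1 (.leaf 0x160c77f0819ba3e3) (.leaf 0x1b90c700ba8c17beb))) (.node 2 (.node 1 (.leaf 0x1b73a2c8d68440374) (.leaf 0x24d0c7d2420ad2994)) (.node 1 (.leaf 0x2fc50200a32751a56) (.leaf 0x3220c7864da8f0bea)))) (.node 4 (.node 2 (.node 1 (.leaf 0x2753dc5168417997) (.leaf 0x2b2b8a1fcabb528ac)) (.node 1 (.leaf 0x1cd11a00b35417873) (.leaf 0x22391140aee817aee))) (.node 2 (.node 1 (.leaf 0x3466341c2eb36915a) (.leaf 0x18093800b0f039be3)) (.node 1 (.leaf 0x16c4d8750f03cbe3) (.leaf 0x13a8c700b4093f3e3))))))) (.node 32 (.node 16 (.node 8 (.node 4 (.node 2 (.node 1 (.leaf 0x1096a400a1f5b83e3) (.leaf 0x179ced19ca397cbe3)) (.node 1 (.leaf 0x550c700a95976be3) (.leaf 0x1daede342650983e3))) (.node 2 (.node 1 (.leaf 0x8635911ca35253e3) (.leaf 0x2c3a5f0d737dc4095)) (.node 1 (.leaf 0x161aba138d90603e3)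 (.leaf 0x160c71548110a3e3)))) (.node 4 (.node 2 (.node 1 (.leaf 0x160c74ea819a8be3) (.leaf 0xf1553116a3417be3)) (.node 1 (.leaf 0x286a9c47ad3d003e3) (.leaf 0x175d3b4d80bd7cbe3))) (.node 2 (.node 1 (.leaf 0x16c4d8753543cbe3) (.leaf 0x1653fa1b3c5b33e3)) (.node 1 (.leaf 0x3213f696e2066a990) (.leaf 0x237ef54e6dfb1c1bb))))) (.node 8 (.node 4 (.node 2 (.node 1 (.leaf 0x160c74e413c17bba) (.leaf 0x3008c700b40817b70)) (.node 1 (.leaf 0x163f675aee9f53e3) (.leaf 0xdebd0b30e25dcbe3))) (.node 2 (.node 1 (.leaf 0x24653f49a13d46994) (.leaf 0x486305e06504c3e3)) (.node 1 (.leaf 0x28693d00a812813e3) (.leaf 0x1046307fd1243fbea)))) (.node 4 (.node 2 (.node 1 (.leaf 0x1618cd7dc20728389) (.leaf 0x13a8c700ae8817be3)) (.node 1 (.leaf 0x72ced19c13e6abe3) (.leaf 0x2a2a617e09ad4d4f1))) (.node 2 (.node 1 (.leaf 0x2826307fd3495f3ea) (.leaf 0x162bf11d0f017be3)) (.node 1 (.leaf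 0x252aa684ee827be3) (.leaf 0x2fa8c77692f8f091e)))))) (.node 16 (.node 8 (.node 4 (.node 2 (.node 1 (.leaf 0x2730db2013d7ccf1) (.leaf 0x18d9c796d39ad4941)) (.node 1 (.leaf 0x27751fc8da8c17a6a) (.leaf 0x36be5700a31e6a91a))) (.node 2 (.node 1 (.leaf 0x118ba200a13f6ecbe) (.leaf 0x26a381d2cee817bea)) (.node 1 (.leaf 0x19c8c7d8a13f28389) (.leaf 0x2460f0d2413f6e941)))) (.node 4 (.node 2 (.node 1 (.leaf 0x1726d2b9eee4e0a95) (.leaf 0x358a94da020a1e12a)) (.node 1 (.leaf 0x1b4bc6cdb69417a4a) (.leaf 0x2eaea400a3261e0cd))) (.node 2 (.node 1 (.leaf 0x16355b2013ed0cf1) (.leaf 0x13aba200a13f6ecbe)) (.node 1 (.leaf 0x15e4eac0f69417ab8) (.leaf 0x1140c7a0b2f8a19ae))))) (.node 8 (.node 4 (.node 2 (.node 1 (.leaf 0x26bbc6cdb69417ab8) (.leaf 0x160c7c4414a24a5b)) (.node 1 (.leaf 0x1fc0c700ad543ebe3) (.leaf 0x17be5700a0be6abe3))) (.node 2 (.node 1 (.leaf 0x550c700a958583e3)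 (.leaf 0xdeb831086eddcbe3)) (.node 1 (.leaf 0x21f6a300a13e813e3) (.leaf 0xa31d210a13ddcbe3)))) (.node 4 (.node 2 (.node 1 (.leaf 0x160c7352579203e3) (.leaf 0x1645f37896d773e3)) (.node 1 (.leaf 0x163f60baee817be3) (.leaf 0x1608c700ae8817be3))) (.node 2 (.node 1 (.leaf 0x1243e1b30e25273e3) (.leaf 0x17c5536fa1466aa51)) (.node 1 (.leaf 0x161c27350f06212a) (.leaf 0x1190c772c13c17a8d)))))))))

def zKeyInv_8 : Tree := (.node 16 (.node 8 (.node 4 (.node 2 (.node 1 (.leaf 0x33d5ac6c6ee417a58) (.leaf 0xf15539e8a355c3e3)) (.node 1 (.leaf 0x3c3e16ca13ddd25b) (.leaf 0x160cd86a146d0cf1))) (.node 2 (.node 1 (.leaf 0x17bb8310813e6abe3) (.leaf 0x26a294a9b12417bea)) (.node 1 (.leaf 0x2f8b79a286c5549ac) (.leaf 0x1604f00b0f09b0cd)))) (.node 4 (.node 2 (.node 1 (.leaf 0x20ebc0c2da8c179a3) (.leaf 0x160c7ce013ed0cf1)) (.node 1 (.leaf 0x223bc6d6014a1e1c2) (.leaf 0x1ec8c7d6135462990)))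 (.node 2 (.node 1 (.leaf 0x15407300b3549c11a) (.leaf 0x26a381d2d12417bea)) (.node 1 (.leaf 0xef8c700ba8c17beb) (.leaf 0x34125ac86749eea7a))))) (.node 8 (.node 4 (.node 2 (.node 1 (.leaf 0x2513600b0f027be3) (.leaf 0x1759b10a813d7cbe3)) (.node 1 (.leaf 0x676a300a13e813e3) (.leaf 0x114b0d4e0651003e3))) (.node 2 (.node 1 (.leaf 0x13a8c700b2f93f3e3) (.leaf 0x1612a5510f03f9c2)) (.node 1 (.leaf 0x2ca4ed540aba9d1bf) (.leaf 0xbdcbe00a13c17ba2)))) (.node 4 (.node 2 (.node 1 (.leaf 0x17c54799cbe417b74) (.leaf 0x2bf4ca523399ac9c5)) (.node 1 (.leaf 0x160c7da135440251) (.leaf 0xd48c700a95976be3))) (.node 2 (.node 1 (.leaf 0x17be5700a13e6abe3) (.leaf 0x2c9383740ade2d295)) (.node 1 (.leaf 0x1c335977f49e6529d) (.leaf 0x160c700b0f017be3))))))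

def zKeyInv : Tree := (.node 1024 (.node 512 (.node 256 zKeyInv_0 zKeyInv_1) (.node 256 zKeyInv_2 zKeyInv_3)) (.node 512 (.node 256 zKeyInv_4 zKeyInv_5) (.node 256 zKeyInv_6 (.node 256 zKeyInv_7 zKeyInv_8))))

def zStep_0 : Tree := (.node 128 (.node 64 (.node 32 (.node 16 (.node 8 (.node 4 (.node 2 (.node 1 (.leaf 0x1a00b004801c00a003) (.leaf 0x2e015009804401e001)) (.node 1 (.leaf 0x4201f00e806c002019) (.leaf 0x520270128004046011))) (.node 2 (.node 1 (.leaf 0x5e02d00080ac03a013) (.leaf 0x66001018809c03e015)) (.node 1 (.leaf 0x203301780a406a017) (.leaf 0x7a03b01c80dc006037)))) (.node 4 (.node 2 (.node 1 (.leaf 0x8a043020800c07e007) (.leaf 0x96049001811c072009)) (.node 1 (.leaf 0x9e003026810c07600b) (.leaf 0x604f02581140a200d))) (.node 2 (.node 1 (.leaf 0xb605902b81540a6005) (.leaf 0xc606102f80140ba055)) (.node 1 (.leaf 0xd20670028194012057) (.leaf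 0xda0050358184016059))))) (.node 8 (.node 4 (.node 2 (.node 1 (.leaf 0xa06d034818c0de05b) (.leaf 0xee075039817400e071)) (.node 1 (.leaf 0xfa07b00381e40e6041) (.leaf 0x10200703f802c0ea043))) (.node 2 (.node 1 (.leaf 0xe08103e8034106045) (.leaf 0x116089043802410a047)) (.node 1 (.leaf 0x11e00904682240ce049) (.leaf 0x1208f006822c12204b)))) (.node 4 (.node 2 (.node 1 (.leaf 0x12a08d005824c0d604d) (.leaf 0x1600d04a820412e04f)) (.node 1 (.leaf 0xde097048826c01a099) (.leaf 0x7403c04f803c13a00f))) (.node 2 (.node 1 (.leaf 0x14a0a3007828402609f) (.leaf 0x6c00f05380f002a03c)) (.node 1 (.leaf 0x1e03605280e815203a) (.leaf 0x1620af05682740220ab)))))) (.node 16 (.node 8 (.node 4 (.node 2 (.node 1 (.leaf 0x16e0b500882cc15a025) (.leaf 0x17601105c805415e027)) (.node 1 (.leaf 0x220bb05b805c17a029) (.leaf 0x18a0c3060804c17e02b))) (.node 2 (.node 1 (.leaf 0x192013063830c14602d)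 (.leaf 0x260c900b831419602f)) (.node 1 (.leaf 0x19e0c700a833414e031) (.leaf 0x2a01706782ec1a2033)))) (.node 4 (.node 2 (.node 1 (.leaf 0x1520d1065835402e0d3) (.leaf 0x1be0dd06d83640320d7)) (.node 1 (.leaf 0x1ce0e507180641c201b) (.leaf 0x1da0eb00c83a41b601d))) (.node 2 (.node 1 (.leaf 0x1e201907783941ba01f) (.leaf 0x320f1076839c1e6021)) (.node 1 (.leaf 0x1f60f907b808c0360f5) (.leaf 0x2020ff00d83f41ee0e3))))) (.node 8 (.node 4 (.node 2 (.node 1 (.leaf 0x1ee01b07d807c1f20e5) (.leaf 0x360f708080841fe0e7)) (.node 1 (.leaf 0x21210708280742060e9) (.leaf 0x21a01d085841c05a0eb))) (.node 2 (.node 1 (.leaf 0x3a10d010842421e0ed) (.leaf 0x22610b00f84440620ef)) (.node 1 (.leaf 0x3e02108983dc22a0f1) (.leaf 0x6a1150878464042117)))) (.node 4 (.node 2 (.node 1 (.leaf 0x24211f08e83d4236023) (.leaf 0x24e125011848c04a11d)) (.node 1 (.leaf 0x25602309483e404e11f) (.leaf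 0x4612b09383ec25a121))) (.node 2 (.node 1 (.leaf 0x26a133098809425e0b3) (.leaf 0x27202509b84cc24a0b5)) (.node 1 (.leaf 0x4a13901484d42760b7) (.leaf 0x27e13701384f42520b9))))))) (.node 32 (.node 16 (.node 8 (.node 4 (.node 2 (.node 1 (.leaf 0x4e02909f80cc2820bb) (.leaf 0x25a14109d8514052143)) (.node 1 (.leaf 0x29a14b0a4840c056147) (.leaf 0x2a6151015853c2920c1))) (.node 2 (.node 1 (.leaf 0x2ae02b0aa80b42960c3) (.leaf 0x561570a980bc2b20c5)) (.node 1 (.leaf 0x2ba031016856c2160c7) (.leaf 0x5a02f0ae855c2be0c9)))) (.node 4 (.node 2 (.node 1 (.leaf 0x21e15f01a858c05e161) (.leaf 0x2d215b0b380c42ca0cd)) (.node 1 (.leaf 0x6215d01985a42d60cf) (.leaf 0x22a0350b585bc06616d))) (.node 2 (.node 1 (.leaf 0x22e16d0b085cc2e2035) (.leaf 0x23216f0ba80d428a173)) (.node 1 (.leaf 0x1a00a80bc80fc06e177) (.leaf 0x14c17d01b85ec2f2039))))) (.node 8 (.node 4 (.node 2 (.node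 1 (.leaf 0x30a1830c080e42fe17b) (.leaf 0x3120390c3860c09217d)) (.node 1 (.leaf 0x7218901e86143160a6) (.leaf 0x13c18701d863409a0a4))) (.node 2 (.node 1 (.leaf 0xa209c0c582b807a18f) (.leaf 0x32e1950c985dc32203f)) (.node 1 (.leaf 0x33a19b01f8664082193) (.leaf 0x1a803f0cf82a0086195)))) (.node 4 (.node 2 (.node 1 (.leaf 0x7e0d40ce8340342197) (.leaf 0x34e1a50a78104346079)) (.node 1 (.leaf 0x3560410d4869433607b) (.leaf 0x821ab022869c35a07d))) (.node 2 (.node 1 (.leaf 0x3621a902186bc33e07f) (.leaf 0x860450d8813c366081)) (.node 1 (.leaf 0x3421b30d686d408a1b2) (.leaf 0x3761b90db85fc08e17f)))))) (.node 16 (.node 8 (.node 4 (.node 2 (.node 1 (.leaf 0x37e1bd02384c436e087) (.leaf 0x3860470e08124372089)) (.node 1 (.leaf 0x8e1c30df812c38a08b) (.leaf 0x39204d024871c30e08d))) (.node 2 (.node 1 (.leaf 0x9204b0e4870c39608f) (.leaf 0x3161cb028873c0961cd)) (.node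 1 (.leaf 0x3aa1c70e981343a2093) (.leaf 0x9a1c902787543ae095)))) (.node 4 (.node 2 (.node 1 (.leaf 0x1380510eb82c009e1d9) (.leaf 0x31e1d90e687743b6051)) (.node 1 (.leaf 0x15c0b00ef814436a1dd) (.leaf 0x3ce1e50f187842ee053))) (.node 2 (.node 1 (.leaf 0x3de1ed0f5814c3d21e1) (.leaf 0x3e61f1029836c0ae1e3)) (.node 1 (.leaf 0x3ee0530fa87b40b21e5) (.leaf 0xa61f70f987bc3f21e7))))) (.node 8 (.node 4 (.node 2 (.node 1 (.leaf 0x1c21fd0fd87a40aa0e1) (.leaf 0x40620102a87fc3f605f)) (.node 1 (.leaf 0x40e05510281643fa061) (.leaf 0xaa207101816c1ce063))) (.node 2 (.node 1 (.leaf 0x41a20b104815c1d2065) (.leaf 0x422057107882c3e2067)) (.node 1 (.leaf 0xae21102d8834426069) (.leaf 0x42e20f02c88543ea06b)))) (.node 4 (.node 2 (.node 1 (.leaf 0xb205b10b881c43206d) (.leaf 0x3f221910983cc0b6218)) (.node 1 (.leaf 0x40a21b10381c41ea05d) (.leaf 0xc206302e81b40be207))) (.node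 2 (.node 1 (.leaf 0x43e05d10e81d40c221b) (.leaf 0xba21f03081dc43a205)) (.node 1 (.leaf 0x44e225111817c4421ff) (.leaf 0x43a05f10f88940c6201)))))))) (.node 64 (.node 32 (.node 16 (.node 8 (.node 4 (.node 2 (.node 1 (.leaf 0xbe21d031889c43e203) (.leaf 0x45e22d11582140ca229)) (.node 1 (.leaf 0x46a23303288c4456209) (.leaf 0x47206511b819c45a20b))) (.node 2 (.node 1 (.leaf 0xca23911a81a447620d) (.leaf 0x47e06b03388f411a20f)) (.node 1 (.leaf 0xce06911f88e4482211) (.leaf 0x12224103789140d2243)))) (.node 4 (.node 2 (.node 1 (.leaf 0x49623d12481ac48e215) (.leaf 0xd623f036892c49a217)) (.node 1 (.leaf 0x12e06f12688840da24f) (.leaf 0x13224f121894449c06f))) (.node 2 (.node 1 (.leaf 0x13622112981bc44a251) (.leaf 0x4b625912b846c0e2255)) (.node 1 (.leaf 0x4c225f03889744ae073) (.leaf 0x4ca071131886c4b2075))))) (.node 8 (.node 4 (.node 2 (.node 1 (.leaf 0xe226513088144ce077)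 (.leaf 0x4de26d13581cc4d225d)) (.node 1 (.leaf 0x4e607313889b40f625f) (.leaf 0xe627303b89bc4ea261))) (.node 2 (.node 1 (.leaf 0x4f227103a89dc0fe263) (.leaf 0xea07713c887c4f6265)) (.node 1 (.leaf 0x10627b13a89fc0ee27d) (.leaf 0x4d228514189a40f2281)))) (.node 4 (.node 2 (.node 1 (.leaf 0x51228703c830450614f) (.leaf 0x51a07914581ec50a1a5)) (.node 1 (.leaf 0xf228d14481f44de1a7) (.leaf 0x52207f03d8a3c4e21a9))) (.node 2 (.node 1 (.leaf 0xf607d1488a345261ab) (.leaf 0x4ea29304189d40fa295)) (.node 1 (.leaf 0x53628f14c81fc52e1af) (.leaf 0xfe2910408a6c53a1b1)))))) (.node 16 (.node 8 (.node 4 (.node 2 (.node 1 (.leaf 0x4f608314e8a8410229f) (.leaf 0x4fa29f14a8a8c53c083)) (.node 1 (.leaf 0x4fe2a1152820c1362a3) (.leaf 0x55a2ab15488a454e085))) (.node 2 (.node 1 (.leaf 0x5662b10428abc10e2a9) (.leaf 0x56e08515a88b41122ab)) (.node 1 (.leaf 0x10a2b715988bc5722ad)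 (.leaf 0x57e2bd059821c576131)))) (.node 4 (.node 2 (.node 1 (.leaf 0x5860871608af45621bd) (.leaf 0x10e2c30458afc58a1bf)) (.node 1 (.leaf 0x5922c10448b1c56a1c1) (.leaf 0x11208b164823c5961c3))) (.node 2 (.node 1 (.leaf 0x5722cb1628b3c1162cd) (.leaf 0x5aa09316982345a21c7)) (.node 1 (.leaf 0x11a0950478b545ae1c9) (.leaf 0x48209116b8b6c11e2d9))))) (.node 8 (.node 4 (.node 2 (.node 1 (.leaf 0x4862d904c8b7c5ba091) (.leaf 0x48a2db170824459e2df)) (.node 1 (.leaf 0x5ce2d1172891c1262e3) (.leaf 0x5da2eb0498ba45ca1d3))) (.node 2 (.node 1 (.leaf 0x1262d517682545de1d5) (.leaf 0x49a2d704b8bc412a2f1)) (.node 1 (.leaf 0x49e0991788bd45e6097) (.leaf 0x44209b17b825c5422f5)))) (.node 4 (.node 2 (.node 1 (.leaf 0x5e42f316e8bec1322f9) (.leaf 0x4a22f517f82645fa09b)) (.node 1 (.leaf 0x4a630304d8c0454a2ff) (.leaf 0x3b018e18282ac1ae09d))) (.node 2 (.node 1 (.leaf 0x3ac30904e8c1c13e305)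 (.leaf 0x31830f186827c6160a1)) (.node 1 (.leaf 0x30c09f0c40c3c6120a3) (.leaf 0x62a31318882fc1420bf))))))) (.node 32 (.node 16 (.node 8 (.node 4 (.node 2 (.node 1 (.leaf 0x632317050860462230d) (.leaf 0x63a0a118d828c62630f)) (.node 1 (.leaf 0x14231d18c829463e18c) (.leaf 0x2f80a70518c8418e188))) (.node 2 (.node 1 (.leaf 0x1460a50be0c74646186) (.leaf 0x196323054873414a1cf)) (.node 1 (.leaf 0x2f4321193829c64a184) (.leaf 0x1a61760e786503c80a9)))) (.node 4 (.node 2 (.node 1 (.leaf 0x66232f1968cac156329) (.leaf 0x66e3350558ccc65a0ad)) (.node 1 (.leaf 0x3b80ab19c863865e0af) (.leaf 0x1561dc19b87606760b1))) (.node 2 (.node 1 (.leaf 0x68634119f82b467a333) (.leaf 0x68e0ad1a28d0416a335)) (.node 1 (.leaf 0x15a3470588d0c692337) (.leaf 0x3bc3450578778172339))))) (.node 8 (.node 4 (.node 2 (.node 1 (.leaf 0x17a1b41a486c81621b5) (.leaf 0x69e34d15d8cf416634b)) (.node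 1 (.leaf 0x6a60b31a882d469a133) (.leaf 0x16635315f82dc6aa135))) (.node 2 (.node 1 (.leaf 0x6b20b905a8d5c68a137) (.leaf 0x16a0b71ac8d4c6b6139)) (.node 1 (.leaf 0x69235b05e8d7c16e35d) (.leaf 0x6c635717482e46c213d)))) (.node 4 (.node 2 (.node 1 (.leaf 0x17235905d8d8c6b813f) (.leaf 0x3680bd1ae06801760bc)) (.node 1 (.leaf 0x3641a01b282f41aa1a1) (.leaf 0x6d636905f8d9c182311))) (.node 2 (.node 1 (.leaf 0x6de0bf1b68c4c186313) (.leaf 0x17e36f1b58c546e2315)) (.node 1 (.leaf 0x6ea0c11b98a1c6d2151) (.leaf 0x1823750628a246ee153)))))) (.node 16 (.node 8 (.node 4 (.node 2 (.node 1 (.leaf 0x6f63730618de46da155) (.leaf 0x1860c51bd83246fa157)) (.node 1 (.leaf 0x6e237d1bb8dfc18a376) (.leaf 0x70a0cd1c1831c70215b))) (.node 2 (.node 1 (.leaf 0x18e0cf0648e1470e15d) (.leaf 0x6460cb1c38e2c192389)) (.node 1 (.leaf 0x39e389069862c71a0cb) (.leaf 0x39a38b0c7832c6fe18b))))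 (.node 4 (.node 2 (.node 1 (.leaf 0x7263811c88c9419a38f) (.leaf 0x72e3950668a64722167)) (.node 1 (.leaf 0x19a3851cb833c732169) (.leaf 0x2f03870688e7419e39b))) (.node 2 (.node 1 (.leaf 0x2ec0d31cd865873e0d1) (.leaf 0x74a39f1c68e8c1a63a1)) (.node 1 (.leaf 0x3281961d4834c74e0d5) (.leaf 0x33c3ab06a86786ca3a9))))) (.node 8 (.node 4 (.node 2 (.node 1 (.leaf 0x7623af1d6835c6560d9) (.leaf 0x76a3b306b878c60a0db)) (.node 1 (.leaf 0x76e0d71bf0ebc31c0dd) (.leaf 0x1ae3b71da8ec47720df))) (.node 2 (.node 1 (.leaf 0x3d23bd1dd83841b21e9) (.leaf 0x77e1ea06c8eb47763ad)) (.node 1 (.leaf 0x7820d90f6037477a3af) (.leaf 0x1b23c11df837c3de3b1)))) (.node 4 (.node 2 (.node 1 (.leaf 0x78a0db1e187c41d63b3) (.leaf 0x1b63c506f87cc78e3b5)) (.node 1 (.leaf 0x7923c306e8ddc1de37e) (.leaf 0x1ba0df1e48f047963b7))) (.node 2 (.node 1 (.leaf 0x1e63cb1e387e41be3ca) (.leaf 0x3f63cc0708f341c61fb))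 (.node 1 (.leaf 0x3fa0e11e78ef41ca1fd) (.leaf 0x7a63d0118838c7a20fd)))))))))

def zStep_1 : Tree := (.node 128 (.node 64 (.node 32 (.node 16 (.node 8 (.node 4 (.node 2 (.node 1 (.leaf 0x7ae0e31ea8f407980ff) (.leaf 0x1c63d70738f4c406101)) (.node 1 (.leaf 0x1ea3d5072848479e0fb) (.leaf 0x1ca0e707a83c440e0f7))) (.node 2 (.node 1 (.leaf 0x7b63d9074888c412105) (.leaf 0x7be0e91ee83ac416107)) (.node 1 (.leaf 0x1d23df1ed83b47c2109) (.leaf 0x7ca0ef0758f8c78610b)))) (.node 4 (.node 2 (.node 1 (.leaf 0x1d60ed1f28f7c7ce10d) (.leaf 0x78e3e70798fac1da3e9)) (.node 1 (.leaf 0x4d63e313783bc512111) (.leaf 0x1de3e507889ac7d0113))) (.node 2 (.node 1 (.leaf 0x7960f31f408641e20f2) (.leaf 0x7aa0f51eb847c4360f9)) (.node 1 (.leaf 0x1fe10107c8fb41f63d7) (.leaf 0x1f20fb07f84ac2023d5))))) (.node 8 (.node 4 (.node 2 (.node 1 (.leaf 0x2de1191f884541fa3ef) (.leaf 0x7ea3f307e88247e2231))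 (.node 1 (.leaf 0x7da0fd1fb83fc2323d0) (.leaf 0x1fa3ed1fa84047f23d3))) (.node 2 (.node 1 (.leaf 0x8023ff1fe851c7f6103) (.leaf 0x80e405081900c20a3fd)) (.node 1 (.leaf 0x816103204852c20e3ff) (.leaf 0x20640b203853481a401)))) (.node 4 (.node 2 (.node 1 (.leaf 0x8264110ff841481e223) (.leaf 0x82e10520a904480a3d9)) (.node 1 (.leaf 0x20a417084904c8323db) (.leaf 0x83a415083906c8123dd))) (.node 2 (.node 1 (.leaf 0x20e10920e843483e3df) (.leaf 0x81a41f20c908c212421)) (.node 1 (.leaf 0x852111213842c84a3e3) (.leaf 0x21611308690a48563e5)))))) (.node 16 (.node 8 (.node 4 (.node 2 (.node 1 (.leaf 0x2be10f21590bc21a42d) (.leaf 0x2c242d08b90cc86210f)) (.node 1 (.leaf 0x2c642f21a843c846433) (.leaf 0x5c642521b85942222e7))) (.node 2 (.node 1 (.leaf 0x4ba439088898486e26f) (.leaf 0x22242912e844c86426b)) (.node 1 (.leaf 0x2d642b08a90c0226430) (.leaf 0x2da1172180fbc22c115))))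 (.node 4 (.node 2 (.node 1 (.leaf 0x2e63ef21e845c876119) (.leaf 0x2ea44108c90fc7ee43d)) (.node 1 (.leaf 0x4b025a221895465211b) (.leaf 0x89244708d911423a443))) (.node 2 (.node 1 (.leaf 0x4a811b225896423e25a) (.leaf 0x236254224896c89a258)) (.node 1 (.leaf 0x492451125847489e123) (.leaf 0x8aa11d229914488e125))))) (.node 8 (.node 4 (.node 2 (.node 1 (.leaf 0x23a45509089248ae127) (.leaf 0x8b645308f9164896129)) (.node 1 (.leaf 0x23e12122d8f548ba12b) (.leaf 0x89a45d22b918424245f))) (.node 2 (.node 1 (.leaf 0x25e46723284bc246463) (.leaf 0x42a469091885c8ca24b)) (.node 1 (.leaf 0x8da12323584948ce451) (.leaf 0x24646d10a849c26a249)))) (.node 4 (.node 2 (.node 1 (.leaf 0x8e212909291bc26e453) (.leaf 0x24a12723891b48e6455)) (.node 1 (.leaf 0x27647309684ec24e475) (.leaf 0x8f646f23c84a48ee459))) (.node 2 (.node 1 (.leaf 0x25247109591ec8fa45b) (.leaf 0x28212d23e8fe425647f))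 (.node 1 (.leaf 0x28647f23a920c90212d) (.leaf 0x28a3f924284b47da483))))))) (.node 32 (.node 16 (.node 8 (.node 4 (.node 2 (.node 1 (.leaf 0x8c648b244918c90e12f) (.leaf 0x8ca48f0979234262489)) (.node 1 (.leaf 0x8ce12f248919c26648b) (.leaf 0x92a13124986f491e2bd))) (.node 2 (.node 1 (.leaf 0x26249509a86fc42a2bf) (.leaf 0x932493099925c922351)) (.node 1 (.leaf 0x26613524c84e48da353) (.leaf 0x93e13d24e84dc936357)))) (.node 4 (.node 2 (.node 1 (.leaf 0x26e13f09c927c942359) (.leaf 0x8e613b25091cc2724a3)) (.node 1 (.leaf 0x8ea4a30a191d494a13b) (.leaf 0x95049b25491dc27a4a7))) (.node 2 (.node 1 (.leaf 0x95a4ab09e874c9522e9) (.leaf 0x27a49f25684fc958363)) (.node 1 (.leaf 0x8fa4a10a092bc27e4a4) (.leaf 0x8fe14325212c4284141))))) (.node 8 (.node 4 (.node 2 (.node 1 (.leaf 0x7f214525985042de4b1) (.leaf 0x9064b125b850c96a145)) (.node 1 (.leaf 0x90a4bb0a292e42ea4b7)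 (.leaf 0x9864c125f92f428e30b))) (.node 2 (.node 1 (.leaf 0x64a4c50a38e4c97e149) (.leaf 0x9921472638ffc98214b)) (.node 1 (.leaf 0x28e4c9192900464e14d) (.leaf 0x71e4cf2668524996393)))) (.node 4 (.node 2 (.node 1 (.leaf 0x9a6149268933c2a24c5) (.leaf 0x2924d30a68e3c9aa325)) (.node 1 (.leaf 0x9b24d10a5935c2aa4c7) (.leaf 0x29614d26c902c9b64c9))) (.node 2 (.node 1 (.leaf 0x2b24db26a937c29a4dd) (.leaf 0x9c64e10d1932c29e4cb)) (.node 1 (.leaf 0x9ce14f27285449c2287) (.leaf 0x29e4e70d3854c9d2289)))))) (.node 16 (.node 8 (.node 4 (.node 2 (.node 1 (.leaf 0x9da1550a893ac9a2373) (.leaf 0x2a2153276939c9de375)) (.node 1 (.leaf 0x9aa4ef0ac93cc2a64f1) (.leaf 0x9f24eb27b85549ea379))) (.node 2 (.node 1 (.leaf 0x2aa4ed0ab93e49f637b) (.leaf 0x9b615927d93fc2ae4fd)) (.node 1 (.leaf 0x9ba4fd27894049e0159) (.leaf 0x9be4ff28185642c6501)))) (.node 4 (.node 2 (.node 1 (.leaf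 0xa1216528390942b6505) (.leaf 0xa1e50d0ad942ca0e383)) (.node 1 (.leaf 0x2b61692878574a22385) (.leaf 0x85616b0af944c2ba513))) (.node 2 (.node 1 (.leaf 0x85a161289945ca2a15f) (.leaf 0x85e16328c857c9fe517)) (.node 1 (.leaf 0xa3e5150b894742c251b) (.leaf 0x86651729085845c4163))))) (.node 8 (.node 4 (.node 2 (.node 1 (.leaf 0x86a5250b1948ca06521) (.leaf 0x48e5051a08b9c5bc165)) (.node 1 (.leaf 0xa4e3330b28cd42ce341) (.leaf 0x2ca5092938b8ca38247))) (.node 2 (.node 1 (.leaf 0xa5a52b0d7859ca52299) (.leaf 0xa5e16728694ac666395)) (.node 1 (.leaf 0x2ce52f0b494b4a62397) (.leaf 0xa3851129894782d2533)))) (.node 4 (.node 2 (.node 1 (.leaf 0x8605130b685aca3c16b) (.leaf 0x2e017128f0be02da2fa)) (.node 1 (.leaf 0x7de17329b85b4a6a16f) (.leaf 0x7e25390b78bdc966537))) (.node 2 (.node 1 (.leaf 0x5f62fa28d8bc8742171) (.leaf 0x5f22f829e85c4a762f2)) (.node 1 (.leaf 0xa865352a094ec2e653f)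 (.leaf 0x87a5470b99514a82175)))))))) (.node 64 (.node 32 (.node 16 (.node 8 (.node 4 (.node 2 (.node 1 (.leaf 0x87e5491a605d46a0545) (.leaf 0x88217529c9524976547)) (.node 1 (.leaf 0x73454d0bb952c3c6179) (.leaf 0x7385532a885e4a9e54b))) (.node 2 (.node 1 (.leaf 0x70c179191154c2fa54d) (.leaf 0x97c555261153c2f62a7)) (.node 1 (.leaf 0x64c5570bd8c34984181) (.leaf 0x64017b2ac85f4aaa183)))) (.node 4 (.node 2 (.node 1 (.leaf 0xabe55d0bf956c3021b7) (.leaf 0xac617f2b086e43061b9)) (.node 1 (.leaf 0x2fe5632af86ecaca1bb) (.leaf 0xad21812b38c5caba557))) (.node 2 (.node 1 (.leaf 0x3025690c28c64ad6326) (.leaf 0xade5670c195b4ac2559)) (.node 1 (.leaf 0x3061852b78624ae2320) (.leaf 0xaca5712b58e3430a573))))) (.node 8 (.node 4 (.node 2 (.node 1 (.leaf 0x61c18d2bb861caea31c) (.leaf 0x39618b1840e2431238b)) (.node 1 (.leaf 0x552575156874431a2b3) (.leaf 0x6185790c68c9c55a318)))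 (.node 2 (.node 1 (.leaf 0x8b844c2be95ec4aa191) (.leaf 0xb065812bf86443c257b)) (.node 1 (.leaf 0xb0a5870c8961432657d) (.leaf 0x8bc1912c4960432a44c)))) (.node 4 (.node 2 (.node 1 (.leaf 0x32245e2c2960cb1645c) (.leaf 0xb1e2e52c6864c5d6199)) (.node 1 (.leaf 0xb261932c88b94b0e19b) (.leaf 0x3265930cb963cb2a19d))) (.node 2 (.node 1 (.leaf 0x7505910ca8ea0b1219f) (.leaf 0xb163a62ca966432e597)) (.node 1 (.leaf 0xb3a5202cd868c332524) (.leaf 0xb465a10cc967cb3658d)))))) (.node 16 (.node 8 (.node 4 (.node 2 (.node 1 (.leaf 0x86e199171866ca402e5) (.leaf 0x3324372d1867487258f)) (.node 1 (.leaf 0x75419f0cd8ea8352591) (.leaf 0x33619d1d510dcb4a593))) (.node 2 (.node 1 (.leaf 0x35a5a50d0969c33a365) (.leaf 0xb52522265949099a1a3)) (.node 1 (.leaf 0xb561a3180148034a522) (.leaf 0x3465ab2719674b5a5a9)))) (.node 4 (.node 2 (.node 1 (.leaf 0xb624e50d296bc60028b) (.leaf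 0x34a1a72d886acb6628d)) (.node 1 (.leaf 0xb5a5b327496dc34e5b5) (.leaf 0xb7a1af2dd86a4b7228f))) (.node 2 (.node 1 (.leaf 0x3521b10d596f4b7e291) (.leaf 0xb4a1ad2df97043565be)) (.node 1 (.leaf 0x6ca5be0d9170c3601ad) (.leaf 0xb4e5c12e286b4b6e5c3))))) (.node 8 (.node 4 (.node 2 (.node 1 (.leaf 0xb845b92948d9035e5a6) (.leaf 0x35e5bd29686c4b8e29b)) (.node 1 (.leaf 0x6ba5c90da8d803be349) (.leaf 0xb9e5cd2e586dc91a55b))) (.node 2 (.node 1 (.leaf 0xba61b72e8973437a55d) (.leaf 0x36e5d30dd973cbaa55f)) (.node 1 (.leaf 0xbb25d10dc975c382561) (.leaf 0x3721bb2ec958cbb6563)))) (.node 4 (.node 2 (.node 1 (.leaf 0x38a5db2ea97743765d4) (.leaf 0xbc21c10de977cba22c1)) (.node 1 (.leaf 0x37a1bf2f09254bc62c3) (.leaf 0xbaa5e30e287d437e1c4))) (.node 2 (.node 1 (.leaf 0xbce5df2858704bca2c7) (.leaf 0x3825e10e1979cbd22c9)) (.node 1 (.leaf 0xbb61c52f497ac3865e2) (.leaf 0xbba5eb0f2071439e1f4)))))))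 (.node 32 (.node 16 (.node 8 (.node 4 (.node 2 (.node 1 (.leaf 0xbe21d12f795d438e5ed) (.leaf 0xbea5f30e393dcbde2d3)) (.node 1 (.leaf 0x38e1d52fa8724bee2d5) (.leaf 0x6101d70e597ec3925f9))) (.node 2 (.node 1 (.leaf 0x7161cd2fc8c8cbfa1cb) (.leaf 0x7121cf2a6072cbd6323)) (.node 1 (.leaf 0xc025fd0ed8c7c39a5ff) (.leaf 0x55e5ed3018acca001d1)))) (.node 4 (.node 2 (.node 1 (.leaf 0xc126070e898143a6603) (.leaf 0x3a25f13048aa4c162af)) (.node 1 (.leaf 0xc1a1d32f992acc0e2eb) (.leaf 0x3a660d0ea92b495c2ed))) (.node 2 (.node 1 (.leaf 0xc165f725718443aa60f) (.leaf 0x6085f90ec9854c261d7)) (.node 1 (.leaf 0x60c5fb30b875cc22615) (.leaf 0x7701db30994f83b253a))))) (.node 8 (.node 4 (.node 2 (.node 1 (.leaf 0xc3253a2ff94d05f21db) (.leaf 0xc3e53e30e876cc36534)) (.node 1 (.leaf 0x3b63b8300987c76c619) (.leaf 0xb7433a2de186c3ba621))) (.node 2 (.node 1 (.leaf 0x6705c60ee8ce0b781df)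 (.leaf 0x6881df1a30d10b925c6)) (.node 1 (.leaf 0xc463ac0f087acafe1eb) (.leaf 0xc4a1e11d70794b021ed)))) (.node 4 (.node 2 (.node 1 (.leaf 0x3c2625311879cc4e1ef) (.leaf 0xc521e32f50ecca9a1f1)) (.node 1 (.leaf 0x3c66290f38ed4c561f3) (.leaf 0x3ca1e72ee18947481f7))) (.node 2 (.node 1 (.leaf 0x73c3a431598bc3ce62d) (.leaf 0x7763ba0f498c43d63bb)) (.node 1 (.leaf 0x77a1e91de07f43da3bd) (.leaf 0x3d63be0f7988c77e623)))))) (.node 16 (.node 8 (.node 4 (.node 2 (.node 1 (.leaf 0x3da1ef1e007dc782625) (.leaf 0xc661f50f8978c41e5ea)) (.node 1 (.leaf 0x3e21f33198f14c6a629) (.leaf 0x4266350fc98e43e6637))) (.node 2 (.node 1 (.leaf 0x3ea6330fb9754c6c5dc) (.leaf 0x4321f931b0f2c3ee1f8)) (.node 1 (.leaf 0x79a1fa31d87ec4003cd) (.leaf 0x79e63a0fe98f440a3cf)))) (.node 4 (.node 2 (.node 1 (.leaf 0xc7e1fe20788003fe224) (.leaf 0x3fe63e209880cc82227)) (.node 1 (.leaf 0x4362051008994c7421f)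 (.leaf 0x40220310d98f87ae21d))) (.node 2 (.node 1 (.leaf 0xc8a2093218fcc7b2233) (.leaf 0x4126451068fd4c8e235)) (.node 1 (.leaf 0xc9664310599247ba237) (.leaf 0x41620d3258844c9a239))))) (.node 8 (.node 4 (.node 2 (.node 1 (.leaf 0x7c264d323993c41a3e1) (.leaf 0x8d2215328883c92a23d)) (.node 1 (.leaf 0x41e21710891a4ca623f) (.leaf 0xc6a2133299954422652))) (.node 2 (.node 1 (.leaf 0xc6e65210c195c42c213) (.leaf 0xc7265532c884cc9e657)) (.node 1 (.leaf 0x44a22732d88744fe63e) (.leaf 0x5ea25132f893ccba221)))) (.node 4 (.node 2 (.node 1 (.leaf 0x5ee6611108fc444665f) (.leaf 0xcca2233318f64cc2411)) (.node 1 (.leaf 0x4466651138f6ccce413) (.leaf 0xcb666311299a44a640e))) (.node 2 (.node 1 (.leaf 0x54227f33389ec44e66b) (.leaf 0x7f667133799b44523fb)) (.node 1 (.leaf 0xcee67511499cccde22b) (.leaf 0xcf622933c8aacce222d)))))))))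

def zStep_2 : Tree := (.node 128 (.node 64 (.node 32 (.node 16 (.node 8 (.node 4 (.node 2 (.node 1 (.leaf 0x45267b33b8ab480222f) (.leaf 0xd0668133f88accfa673)) (.node 1 (.leaf 0xd0e22b3429a04466675) (.leaf 0x4566871179a0cd12677))) (.node 2 (.node 1 (.leaf 0xd1a6851169a2c46e679) (.leaf 0x45a22f3468adcd1e67b)) (.node 1 (.leaf 0x47668f3449a4c45e691) (.leaf 0xd2e6951e899f44623f6)))) (.node 4 (.node 2 (.node 1 (.leaf 0xd3223134a08ccd2a3f3) (.leaf 0x4626991e988d4d363f5)) (.node 1 (.leaf 0xd3e2371199a74d0a643) (.leaf 0x46623534f9a64d42645))) (.node 2 (.node 1 (.leaf 0xd126a111d9a9446a6a3) (.leaf 0xd5669d35488dcd4e649)) (.node 1 (.leaf 0x46e69f11c9aacd5a64b) (.leaf 0xd1e23b3569ac44726af))))) (.node 8 (.node 4 (.node 2 (.node 1 (.leaf 0xd226af3519acc84223b) (.leaf 0xd266b135a88ec48a6b3)) (.node 1 (.leaf 0xa0a24735b8b4447a509) (.leaf 0xd7a6bb11e9ae4d6e651)))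 (.node 2 (.node 1 (.leaf 0x47a24b35e88fcd7e469) (.leaf 0x5ae24d1209b0447e6c1)) (.node 1 (.leaf 0x5b22433609af8d80241) (.leaf 0x5b62453618904d626be)))) (.node 4 (.node 2 (.node 1 (.leaf 0x5e06c0127093048624c) (.leaf 0x5be6be227090c494245)) (.node 1 (.leaf 0x5c26c71229b14d6a44e) (.leaf 0x6823431238d1c492527))) (.node 2 (.node 1 (.leaf 0x8a224935d915468646d) (.leaf 0xd9665d36499704a265c)) (.node 1 (.leaf 0x5fe6cf1289b34d92253) (.leaf 0x6026d32d5094cda26cd)))))) (.node 16 (.node 8 (.node 4 (.node 2 (.node 1 (.leaf 0x6062533309b4ccc66cf) (.leaf 0x8946d712a9b54afa257)) (.node 1 (.leaf 0xb665ad368095cb566d5) (.leaf 0xb6e25736c96b44be6d7))) (.node 2 (.node 1 (.leaf 0x4ae5b712d96ccb8244a) (.leaf 0x8846d912c9b6c4c6448)) (.node 1 (.leaf 0x4ce3282e09b744b632e) (.leaf 0xa4059d21916ac4ba434)))) (.node 4 (.node 2 (.node 1 (.leaf 0x87225d36f897cb3a26d) (.leaf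 0xdc626312f9b84db2271)) (.node 1 (.leaf 0x4be26137190e4b4e273) (.leaf 0xb825a713396944c25b8))) (.node 2 (.node 1 (.leaf 0xdd26e1373898cdca277) (.leaf 0x4c66e31329ba4dd6279)) (.node 1 (.leaf 0x6502673759bb44ca330) (.leaf 0x65c3302dc1bbcb74267))))) (.node 8 (.node 4 (.node 2 (.node 1 (.leaf 0xdba6ed230099cc7a6ef) (.leaf 0x5026f53798a04de2269)) (.node 1 (.leaf 0x5066f91349bdc4d66f3) (.leaf 0x50a26937d8a144da6f5))) (.node 2 (.node 1 (.leaf 0x7c626b37e8f94df2429) (.leaf 0xe026fd1369bfcdf66df)) (.node 1 (.leaf 0x4da26f38089cc51a439) (.leaf 0xe0e27738289c4e066e1)))) (.node 4 (.node 2 (.node 1 (.leaf 0x4e22791399c1ce126e3) (.leaf 0x5262753848a4c4e670b)) (.node 1 (.leaf 0x52a70b13e8a54e1a275) (.leaf 0xe267033888a5c4ee70f))) (.node 2 (.node 1 (.leaf 0xcf871513b9a58e226e7) (.leaf 0x4ee70733e09e4cfc6e9)) (.node 1 (.leaf 0x53a70913d9c644f2717) (.leaf 0x53e27d38b99ace3627b)))))))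 (.node 32 (.node 16 (.node 8 (.node 4 (.node 2 (.node 1 (.leaf 0xe3471b3869c744fa71d) (.leaf 0x54666b25c89f4e3e27f)) (.node 1 (.leaf 0x54a72113f92dccb64b9) (.leaf 0xe4e7253919c58502718))) (.node 2 (.node 1 (.leaf 0xde672b1409ca4e46283) (.leaf 0xdea2813969bd4e4a285)) (.node 1 (.leaf 0xdee7313978a0c6ce729) (.leaf 0xdf22833999cc450e72b)))) (.node 4 (.node 2 (.node 1 (.leaf 0xdf67331429cd451672d) (.leaf 0xe7228b1439cdce664e5)) (.node 1 (.leaf 0x50e28939c8dd47c64e7) (.leaf 0xe7e73739e8a2ce765af))) (.node 2 (.node 1 (.leaf 0x5167391469cfce025b1) (.leaf 0xe8229738e1c0c51e70c)) (.node 1 (.leaf 0xc407431479c78e385bb) (.leaf 0x51e29b3100a44e8a5bd))))) (.node 8 (.node 4 (.node 2 (.node 1 (.leaf 0xe1229d1499d24522747) (.leaf 0xe162953a39c2ce8c293)) (.node 1 (.leaf 0xe2c74614f1c9c52a29c) (.leaf 0xe9470c3a59c3ce14297))) (.node 2 (.node 1 (.leaf 0x52c74014b9c4853274b)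 (.leaf 0xe882993a18e54e8052b)) (.node 1 (.leaf 0x53274414d8e5c53452d) (.leaf 0xe327491cc0a7472c726)))) (.node 4 (.node 2 (.node 1 (.leaf 0xcd62a33a78a7ce9a2a1) (.leaf 0xcce7531509d445ee74f)) (.node 1 (.leaf 0xeb274d3ab9d30546755) (.leaf 0x97275b1519214eae2a5))) (.node 2 (.node 1 (.leaf 0x96e75d2418a94b5c485) (.leaf 0xe422a53a99d7460675b)) (.node 1 (.leaf 0xec67613af8a9ccda54f) (.leaf 0x6147671539d945524c2)))))) (.node 16 (.node 8 (.node 4 (.node 2 (.node 1 (.leaf 0xed62a73b49d84556555) (.leaf 0x54e76b1851d8c6184be)) (.node 1 (.leaf 0xaea2a93b697c4ece2b1) (.leaf 0xee276d1559dbced22b5))) (.node 2 (.node 1 (.leaf 0x5562ad3b899ecaf22b7) (.leaf 0xeea7731a58aec55e2bb)) (.node 1 (.leaf 0xc067791579ddc696609) (.leaf 0xbda2af3bd8ac4ee65f1)))) (.node 4 (.node 2 (.node 1 (.leaf 0xefe2b51589df458276d) (.leaf 0x5622b33bf97b4f02575)) (.node 1 (.leaf 0x58a78115c93c45664f3)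 (.leaf 0xf0e77d3c28ad4f0676f))) (.node 2 (.node 1 (.leaf 0x56a77f15b9e1cf12771) (.leaf 0x5962b93c49e3456e78b)) (.node 1 (.leaf 0x59a78b2799e44f1e2b9) (.leaf 0x59e78d3c98ae4d26791))))) (.node 8 (.node 4 (.node 2 (.node 1 (.leaf 0xf2a2bb2a41dcc57a773) (.leaf 0x5767951a79dd4f2e775)) (.node 1 (.leaf 0xf3635115e9e64a90493) (.leaf 0x57a2bf3cd8b0cf3a495))) (.node 2 (.node 1 (.leaf 0xf2e79d1aa9e8457e79f) (.leaf 0xf4e2c73d28b04f465df)) (.node 1 (.leaf 0x5822c91619e9cf525e1) (.leaf 0xf022c53d49eb45867ab)))) (.node 4 (.node 2 (.node 1 (.leaf 0x9e67ab16693545982c5) (.leaf 0x9e27ad26e8b14f424d5)) (.node 1 (.leaf 0xf667a33d89e0c58e7af) (.leaf 0xf6e7b51638e0cf6250b))) (.node 2 (.node 1 (.leaf 0x58e7a73db8b24f725e7) (.leaf 0xf127a91659ef45927bb)) (.node 1 (.leaf 0xf162cd3dd9efcf542cb) (.leaf 0xf1a2cf3e08b2c5b67bf)))))))) (.node 64 (.node 32 (.node 16 (.node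 8 (.node 4 (.node 2 (.node 1 (.leaf 0xf227bf3e18b3471c2cf) (.leaf 0xf267c51679e4c5c27c3)) (.node 1 (.leaf 0x84a2e32d09424a2c2d1) (.leaf 0xf9258d1689f1c5a65a1))) (.node 2 (.node 1 (.leaf 0x5a22e73e49414f96425) (.leaf 0xfa27cf1bc8b4cf9a4f7)) (.node 1 (.leaf 0xfa62d31759f3cb1a5f3) (.leaf 0x5a67d316a9f44faa5f5)))) (.node 4 (.node 2 (.node 1 (.leaf 0xf962ef3ea9f645aa7d7) (.leaf 0xd822f116c8b5cfb22d7)) (.node 1 (.leaf 0xfb02dd3ec9f285b27db) (.leaf 0xd7c2df3ee8b64a082db))) (.node 2 (.node 1 (.leaf 0xd867df16d9464f827dd) (.leaf 0xa7a7db17c9f84bfe2dd)) (.node 1 (.leaf 0x5dc7ca3f18b745cc7e1) (.leaf 0x5ba7d81790bb85e053d))))) (.node 8 (.node 4 (.node 2 (.node 1 (.leaf 0x89c33c16f8d306802e1) (.leaf 0xd8a34a2a28b84ef034c)) (.node 1 (.leaf 0xd8e2e13ef8d28f8a33c) (.leaf 0x5ca58f173964cfc4437))) (.node 2 (.node 1 (.leaf 0xb0e5851b0961c5d27e5) (.leaf 0xb2a2e92c58bacb0a4ab))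 (.node 1 (.leaf 0x5d25951b18bb4b264ad) (.leaf 0x5d62ed3e99654fce60d)))) (.node 4 (.node 2 (.node 1 (.leaf 0xfc47e71779f885da7e9) (.leaf 0xfc07d73f494f0fd62ef)) (.node 1 (.leaf 0xfde2fd3f68e805ea3a2) (.leaf 0xcbe7f117a94dcfda2f7))) (.node 2 (.node 1 (.leaf 0xcc22f718194e4ea67f1) (.leaf 0xc5a3a03f98bf45f639e)) (.node 1 (.leaf 0xa367f517d94c8fe651f) (.leaf 0xc5e3a23fb8e78b322fd)))))) (.node 16 (.node 8 (.node 4 (.node 2 (.node 1 (.leaf 0xffa7fb17e9fe45fe7f7) (.leaf 0x5fa7ef3fe98b4d9662f)) (.node 1 (.leaf 0xd9a8012918bfcffe301) (.leaf 0xd9e2ff3f8a004ff6303))) (.node 2 (.node 1 (.leaf 0xda63012700c0c9c8801) (.leaf 0xc288032cf8c14a96307)) (.node 1 (.leaf 0xbf03051c5200c766309) (.leaf 0xec88074028c2c60e4bd)))) (.node 4 (.node 2 (.node 1 (.leaf 0xc2c7c7183963500a59f) (.leaf 0xbf43074048c2500e803)) (.node 1 (.leaf 0xecc30b405a01c61e4c1) (.leaf 0xaf030d406955ced4317)))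 (.node 2 (.node 1 (.leaf 0xaec80d187a03d01631b) (.leaf 0x102a8134088c44ab6367)) (.node 1 (.leaf 0x103231140ba04c62e369) (.leaf 0x62281918aa05503636b))))) (.node 8 (.node 4 (.node 2 (.node 1 (.leaf 0x103e817189a07463636d) (.leaf 0x62631540f8dbd04236f)) (.node 1 (.leaf 0x63e82140d980462a823) (.leaf 0x104e31b18ba09502e80d))) (.node 2 (.node 1 (.leaf 0x62e31941395a5052578) (.leaf 0x103682918fa0b463282b)) (.node 1 (.leaf 0x10608254188c6d05e80f) (.leaf 0x63682718ea0c1066576)))) (.node 4 (.node 2 (.node 1 (.leaf 0x104231f41997f463a835) (.leaf 0x104683541597fd06e31f)) (.node 1 (.leaf 0x98a32541c8e046424d3) (.leaf 0xab083d190a0ed07256e))) (.node 2 (.node 1 (.leaf 0xaac32741e95e4992568) (.leaf 0xdd86dc41f8ca4af632b)) (.node 1 (.leaf 0xdd45c41949ba888632d) (.leaf 0x108657e195a10475a83f))))))) (.node 32 (.node 16 (.node 8 (.node 4 (.node 2 (.node 1 (.leaf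 0xddc32b2c00cbc75e6dc) (.leaf 0x6566ee4218cc508a6ec)) (.node 1 (.leaf 0x65a5291988cb4a566ea) (.leaf 0xa5232d2e114a466a5c4))) (.node 2 (.node 1 (.leaf 0xb725c219796fc6725c0) (.leaf 0x6765bb295a11c662743)) (.node 1 (.leaf 0x10925071999544a1a33f) (.leaf 0x6665274248cdd096343)))) (.node 4 (.node 2 (.node 1 (.leaf 0xb8e33919a971cb84345) (.leaf 0x66a3372e3949ca5a347)) (.node 1 (.leaf 0xa5652d19d94bc66e744) (.leaf 0xe866203a22134c4233b))) (.node 2 (.node 1 (.leaf 0x108e61a4278ceca7e84d) (.leaf 0x10a27dc19e966c67e7de)) (.node 1 (.leaf 0x67a44f4288d3c8a26c6) (.leaf 0x10aa8532a58cfcb3e551))))) (.node 8 (.node 4 (.node 2 (.node 1 (.leaf 0xd6e33f282a14cfb8507) (.leaf 0x67e6b71a1a154d76849)) (.node 1 (.leaf 0x6b63492e4115c68e5c9) (.leaf 0x6be4573f20d248aa360))) (.node 2 (.node 1 (.leaf 0x6966c43ba9b190ae34f) (.leaf 0x69a34f21f113c88a6c4)) (.node 1 (.leaf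 0x6aa4453cb911c69e859) (.leaf 0x10b679938f0d44970497)))) (.node 4 (.node 2 (.node 1 (.leaf 0x6a279b1a9a16d0ba499) (.leaf 0x88a35542e91246a66da)) (.node 1 (.leaf 0x10b26da3cf9b610be355) (.leaf 0x88e44936b0d546be6d8))) (.node 2 (.node 1 (.leaf 0xb1236122f17206ae456) (.leaf 0x74c58b1ab9cf48bc49d)) (.node 1 (.leaf 0x6ae3631d30d6475049f) (.leaf 0xb9035c1ad96246b235a)))))) (.node 16 (.node 8 (.node 4 (.node 2 (.node 1 (.leaf 0x8ae35f2268d6c892588) (.leaf 0x6c05882c30d74b2035f)) (.node 1 (.leaf 0xfc857c1af9f90dac586) (.leaf 0xb223a82c996446c63aa))) (.node 2 (.node 1 (.leaf 0xb7c3652d216e07565a5) (.leaf 0x10c68611b3972ce5e811)) (.node 1 (.leaf 0x10ce3674328da4e62813) (.leaf 0x6ce8674318dad0d2815)))) (.node 4 (.node 2 (.node 1 (.leaf 0x10da36d1b4a1ac6e6817) (.leaf 0x6d236b436a19d0de819)) (.node 1 (.leaf 0x6ee86f1b88f246d6370) (.leaf 0x10ea86b4398db50e281d)))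 (.node 2 (.node 1 (.leaf 0x6da86d1b7a1d50ee81f) (.leaf 0x6fa37143ba1e46de86e)) (.node 1 (.leaf 0x6fe8791db0dc4c023c8) (.leaf 0x10fe37943e8dcd0f64eb))))) (.node 8 (.node 4 (.node 2 (.node 1 (.leaf 0x6e637b1baa1fd1024ed) (.leaf 0x10de3774408f0c6ea37c)) (.node 1 (.leaf 0x10f487b3e6a1c46f2883) (.leaf 0x6f287f3e88ded0fc4f9))) (.node 2 (.node 1 (.leaf 0x10ee8811bea2006f6880) (.leaf 0x10f237f1d90df47163c2)) (.node 1 (.leaf 0x99e38f442934cf7c381) (.leaf 0x11168891c0a21c706885)))) (.node 4 (.node 2 (.node 1 (.leaf 0x702393445931511a4cf) (.leaf 0x111e3831ca9ed511250d)) (.node 1 (.leaf 0x70688f1c29edd12250f) (.leaf 0x111a399448a25470a893))) (.node 2 (.node 1 (.leaf 0xa9839b1c4a26512e387) (.leaf 0xaa439d44d8e1d12a899)) (.node 1 (.leaf 0x113e38d44b95c471289d) (.leaf 0x114289d1d095cca3638d)))))))))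

def zStep_3 : Tree := (.node 128 (.node 64 (.node 32 (.node 16 (.node 8 (.node 4 (.node 2 (.node 1 (.leaf 0x71a89f1d29594bba8a1) (.leaf 0x99a8a51c7a28cf84391)) (.node 1 (.leaf 0xcfe8a73418e44e248a3) (.leaf 0x1152391444a29c72a8a5))) (.node 2 (.node 1 (.leaf 0x7228a91c999fce304cd) (.leaf 0x73288d38c22ac726723)) (.node 1 (.leaf 0x72a3974479d10e9052f) (.leaf 0xe46893393a2bd15a399)))) (.node 4 (.node 2 (.node 1 (.leaf 0x11568954588e6473a8af) (.leaf 0xc548971cfa2cc7367f2)) (.node 1 (.leaf 0xa9489942a0e6d16a39d) (.leaf 0xaa08b71cea121162854))) (.node 2 (.node 1 (.leaf 0x74262c4509fb8c5a3a5) (.leaf 0xe7859839f0e9c7468b9)) (.node 1 (.leaf 0x117e8bd1d1a2ece7c7ec) (.leaf 0x74662e45f8e951827ee))))) (.node 8 (.node 4 (.node 2 (.node 1 (.leaf 0x93859624f22e4b2e3a7) (.leaf 0x75a6221d88efd1863bf)) (.node 1 (.leaf 0x75e3b13120edd18a3c1) (.leaf 0x108a8c5461a3247628c7)))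 (.node 2 (.node 1 (.leaf 0x7663b543c18a51963c5) (.leaf 0xc248cb1dca33c76a8cd)) (.node 1 (.leaf 0xa76618466950cc323b9) (.leaf 0xa7e61e4688ee5192543)))) (.node 4 (.node 2 (.node 1 (.leaf 0xc626304698eed082631) (.leaf 0x7863c91e2a1bd1aa878)) (.node 1 (.leaf 0x7ce3c746aa35c78a8d4) (.leaf 0x7d28d41e521a07903c7))) (.node 2 (.node 1 (.leaf 0x7d68d746c8f1cc72868) (.leaf 0xc763ce1e6a34c7a863b)) (.node 1 (.leaf 0xc7a8d231e0f3c8c263d) (.leaf 0x7a23d234b8f591b63ec)))))) (.node 16 (.node 8 (.node 4 (.node 2 (.node 1 (.leaf 0x11b68da34d99047a68dd) (.leaf 0x11c23dd1eca37cc86415)) (.node 1 (.leaf 0x7b23db47099951c6417) (.leaf 0xc8e8e31f0a3947b6647))) (.node 2 (.node 1 (.leaf 0x11d28df35c8f751ce41b) (.leaf 0x7ba8e11efa3a51d641d)) (.node 1 (.leaf 0xc9a3e1475a3b47be64d) (.leaf 0xc9e8ed4778f847d664f)))) (.node 4 (.node 2 (.node 1 (.leaf 0xdfa7011f19aa4e72427) (.leaf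 0x11aa3e81f3a3c47ca3e6)) (.node 1 (.leaf 0x11ae3eb4798f9d1da8f0) (.leaf 0x10d08f047a8fa4dec3eb))) (.node 2 (.node 1 (.leaf 0x11b28f71f5a3d51de8f5) (.leaf 0x7ee8f91f69b9c90a696)) (.node 1 (.leaf 0x11fa43b47d90e87de43a) (.leaf 0xa6e8ff1f7997d1f63f1))))) (.node 8 (.node 4 (.node 2 (.node 1 (.leaf 0xa723f122099847e68ff) (.leaf 0x11f23f71f9a404882694)) (.node 1 (.leaf 0x7e63f547c9915206699) (.leaf 0x9669031fca41c7ea905))) (.node 2 (.node 1 (.leaf 0xdce9013748fdd21267c) (.leaf 0x96248348291fd2163f9)) (.node 1 (.leaf 0xcda90f4868fec97a66d) (.leaf 0xcde9131fda4447fa66f)))) (.node 4 (.node 2 (.node 1 (.leaf 0xce23fb48aa43c7fe671) (.leaf 0x12369193bb8ff522e403)) (.node 1 (.leaf 0x123e3fd48ea465226405) (.leaf 0x7fa91f200a46ccee407))) (.node 2 (.node 1 (.leaf 0x124691d1ffa48522a409) (.leaf 0x7fe4014919324cf640b)) (.node 1 (.leaf 0x8f092523d103c806668) (.leaf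 0xc0a92720198248f4777))))))) (.node 32 (.node 16 (.node 8 (.node 4 (.node 2 (.node 1 (.leaf 0x1256403494901524a919) (.leaf 0x80692b302901d25a91b)) (.node 1 (.leaf 0x1262409202a4bc82a91d) (.leaf 0x80a407498a4ad26691f))) (.node 2 (.node 1 (.leaf 0x832933206a4dc80e935) (.leaf 0x127a92f49d9025272921)) (.node 1 (.leaf 0x812931205a4f527e923) (.leaf 0x83e40d49fa50c816941)))) (.node 4 (.node 2 (.node 1 (.leaf 0x84294149aa51d28a40d) (.leaf 0x8469434a490349be947)) (.node 1 (.leaf 0x129640f2082494822662) (.leaf 0x81e94b31f91e129a65a))) (.node 2 (.node 1 (.leaf 0x8224134a5105d29e665) (.leaf 0x129a94f320a54c826951)) (.node 1 (.leaf 0x12b241b4ab90552aa8df) (.leaf 0x82a41d20ba5652b68e1))))) (.node 8 (.node 4 (.node 2 (.node 1 (.leaf 0x12664194ada57c82e95d) (.leaf 0x126a95d210a584d46419)) (.node 1 (.leaf 0x126e95f4b190652a6961) (.leaf 0x12d29554b3a4e4836965)))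 (.node 2 (.node 1 (.leaf 0x12da96b20d99452ce6b9) (.leaf 0x8369594b690752de8e9)) (.node 1 (.leaf 0x127e95b20fa5cc83a971) (.leaf 0x12824214b8a5d4d5e41f)))) (.node 4 (.node 2 (.node 1 (.leaf 0x12864234bb907c85e975) (.leaf 0x128e97545310852f2423)) (.node 1 (.leaf 0x12928a2211a29086a8a6) (.leaf 0xb425a3212a5ec84e7c9))) (.node 2 (.node 1 (.leaf 0x130297f324909d2fa6a9) (.leaf 0xdbe42721ca5fcb46701)) (.node 1 (.leaf 0x84e6df214a6053066fd) (.leaf 0xa2c4324c190b085242e)))))) (.node 16 (.node 8 (.node 4 (.node 2 (.node 1 (.leaf 0xa2643021690ac85842b) (.leaf 0xa329852179b0d2ee982)) (.node 1 (.leaf 0xa465a836690d530e5aa) (.leaf 0xa4a4354c296a114459c))) (.node 2 (.node 1 (.leaf 0x131a98b21da62487a8fa) (.leaf 0x8768fd4c6a3f0a868fc)) (.node 1 (.leaf 0xa8a99136290f531e43f) (.leaf 0xa8e43d47fa645316441)))) (.node 4 (.node 2 (.node 1 (.leaf 0x10b8993222242487e909)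 (.leaf 0xa9243f3ca1105326991)) (.node 1 (.leaf 0xdb4859484110cdd0445) (.leaf 0xdb04432db2164b88447))) (.node 2 (.node 1 (.leaf 0xdac44b22396d08a65b6) (.leaf 0xda85b44cb912d32a5b2)) (.node 1 (.leaf 0x8c257a36e1134dba580) (.leaf 0xd766bd228a6650a246b))))) (.node 8 (.node 4 (.node 2 (.node 1 (.leaf 0x13364593f5114cfd046f) (.leaf 0x8a645b22aa66cfc8471)) (.node 1 (.leaf 0x132a7e84cea6548b27e6) (.leaf 0xcd299f22c996d33a479))) (.node 2 (.node 1 (.leaf 0x8b299b334916cda847b) (.leaf 0xaf87e422e95f08b6584)) (.node 1 (.leaf 0xaf446142011751a4582) (.leaf 0xb00582377117d342461)))) (.node 4 (.node 2 (.node 1 (.leaf 0x13569a94d3a6948c69a3) (.leaf 0x9129af231a6b534e465)) (.node 1 (.leaf 0x9164634d8922d352467) (.leaf 0x91a9b54d99194cac9ad))) (.node 2 (.node 1 (.leaf 0x91e4654dba6d48d29af) (.leaf 0x9229b7233a6e48d69b1)) (.node 1 (.leaf 0xca246b234a5b536e6bd) (.leaf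 0x12d696d4de91ad376999)))))))) (.node 64 (.node 32 (.node 16 (.node 8 (.node 4 (.node 2 (.node 1 (.leaf 0x8d6651236a5ac9326bb) (.leaf 0x13444774df926c8de9aa)) (.node 1 (.leaf 0x138a9c3237a70537e7ea) (.leaf 0x8de47b4e291c524c99b))) (.node 2 (.node 1 (.leaf 0x94247d239a7248e29c7) (.leaf 0x9464754e3928c94c473)) (.node 1 (.leaf 0x134a4a6240a6ac8ea49a) (.leaf 0x13509aa4e6929d396477)))) (.node 4 (.node 2 (.node 1 (.leaf 0x12589d123ba73c8f29cd) (.leaf 0x8ee9a249612a0c089a8)) (.node 1 (.leaf 0x12484794e1a5293a299f) (.leaf 0x9489c723f921934847d))) (.node 2 (.node 1 (.leaf 0x95e9c930511f4c10486) (.leaf 0x9004814d2274c8fe9d3)) (.node 1 (.leaf 0x13a49d324d1204938481) (.leaf 0x117290b2d7127090673c))))) (.node 8 (.node 4 (.node 2 (.node 1 (.leaf 0x9764854819d6d1f275d) (.leaf 0xc1e9d7243a75491260b)) (.node 1 (.leaf 0x13944874eca7189169c8) (.leaf 0x90e9ca30792953564ae)))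 (.node 2 (.node 1 (.leaf 0x135a9df4ee92253b648d) (.leaf 0x135e4894f0a77d3ae48f)) (.node 1 (.leaf 0x13629e1245a78d3b2491) (.leaf 0x13669e7246a794b969dd)))) (.node 4 (.node 2 (.node 1 (.leaf 0x136a48d4f4923cb9a9df) (.leaf 0x136e491247a7ac9269e1)) (.node 1 (.leaf 0x13729eb4f792453da9e3) (.leaf 0x13ea4974f9924d3e2799))) (.node 2 (.node 1 (.leaf 0x92649924aa7d4ca279b) (.leaf 0x13f69f14fca7b492e9f7)) (.node 1 (.leaf 0xc3484724b96ed3f271e) (.leaf 0x92e9f530d1264c3885b)))))) (.node 16 (.node 8 (.node 4 (.node 2 (.node 1 (.leaf 0x9364a84e9a6889549a4) (.leaf 0xb2e49d255a4293a458b)) (.node 1 (.leaf 0x9544ac2cb183093e594) (.leaf 0x138e4a4251a72c9444a1))) (.node 2 (.node 1 (.leaf 0x13924af4fe9284c189cb) (.leaf 0x94c9a5253a6a538c4a9)) (.node 1 (.leaf 0xea84b54ff92d0962758) (.leaf 0x120aa01258a2c13fe4b3)))) (.node 4 (.node 2 (.node 1 (.leaf 0x120ea0345712ccea28b0)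 (.leaf 0x12064b325da80ca72a01)) (.node 1 (.leaf 0xe987585029d6509a4b5) (.leaf 0x1412a0725aa67496ea05))) (.node 2 (.node 1 (.leaf 0x96a7545049d5517274c) (.leaf 0xeba4b75009c8540e4bb)) (.node 1 (.leaf 0xeb64b950592ecf30721) (.leaf 0x1422a0f25ea83521a805))))) (.node 8 (.node 4 (.node 2 (.node 1 (.leaf 0x142a4bd509930521e807) (.leaf 0x97aa15508930cec6764)) (.node 1 (.leaf 0xa9ca1950b92fd156762) (.leaf 0xaa84bf50da86498a76a))) (.node 2 (.node 1 (.leaf 0x143aa1b260a86898e80b) (.leaf 0x9824c350ea854aac766)) (.node 1 (.leaf 0x10724c7262a87d4364d1) (.leaf 0x1446a1f510931d43c4d7)))) (.node 4 (.node 2 (.node 1 (.leaf 0x98e839264a88d07a4d9) (.leaf 0x144a4cb400138499e4e1)) (.node 1 (.leaf 0x996a252d4938cf204e3) (.leaf 0x1146948339933544e67f))) (.node 2 (.node 1 (.leaf 0x114a4cd3ff2520a448a9) (.leaf 0x110a7fe267a8a500088b)) (.node 1 (.leaf 0x145e4d75169345456a1f)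 (.leaf 0x9a24d9269a8bd462839))))))) (.node 32 (.node 16 (.node 8 (.node 4 (.node 2 (.node 1 (.leaf 0x9de4d55189eac9a67ad) (.leaf 0x146ea2b51a93d49aea33)) (.node 1 (.leaf 0x147aa3b26ba8e546aa21) (.leaf 0x9aea2f51e936547ea23))) (.node 2 (.node 1 (.leaf 0x9f6a3126da90c9b2a41) (.leaf 0x9fa4dd520a91d48a4db)) (.node 1 (.leaf 0x9fe4df524936d286a47) (.leaf 0xf40a453d09e589baa4b)))) (.node 4 (.node 2 (.node 1 (.leaf 0xa02a4742b1374ee84df) (.leaf 0xa06a2626f940d292856)) (.node 1 (.leaf 0x9c24e3369289549aa25) (.leaf 0x9d2a4d2d69e389c6a4f))) (.node 2 (.node 1 (.leaf 0x14a65af5289394eb8737) (.leaf 0x9ca5b1273a94d4aa739)) (.node 1 (.leaf 0x149a4e952aa9649cea57) (.leaf 0x149ea572daa0d8fc04e9))))) (.node 8 (.node 4 (.node 2 (.node 1 (.leaf 0xf1ca593c793a49e6836) (.leaf 0x14be4f552ea8ac9d6a5b)) (.node 1 (.leaf 0x14c6a61275a7cd4ba87d) (.leaf 0x9d64f953193b54ca87f)))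 (.node 2 (.node 1 (.leaf 0x14624fb277a9a49daa67) (.leaf 0xf5a4f15339e049f84ef)) (.node 1 (.leaf 0xf564f353593bd4b2781) (.leaf 0x14e2a5b537a8cd4da4f5)))) (.node 4 (.node 2 (.node 1 (.leaf 0x14eaa7327aa9bc9eea6f) (.leaf 0x9eaa5f53aa8dd4eea71)) (.node 1 (.leaf 0x14f24f753097cd4e67cf) (.leaf 0x9eea7927c97d54f67d1))) (.node 2 (.node 1 (.leaf 0x14eea6553da9fc9f2a7d) (.leaf 0x1482a6727eaa054cc4fb)) (.node 1 (.leaf 0x1486a6954193ed4fea81) (.leaf 0x148e50154293f4bd84ff)))))) (.node 16 (.node 8 (.node 4 (.node 2 (.node 1 (.leaf 0x1492a8927faa1ca32a85) (.leaf 0x10aca8b280a158c04503)) (.node 1 (.leaf 0x144c503544a898a4aa8b) (.leaf 0x116c551547941d51a853))) (.node 2 (.node 1 (.leaf 0xa0e849284a2d95226b7) (.leaf 0xa2251c5489450a12a93)) (.node 1 (.leaf 0x1532a972f2aa34a16a95) (.leaf 0x153a50b54d943552e7b5)))) (.node 4 (.node 2 (.node 1 (.leaf 0xa16a9d2f3943d53e7b7)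 (.leaf 0xa1a50f297aa7554288f)) (.node 1 (.leaf 0x1522aa1288aa94a1eaa3) (.leaf 0x15265335519fd154e511))) (.node 2 (.node 1 (.leaf 0xa2851e28a9444a267f4) (.leaf 0xfea51b3fa2a4913a515)) (.node 1 (.leaf 0x130459a28b9f74b40519) (.leaf 0x130a5192929f7d51259a))))) (.node 8 (.node 4 (.node 2 (.node 1 (.leaf 0xa64a9242f146cf3c51d) (.leaf 0xa6084a28e94c0a4c85e)) (.node 1 (.leaf 0xb886ea2d31710dc4529) (.leaf 0x1096531550a12ca5e6e4))) (.node 2 (.node 1 (.leaf 0x10be6e4299a17cdc0531) (.leaf 0x1552aa737026f0a66704)) (.node 1 (.leaf 0x155eaad29aaaaca6e61c) (.leaf 0xa6a54355798611fa61e)))) (.node 4 (.node 2 (.node 1 (.leaf 0x11fe5372a39fc555a539) (.leaf 0x119aab329daac4a7a612)) (.node 1 (.leaf 0xfb653d3ed1f595667d8) (.leaf 0x11a2ab729faad509e541))) (.node 2 (.node 1 (.leaf 0x157eabd55d9505572ab5) (.leaf 0x1582541556aaf4a8eab7)) (.node 1 (.leaf 0xa82ac12a1aafd31a8d1)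 (.leaf 0x158a77a3bc2ae4a8aac3)))))))))

def zStep_4 : Tree := (.node 128 (.node 64 (.node 32 (.node 16 (.node 8 (.node 4 (.node 2 (.node 1 (.leaf 0x13225453b9151cef4549) (.leaf 0x113054b5639535006553)) (.node 1 (.leaf 0x142ca8d2a7aa5caa275f) (.leaf 0x143054f5649554aa6761))) (.node 2 (.node 1 (.leaf 0x1134a8f2a9a269592ac7) (.leaf 0x1434a1c2aaa874ab2769)) (.node 1 (.leaf 0x10785592abab2d438567) (.leaf 0x1074acb41d956559456d)))) (.node 4 (.node 2 (.node 1 (.leaf 0x159eacd2ada0450225cb) (.leaf 0x15a655b56895750265cd)) (.node 1 (.leaf 0xab6ad3567957d5aa5cf) (.leaf 0x15b25612aeab5cace5d1))) (.node 2 (.node 1 (.leaf 0xaba55f56cab4d5b65d3) (.leaf 0xad6adb2b2ab7cabeadd)) (.node 1 (.leaf 0x15caad757195855c25d7) (.leaf 0xac2ad92b1ab955ce5d9))))) (.node 8 (.node 4 (.node 2 (.node 1 (.leaf 0xae2565573a27cac6ae9) (.leaf 0xae6ae956ea2855b8565)) (.node 1 (.leaf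 0x15de56d576959d5d6acb) (.leaf 0xace56f2b4abbd5e283c))) (.node 2 (.node 1 (.leaf 0x15b656b578abd4ad2af3) (.leaf 0x15baaf32b9abdd49456b)) (.node 1 (.leaf 0x15beaf555515ad05aaf7) (.leaf 0x15faaeb57dab84adaaf9)))) (.node 4 (.node 2 (.node 1 (.leaf 0xad8aee2b695b95f683b) (.leaf 0x15ceaf12b8ac04adeaff)) (.node 1 (.leaf 0x15d257357fa275606571) (.leaf 0x1496b035251e78ae67a0))) (.node 2 (.node 1 (.leaf 0xeda7712baac14aee77f) (.leaf 0x101cb0940795dd60e831)) (.node 1 (.leaf 0x10185772bcac24ee2826) (.leaf 0x108283e2bda10d07e57f)))))) (.node 16 (.node 8 (.node 4 (.node 2 (.node 1 (.leaf 0x107e84037615fcc62843) (.leaf 0xafe8422c1a0fd616841)) (.node 1 (.leaf 0xc4e9a0585ac3cb06b0d) (.leaf 0xb3273d588962d61e90a))) (.node 2 (.node 1 (.leaf 0xb1a7c92c798596265a3) (.leaf 0xfce7e25899f9cb1e994)) (.node 1 (.leaf 0x12148b858a965ceaa599) (.leaf 0x1622b192ccac5cfeeb15))))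 (.node 4 (.node 2 (.node 1 (.leaf 0xb369832cea144dbe984) (.leaf 0x12f659f58d96850a67c7)) (.node 1 (.leaf 0xb3e97b30a168d63a616) (.leaf 0xf849863c81f08b52792))) (.node 2 (.node 1 (.leaf 0xb6a6d55279b5d3345ad) (.leaf 0xb5ea5345c16c541073f)) (.node 1 (.leaf 0xda0a552d9a658b62996) (.leaf 0xfd29943f01fa4b6a7e2))))) (.node 8 (.node 4 (.node 2 (.node 1 (.leaf 0x16425cb58fa1853ceacd) (.leaf 0xb96b212e7a18d646acf)) (.node 1 (.leaf 0x164eb1f2e6ac953d2ad1) (.leaf 0xb9a5cf593974d652ad3))) (.node 2 (.node 1 (.leaf 0xcacb2959198d8b9e638) (.leaf 0x165a5d75959745104ad7)) (.node 1 (.leaf 0xba25d92e9acb565ead9) (.leaf 0xbc65d559798ccba65da)))) (.node 4 (.node 2 (.node 1 (.leaf 0x11068825989794bae87a) (.leaf 0x166ab332eba1cd662ae3)) (.node 1 (.leaf 0xbaeb2d59a9765658ae5) (.leaf 0xbd2b2f2edacb8bb2b2e))) (.node 2 (.node 1 (.leaf 0xbd65dd314176d13e632) (.leaf 0xbc85e554c2208bbe870))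 (.node 1 (.leaf 0x153ca9b2efa9455307a5) (.leaf 0xbbe5e754f1784bcc7a7))))))) (.node 32 (.node 16 (.node 8 (.node 4 (.node 2 (.node 1 (.leaf 0x165e5e92f197a0bc25e8) (.leaf 0x10e287054aa1e90d45e5)) (.node 1 (.leaf 0xef6ac42f6acdd5085ef) (.leaf 0x167296253697bd4deb37))) (.node 2 (.node 1 (.leaf 0x15845ef303a588be6ac4) (.leaf 0xbdeac22f8ace567677b)) (.node 1 (.leaf 0xbee60b59dacf4be29d7) (.leaf 0xbe65f5306a9e53f87d3)))) (.node 4 (.node 2 (.node 1 (.leaf 0x16769fc2fbad04beab3f) (.leaf 0x13ae60f59fad156865f7)) (.node 1 (.leaf 0x167a6115a397dcbf6b45) (.leaf 0x11946132fead24bf2ab2))) (.node 2 (.node 1 (.leaf 0x10046155a697e56965fb) (.leaf 0x1010b4f2fda02168eb4d)) (.node 1 (.leaf 0x16a25ff55920d4fb65fd) (.leaf 0xbfa60146520850f2b51))))) (.node 8 (.node 4 (.node 2 (.node 1 (.leaf 0xbfeb5130ca08d19a601) (.leaf 0xeee6b448d980cd8c605)) (.node 1 (.leaf 0xef26035621ad1514607)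 (.leaf 0x124e605359181d3466b4))) (.node 2 (.node 1 (.leaf 0xc0e609561249d390779) (.leaf 0xc22b3d5a9982ceca9d5)) (.node 1 (.leaf 0x134eb434d5a2b4c1e9be) (.leaf 0x13aab453a8183d15e611)))) (.node 4 (.node 2 (.node 1 (.leaf 0x16a6b553089d38c2e750) (.leaf 0x119cb495ac984d6aeab0)) (.node 1 (.leaf 0x116ab4b58e2d5cc2a8b5) (.leaf 0xf8c6175a79f216aa97a))) (.node 2 (.node 1 (.leaf 0xe3e84c42d1884eb261b) (.leaf 0x16b696657b98752d4aaa)) (.node 1 (.leaf 0x16ba61d55b25993e8aac) (.leaf 0xc3ab5d30fad6d3f4aae)))))) (.node 16 (.node 8 (.node 4 (.node 2 (.node 1 (.leaf 0x13f08c84fd2310c3eb5f) (.leaf 0x16168c2313a30cc46b61)) (.node 1 (.leaf 0x13406274622300c4ab63) (.leaf 0x161ab635b0ad9d6ca627))) (.node 2 (.node 1 (.leaf 0x161e8c05b4989cc5eb67) (.leaf 0x112c62b44f2db4c52b6b)) (.node 1 (.leaf 0xfe6b6b316adbd14262b) (.leaf 0x1164b6d5b898ad19eb6f)))) (.node 4 (.node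 2 (.node 1 (.leaf 0xfeeb75317adcd6d27fd) (.leaf 0x11a663c31898ecdd88d3)) (.node 1 (.leaf 0xca663631aaca4c66634) (.leaf 0xcaa6395bb98d51aeb28))) (.node 2 (.node 1 (.leaf 0xcb2b7931cac891b2b22) (.leaf 0xc826404a6a36cc7eb7b)) (.node 1 (.leaf 0x16f6b7a4a8a3756fa641) (.leaf 0x17066495c0990d6fe69d))))) (.node 8 (.node 4 (.node 2 (.node 1 (.leaf 0xc8664b322ae0d70a69f) (.leaf 0x11c66475c2ae1cc8a8e3)) (.node 1 (.leaf 0x11cab875c4991d20e8e5) (.leaf 0x11ceb7f4bea39cc928e7))) (.node 2 (.node 1 (.leaf 0xc92b834c0992d1d26ab) (.leaf 0x11d6b85326a3acc968eb)) (.node 1 (.leaf 0x11da64f5c59934caa8ed) (.leaf 0x11deb8f327ae34cb28ef)))) (.node 4 (.node 2 (.node 1 (.leaf 0x16526565c8994d36a654) (.leaf 0x16eeb9532aae4d716b90)) (.node 1 (.leaf 0x1644b9732b9965364659) (.leaf 0x16f26595caae5d71eb97))) (.node 2 (.node 1 (.leaf 0xcc665b332a67ce4294a) (.leaf 0x173ab9b32eae64cbe6c8))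 (.node 1 (.leaf 0xcba6cb5ce9b28fde6ca) (.leaf 0xfe265f367a3fd736661)))))))) (.node 64 (.node 32 (.node 16 (.node 8 (.node 4 (.node 2 (.node 1 (.leaf 0x133e6695d0998d73e924) (.leaf 0xea6667390ae8cccaa0b)) (.node 1 (.leaf 0xe9ea0b335ad4974a667) (.leaf 0xea2ba34ea199d1cab52))) (.node 2 (.node 1 (.leaf 0x132eb9f36a1b44cd26d1) (.leaf 0x109871f5d29d08cd6846)) (.node 1 (.leaf 0x121aba9336ae9cebe90d) (.leaf 0x121e66d5d599c4ec290f)))) (.node 4 (.node 2 (.node 1 (.leaf 0x1222bb15d799bd75a911) (.leaf 0x122666f5d9aec4cea913)) (.node 1 (.leaf 0x122abb3338a454cf2915) (.leaf 0x1510a48513aeb4ce698e))) (.node 2 (.node 1 (.leaf 0x12ec6734a119d5490681) (.leaf 0xce697645199dd308683)) (.node 1 (.leaf 0x176e67933aaed5766685) (.leaf 0xcea6775dba5d923e687))))) (.node 8 (.node 4 (.node 2 (.node 1 (.leaf 0x1772bb551c99e524268b) (.leaf 0xcf2bb733daee524668d)) (.node 1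 (.leaf 0xe2867d5dd9a54d02900) (.leaf 0x114e67f4a322a4e0c948))) (.node 2 (.node 1 (.leaf 0x12e8946340a501776942) (.leaf 0xd026834ba1a1d77a976)) (.node 1 (.leaf 0xe20bbd3892f04d06bbf) (.leaf 0x178e68b5e29a15786bb5)))) (.node 4 (.node 2 (.node 1 (.leaf 0xd0a68d343af1d792bb7) (.leaf 0xd426895e4af34d0ebcb)) (.node 1 (.leaf 0xd46bcb348af4579e689) (.leaf 0xd4abcd5e99a25782bd1))) (.node 2 (.node 1 (.leaf 0x17b2bc35eb9a9cd16bd5) (.leaf 0x17babdb345a8857aea39)) (.node 1 (.leaf 0xd16bc75ee9a357bebb9) (.leaf 0xd5abc9347af10d1abe1)))))) (.node 16 (.node 8 (.node 4 (.node 2 (.node 1 (.leaf 0xd5e6915f0a4a17c668f) (.leaf 0xd6269348c1a3cf1a928)) (.node 1 (.leaf 0x128abe35e7af94d22945) (.leaf 0xd669284931a4538a693))) (.node 2 (.node 1 (.leaf 0xd6a7763499de0f26926) (.leaf 0xd2a69734c1c517ce8f8)) (.node 1 (.leaf 0xd36be746dafacd2ebe9) (.leaf 0x17ce69b5f32fbcd32bed))))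 (.node 4 (.node 2 (.node 1 (.leaf 0x17d2bed46eafcd7e269b) (.leaf 0x17d6bef5fa9a6cd4abf3)) (.node 1 (.leaf 0x17f66a75fcaf0cd3abf7) (.leaf 0x17febfd34eae857f2b81))) (.node 2 (.node 1 (.leaf 0xd3a6ab5ff9a7d802b83) (.leaf 0x17926ad350b014d3ec03)) (.node 1 (.leaf 0x17966a3601b01d2ba6a1) (.leaf 0x179a6a56049a857dec07))))) (.node 8 (.node 4 (.node 2 (.node 1 (.leaf 0x17a2c076069a8d8166a5) (.leaf 0x17a6886352a2217eac0d)) (.node 1 (.leaf 0x1822bf7607af552ca6a7) (.leaf 0x18268ba353a2f0d52c0f))) (.node 2 (.node 1 (.leaf 0xd4ebfb609af6582ac11) (.leaf 0xdfe6a95fe9c0517497f)) (.node 1 (.leaf 0xd526ff3559bf582e981) (.leaf 0x182ac0160bb06cd56c19)))) (.node 4 (.node 2 (.node 1 (.leaf 0x17c2c03357b0752e26ad) (.leaf 0x1788c055e31ab5836c1d)) (.node 1 (.leaf 0x12506b34951abd83e6b1) (.leaf 0x123091a358a478d8692a))) (.node 2 (.node 1 (.leaf 0x137ec1f4d125e4d669a6)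 (.leaf 0x10a68556119add8428b6)) (.node 1 (.leaf 0x12fac25473b084d7297d) (.leaf 0x13326b96139aed84a96b))))))) (.node 32 (.node 16 (.node 8 (.node 4 (.node 2 (.node 1 (.leaf 0xd729994749af530296d) (.leaf 0xfb885135fa60cd7a6c2)) (.node 1 (.leaf 0xfbe6c3363a615234850) (.leaf 0x15168564c7aa2cd8aa26))) (.node 2 (.node 1 (.leaf 0x185ec2d6159b25852b98) (.leaf 0x18626c95cdb0b4d9eb9a)) (.node 1 (.leaf 0xd92c31365b0bcffab9c) (.leaf 0x186ac334c3b0a4d9a916)))) (.node 4 (.node 2 (.node 1 (.leaf 0x10026cd5121b3d8666d3) (.leaf 0x14a86d15262e7cda6b9f)) (.node 1 (.leaf 0xdca85e61b9b94db684a) (.leaf 0x1212c3936da17186e85c))) (.node 2 (.node 1 (.leaf 0x12fe9814e09b7d3326ff) (.leaf 0xdc26e95541b8d0b0707)) (.node 1 (.leaf 0x186eaa23729d5cdceaa0) (.leaf 0x12026e755323e5544715))))) (.node 8 (.node 4 (.node 2 (.node 1 (.leaf 0x11888444d027e0ddec3b) (.leaf 0xe047124bc1d0114e6f1))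 (.node 1 (.leaf 0xe1a74b38d1bc4e2c740) (.leaf 0x115ac3d378a69cde6978))) (.node 2 (.node 1 (.leaf 0xe1c6f15df9d2cdea712) (.leaf 0xde270e4569c34e4e702)) (.node 1 (.leaf 0xe52c3f4f29bcd35a6f7) (.leaf 0xe566f3620b0fd87a6f9)))) (.node 4 (.node 2 (.node 1 (.leaf 0xe5ac4137ab10d77e6fb) (.leaf 0xe5ec4537ba7751e89e5)) (.node 1 (.leaf 0xe626f76239be51e2c3f) (.leaf 0xe666fb37cb124dfac41))) (.node 2 (.node 1 (.leaf 0xe6ac496269bed896c43) (.leaf 0x189ec17558b12cdfeb58)) (.node 1 (.leaf 0x17fabff37f9fa95629c1) (.leaf 0x12f2c51381a6fce0a8ac)))))) (.node 16 (.node 8 (.node 4 (.node 2 (.node 1 (.leaf 0x184ec534cc9c153829bd) (.leaf 0x177470538ab14d8a2aa6)) (.node 1 (.leaf 0xe0abba383b09d28eaa8) (.leaf 0xe8e7173859c90e94709))) (.node 2 (.node 1 (.leaf 0xe9271962a9c25150724) (.leaf 0xe4872662b9d1ce1e749)) (.node 1 (.leaf 0x177cc5b387b1658ae711) (.leaf 0x1780c5f62e9c457d4c59))))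 (.node 4 (.node 2 (.node 1 (.leaf 0x1778711628b17ce2ac5b) (.leaf 0xe3871d3a09c6ce8471b)) (.node 1 (.leaf 0x115ec614831c8d7108ab) (.leaf 0x11267235a0b184e5688d))) (.node 2 (.node 1 (.leaf 0x18acb41392a7f0e5ac54) (.leaf 0x13b6c635c62e20e529db)) (.node 1 (.leaf 0x13cac65394a6cd71872f) (.leaf 0x187e7296339cad8c6731))))) (.node 8 (.node 4 (.node 2 (.node 1 (.leaf 0x188272d395a9ed682733) (.leaf 0x1886a7b6349cb54f2735)) (.node 1 (.leaf 0x13bac6b4d69cbd3ca9b3) (.leaf 0x188a72f636b1ad0c2c65))) (.node 2 (.node 1 (.leaf 0x188ec6d398b1bd0cac67) (.leaf 0x189273553e9ccd8e2a7b)) (.node 1 (.leaf 0x18eac716391cece6ac73) (.leaf 0x189ac7939ab1dd8e4c69)))) (.node 4 (.node 2 (.node 1 (.leaf 0x18fe73b63eb1c4e6ec7b) (.leaf 0x1632b1139b9e958faa51)) (.node 1 (.leaf 0xe6e73f58c9ce5178a53) (.leaf 0x1906c7b640b1cd7d273b))) (.node 2 (.node 1 (.leaf 0x1180b0f39da680e7ac81)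 (.leaf 0xe76c7f46031d517cc83)) (.node 1 (.leaf 0x18aa8903a4a76111cc57) (.leaf 0x1408c853a6ac4ce9ea08)))))))))

def zStep_5 : Tree := (.node 128 (.node 64 (.node 32 (.node 16 (.node 8 (.node 4 (.node 2 (.node 1 (.leaf 0x141674f3adad5190a753) (.leaf 0x17467516439d4d406b54)) (.node 1 (.leaf 0x13fcaa43aaaa8162a757) (.leaf 0x1912757642aa88eb6aa4))) (.node 2 (.node 1 (.leaf 0xeaec893acb0dd0b49fe) (.leaf 0x14029053aeb22d4a0903)) (.node 1 (.leaf 0x191ca956479d7d91aa97) (.leaf 0x192675f648aa55752a8d)))) (.node 4 (.node 2 (.node 1 (.leaf 0xebec933b1b239422a16) (.leaf 0x192ac913b0b255756ac9)) (.node 1 (.leaf 0xec276364a9dad42aa18) (.leaf 0x1008c993b2b25d6a6a10))) (.node 2 (.node 1 (.leaf 0x100c76564d9d9d67aa14) (.leaf 0x10147693b39da0edaa1c)) (.node 1 (.leaf 0xed280a3b5a02d018a1a) (.leaf 0x160a76f64e9db4edc77d))))) (.node 8 (.node 4 (.node 2 (.node 1 (.leaf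 0x1942c9f3b7a4ed938785) (.leaf 0xedeb056509dc5946787)) (.node 1 (.leaf 0xee67754c81e5548c795) (.leaf 0xf8879248b9f10eee986))) (.node 2 (.node 1 (.leaf 0x166eab86529ded578b39) (.leaf 0x19567836549e8cefaca7)) (.node 1 (.leaf 0x1962caf3beb2b5952c9d) (.leaf 0xefa7876589dfd966b05)))) (.node 4 (.node 2 (.node 1 (.leaf 0xf527893c0b2d4efea6b) (.leaf 0x1976ca765c9ebd96e783)) (.node 1 (.leaf 0x197ecbd3c1a8d4f0acb9) (.leaf 0xf06cab65f9ecd982cbb))) (.node 2 (.node 1 (.leaf 0x198acc34909e1547293b) (.leaf 0x198e785657b30d97ac9f)) (.node 1 (.leaf 0xf0acc73c3b315992ca1) (.leaf 0x1982cb3664b32cf0ecc8)))))) (.node 16 (.node 8 (.node 4 (.node 2 (.node 1 (.leaf 0xf76a6b3c5b33d99a789) (.leaf 0xf7acb56689e25996ccf)) (.node 1 (.leaf 0x14b078f666a930f16cd3) (.leaf 0xf7e7916199e2d44878d))) (.node 2 (.node 1 (.leaf 0xf829163c6b355230c33) (.leaf 0x106ecd341b293905478f))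 (.node 1 (.leaf 0xf3a7974c92910f2acd7) (.leaf 0xf3ecd742ca929552797)))) (.node 4 (.node 2 (.node 1 (.leaf 0x19b2ba43cca1f54149f3) (.leaf 0xf3285b66c9e6d9109f5)) (.node 1 (.leaf 0x132485d3ceb0e0f36c38) (.leaf 0x19ae79f61c2c0952679d))) (.node 2 (.node 1 (.leaf 0x14887a166d9e74f5ab02) (.leaf 0x19ba7af5f7329d8107a3)) (.node 1 (.leaf 0x19bebf23d1afb0f4abee) (.leaf 0xf467b366fb2ad9c2cdd))))) (.node 8 (.node 4 (.node 2 (.node 1 (.leaf 0x162e7a53daac457e4a9b) (.leaf 0xf4ab173d3ac659c6a9e)) (.node 1 (.leaf 0x19c27b9671b39cf4ece5) (.leaf 0x14d67bb3d5b3a4f747a9))) (.node 2 (.node 1 (.leaf 0x196a7bd6759ea59cece9) (.leaf 0x14cea413d6b3b59b6a31)) (.node 1 (.leaf 0x195ac08443b2c4f5ecef) (.leaf 0x19e2bf43d79ec510e7b1)))) (.node 4 (.node 2 (.node 1 (.leaf 0xf5ecdd678b2ed9e67b3) (.leaf 0x19ea7b15f92fd0f6abf4)) (.node 1 (.leaf 0xf62cf53d9b3c59eecf1) (.leaf 0xf72ce167bb3ecf66cf9)))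 (.node 2 (.node 1 (.leaf 0xf6a7b758ba23d3c6a9d) (.leaf 0x19ee9e33dca784f6e9eb)) (.node 1 (.leaf 0x19f2ce54f5b3fd9fa7b9) (.leaf 0x19f6ce76379ee4f7acff))))))) (.node 32 (.node 16 (.node 8 (.node 4 (.node 2 (.node 1 (.leaf 0x199ece96819eeda027bd) (.leaf 0x19a2d073deb4158ded03)) (.node 1 (.leaf 0x1866c353dfb4251087c1) (.leaf 0x19aad0d6859f0550ed09))) (.node 2 (.node 1 (.leaf 0x122c7c13e2b434fbec35) (.leaf 0x130e7c361aa61d1487c5)) (.node 1 (.leaf 0x19308056879f34f8ea0f) (.leaf 0x169c8093e3ad39a1eb1b)))) (.node 4 (.node 2 (.node 1 (.leaf 0xfaab133e5b214f92d11) (.leaf 0xfae7e06889f694ae7cb)) (.node 1 (.leaf 0x1662a0d441a83d6547cd) (.leaf 0x192c7cd64ba014f9ea0d))) (.node 2 (.node 1 (.leaf 0xf9ac9643d32610f8b31) (.leaf 0x1a2687d3e7ae9192ea61)) (.node 1 (.leaf 0xf9e7d16899f4da24a79) (.leaf 0x10f8d1243f3360fa2a62))))) (.node 8 (.node 4 (.node 2 (.node 1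 (.leaf 0x16267d53f3a810fa699c) (.leaf 0x1a2299c3eba81933c7d5)) (.node 1 (.leaf 0x190aa046449f559b0a06) (.leaf 0x17407eb4cf2ff8fae9c2))) (.node 2 (.node 1 (.leaf 0xfd6ba04cd2ff149e9c4) (.leaf 0x1a2ac0f4161fb55568ba)) (.node 1 (.leaf 0x1a2e7ed3fdb03cfe28bc) (.leaf 0xfdad173f7b45573a8be)))) (.node 4 (.node 2 (.node 1 (.leaf 0x16ded194dd9fcd37a8b2) (.leaf 0x16d67f344e3464fea896)) (.node 1 (.leaf 0x16e6d1b6259fdd89a7f9) (.leaf 0x16ea7f745e346d6327fb))) (.node 2 (.node 1 (.leaf 0x181aa285e89ffcff2bd3) (.leaf 0x1a3ed1d3fcad617a2c4b)) (.node 1 (.leaf 0x1a467f96909fed450d1b) (.leaf 0xff2d2368f9ff5a4ab73)))))) (.node 16 (.node 8 (.node 4 (.node 2 (.node 1 (.leaf 0xff67fd68bb48d862b75) (.leaf 0x111088a4542f4d8aa7ff)) (.node 1 (.leaf 0xffe884452303586a888) (.leaf 0x1698b1b401ad3158e809))) (.node 2 (.node 1 (.leaf 0x1934d0f403b269012a13) (.leaf 0x161080f583203501c825))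 (.node 1 (.leaf 0x1a52811693ab3559a861) (.leaf 0x1022d2940aab3da56863)))) (.node 4 (.node 2 (.node 1 (.leaf 0x1a5ed27409b4b55a2865) (.leaf 0x1026815697a065a62867)) (.node 1 (.leaf 0x15aad31695b4cd02aad5) (.leaf 0x1a6e81d69aa05d9dc86b))) (.node 2 (.node 1 (.leaf 0x102e81f40cb4dda7286d) (.leaf 0x105281b69cb4f5032d3b)) (.node 1 (.leaf 0x1056d3b411b4fd04481b) (.leaf 0x105ad3d68a206da66d3f))))) (.node 8 (.node 4 (.node 2 (.node 1 (.leaf 0x1a82cee603a0bd03ac09) (.leaf 0x1a86c0b40eab8d80e873)) (.node 1 (.leaf 0x103ad376a1a07da8a875) (.leaf 0x1066d39410b52503ed47))) (.node 2 (.node 1 (.leaf 0x106a8236a3ad45a74821) (.leaf 0x193882f58233b904acb0)) (.node 1 (.leaf 0x1946ca2412ac19608b06) (.leaf 0x104a830651a09d942b08)))) (.node 4 (.node 2 (.node 1 (.leaf 0x1a72833414b53504ed4b) (.leaf 0x1a7682b6a5afe19a4829)) (.node 1 (.leaf 0x1a7a82d5fb20a55eabf8) (.leaf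 0x1a7ebf845da0ad7f882d))) (.node 2 (.node 1 (.leaf 0x195ccb06633025a9e82f) (.leaf 0x193cca0417b545062cc6)) (.node 1 (.leaf 0x105ec9c64f350593ecae) (.leaf 0x1a8ed4b41ab555aa6833)))))))) (.node 64 (.node 32 (.node 16 (.node 8 (.node 4 (.node 2 (.node 1 (.leaf 0x1a92d4d6aba0cdaa0d55) (.leaf 0x19a68376a9a95906aa58)) (.node 1 (.leaf 0x143ea2357520e55d8a2f) (.leaf 0x1ab0d595652bb1076aec))) (.node 2 (.node 1 (.leaf 0x159483b6ac20f5ab2aee) (.leaf 0x1186b0a422ac2d086d5b)) (.node 1 (.leaf 0x118ec3a6adadf161a845) (.leaf 0x11929f96aea11508eb7c)))) (.node 4 (.node 2 (.node 1 (.leaf 0x109e9f3423a985ababa4) (.leaf 0x1542a91425a7fd092c36)) (.node 1 (.leaf 0x1748cd9426b44d40a84f) (.leaf 0x14c2a6353ca13d8d2d13))) (.node 2 (.node 1 (.leaf 0x13e684f4faa98d56ecd9) (.leaf 0x1846ac7429b08d636a8f)) (.node 1 (.leaf 0x163ac2145a30950aab1d) (.leaf 0x1ac2865430b57d8dad27)))))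 (.node 8 (.node 4 (.node 2 (.node 1 (.leaf 0x10c28636b0ac85ac6d29) (.leaf 0x11e8d63434a3610c68d8)) (.node 1 (.leaf 0x1aced5f6b2a195a0ad2d) (.leaf 0x10cad61433b59dad2d2f))) (.node 2 (.node 1 (.leaf 0x11e28696b4a3550ce8d6) (.leaf 0x1adac8c435b5ad528d35)) (.node 1 (.leaf 0x10d68756b6a1b50e8d37) (.leaf 0x1102877437a1d90da876)))) (.node 4 (.node 2 (.node 1 (.leaf 0x152ac8e438b24d0e6a99) (.leaf 0x1ade8736462ccd91cc0b)) (.node 1 (.leaf 0x10e6d6f43aacd5ad8d43) (.leaf 0x1452c0c677a215a68887))) (.node 2 (.node 1 (.leaf 0x110ebd2656a22dae2a29) (.leaf 0x1122c54446acfd116b41)) (.node 1 (.leaf 0x112a8ab6b9a235432c61) (.leaf 0x1682c56449aced8b4891)))))) (.node 16 (.node 8 (.node 4 (.node 2 (.node 1 (.leaf 0x167e9d94eba2453c2b3b) (.leaf 0x187a8ad62d2d0d126c50)) (.node 1 (.leaf 0x18c28af6baa24d68a895) (.leaf 0x1ae6d7744ab5cd136d75))) (.node 2 (.node 1 (.leaf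 0x16d88b36bda25daf2d18) (.leaf 0x16968b56beb5e5132b4b)) (.node 1 (.leaf 0x158cc2244cab19afa89b) (.leaf 0x151c89b45baa39aeec22)))) (.node 4 (.node 2 (.node 1 (.leaf 0x113a8a15b52ba56d689f) (.leaf 0x1162c8a455a41142e906)) (.node 1 (.leaf 0x19148b16bba80116ea02) (.leaf 0x16aed796bfa2d5166b57))) (.node 2 (.node 1 (.leaf 0x16e0d81459aae9afe9ba) (.leaf 0x1176c1269fa2fd89cd14)) (.node 1 (.leaf 0x117a8bf5ba30498fcd16) (.leaf 0x1900b666412d896ce8c1))))) (.node 8 (.node 4 (.node 2 (.node 1 (.leaf 0x1ab6b60463ad85b068c3) (.leaf 0x18748c75b12d79b0a8c5)) (.node 1 (.leaf 0x16cad856c1b61118eb65) (.leaf 0x16f8b5e6c3a31d6be8c9))) (.node 2 (.node 1 (.leaf 0x1abad89464b61d1a2d87) (.leaf 0x15668cd5a8362d6a28cb)) (.node 1 (.leaf 0x16908cf6c6a32d6dad8b) (.leaf 0x1562d8b627a335a7c8cf)))) (.node 4 (.node 2 (.node 1 (.leaf 0x16b0d8f467b47d6e2c4f) (.leaf 0x156ad956c9a345b22abf))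 (.node 1 (.leaf 0x156e8d15ae3655b12ac1) (.leaf 0x11e6d9946bb65d6eed68))) (.node 2 (.node 1 (.leaf 0x11ee8d96ccb5896f2d62) (.leaf 0x11ba8dc5f4aded9028db)) (.node 1 (.leaf 0x16ccc805f8ac311bab0e) (.leaf 0x16fe8e76cdadfd1beb7f))))))) (.node 32 (.node 16 (.node 8 (.node 4 (.node 2 (.node 1 (.leaf 0x18a6c2746faee9b36957) (.leaf 0x11be8e9629a385706959)) (.node 1 (.leaf 0x170a8eb471ae151c2b85) (.leaf 0x170e8e56cea38d746b87))) (.node 2 (.node 1 (.leaf 0x1712d9f472a7693a8b89) (.leaf 0x1716da1476ae2d1e6b8b)) (.node 1 (.leaf 0x171ada34ed23bd3b8b8d) (.leaf 0x171e8ef6d0b68d1eeb8f)))) (.node 4 (.node 2 (.node 1 (.leaf 0x1ad2da7478b69588e8f2) (.leaf 0x1b2eda95c923cd726da4)) (.node 1 (.leaf 0x1b328f347bb6a5b42da6) (.leaf 0x1ac48f56d323dd8888f7))) (.node 2 (.node 1 (.leaf 0x1b5edad6d5a3ed732988) (.leaf 0x1b628fb4c5b6b51fe98a)) (.node 1 (.leaf 0x11f6db147eb6bd55e98c)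 (.leaf 0x187290966b264d202993))))) (.node 8 (.node 4 (.node 2 (.node 1 (.leaf 0x154caa8480a55d9acbba) (.leaf 0x14069076d9a40d70ec8b)) (.node 1 (.leaf 0x1628a50485aa6920ab10) (.leaf 0x174edb96dba435b6aba7))) (.node 2 (.node 1 (.leaf 0x175290d6ddb6e541eba9) (.leaf 0x1756dbb487aead426bab)) (.node 1 (.leaf 0x1a18cd46dea45d222c28) (.leaf 0x175edbf488b6ddb7abaf)))) (.node 4 (.node 2 (.node 1 (.leaf 0x17629116e0a44d9a8bb1) (.leaf 0x1766915489aecd23abb3)) (.node 1 (.leaf 0x1b8a9216e1a47576a92f) (.leaf 0x123a92348fb71576e931))) (.node 2 (.node 1 (.leaf 0x1242dc5662a48db8e93d) (.leaf 0x13849c4492ae01252ba0)) (.node 1 (.leaf 0x13a092d60f372d256dc9) (.leaf 0x1398dc94d4b17536292d)))))) (.node 16 (.node 8 (.node 4 (.node 2 (.node 1 (.leaf 0x139cdcb62ca4b526ec5d) (.leaf 0x1ba29396e7a55525edcd)) (.node 1 (.leaf 0x12e4dd3497a4f9b9edc3) (.leaf 0x125e93d4b924c5baadc5)))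 (.node 2 (.node 1 (.leaf 0x12b693f499b749262dd7) (.leaf 0x12ba9356ebb76dbb2933)) (.node 1 (.leaf 0x12be9376eea4cdb96ddb) (.leaf 0x179edd94a2b5f926abcf)))) (.node 4 (.node 2 (.node 1 (.leaf 0x12c2ddb55ca4d5576937) (.leaf 0x12c6b3849bab0d8b2ab9)) (.node 1 (.leaf 0x1bc6dcd6f0a595bbe939) (.leaf 0x1bcede549cb485276de1))) (.node 2 (.node 1 (.leaf 0x1272dd16f3a5a5bd2de3) (.leaf 0x1aa093b6e9b27dbcacc3)) (.node 1 (.leaf 0x1276d5049eb285a9acc5) (.leaf 0x1bd2dd56a6b73927adeb))))) (.node 8 (.node 4 (.node 2 (.node 1 (.leaf 0x12e2dd74a0b709bda93f) (.leaf 0x17c69456f6b66d282be3)) (.node 1 (.leaf 0x17cad9b612a51584ebe5) (.leaf 0x129e94d4a737c5296def))) (.node 2 (.node 1 (.leaf 0x12a2def5bdb7cd3ee94d) (.leaf 0x12a6df16faa53539cdf3)) (.node 1 (.leaf 0x1bde9516f72971bee94f) (.leaf 0x1be295352d253d2bea5c)))) (.node 4 (.node 2 (.node 1 (.leaf 0x1b0cdf75beb5712a2d5c)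 (.leaf 0x1be6a5c53925454c0953)) (.node 1 (.leaf 0x1beaa6e4a9a9c92c6a72) (.leaf 0x1bf296557a37357ee955))) (.node 2 (.node 1 (.leaf 0x1bf6af64aaabc92aeaf4) (.leaf 0x12aa9696fdb745bfadf9)) (.node 1 (.leaf 0x137a9574b5aaa15ecc27) (.leaf 0x12ae9bd4acaa99a32c53)))))))))

def zStep_6 : Tree := (.node 128 (.node 64 (.node 32 (.node 16 (.node 8 (.node 4 (.node 2 (.node 1 (.leaf 0x1bfa96f68cb5592b2d7a) (.leaf 0x1bae9714aeb7fd80695b)) (.node 1 (.leaf 0x1ba49736a8a56daacdff) (.leaf 0x1bb6961570a5755c695f))) (.node 2 (.node 1 (.leaf 0x1bbaa6c4afabe54b4ae1) (.leaf 0x1c06ae3700b02d2c2b33)) (.node 1 (.leaf 0x1572b364b0ab15c02963) (.leaf 0x1c0aaab4b2aab581e967)))) (.node 4 (.node 2 (.node 1 (.leaf 0x12cadf9702b78dc0e969) (.leaf 0x12ceb5a4b4ad71c12e05)) (.node 1 (.leaf 0x12dedfd704b8352d2e0b) (.leaf 0x1c129bb4b7b83d2dad80))) (.node 2 (.node 1 (.leaf 0x1c16d7a6c0384dc2296f)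 (.leaf 0x1c1ad566ea25bd2e6e13)) (.node 1 (.leaf 0x1b84dff6e225c5c2a973) (.leaf 0x18a29795de307d2eac3c))))) (.node 8 (.node 4 (.node 2 (.node 1 (.leaf 0x1842b1d70ba5f52f6c21) (.leaf 0x1636b4c4bdac6dc2eb4e)) (.node 1 (.leaf 0x184a97d5f2ac752fec25) (.leaf 0x1382b814bfa7157cabfd))) (.node 2 (.node 1 (.leaf 0x1c3ae1b70ca63d312bac) (.leaf 0x1c42e1f4c4b0adc32daa)) (.node 1 (.leaf 0x1c4a989711a62dc36dac) (.leaf 0x1312e25710a635c4edae)))) (.node 4 (.node 2 (.node 1 (.leaf 0x131698d6d8b895582db0) (.leaf 0x150a98f523b86d322a49)) (.node 1 (.leaf 0x131ea85545b87558aa89) (.leaf 0x133ad104caa82532eb12))) (.node 2 (.node 1 (.leaf 0x173e99752b2951a20a54) (.leaf 0x16c4b0c61d32018769a1)) (.node 1 (.leaf 0x16869a76e4b0f535ec1e) (.leaf 0x13be9ad714a6bd87e9b5)))))) (.node 16 (.node 8 (.node 4 (.node 2 (.node 1 (.leaf 0x13c29b14d7b3ddb929b7) (.leaf 0x13c6cf763ba6c59ea9b9))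 (.node 1 (.leaf 0x13ce9b3715b19572cc6b) (.leaf 0x13d2e2b4dab8b5722e29))) (.node 2 (.node 1 (.leaf 0x13d69b967ca6ddc1ecf7) (.leaf 0x1b26e0f55aa6ed372abb)) (.node 1 (.leaf 0x13dee2f4dcb1a556ac77) (.leaf 0x1376e095b7b64d6b4b71)))) (.node 4 (.node 2 (.node 1 (.leaf 0x183e9bf4e8b145386b42) (.leaf 0x17029c15c1a70d8a6bff)) (.node 1 (.leaf 0x13fab3a4e4b15d5869d8) (.leaf 0x13b0b3e4e5b15539a9fd))) (.node 2 (.node 1 (.leaf 0x18b8d705e0a7357a69cf) (.leaf 0x1b909cd5a135c167c9d1)) (.node 1 (.leaf 0x18b0e314e7aefdbe8bc1) (.leaf 0x1b949cf719a745be0d70))))) (.node 8 (.node 4 (.node 2 (.node 1 (.leaf 0x168a9d571aa75db3cb3d) (.leaf 0x18c69db71bb6793bec63)) (.node 1 (.leaf 0x18d69dd71cb115b449e7) (.leaf 0x1c52e394efb8edc6e9e9))) (.node 2 (.node 1 (.leaf 0x18eece34f1b13562e9ef) (.leaf 0x18ca9e571ea79d8d6c45)) (.node 1 (.leaf 0x1c569e94f3b8fd63ee39) (.leaf 0x1c5ae3f53fa7a5506e3b))))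 (.node 4 (.node 2 (.node 1 (.leaf 0x1c869ed67ea7c53d6e41) (.leaf 0x1b20e414f627dd3dc9ed)) (.node 1 (.leaf 0x13dae436c8a7edb26d90) (.leaf 0x18d2e45621a7bdbe4c4d))) (.node 2 (.node 1 (.leaf 0x1c5e9ef672b915c80ce3) (.leaf 0x1c8e9f76fb3905bde9f1)) (.node 1 (.leaf 0x1b12d5d4f8b7d93e6df6) (.leaf 0x13e29fb6c4b90d6b8e47))))))) (.node 32 (.node 16 (.node 8 (.node 4 (.node 2 (.node 1 (.leaf 0x16bcb7c4fbb0e96f69f9) (.leaf 0x13eee475af3641b0c9fb)) (.node 1 (.leaf 0x154a9ff503aa45402c88) (.leaf 0x1b66d74501b6cd90ed76))) (.node 2 (.node 1 (.leaf 0x140ea09552b4414a4c84) (.leaf 0x16a8b52724a82d930ba3)) (.node 1 (.leaf 0x1c96b2a59936d541ae00) (.leaf 0x1418b30506a841664c97)))) (.node 4 (.node 2 (.node 1 (.leaf 0x1c9aa13507b935b76d0f) (.leaf 0x141ea11726acc5926c98)) (.node 1 (.leaf 0x1426e4d50aa84d92ac9a) (.leaf 0x152ca9854ba85d536c8f))) (.node 2 (.node 1 (.leaf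 0x1518a17727aa61914c92) (.leaf 0x1590e4f50cab21ae6c94)) (.node 1 (.leaf 0x15d4afc50fb295440a2d) (.leaf 0x15f4a2157e2f6d5faa3b))))) (.node 8 (.node 4 (.node 2 (.node 1 (.leaf 0x1442afa511af755dea3d) (.leaf 0x15daaec577b565446d59)) (.node 1 (.leaf 0x19ded40514b275a40cad) (.leaf 0x1950a33655296dca2a2b))) (.node 2 (.node 1 (.leaf 0x194ccba515b37145acaa) (.leaf 0x1456a37653297dca6ca8)) (.node 1 (.leaf 0x14daddc59ca8b5caaca5) (.leaf 0x15f0a2d51db771974afc)))) (.node 4 (.node 2 (.node 1 (.leaf 0x145aaf8517a9b5caeaea) (.leaf 0x1ca6a3f72bb96d45ee59)) (.node 1 (.leaf 0x14d2a4372ea8c5cb6ced) (.leaf 0x1a9ee5172fb95d466e50))) (.node 2 (.node 1 (.leaf 0x1978cbe519b2e5cbea35) (.leaf 0x1466ca865e29c595ca37)) (.node 1 (.leaf 0x1970a3565d32f5476cbe) (.leaf 0x146acb851bb2fdcc2cbc)))))) (.node 16 (.node 8 (.node 4 (.node 2 (.node 1 (.leaf 0x147ee53730b98d46ee60)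 (.leaf 0x1ccea39732a8ed986bdb)) (.node 1 (.leaf 0x1472e675dca8f5cd2bdd) (.leaf 0x1476a3d57c399dcb0afa))) (.node 2 (.node 1 (.leaf 0x1cc2e5851fb9ad47aa3e) (.leaf 0x1cc6e5b736a8fd486e6a)) (.node 1 (.leaf 0x19b4cdb522b335482e6f) (.leaf 0x1502ced738a90599ea43)))) (.node 4 (.node 2 (.node 1 (.leaf 0x1506e75521b9cdcdae71) (.leaf 0x1606a4b737b3595e4a45)) (.node 1 (.leaf 0x150ebac73ba925760e1b) (.leaf 0x14aea4f5cf3349740a4d))) (.node 2 (.node 1 (.leaf 0x14a2b15529aa79548b19) (.leaf 0x1998ccd52cb36d4d6d52)) (.node 1 (.leaf 0x14b6a716f832a1c66a5f) (.leaf 0x14badf252fb7b9c8adf0))))) (.node 8 (.node 4 (.node 2 (.node 1 (.leaf 0x14caa77722b9ed4bee79) (.leaf 0x1c8ac69532b8bd4c6c79)) (.node 1 (.leaf 0x1cf2a7d63cb9fdcfaa65) (.leaf 0x1cf6a7f740a9954d2e7f))) (.node 2 (.node 1 (.leaf 0x19daa81742a99dd06a69) (.leaf 0x1cbae87534b975d02e85)) (.node 1 (.leaf 0x19d2ccf744a9ad9dacb5)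 (.leaf 0x194aae059baba95aca6d)))) (.node 4 (.node 2 (.node 1 (.leaf 0x14dedf4538a9d5c62a75) (.leaf 0x1caae33718ba2d4e2e8b)) (.node 1 (.leaf 0x14e6a756f937d1886df4) (.leaf 0x14f6c4353bb1054eac49))) (.node 2 (.node 1 (.leaf 0x14fae79624ba3dd1aa77) (.leaf 0x14fee7b716a9ddcc6e8f)) (.node 1 (.leaf 0x1d22e7d638b3f54fae7c) (.leaf 0x1d1ee7f71da9f59fea7f)))))))) (.node 64 (.node 32 (.node 16 (.node 8 (.node 4 (.node 2 (.node 1 (.leaf 0x1a02e83749ba09502d01) (.leaf 0x1ce2e95540b42dd26a83)) (.node 1 (.leaf 0x1ce6e97684aa0d64ad0b) (.leaf 0x1ceaa83743ba5dc7ee95))) (.node 2 (.node 1 (.leaf 0x1c36e1d682aa15acaa87) (.leaf 0x1ceee99543b40da16d05)) (.node 1 (.leaf 0x1758a8774daa25a1ae1d) (.leaf 0x1c9cac9546b93951ec91)))) (.node 4 (.node 2 (.node 1 (.leaf 0x1546c36549b221870a91) (.leaf 0x1536a9e54eac55538b17)) (.node 1 (.leaf 0x1556e0556f2abdd3ab5a) (.leaf 0x155aaaf560b815b62b5c)))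 (.node 2 (.node 1 (.leaf 0x1b16ab1600aacd7feb48) (.leaf 0x1b2aab574faaddc5eabd)) (.node 1 (.leaf 0x1d46abb750b601bb6e0f) (.leaf 0x1576ea355fadc5c06d93))))) (.node 8 (.node 4 (.node 2 (.node 1 (.leaf 0x1d4aea155eaf5d948e9f) (.leaf 0x157aabf752ab05d4ed95)) (.node 1 (.leaf 0x1c02ea7701b89d57ee4a) (.leaf 0x1d56ad1566baa5a4eb1f))) (.node 2 (.node 1 (.leaf 0x159aacf755b4a5d5ab21) (.leaf 0x1a56ead56ababd59ed2b)) (.node 1 (.leaf 0x1d66ea96b5ab45d62b25) (.leaf 0x15a2eab569bacdd6ab27)))) (.node 4 (.node 2 (.node 1 (.leaf 0x1a62ad575abadd5a6d31) (.leaf 0x1a66eb774e2b555bed33)) (.node 1 (.leaf 0x1d4ee0156bb59566cb2b) (.leaf 0x15aeae5753ab65d4ab2d))) (.node 2 (.node 1 (.leaf 0x15e2ae756dbaed5b2eb9) (.leaf 0x15e6add75cb7e95d0adb)) (.node 1 (.leaf 0x15eaadf6fc2b6dd6edfa) (.leaf 0x15eedfa5adab756dcadf)))))) (.node 16 (.node 8 (.node 4 (.node 2 (.node 1 (.leaf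 0x15c2ca46edabf5d42ddd) (.leaf 0x15c6e03572b50dd46b35)) (.node 1 (.leaf 0x1d42ea5751bafd5caebd) (.leaf 0x15feeb9574bb05d70ae7))) (.node 2 (.node 1 (.leaf 0x1602ebb761ab9dd7eec1) (.leaf 0x1d72aff579bb15cdcaf1)) (.node 1 (.leaf 0x1d76b015efabc57baec5) (.leaf 0x196ee5672cb9415f2e57)))) (.node 4 (.node 2 (.node 1 (.leaf 0x17b4bdc602abed600e66) (.leaf 0x1cdee6e581b54d5fecda)) (.node 1 (.leaf 0x1d82ec5763abfdaaab01) (.leaf 0x1d86c1a580b001808ec7))) (.node 2 (.node 1 (.leaf 0x160cb07584328d612ca3) (.leaf 0x16c2d5a586b56dab6b0b)) (.node 1 (.leaf 0x16d2c7d587afc1622bf0) (.leaf 0x1d96b25764ac7dd2eea9))))) (.node 8 (.node 4 (.node 2 (.node 1 (.leaf 0x163eb27590bb2dd9aeab) (.leaf 0x172cb23766ade1642b78)) (.node 1 (.leaf 0x1da2ecf592b4d5a12d6b) (.leaf 0x164aecb768ac9dda6eb3))) (.node 2 (.node 1 (.leaf 0x1722ecd594bb5564eb76) (.leaf 0x1daedb4696acadb70d65))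 (.node 1 (.leaf 0x1656e4a596bb5d668ea7) (.leaf 0x1666b3572535bdc96e03)))) (.node 4 (.node 2 (.node 1 (.leaf 0x1c62c5872ab169672c5e) (.leaf 0x168ee4859ead1d936e35)) (.node 1 (.leaf 0x1c6ac865a2b8d5aeab47) (.leaf 0x1c90b475aab92169ec86))) (.node 2 (.node 1 (.leaf 0x1af2b5776cad2d692d79) (.leaf 0x1b18c185a4bb1ddb2c00)) (.node 1 (.leaf 0x1afae165a5b5f569ad7d) (.leaf 0x1afeedb5abaf396b2d7f))))))) (.node 32 (.node 16 (.node 8 (.node 4 (.node 2 (.node 1 (.leaf 0x1b1cb5960c3471db6c16) (.leaf 0x1b06d825b2bb756c2d83)) (.node 1 (.leaf 0x1b0ab656c22d916c6d85) (.leaf 0x17e0edf5b3ada5904b69))) (.node 2 (.node 1 (.leaf 0x18fab6963fbb7d6eaedf) (.leaf 0x1a32b6f6feadadbf6b6d)) (.node 1 (.leaf 0x1af4e0b5b6bb85b1adfd) (.leaf 0x1b00b71705ba8db1ee09)))) (.node 4 (.node 2 (.node 1 (.leaf 0x18e4ee363ab2096e6c74) (.leaf 0x1896ee55b9b13d8ead1f)) (.node 1 (.leaf 0x1a36b73773add5dc6d23)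 (.leaf 0x1726eeb6cb2ddddd2ed4))) (.node 2 (.node 1 (.leaf 0x172ab775bcbbadb32ecc) (.leaf 0x1b36be55bfaf8d702d9b)) (.node 1 (.leaf 0x1b3aeed5c3b675b66d9d) (.leaf 0x1b3eb89776b1898c0d9f))))) (.node 8 (.node 4 (.node 2 (.node 1 (.leaf 0x1b42b8b5c7b68572ada1) (.leaf 0x1b46b8d777ae3d8c8da3)) (.node 1 (.leaf 0x1daaef36d22e45de2b92) (.leaf 0x1d9ab915cb3bcdc56b94))) (.node 2 (.node 1 (.leaf 0x1dd6b9377aae55b52ef2) (.leaf 0x1df2ef75ccb6adb56c2a)) (.node 1 (.leaf 0x1dfab9977dae6db5ac2c) (.leaf 0x1732efd77cae75dfec2e)))) (.node 4 (.node 2 (.node 1 (.leaf 0x1736b9d618bbf5a2ec30) (.leaf 0x190ee345d1b21db3ae49)) (.node 1 (.leaf 0x1e06d6a780b23574eece) (.leaf 0x1b6ef055d3aebde02db7))) (.node 2 (.node 1 (.leaf 0x1b72ba77582ea5ad4db9) (.leaf 0x1b76bab5d4b6ed922dbb)) (.node 1 (.leaf 0x1d34f095d6bc1d75ee18) (.leaf 0x1b7ebaf785bc15e12dbf)))))) (.node 16 (.node 8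 (.node 4 (.node 2 (.node 1 (.leaf 0x1b82f0b5d8b705cecdc1) (.leaf 0x1838e655daaf81b86bc5)) (.node 1 (.leaf 0x176abb960e2edde1abc7) (.leaf 0x1b8ef0d734b71d772dc7))) (.node 2 (.node 1 (.leaf 0x18b4bbf61eb8c5882bbd) (.leaf 0x18bcbc1745aef579ae31)) (.node 1 (.leaf 0x1e26bd5788afdde1ebc3) (.leaf 0x1e2ef155e1af7978af11)))) (.node 4 (.node 2 (.node 1 (.leaf 0x1786bd978bafede32f13) (.leaf 0x1808bc55edaf21e2ae65)) (.node 1 (.leaf 0x1e32bdf60d3c5178ef1b) (.leaf 0x1806be15e5b991e3abc9))) (.node 2 (.node 1 (.leaf 0x1bb2bcf78ebb69796dd9) (.leaf 0x180ebd16a0af2da3abcd)) (.node 1 (.leaf 0x1812cac5e6b2b9d16d41) (.leaf 0x1bbef0f78fb77d7aaddf))))) (.node 8 (.node 4 (.node 2 (.node 1 (.leaf 0x1e46f215eaba7de3ebd7) (.leaf 0x17aaf13791b045bc6bd9)) (.node 1 (.leaf 0x1d7ebd778aba857b6f21) (.leaf 0x17aeebf5ecba95d76f23))) (.node 2 (.node 1 (.leaf 0x17bef1975dbc597b2f25)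 (.leaf 0x1e4af1b762bc41bd6bdf)) (.node 1 (.leaf 0x1bdaf1d5f1b7b57c2ded) (.leaf 0x17dabe95f633798f6be7)))) (.node 4 (.node 2 (.node 1 (.leaf 0x17debeb66e2f9d8bccde) (.leaf 0x17e6cde67a2fa58ecbeb)) (.node 1 (.leaf 0x17eacf05f5b3d18b8cf4) (.leaf 0x1dbcbf163d31f17dac7c))) (.node 2 (.node 1 (.leaf 0x17eec1169e3c4de4ebfb) (.leaf 0x17f2d3e5fdb4e9b16d3c)) (.node 1 (.leaf 0x1802c156c5bb097f6d8d) (.leaf 0x1cc8c1d733300de52c05)))))))))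

def zStep_7 : Tree := (.node 128 (.node 64 (.node 32 (.node 16 (.node 8 (.node 4 (.node 2 (.node 1 (.leaf 0x1a4ad35605bb3d81ac8c) (.leaf 0x1816d43692b80da3ed6f)) (.node 1 (.leaf 0x181ed15608b45de56c13) (.leaf 0x1c0ef27795b81d822e07))) (.node 2 (.node 1 (.leaf 0x182ec4f60abb95826d8f) (.leaf 0x1832d8d6c7bcb5c16c15)) (.node 1 (.leaf 0x1836ec278c3055e2cf2d) (.leaf 0x1dcac4b746b05d892d1d)))) (.node 4 (.node 2 (.node 1 (.leaf 0x1c22ed876d3845832e11) (.leaf 0x1e5aec678d3065c26c1b)) (.node 1 (.leaf 0x1c2af29786385583ae15) (.leaf 0x1c2ed7c610b85d846e17))) (.node 2 (.node 1 (.leaf 0x1e0cf2f614ba6d856dbc) (.leaf 0x1a12c29739b0cd85acd5)) (.node 1 (.leaf 0x1852d0978330d5d9ed0d) (.leaf 0x1e66c2b798b87de5eef6))))) (.node 8 (.node 4 (.node 2 (.node 1 (.leaf 0x1856f33617b885e6aef8) (.leaf 0x1da6f31616bcddce6efa)) (.node 1 (.leaf 0x185ac2f769b0c5da2efc) (.leaf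 0x1d9eed179ab49585ef02))) (.node 2 (.node 1 (.leaf 0x18cee3d61fbce5c52c47) (.leaf 0x18dac47622bcedb4ee3d)) (.node 1 (.leaf 0x18def3b67db11de7af39) (.leaf 0x18f2c4d73cb38da36e45)))) (.node 4 (.node 2 (.node 1 (.leaf 0x1ae2c5d679b7259e2dcb) (.leaf 0x1d14cf362fb9519bae54)) (.node 1 (.leaf 0x1aeadb2630b5d5dd8d73) (.leaf 0x1c6eeee631b8dd8cee37))) (.node 2 (.node 1 (.leaf 0x1c7ac67632bcfdddcc6d) (.leaf 0x1e72f3f67fb19dc76c6f)) (.node 1 (.leaf 0x1c72e29635bd05c7ae2b) (.leaf 0x1e76c6f7a1b1b5a0ef3f)))))) (.node 16 (.node 8 (.node 4 (.node 2 (.node 1 (.leaf 0x1dc4c7373e31ed8f0c71) (.leaf 0x18e2c75748b1fddcaee2)) (.node 1 (.leaf 0x19c6c77670b1e59bee2f) (.leaf 0x18f6c8376fbb89dbcc7f))) (.node 2 (.node 1 (.leaf 0x1aecd72645b5d9c9cdb3) (.leaf 0x191ad6c6b73c0daded24)) (.node 1 (.leaf 0x1922c95649b245c9ae4e) (.leaf 0x1a1cc9b64cb439c90e4c)))) (.node 4 (.node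 2 (.node 1 (.leaf 0x1caccb7729353994ecb6) (.leaf 0x1966cc17283d15956e5f)) (.node 1 (.leaf 0x19e6e8a6b8b8c995ae32) (.leaf 0x1ca0d4e659b2dd962d4f))) (.node 2 (.node 1 (.leaf 0x1cbecc86a7bd1d98ccb3) (.leaf 0x1e8accb7a4b2cd96af47)) (.node 1 (.leaf 0x19d6f4b65ab3ade92e89) (.leaf 0x1cb2e6065bbd35972e53))))) (.node 8 (.node 4 (.node 2 (.node 1 (.leaf 0x1992e5e660bd3d97ecc0) (.leaf 0x1996f4579eb3059f6f4e)) (.node 1 (.leaf 0x1bfcdc3661b759ccadd3) (.leaf 0x1986cc56ff331dea2d50))) (.node 2 (.node 1 (.leaf 0x1cd2f516e3bd4d98ae69) (.leaf 0x1e9ef467aab325ea6cca)) (.node 1 (.leaf 0x1e7af59665bd5d9a2f54) (.leaf 0x1aa6d52669b9bda94ccd)))) (.node 4 (.node 2 (.node 1 (.leaf 0x1a06f5b667b9ddce2cd1) (.leaf 0x1a0af5d70db345c46e77)) (.node 1 (.leaf 0x1a0ecd17a5bd75eb2f5b) (.leaf 0x1a16f5f66ab9c5b80e73))) (.node 2 (.node 1 (.leaf 0x19cacf9717bd85d3ece1) (.leaf 0x19cecfb7b1b385e8af61))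 (.node 1 (.leaf 0x1ecacfd72039f59cacfc) (.leaf 0x1ec2cff7b3b395cfece7))))))) (.node 32 (.node 16 (.node 8 (.node 4 (.node 2 (.node 1 (.leaf 0x1ec6f43673bd8d9d6f67) (.leaf 0x1d06d017b4b4019d2e83)) (.node 1 (.leaf 0x1d12f6b674ba25ed2ceb) (.leaf 0x1e96ceb683bd2de86f6b))) (.node 2 (.node 1 (.leaf 0x1d0af6d676ba15d12e5d) (.leaf 0x1c64e546e5b3cdbbacf3)) (.node 1 (.leaf 0x1d7ae9f707bc859f2ea1) (.leaf 0x19fef6179cb3e5edecfb)))) (.node 4 (.node 2 (.node 1 (.leaf 0x19faf65721ba45d7af64) (.leaf 0x1d26f71680ba4da06e93)) (.node 1 (.leaf 0x1eb6d037b5ba65ee2d07) (.leaf 0x1ebad057b9b41dabee99))) (.node 2 (.node 1 (.leaf 0x1ebed0b7baba55d32e97) (.leaf 0x1b78f75686b865d36f06)) (.node 1 (.leaf 0x1d3af2b6993bfda2ae9d) (.leaf 0x1dcee8d68db785cf2d21))))) (.node 8 (.node 4 (.node 2 (.node 1 (.leaf 0x1a8ad2168eb795a82e8d) (.leaf 0x1a3ad1f6a2b63da86ee5)) (.node 1 (.leaf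 0x1a42d45691b79da6eee7) (.leaf 0x1a6ad2569bbb45a46d6d))) (.node 2 (.node 1 (.leaf 0x1ef6d2d7bcb49deeed5f) (.leaf 0x1a4ed2f694bdedefad61)) (.node 1 (.leaf 0x1d5ad2b7bebdfda52ead) (.leaf 0x1d5ef7f7c0b4add5eeaf)))) (.node 4 (.node 2 (.node 1 (.leaf 0x1d62f776dc3ac5a5aeb1) (.leaf 0x1a5af7b76bb4bdd66d67)) (.node 1 (.leaf 0x1d6af7d698bad5a5eeb5) (.leaf 0x1d6ed3379334c5a7aeb7))) (.node 2 (.node 1 (.leaf 0x1a96d4769dbe0da8cd39) (.leaf 0x1a9ad496f4b4e5bcef83)) (.node 1 (.leaf 0x1d1aee7772be15d22d45) (.leaf 0x1bcade77c3b515a92f85)))))) (.node 16 (.node 8 (.node 4 (.node 2 (.node 1 (.leaf 0x1aaaf83770351df12d49) (.leaf 0x1aaee0c6a4b7f1f0eee0)) (.node 1 (.leaf 0x1f06d556f5b52dd8ad4d) (.leaf 0x1dc0e126aab5edd8ed57))) (.node 2 (.node 1 (.leaf 0x1f1af8b6afbde5ee6f79) (.leaf 0x1abed677c6b585f1ef7b)) (.node 1 (.leaf 0x1b4ed696b1be45ac2d98) (.leaf 0x1c4ed657c5b805c3adb4))))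 (.node 4 (.node 2 (.node 1 (.leaf 0x1acae276b3ba9dc4aed7) (.leaf 0x1c46f8f712be55acef93)) (.node 1 (.leaf 0x1b4af9176a35a5f2ad96) (.leaf 0x1ad6f02759b5b5daeed1))) (.node 2 (.node 1 (.leaf 0x1db2e106bcbb65af6ed9) (.leaf 0x1db6d7f7083761b02edb)) (.node 1 (.leaf 0x1dbaedc76e360ddbaedd) (.leaf 0x1becd87723b625c8cd89))))) (.node 8 (.node 4 (.node 2 (.node 1 (.leaf 0x1d8cf2d7603635f2eec2) (.leaf 0x1c80d917b2b919b2ae42)) (.node 1 (.leaf 0x1c1ed9375eb825c86ea3) (.leaf 0x1d3eebd6cabc8decaea5))) (.node 2 (.node 1 (.leaf 0x1dd2f997743ba5b2eee9) (.leaf 0x1b52d977cdb665f32f90)) (.node 1 (.leaf 0x1ddad9d6cfbbb5c68eed) (.leaf 0x1ddee366d1bbbdc70eef)))) (.node 4 (.node 2 (.node 1 (.leaf 0x1eaef9f7783cf5b4af9d) (.leaf 0x1f22da57d0b69df3eda8)) (.node 1 (.leaf 0x1f36ef46d4bbd5deafa0) (.leaf 0x1f4adab7d1bbdddeee1e))) (.node 2 (.node 1 (.leaf 0x1b56fa56d7bbe5f4ee20)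 (.leaf 0x1f24fa36d6bea5df6e22)) (.node 1 (.leaf 0x1b5adaf7c936c5f56e24) (.leaf 0x1dfefab7d3ba75b5eeff)))))))) (.node 64 (.node 32 (.node 16 (.node 8 (.node 4 (.node 2 (.node 1 (.leaf 0x1f5af786dabe29b6ef8a) (.leaf 0x1b6aed67d6b92de06e26)) (.node 1 (.leaf 0x1e0adb77bb36fdef0f05) (.leaf 0x1c30f7270e36f5f14e9a))) (.node 2 (.node 1 (.leaf 0x1ee8dbd7af3dc9b7ef2e) (.leaf 0x1e16dc16dfbc2debcf0b)) (.node 1 (.leaf 0x1e1adc770a3c35b8af0d) (.leaf 0x1e1eddf7d7bc3db9af0f)))) (.node 4 (.node 2 (.node 1 (.leaf 0x1f66fb16e6b7a9f5edcf) (.leaf 0x1b9ade37d9b7e5e26dd1)) (.node 1 (.leaf 0x1f0edcf6f2b751ba6fb1) (.leaf 0x1b9ef876e8b7a1c18fb3))) (.node 2 (.node 1 (.leaf 0x1baade97063e19ba2fb5) (.leaf 0x1f6adeb7093ec1e36dd5)) (.node 1 (.leaf 0x1e3aded6ecbc75baef1d) (.leaf 0x1e3efb96efbeddbc2f1f))))) (.node 8 (.node 4 (.node 2 (.node 1 (.leaf 0x1f0ade17d8ba35f72de5) (.leaf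 0x1bc2f856f1bb9de46de7)) (.node 1 (.leaf 0x1bd6fb57c1bec9f76de9) (.leaf 0x1e4ee0775b3c9dbf2f27))) (.node 2 (.node 1 (.leaf 0x1e52e157a83ca5bfef29) (.leaf 0x1e56e9d703beadc0af2b)) (.node 1 (.leaf 0x1c26ee17da382df7ae0d) (.leaf 0x1ee6e197aebdd5c3ef08)))) (.node 4 (.node 2 (.node 1 (.leaf 0x1f1ee2370fbefdebafa2) (.leaf 0x1c3ee217c7bccdf1afa4)) (.node 1 (.leaf 0x1f16f8d713beb1c42fac) (.leaf 0x1f2afbf79b388deaefa8))) (.node 2 (.node 1 (.leaf 0x1c76f41747b8a5f82e2d) (.leaf 0x1c7ee2d7e2b8adf86f41)) (.node 1 (.leaf 0x1cdafc3731bbc5c5afc7) (.leaf 0x1e82e3b7e4b8e5e7ee3f)))))) (.node 16 (.node 8 (.node 4 (.node 2 (.node 1 (.leaf 0x1e7ef397e6b8f5f96f3b) (.leaf 0x1f8ae8171fbf15d0efc9)) (.node 1 (.leaf 0x1cb6e637e7b94dcf6f4d) (.leaf 0x1e9ae6a7e9b965fa2e5b))) (.node 2 (.node 1 (.leaf 0x1f9efd572dbf3dcbafd3) (.leaf 0x1d0ee5d73aba1dfaaf6d)) (.node 1 (.leaf 0x1e8ef4e7ebb97de9af45)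 (.leaf 0x1cd6f4c7e33985e9ee62)))) (.node 4 (.node 2 (.node 1 (.leaf 0x1ea2e697943f41ccef51) (.leaf 0x1ea6fd07ecb9a5cd6f53)) (.node 1 (.leaf 0x1f8cfdd735bf6dfb2e6c) (.leaf 0x1de2fdf7ab39b5e6efda))) (.node 2 (.node 1 (.leaf 0x1f86e6d7eabf7dceafdc) (.leaf 0x1d2ae717b6bd7deb6e75)) (.node 1 (.leaf 0x1d2ee73797b9d5e62f5f) (.leaf 0x1d32e777843d6de14f5d))))) (.node 8 (.node 4 (.node 2 (.node 1 (.leaf 0x1cfee8f7f0b9e5f6ee7b) (.leaf 0x1d02fc573dba05f9efe1)) (.node 1 (.leaf 0x1cfae91771bd95dcee90) (.leaf 0x1fc2fc973fbf85ecee81))) (.node 2 (.node 1 (.leaf 0x1ed2fe3741bda5d0af69) (.leaf 0x1edae8574abdb5fc6e87)) (.node 1 (.leaf 0x1ed6e897adbdadedaf4b) (.leaf 0x1edefb77e0bee5d1ef6f)))) (.node 4 (.node 2 (.node 1 (.leaf 0x1ee2e937f1bdc5d2af71) (.leaf 0x1e5ef0674bbc21d92f75)) (.node 1 (.leaf 0x1e10e9b74cbcbdeeaf73) (.leaf 0x1eeeeb17823dddd52f77))) (.node 2 (.node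 1 (.leaf 0x1fcaf00754bb25e08ec9) (.leaf 0x1d52eb37f2baadef6ecb)) (.node 1 (.leaf 0x1efaeb5756bdf5d56f7d) (.leaf 0x1efeeaf7f3bab5efef7f))))))) (.node 32 (.node 16 (.node 8 (.node 4 (.node 2 (.node 1 (.leaf 0x1f02fe9757be99f02f81) (.leaf 0x1d8aec1792bae5fd6ebb)) (.node 1 (.leaf 0x1e42f237f6baf5f0aebf) (.leaf 0x1e2af1775fbc61d86fed))) (.node 2 (.node 1 (.leaf 0x1f12feb7cb3fa9d82f89) (.leaf 0x1e6aec9767bc01e0cf00)) (.node 1 (.leaf 0x1d92f35765bf95e66fe5) (.leaf 0x1e62ed3799bfc5d96fef)))) (.node 4 (.node 2 (.node 1 (.leaf 0x1de6ed57f9bb35fe2eea) (.leaf 0x1df4fef77e3fddfeaed3)) (.node 1 (.leaf 0x1e6eff17ca3b4ddaaff7) (.leaf 0x1f2efbd7c43e5ddc2f97))) (.node 2 (.node 1 (.leaf 0x1f32ee97fcbe65dd6f99) (.leaf 0x1deaf9a775be6dff2ff2)) (.node 1 (.leaf 0x1fb4ffd7ce3f1dff6ef1) (.leaf 0x1fbeef17ffbf0dde6ffd))))) (.node 8 (.node 4 (.node 2 (.node 1 (.leaf 0x1fe6fa0779be85ffeef4)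 (.leaf 0x1fdcefb77bc005f46f30)) (.node 1 (.leaf 0x1deeef97f73e96006f32) (.leaf 0x1f4f00377fbe01df2fa7))) (.node 2 (.node 1 (.leaf 0x1fed0017d43bee00af36) (.leaf 0x1f56eff7fa3caddfafab)) (.node 1 (.leaf 0x1e02fe4781bcd1f5af34) (.leaf 0x1f5f007787bebde22faf)))) (.node 4 (.node 2 (.node 1 (.leaf 0x1fdaf11790bc6a00ef15) (.leaf 0x1e22fed789bc91f66f17)) (.node 1 (.leaf 0x1e36f257963fb2012f19) (.leaf 0x1f6ef6f805bc7dec2fb7))) (.node 2 (.node 1 (.leaf 0x1f72f1f803bdbde42fb9) (.leaf 0x1f770097f5beede4afbb)) (.node 1 (.leaf 0x1f7af978043ef5e5afbd) (.leaf 0x1fe2f37806bcc5fbf000)))))) (.node 16 (.node 8 (.node 4 (.node 2 (.node 1 (.leaf 0x1f82fcb7b7bf05e72fc1) (.leaf 0x1eb2f3d808be7de7700f)) (.node 1 (.leaf 0x1e86f6379dbd0e022fcd) (.leaf 0x1ea900f7a73e75f8ef3d))) (.node 2 (.node 1 (.leaf 0x1f9af6779fbf35f92f43) (.leaf 0x1f96fc1809bf2de82fcb)) (.node 1 (.leaf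 0x1f92fe17a0bf26026fc5) (.leaf 0x1e930117a2bd25ec6fd7)))) (.node 4 (.node 2 (.node 1 (.leaf 0x1fa2f5280abd41e8efd1) (.leaf 0x1faf0177a3bf5e02af49)) (.node 1 (.leaf 0x2022f497acc045e97017) (.leaf 0x1fa70197a6bf4dfaefcf))) (.node 2 (.node 1 (.leaf 0x1fb301b7a9bf65eaafd9) (.leaf 0x1f3901d7ed3d55fb6f56)) (.node 1 (.leaf 0x201cf5580b4076036f58) (.leaf 0x1f3ef5780fbd65f7f01c))))) (.node 8 (.node 4 (.node 2 (.node 1 (.leaf 0x1ecefcd7b0bd9e016f63) (.leaf 0x1fc6f697b8bf8ded6fe3)) (.node 1 (.leaf 0x1ef2fac7bdbe35fcaf8d) (.leaf 0x1fcf0217bfbf9dfcefe7))) (.node 2 (.node 1 (.leaf 0x1fd2f81810c009fd2fe9) (.leaf 0x1fd6f897ddbe21f06feb)) (.node 1 (.leaf 0x1f62fb37c2bed1fdaf87) (.leaf 0x1f44f937d24096046f8f)))) (.node 4 (.node 2 (.node 1 (.leaf 0x1f7ef95813be3df23025) (.leaf 0x1f42ff27c8bfce04ef9a)) (.node 1 (.leaf 0x1feb0237d53fd5f26ff5) (.leaf 0x1f510257fb3e4dfeef95)))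 (.node 2 (.node 1 (.leaf 0x1ff2ff87ccc0a5f36ff9) (.leaf 0x1ff702b7fd3fedf3affb)) (.node 1 (.leaf 0x2038f9d816c03e056f9f) (.leaf 0x203effe7cfc0bdf4302d)))))))))

def zStep_8 : Tree := (.node 16 (.node 8 (.node 4 (.node 2 (.node 1 (.leaf 0x2048fa9819be8e062fbe) (.leaf 0x2006fa78113fa1f4b003)) (.node 1 (.leaf 0x200b0318024015f53005) (.leaf 0x200efaf7dcc01df63007))) (.node 2 (.node 1 (.leaf 0x2012fbb7de4025f6b009) (.leaf 0x20170137dbc02dfc300b)) (.node 1 (.leaf 0x204f00c7dfc0ca03f032) (.leaf 0x1fb8fc780cbff601efc3)))) (.node 4 (.node 2 (.node 1 (.leaf 0x1faafcf7e1bf55f8b019) (.leaf 0x202700b7e5c04df9b013)) (.node 1 (.leaf 0x202b0357e8c055fa7015) (.leaf 0x2032fd37ee406606afd5))) (.node 2 (.node 1 (.leaf 0x202efd7807c05e033011) (.leaf 0x2036fd981a406dfbb01b)) (.node 1 (.leaf 0x1ff8fdb8173f7603afde) (.leaf 0x1fff01e7efc0b601b02f))))) (.node 8 (.node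 4 (.node 2 (.node 1 (.leaf 0x2042fe77f4c086043021) (.leaf 0x2046ff5801408dfdf023)) (.node 1 (.leaf 0x2000ff781bbfbe04aff1) (.leaf 0x201b0267f8c0ddfe7037))) (.node 2 (.node 1 (.leaf 0x205302881cbfe6053029) (.leaf 0x2056ffb81dc0adffb02b)) (.node 1 (.leaf 0x205f02c7fec07e076fff) (.leaf 0x205b02e80e3ffe05f01f)))) (.node 4 (.node 2 (.node 1 (.leaf 0x206300581ec0c6003031) (.leaf 0x206d032800c03207b00c)) (.node 1 (.leaf 0x206b01580d40d602f035) (.leaf 0x2065036812c09e06f027))) (.node 2 (.node 1 (.leaf 0x207303f814c0e6073039) (.leaf 0x207703a815c0f205b03b)) (.node 1 (.leaf 0x207b03c818c0ea06703d) (.leaf 0x207f03981f40fe07f03f))))))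

def zStep : Tree := (.node 1024 (.node 512 (.node 256 zStep_0 zStep_1) (.node 256 zStep_2 zStep_3)) (.node 512 (.node 256 zStep_4 zStep_5) (.node 256 zStep_6 (.node 256 zStep_7 zStep_8))))

def nWords : Tree := (.node 63 (.node 31 (.node 15 (.node 7 (.node 3 (.node 1 (.leaf 0x0) (.node 1 (.leaf 0x4414e329a0c) (.leaf 0x8d30414e00c))) (.node 2 (.node 1 (.leaf 0x4d38d10510c) (.leaf 0x2029a0414e265012)) (.node 1 (.leaf 0x2320a6538ca65384116) (.leaf 0x468d80a681a414e315)))) (.node 4 (.node 2 (.node 1 (.leaf 0x538414d320a70313) (.leaf 0x2329829c4ca70105016)) (.node 1 (.leaf 0x110538ca6414e169a16) (.leaf 0x2329c4414ca7194ca16))) (.node 2 (.node 1 (.leaf 0x214d38534e34414ca16) (.leaf 0x2220a68d60a71168d60a1a)) (.node 1 (.leaf 0x34e029a70829a65315) (.leaf 0x34c82994e32994e315))))) (.node 8 (.node 4 (.node 2 (.node 1 (.leaf 0x1380a68829c40812) (.leaf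 0x34ca71320a71329815)) (.node 1 (.leaf 0x468d80a681b1829c15) (.leaf 0xe34c105389905113))) (.node 2 (.node 1 (.leaf 0x134e32990538d105116) (.leaf 0x1385329c29a20a71a16)) (.node 1 (.leaf 0x468d8c14d1a414e34c10511d) (.leaf 0x29c4c105389a20a68118)))) (.node 4 (.node 2 (.node 1 (.leaf 0x4e329905389905014) (.leaf 0x5346c29829a34429817)) (.node 1 (.leaf 0x2268829c6994e14ca16) (.leaf 0x2268829c60a65384116))) (.node 2 (.node 1 (.leaf 0x1385320a71a65385116) (.leaf 0x220d89a20a713441a9c6811d)) (.node 1 (.leaf 0x829c6530414e26532881a) (.leaf 0x3441ae260a70a68d69820a1d)))))) (.node 16 (.node 8 (.node 4 (.node 2 (.node 1 (.leaf 0x468d7014d03414e315) (.leaf 0x11ac14e14d1ac14e220a1a)) (.node 1 (.leaf 0x2c653281b194c829c6534691e) (.leaf 0x270a60a06c69c29940d8981d))) (.node 2 (.node 1 (.leaf 0x4c14d1b1a71329a3632081c) (.leaf 0x20414ca7194c140815)) (.node 1 (.leaf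 0x29829c60a68828815) (.leaf 0x1a6414e26534414e316)))) (.node 4 (.node 2 (.node 1 (.leaf 0x994c10538ca64140817) (.leaf 0x2b8994e34414d1b014d38531e)) (.node 1 (.leaf 0x38d329c6414d10538d319) (.leaf 0x34e34414d38c82994e319))) (.node 2 (.node 1 (.leaf 0x530414e265320a60a17) (.leaf 0x2029a35305389a3534e14d31e)) (.node 1 (.leaf 0x8c14c829c6994e268818) (.leaf 0x1a35105340d89a20d7132811e))))) (.node 8 (.node 4 (.node 2 (.node 1 (.leaf 0x44ca7194ca70a68815) (.leaf 0x1385329c6882994e116)) (.node 1 (.leaf 0x29c05340829c69828118) (.leaf 0x1a68d8d329c29a35829c2881e))) (.node 2 (.node 1 (.leaf 0x1a20d29c29a65389a3414ca1e) (.leaf 0x1134690534e105346c60a1b)) (.node 1 (.leaf 0x11ac14e14d1ae260a16) (.leaf 0x2c65036320a71a20a68d6981e)))) (.node 4 (.node 2 (.node 1 (.leaf 0x6c4d020a71a6883614ca1b) (.leaf 0x36329905035c60a6503631c)) (.node 1 (.leaf 0x20414d329c4ca65315)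 (.leaf 0x38d329c65329905315))) (.node 2 (.node 1 (.leaf 0x1c68829a70a69905316) (.leaf 0x15329a36265320d8d3441a511f)) (.node 1 (.leaf 0x29c4ca6538ca70a15) (.leaf 0xd29c4ca20d8d171340d29c1e))))))) (.node 31 (.node 15 (.node 7 (.node 3 (.node 1 (.leaf 0x281ae14ca70a06a65389a1c) (.node 1 (.leaf 0x11a35c05340d8c829c17) (.leaf 0x8d60a71a6414d10694e21b))) (.node 2 (.node 1 (.leaf 0x1b1305106a7132883538811d) (.leaf 0x510694e14ca70829a34a1b)) (.node 1 (.leaf 0x34ca70a6994d105015) (.leaf 0xd036029a65034c4d117)))) (.node 4 (.node 2 (.node 1 (.leaf 0x29a3538530503630534681d) (.leaf 0x14a70829829c29a3414411b)) (.node 1 (.leaf 0x898281ae268829a20d8d380820) (.leaf 0x1346b8994e14d1a9c4c10531e))) (.node 2 (.node 1 (.leaf 0x15c29a65346c68b0538d32081f) (.leaf 0x4e268d8994e14d1ae260a1c)) (.node 1 (.leaf 0x8c14e265385320a70818) (.leaf 0x11ac14e14d1a9989a70a6881e)))))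 (.node 8 (.node 4 (.node 2 (.node 1 (.leaf 0x2b4c14d10538d1ac140d7191e) (.leaf 0x1b1320a70a60a68d0538d01d)) (.node 1 (.leaf 0x9a20d4d38c829940d8c81b) (.leaf 0x505346b80a60a06c6532881d))) (.node 2 (.node 1 (.leaf 0x9a3510538d3441a9c6811b) (.leaf 0x1ad10694e268835c29919)) (.node 1 (.leaf 0x106b89829c29955c6414c81d) (.leaf 0xaca60a71a64146b8d10511c)))) (.node 4 (.node 2 (.node 1 (.leaf 0x4e268d70a6414d1b132811c) (.leaf 0x140d4d385346b51815)) (.node 1 (.leaf 0xd70a60a20d8d468829a1b) (.leaf 0xe220a6883634cc4d3281ae31f))) (.node 2 (.node 1 (.leaf 0x8d29c4c829c29a3510511b) (.leaf 0x503414e14ca70a60a06a1b)) (.node 1 (.leaf 0x305106c69c65346a7130411d) (.leaf 0x46b05385346b8994e329a1c)))))) (.node 16 (.node 8 (.node 4 (.node 2 (.node 1 (.leaf 0x6a20d29c65329c20a68d0411f) (.leaf 0x1c4d105389a20a71316)) (.node 1 (.leaf 0x44d036029a70a60a20d7111d) (.leaf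 0x14e265346c65385346a60a1e))) (.node 2 (.node 1 (.leaf 0x35c69905385035a6502081d) (.leaf 0x8d68836329c6530503538081f)) (.node 1 (.leaf 0xd389a20d69c29a3538981b) (.leaf 0xca71a65346c0534ca06a7181f)))) (.node 4 (.node 2 (.node 1 (.leaf 0x4ca20d69c29a06a7014d11c) (.leaf 0xae14c14e14d106b85118)) (.node 1 (.leaf 0x2905380a681b0829a3634e21e) (.leaf 0x2820d69c4ca60a06c6810531e))) (.node 2 (.node 1 (.leaf 0x299441aca70a68d4e26531d) (.leaf 0xa65106c4414d38ca68d0411e)) (.node 1 (.leaf 0xaca60a71a65306a14) (.leaf 0x106b05389a6414d1b1919))))) (.node 8 (.node 4 (.node 2 (.node 1 (.leaf 0x2c4d3853441a538d305020d1e) (.leaf 0x46c4c829c4ca65036318)) (.node 1 (.leaf 0x571305346c69944115) (.leaf 0xd3281a9c29a65389a20d0531f))) (.node 2 (.node 1 (.leaf 0xd1a0829c4d329a3632990531f) (.leaf 0x346905035c4ca041a5319)) (.node 1 (.leaf 0x15c2994ca06a70a6994e34d11f) (.leaf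 0x68d0538994c106c4d10691c)))) (.node 4 (.node 2 (.node 1 (.leaf 0xa41a5389905380a68d0531c) (.leaf 0x11a9c2994ca06a7182811a)) (.node 1 (.leaf 0x346b8994e14ca3590532881d) (.leaf 0x29a36305385306a6414ca1c))) (.node 2 (.node 1 (.leaf 0x1ae14d320a71346b04119) (.leaf 0x10503534e14c1441ad38c81d)) (.node 1 (.leaf 0x1a20d4e0298281ae26883581e) (.leaf 0x2346c65388829a3594e31a))))))))

def nPow : Tree := (.node 63 (.node 31 (.node 15 (.node 7 (.node 3 (.node 1 (.leaf 0x1) (.node 1 (.leaf 0x3) (.leaf 0x6))) (.node 2 (.node 1 (.leaf 0x5) (.leaf 0x4)) (.node 1 (.leaf 0x6) (.leaf 0x6)))) (.node 4 (.node 2 (.node 1 (.leaf 0x4) (.leaf 0x1)) (.node 1 (.leaf 0x2) (.leaf 0x5))) (.node 2 (.node 1 (.leaf 0x4) (.leaf 0x4)) (.node 1 (.leaf 0x5) (.leaf 0x3))))) (.node 8 (.node 4 (.node 2 (.node 1 (.leaf 0x2) (.leaf 0x3)) (.node 1 (.leaf 0x1) (.leaf 0x2))) (.node 2 (.node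 1 (.leaf 0x4) (.leaf 0x2)) (.node 1 (.leaf 0x2) (.leaf 0x6)))) (.node 4 (.node 2 (.node 1 (.leaf 0x6) (.leaf 0x3)) (.node 1 (.leaf 0x4) (.leaf 0x1))) (.node 2 (.node 1 (.leaf 0x2) (.leaf 0x1)) (.node 1 (.leaf 0x6) (.leaf 0x4)))))) (.node 16 (.node 8 (.node 4 (.node 2 (.node 1 (.leaf 0x1) (.leaf 0x2)) (.node 1 (.leaf 0x3) (.leaf 0x1))) (.node 2 (.node 1 (.leaf 0x6) (.leaf 0x5)) (.node 1 (.leaf 0x3) (.leaf 0x4)))) (.node 4 (.node 2 (.node 1 (.leaf 0x3) (.leaf 0x6)) (.node 1 (.leaf 0x1) (.leaf 0x1))) (.node 2 (.node 1 (.leaf 0x5) (.leaf 0x5)) (.node 1 (.leaf 0x2) (.leaf 0x2))))) (.node 8 (.node 4 (.node 2 (.node 1 (.leaf 0x5) (.leaf 0x3)) (.node 1 (.leaf 0x6) (.leaf 0x3))) (.node 2 (.node 1 (.leaf 0x5) (.leaf 0x3)) (.node 1 (.leaf 0x6) (.leaf 0x2)))) (.node 4 (.node 2 (.node 1 (.leaf 0x3) (.leaf 0x4)) (.node 1 (.leaf 0x1) (.leaf 0x5))) (.node 2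 (.node 1 (.leaf 0x2) (.leaf 0x4)) (.node 1 (.leaf 0x3) (.leaf 0x5))))))) (.node 31 (.node 15 (.node 7 (.node 3 (.node 1 (.leaf 0x4) (.node 1 (.leaf 0x6) (.leaf 0x5))) (.node 2 (.node 1 (.leaf 0x6) (.leaf 0x1)) (.node 1 (.leaf 0x1) (.leaf 0x5)))) (.node 4 (.node 2 (.node 1 (.leaf 0x3) (.leaf 0x5)) (.node 1 (.leaf 0x6) (.leaf 0x3))) (.node 2 (.node 1 (.leaf 0x1) (.leaf 0x2)) (.node 1 (.leaf 0x4) (.leaf 0x2))))) (.node 8 (.node 4 (.node 2 (.node 1 (.leaf 0x4) (.leaf 0x4)) (.node 1 (.leaf 0x3) (.leaf 0x5))) (.node 2 (.node 1 (.leaf 0x5) (.leaf 0x6)) (.node 1 (.leaf 0x1) (.leaf 0x2)))) (.node 4 (.node 2 (.node 1 (.leaf 0x2) (.leaf 0x4)) (.node 1 (.leaf 0x5) (.leaf 0x1))) (.node 2 (.node 1 (.leaf 0x1) (.leaf 0x3)) (.node 1 (.leaf 0x1) (.leaf 0x4)))))) (.node 16 (.node 8 (.node 4 (.node 2 (.node 1 (.leaf 0x6) (.leaf 0x6)) (.node 1 (.leaf 0x2) (.leaf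 0x4))) (.node 2 (.node 1 (.leaf 0x4) (.leaf 0x2)) (.node 1 (.leaf 0x6) (.leaf 0x2)))) (.node 4 (.node 2 (.node 1 (.leaf 0x5) (.leaf 0x5)) (.node 1 (.leaf 0x5) (.leaf 0x2))) (.node 2 (.node 1 (.leaf 0x1) (.leaf 0x4)) (.node 1 (.leaf 0x6) (.leaf 0x1))))) (.node 8 (.node 4 (.node 2 (.node 1 (.leaf 0x3) (.leaf 0x3)) (.node 1 (.leaf 0x2) (.leaf 0x3))) (.node 2 (.node 1 (.leaf 0x5) (.leaf 0x6)) (.node 1 (.leaf 0x4) (.leaf 0x5)))) (.node 4 (.node 2 (.node 1 (.leaf 0x3) (.leaf 0x6)) (.node 1 (.leaf 0x1) (.leaf 0x3))) (.node 2 (.node 1 (.leaf 0x1) (.leaf 0x2)) (.node 1 (.leaf 0x4) (.leaf 0x6))))))))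

def repList : List ℕ := [0, 1, 2, 3, 4, 5, 6, 7, 8, 9, 11, 12, 13, 15, 16, 19, 24, 25, 30, 38, 40, 51, 72, 111, 432, 673]

def zClass_0 : Tree := (.node 128 (.node 64 (.node 32 (.node 16 (.node 8 (.node 4 (.node 2 (.node 1 (.leaf 0x1000) (.leaf 0x1001)) (.node 1 (.leaf 0x1002) (.leaf 0x1003))) (.node 2 (.node 1 (.leaf 0x1004) (.leaf 0x1005)) (.node 1 (.leaf 0x1006) (.leaf 0x1007)))) (.node 4 (.node 2 (.node 1 (.leaf 0x1008) (.leaf 0x1009)) (.node 1 (.leaf 0x789) (.leaf 0x100a))) (.node 2 (.node 1 (.leaf 0x100b) (.leaf 0x100c)) (.node 1 (.leaf 0x8ea) (.leaf 0x100d))))) (.node 8 (.node 4 (.node 2 (.node 1 (.leaf 0x100e) (.leaf 0x11ca)) (.node 1 (.leaf 0x4c) (.leaf 0x100f))) (.node 2 (.node 1 (.leaf 0x154c) (.leaf 0x3c9)) (.node 1 (.leaf 0x8ec) (.leaf 0x1808)))) (.node 4 (.node 2 (.node 1 (.leaf 0x1010) (.leaf 0x1011)) (.node 1 (.leaf 0x1420) (.leaf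 0xd89))) (.node 2 (.node 1 (.leaf 0x1e43) (.leaf 0x1c2c)) (.node 1 (.leaf 0x1012) (.leaf 0x1e47)))))) (.node 16 (.node 8 (.node 4 (.node 2 (.node 1 (.leaf 0xdc1) (.leaf 0xc64)) (.node 1 (.leaf 0x7e1) (.leaf 0xd87))) (.node 2 (.node 1 (.leaf 0x1864) (.leaf 0x4b2)) (.node 1 (.leaf 0x1013) (.leaf 0x1e84)))) (.node 4 (.node 2 (.node 1 (.leaf 0x1014) (.leaf 0x1849)) (.node 1 (.leaf 0xf89) (.leaf 0x686))) (.node 2 (.node 1 (.leaf 0x1986) (.leaf 0xcad)) (.node 1 (.leaf 0x1a46) (.leaf 0x15ab))))) (.node 8 (.node 4 (.node 2 (.node 1 (.leaf 0x7e4) (.leaf 0x2a7)) (.node 1 (.leaf 0x5e2) (.leaf 0x1015))) (.node 2 (.node 1 (.leaf 0xd0d) (.leaf 0x1983)) (.node 1 (.leaf 0x382) (.leaf 0x1d8d)))) (.node 4 (.node 2 (.node 1 (.leaf 0x66d) (.leaf 0x4a)) (.node 1 (.leaf 0x1c43) (.leaf 0x16e3))) (.node 2 (.node 1 (.leaf 0x271) (.leaf 0xa11)) (.node 1 (.leaf 0x2cf)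 (.leaf 0x16b))))))) (.node 32 (.node 16 (.node 8 (.node 4 (.node 2 (.node 1 (.leaf 0x9c6) (.leaf 0xbc4)) (.node 1 (.leaf 0x1b64) (.leaf 0x54b))) (.node 2 (.node 1 (.leaf 0x18c) (.leaf 0x1ced)) (.node 1 (.leaf 0x1eef) (.leaf 0x585)))) (.node 4 (.node 2 (.node 1 (.leaf 0x1016) (.leaf 0x88a)) (.node 1 (.leaf 0x13e6) (.leaf 0x11d0))) (.node 2 (.node 1 (.leaf 0x12e7) (.leaf 0x12ad)) (.node 1 (.leaf 0x20e) (.leaf 0x12b))))) (.node 8 (.node 4 (.node 2 (.node 1 (.leaf 0x367) (.leaf 0x987)) (.node 1 (.leaf 0xe81) (.leaf 0x20d))) (.node 2 (.node 1 (.leaf 0xb6a) (.leaf 0x14c6)) (.node 1 (.leaf 0x1921) (.leaf 0x1c47)))) (.node 4 (.node 2 (.node 1 (.leaf 0xf04) (.leaf 0xf2)) (.node 1 (.leaf 0x1d24) (.leaf 0xacd))) (.node 2 (.node 1 (.leaf 0x1264) (.leaf 0x4e5)) (.node 1 (.leaf 0x1d91) (.leaf 0x489)))))) (.node 16 (.node 8 (.node 4 (.node 2 (.node 1 (.leaf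 0x1b0f) (.leaf 0x2a8)) (.node 1 (.leaf 0x1784) (.leaf 0x1d69))) (.node 2 (.node 1 (.leaf 0x17e3) (.leaf 0x4ae)) (.node 1 (.leaf 0xb66) (.leaf 0x9aa)))) (.node 4 (.node 2 (.node 1 (.leaf 0xb8a) (.leaf 0x1aa)) (.node 1 (.leaf 0x748) (.leaf 0xfa3))) (.node 2 (.node 1 (.leaf 0x1ec3) (.leaf 0x54a)) (.node 1 (.leaf 0x5c1) (.leaf 0x1017))))) (.node 8 (.node 4 (.node 2 (.node 1 (.leaf 0xf4) (.leaf 0x174a)) (.node 1 (.leaf 0x1914) (.leaf 0x44d))) (.node 2 (.node 1 (.leaf 0xe46) (.leaf 0x44f)) (.node 1 (.leaf 0x15cf) (.leaf 0x744)))) (.node 4 (.node 2 (.node 1 (.leaf 0x10c0) (.leaf 0xbe7)) (.node 1 (.leaf 0x171) (.leaf 0x90))) (.node 2 (.node 1 (.leaf 0x266) (.leaf 0x33)) (.node 1 (.leaf 0x1a71) (.leaf 0x544)))))))) (.node 64 (.node 32 (.node 16 (.node 8 (.node 4 (.node 2 (.node 1 (.leaf 0xd0c) (.leaf 0x1406)) (.node 1 (.leaf 0x150a) (.leaf 0x7d4))) (.node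 2 (.node 1 (.leaf 0x72) (.leaf 0xa54)) (.node 1 (.leaf 0x1f03) (.leaf 0x1aaf)))) (.node 4 (.node 2 (.node 1 (.leaf 0x843) (.leaf 0x2b5)) (.node 1 (.leaf 0x1b25) (.leaf 0x16a9))) (.node 2 (.node 1 (.leaf 0xa04) (.leaf 0x5a3)) (.node 1 (.leaf 0x1548) (.leaf 0x15ee))))) (.node 8 (.node 4 (.node 2 (.node 1 (.leaf 0x6ac) (.leaf 0x11e6)) (.node 1 (.leaf 0x10c4) (.leaf 0xc9))) (.node 2 (.node 1 (.leaf 0x674) (.leaf 0x1312)) (.node 1 (.leaf 0x168c) (.leaf 0x517)))) (.node 4 (.node 2 (.node 1 (.leaf 0x11ce) (.leaf 0x1a2d)) (.node 1 (.leaf 0x19b1) (.leaf 0x1c8a))) (.node 2 (.node 1 (.leaf 0x4e9) (.leaf 0x13c3)) (.node 1 (.leaf 0x10eb) (.leaf 0x1121)))))) (.node 16 (.node 8 (.node 4 (.node 2 (.node 1 (.leaf 0x541) (.leaf 0x1bca)) (.node 1 (.leaf 0xd44) (.leaf 0xd83))) (.node 2 (.node 1 (.leaf 0x1a63) (.leaf 0x1a61)) (.node 1 (.leaf 0xb6f) (.leaf 0xba3))))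 (.node 4 (.node 2 (.node 1 (.leaf 0xe0c) (.leaf 0x733)) (.node 1 (.leaf 0x2f6) (.leaf 0x11a5))) (.node 2 (.node 1 (.leaf 0x1101) (.leaf 0x6ec)) (.node 1 (.leaf 0x64b) (.leaf 0x222))))) (.node 8 (.node 4 (.node 2 (.node 1 (.leaf 0x981) (.leaf 0x49)) (.node 1 (.leaf 0x1664) (.leaf 0x1604))) (.node 2 (.node 1 (.leaf 0x14ef) (.leaf 0x8c3)) (.node 1 (.leaf 0x1fad) (.leaf 0x2c3)))) (.node 4 (.node 2 (.node 1 (.leaf 0x1a44) (.leaf 0x15f6)) (.node 1 (.leaf 0x254) (.leaf 0x1246))) (.node 2 (.node 1 (.leaf 0x56) (.leaf 0x1348)) (.node 1 (.leaf 0xce1) (.leaf 0x1485))))))) (.node 32 (.node 16 (.node 8 (.node 4 (.node 2 (.node 1 (.leaf 0x129) (.leaf 0x6d1)) (.node 1 (.leaf 0x12c7) (.leaf 0x1b5))) (.node 2 (.node 1 (.leaf 0x1229) (.leaf 0x888)) (.node 1 (.leaf 0x1ccf) (.leaf 0x10af)))) (.node 4 (.node 2 (.node 1 (.leaf 0x4f3) (.leaf 0x1188)) (.node 1 (.leaf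 0x60c) (.leaf 0x5f0))) (.node 2 (.node 1 (.leaf 0x4c5) (.leaf 0x728)) (.node 1 (.leaf 0x1112) (.leaf 0x854))))) (.node 8 (.node 4 (.node 2 (.node 1 (.leaf 0x1ee9) (.leaf 0x262)) (.node 1 (.leaf 0x52) (.leaf 0x166))) (.node 2 (.node 1 (.leaf 0x886) (.leaf 0xb12)) (.node 1 (.leaf 0x96c) (.leaf 0x1ce4)))) (.node 4 (.node 2 (.node 1 (.leaf 0x280) (.leaf 0x722)) (.node 1 (.leaf 0x206) (.leaf 0xb2d))) (.node 2 (.node 1 (.leaf 0x410) (.leaf 0x422)) (.node 1 (.leaf 0x26f) (.leaf 0x1270)))))) (.node 16 (.node 8 (.node 4 (.node 2 (.node 1 (.leaf 0x28) (.leaf 0xb69)) (.node 1 (.leaf 0x1847) (.leaf 0x1b26))) (.node 2 (.node 1 (.leaf 0x116f) (.leaf 0x28a)) (.node 1 (.leaf 0x1ed) (.leaf 0xc3)))) (.node 4 (.node 2 (.node 1 (.leaf 0xda4) (.leaf 0x80f)) (.node 1 (.leaf 0x769) (.leaf 0x178d))) (.node 2 (.node 1 (.leaf 0x1085) (.leaf 0x1a6)) (.node 1 (.leaf 0x1340)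 (.leaf 0x1be4))))) (.node 8 (.node 4 (.node 2 (.node 1 (.leaf 0x11e9) (.leaf 0x61)) (.node 1 (.leaf 0x1e44) (.leaf 0x5f7))) (.node 2 (.node 1 (.leaf 0x152c) (.leaf 0x1630)) (.node 1 (.leaf 0x235) (.leaf 0x557)))) (.node 4 (.node 2 (.node 1 (.leaf 0x17ed) (.leaf 0x1f21)) (.node 1 (.leaf 0x92) (.leaf 0x12ae))) (.node 2 (.node 1 (.leaf 0x94a) (.leaf 0x1752)) (.node 1 (.leaf 0x17c5) (.leaf 0x1d09)))))))))

def zClass_1 : Tree := (.node 128 (.node 64 (.node 32 (.node 16 (.node 8 (.node 4 (.node 2 (.node 1 (.leaf 0xb4a) (.leaf 0x5b0)) (.node 1 (.leaf 0xd86) (.leaf 0x169))) (.node 2 (.node 1 (.leaf 0x12ed) (.leaf 0x291)) (.node 1 (.leaf 0x13ce) (.leaf 0xab)))) (.node 4 (.node 2 (.node 1 (.leaf 0x1c5) (.leaf 0xea)) (.node 1 (.leaf 0x5a2) (.leaf 0xa05))) (.node 2 (.node 1 (.leaf 0x11a1) (.leaf 0x126c)) (.node 1 (.leaf 0x1766) (.leaf 0x25))))) (.node 8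 (.node 4 (.node 2 (.node 1 (.leaf 0x15e5) (.leaf 0x192c)) (.node 1 (.leaf 0x19e3) (.leaf 0x1423))) (.node 2 (.node 1 (.leaf 0x200) (.leaf 0x15ac)) (.node 1 (.leaf 0x17b2) (.leaf 0x170d)))) (.node 4 (.node 2 (.node 1 (.leaf 0x12c1) (.leaf 0x628)) (.node 1 (.leaf 0xd11) (.leaf 0x1884))) (.node 2 (.node 1 (.leaf 0xac3) (.leaf 0x164d)) (.node 1 (.leaf 0x103) (.leaf 0x50f)))))) (.node 16 (.node 8 (.node 4 (.node 2 (.node 1 (.leaf 0x1ba4) (.leaf 0x13d4)) (.node 1 (.leaf 0xc28) (.leaf 0x425))) (.node 2 (.node 1 (.leaf 0x6e) (.leaf 0x1ee)) (.node 1 (.leaf 0xb8c) (.leaf 0x1786)))) (.node 4 (.node 2 (.node 1 (.leaf 0x1093) (.leaf 0x1f25)) (.node 1 (.leaf 0x24c) (.leaf 0x42))) (.node 2 (.node 1 (.leaf 0x4e4) (.leaf 0x7e9)) (.node 1 (.leaf 0x743) (.leaf 0xa4d))))) (.node 8 (.node 4 (.node 2 (.node 1 (.leaf 0x1909) (.leaf 0x132f)) (.node 1 (.leaf 0x17a2)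 (.leaf 0x1c6c))) (.node 2 (.node 1 (.leaf 0x112a) (.leaf 0x11d2)) (.node 1 (.leaf 0x411) (.leaf 0x2f3)))) (.node 4 (.node 2 (.node 1 (.leaf 0x1625) (.leaf 0x1b14)) (.node 1 (.leaf 0x1d4c) (.leaf 0xcc9))) (.node 2 (.node 1 (.leaf 0x941) (.leaf 0x60f)) (.node 1 (.leaf 0x4a0) (.leaf 0x11f4))))))) (.node 32 (.node 16 (.node 8 (.node 4 (.node 2 (.node 1 (.leaf 0x908) (.leaf 0x1593)) (.node 1 (.leaf 0x742) (.leaf 0x128f))) (.node 2 (.node 1 (.leaf 0x156) (.leaf 0x1f2)) (.node 1 (.leaf 0x76f) (.leaf 0x330)))) (.node 4 (.node 2 (.node 1 (.leaf 0x8e9) (.leaf 0x1aaa)) (.node 1 (.leaf 0x4c2) (.leaf 0x834))) (.node 2 (.node 1 (.leaf 0x1069) (.leaf 0x182d)) (.node 1 (.leaf 0x178c) (.leaf 0x31))))) (.node 8 (.node 4 (.node 2 (.node 1 (.leaf 0xccc) (.leaf 0x11ea)) (.node 1 (.leaf 0x404) (.leaf 0x8ed))) (.node 2 (.node 1 (.leaf 0x11e3) (.leaf 0x104f)) (.node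 1 (.leaf 0x10d7) (.leaf 0x1de9)))) (.node 4 (.node 2 (.node 1 (.leaf 0x7ae) (.leaf 0x487)) (.node 1 (.leaf 0x132c) (.leaf 0x394))) (.node 2 (.node 1 (.leaf 0x623) (.leaf 0x11d4)) (.node 1 (.leaf 0x42c) (.leaf 0x334)))))) (.node 16 (.node 8 (.node 4 (.node 2 (.node 1 (.leaf 0x6ed) (.leaf 0x86)) (.node 1 (.leaf 0x16a1) (.leaf 0x116e))) (.node 2 (.node 1 (.leaf 0x224) (.leaf 0x666)) (.node 1 (.leaf 0x13a9) (.leaf 0x8f)))) (.node 4 (.node 2 (.node 1 (.leaf 0x1395) (.leaf 0x963)) (.node 1 (.leaf 0x210) (.leaf 0x606))) (.node 2 (.node 1 (.leaf 0x1651) (.leaf 0x170)) (.node 1 (.leaf 0x1583) (.leaf 0xf66))))) (.node 8 (.node 4 (.node 2 (.node 1 (.leaf 0x102d) (.leaf 0x1d2d)) (.node 1 (.leaf 0x1287) (.leaf 0x1fa7))) (.node 2 (.node 1 (.leaf 0x18a3) (.leaf 0x1547)) (.node 1 (.leaf 0xa66) (.leaf 0x2af)))) (.node 4 (.node 2 (.node 1 (.leaf 0x8c6) (.leaf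 0x1306)) (.node 1 (.leaf 0x10e1) (.leaf 0x7a8))) (.node 2 (.node 1 (.leaf 0xf4a) (.leaf 0x432)) (.node 1 (.leaf 0x1329) (.leaf 0x182f)))))))) (.node 64 (.node 32 (.node 16 (.node 8 (.node 4 (.node 2 (.node 1 (.leaf 0xad4) (.leaf 0x88c)) (.node 1 (.leaf 0x15b3) (.leaf 0x126e))) (.node 2 (.node 1 (.leaf 0x4c3) (.leaf 0x11b2)) (.node 1 (.leaf 0x42f) (.leaf 0x1045)))) (.node 4 (.node 2 (.node 1 (.leaf 0x1ae6) (.leaf 0x1b92)) (.node 1 (.leaf 0x1e2a) (.leaf 0x1470))) (.node 2 (.node 1 (.leaf 0x11c4) (.leaf 0x1572)) (.node 1 (.leaf 0x16c6) (.leaf 0x354))))) (.node 8 (.node 4 (.node 2 (.node 1 (.leaf 0x164a) (.leaf 0x364)) (.node 1 (.leaf 0x464) (.leaf 0x1703))) (.node 2 (.node 1 (.leaf 0x880) (.leaf 0x8ef)) (.node 1 (.leaf 0x1c97) (.leaf 0xee6)))) (.node 4 (.node 2 (.node 1 (.leaf 0x3ac) (.leaf 0x40f)) (.node 1 (.leaf 0xa4c) (.leaf 0x1915))) (.node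 2 (.node 1 (.leaf 0x1372) (.leaf 0x1bf6)) (.node 1 (.leaf 0x14e) (.leaf 0x12ef)))))) (.node 16 (.node 8 (.node 4 (.node 2 (.node 1 (.leaf 0x19ec) (.leaf 0x11cb)) (.node 1 (.leaf 0x44b) (.leaf 0x15c7))) (.node 2 (.node 1 (.leaf 0x136f) (.leaf 0x584)) (.node 1 (.leaf 0x1227) (.leaf 0xdcf)))) (.node 4 (.node 2 (.node 1 (.leaf 0x384) (.leaf 0x1c08)) (.node 1 (.leaf 0x13c6) (.leaf 0x7b3))) (.node 2 (.node 1 (.leaf 0x8cc) (.leaf 0x1327)) (.node 1 (.leaf 0x1f0f) (.leaf 0x124f))))) (.node 8 (.node 4 (.node 2 (.node 1 (.leaf 0x1018) (.leaf 0x30f)) (.node 1 (.leaf 0x2b4) (.leaf 0x87))) (.node 2 (.node 1 (.leaf 0x1657) (.leaf 0x1436)) (.node 1 (.leaf 0x1e08) (.leaf 0x92a)))) (.node 4 (.node 2 (.node 1 (.leaf 0x230) (.leaf 0x10ec)) (.node 1 (.leaf 0x1105) (.leaf 0xf6))) (.node 2 (.node 1 (.leaf 0x289) (.leaf 0x12a9)) (.node 1 (.leaf 0x809) (.leaf 0x1444)))))))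 (.node 32 (.node 16 (.node 8 (.node 4 (.node 2 (.node 1 (.leaf 0xa74) (.leaf 0x5eb)) (.node 1 (.leaf 0xa8c) (.leaf 0x8ad))) (.node 2 (.node 1 (.leaf 0x209) (.leaf 0x1d21)) (.node 1 (.leaf 0x1971) (.leaf 0xd47)))) (.node 4 (.node 2 (.node 1 (.leaf 0x1761) (.leaf 0xfa9)) (.node 1 (.leaf 0x1a9) (.leaf 0x1457))) (.node 2 (.node 1 (.leaf 0xfac) (.leaf 0x9ef)) (.node 1 (.leaf 0x1cd1) (.leaf 0x11a4))))) (.node 8 (.node 4 (.node 2 (.node 1 (.leaf 0x100) (.leaf 0x2ec)) (.node 1 (.leaf 0x1587) (.leaf 0x88e))) (.node 2 (.node 1 (.leaf 0x1e5) (.leaf 0x16ad)) (.node 1 (.leaf 0x14af) (.leaf 0x2e9)))) (.node 4 (.node 2 (.node 1 (.leaf 0xab6) (.leaf 0x815)) (.node 1 (.leaf 0x507) (.leaf 0xa36))) (.node 2 (.node 1 (.leaf 0x1d62) (.leaf 0xbe6)) (.node 1 (.leaf 0xa5) (.leaf 0x84e)))))) (.node 16 (.node 8 (.node 4 (.node 2 (.node 1 (.leaf 0x1c61) (.leaf 0x184))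 (.node 1 (.leaf 0x1ac7) (.leaf 0x9e2))) (.node 2 (.node 1 (.leaf 0x19b5) (.leaf 0x8c1)) (.node 1 (.leaf 0x63) (.leaf 0x1e0d)))) (.node 4 (.node 2 (.node 1 (.leaf 0x1543) (.leaf 0x16c7)) (.node 1 (.leaf 0x3b5) (.leaf 0x869))) (.node 2 (.node 1 (.leaf 0x7a7) (.leaf 0xe09)) (.node 1 (.leaf 0x158b) (.leaf 0x1376))))) (.node 8 (.node 4 (.node 2 (.node 1 (.leaf 0x4cd) (.leaf 0x19af)) (.node 1 (.leaf 0x1526) (.leaf 0xd4d))) (.node 2 (.node 1 (.leaf 0xf6c) (.leaf 0x1317)) (.node 1 (.leaf 0x373) (.leaf 0x1783)))) (.node 4 (.node 2 (.node 1 (.leaf 0x756) (.leaf 0x1055)) (.node 1 (.leaf 0x1d6a) (.leaf 0x5c6))) (.node 2 (.node 1 (.leaf 0x1352) (.leaf 0x764)) (.node 1 (.leaf 0x10aa) (.leaf 0x4c4)))))))))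

def zClass_2 : Tree := (.node 128 (.node 64 (.node 32 (.node 16 (.node 8 (.node 4 (.node 2 (.node 1 (.leaf 0x202) (.leaf 0xd2f)) (.node 1 (.leaf 0x671) (.leaf 0x9ed))) (.node 2 (.node 1 (.leaf 0x1310) (.leaf 0x6d4)) (.node 1 (.leaf 0xb2f) (.leaf 0x20f)))) (.node 4 (.node 2 (.node 1 (.leaf 0x13e4) (.leaf 0x1272)) (.node 1 (.leaf 0x164f) (.leaf 0x14a6))) (.node 2 (.node 1 (.leaf 0x60d) (.leaf 0x104)) (.node 1 (.leaf 0x32e) (.leaf 0x4a1))))) (.node 8 (.node 4 (.node 2 (.node 1 (.leaf 0x349) (.leaf 0x1f6d)) (.node 1 (.leaf 0x10f0) (.leaf 0x56b))) (.node 2 (.node 1 (.leaf 0x1826) (.leaf 0xc4f)) (.node 1 (.leaf 0x1571) (.leaf 0x1969)))) (.node 4 (.node 2 (.node 1 (.leaf 0x1931) (.leaf 0x1c0f)) (.node 1 (.leaf 0x3b3) (.leaf 0x1707))) (.node 2 (.node 1 (.leaf 0x4eb) (.leaf 0x1244)) (.node 1 (.leaf 0x52b) (.leaf 0x1881)))))) (.node 16 (.node 8 (.node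 4 (.node 2 (.node 1 (.leaf 0x2b1) (.leaf 0x17cf)) (.node 1 (.leaf 0x47) (.leaf 0x15ed))) (.node 2 (.node 1 (.leaf 0x1568) (.leaf 0x848)) (.node 1 (.leaf 0x1e77) (.leaf 0x1ecf)))) (.node 4 (.node 2 (.node 1 (.leaf 0x746) (.leaf 0x4a8)) (.node 1 (.leaf 0x1725) (.leaf 0x3a2))) (.node 2 (.node 1 (.leaf 0x1629) (.leaf 0x1426)) (.node 1 (.leaf 0x1a6c) (.leaf 0x1827))))) (.node 8 (.node 4 (.node 2 (.node 1 (.leaf 0x92d) (.leaf 0x1b49)) (.node 1 (.leaf 0x1e8f) (.leaf 0x16c1))) (.node 2 (.node 1 (.leaf 0x6e7) (.leaf 0x434)) (.node 1 (.leaf 0x115) (.leaf 0x5c4)))) (.node 4 (.node 2 (.node 1 (.leaf 0x1082) (.leaf 0x1cc6)) (.node 1 (.leaf 0x883) (.leaf 0x8e3))) (.node 2 (.node 1 (.leaf 0x158d) (.leaf 0x34e)) (.node 1 (.leaf 0x1da1) (.leaf 0xa17))))))) (.node 32 (.node 16 (.node 8 (.node 4 (.node 2 (.node 1 (.leaf 0x16e6) (.leaf 0x1caa)) (.node 1 (.leaf 0x62b)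 (.leaf 0x16cd))) (.node 2 (.node 1 (.leaf 0x451) (.leaf 0x96)) (.node 1 (.leaf 0x1549) (.leaf 0x140a)))) (.node 4 (.node 2 (.node 1 (.leaf 0x1195) (.leaf 0x1622)) (.node 1 (.leaf 0x176b) (.leaf 0x365))) (.node 2 (.node 1 (.leaf 0x1ac4) (.leaf 0xbef)) (.node 1 (.leaf 0x8d) (.leaf 0x17aa))))) (.node 8 (.node 4 (.node 2 (.node 1 (.leaf 0x1591) (.leaf 0x8e5)) (.node 1 (.leaf 0x1a29) (.leaf 0x12e3))) (.node 2 (.node 1 (.leaf 0xb37) (.leaf 0x1911)) (.node 1 (.leaf 0x14a2) (.leaf 0x483)))) (.node 4 (.node 2 (.node 1 (.leaf 0x10a3) (.leaf 0x7d2)) (.node 1 (.leaf 0x1141) (.leaf 0x12eb))) (.node 2 (.node 1 (.leaf 0x1694) (.leaf 0x1b4c)) (.node 1 (.leaf 0x1e89) (.leaf 0x72c)))))) (.node 16 (.node 8 (.node 4 (.node 2 (.node 1 (.leaf 0x1b4) (.leaf 0x1053)) (.node 1 (.leaf 0x3a3) (.leaf 0xe91))) (.node 2 (.node 1 (.leaf 0x10a6) (.leaf 0x18af)) (.node 1 (.leaf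 0x144) (.leaf 0x148)))) (.node 4 (.node 2 (.node 1 (.leaf 0x814) (.leaf 0x22d)) (.node 1 (.leaf 0x481) (.leaf 0x1f0d))) (.node 2 (.node 1 (.leaf 0x1821) (.leaf 0x389)) (.node 1 (.leaf 0x1e01) (.leaf 0x1d04))))) (.node 8 (.node 4 (.node 2 (.node 1 (.leaf 0x1176) (.leaf 0x1cb2)) (.node 1 (.leaf 0x14ad) (.leaf 0x40d))) (.node 2 (.node 1 (.leaf 0xc6a) (.leaf 0x1d63)) (.node 1 (.leaf 0x1801) (.leaf 0x1993)))) (.node 4 (.node 2 (.node 1 (.leaf 0x176e) (.leaf 0x12ac)) (.node 1 (.leaf 0x1412) (.leaf 0x1609))) (.node 2 (.node 1 (.leaf 0x321) (.leaf 0x1632)) (.node 1 (.leaf 0x208) (.leaf 0x10cf)))))))) (.node 64 (.node 32 (.node 16 (.node 8 (.node 4 (.node 2 (.node 1 (.leaf 0x788) (.leaf 0x108b)) (.node 1 (.leaf 0x1285) (.leaf 0x50d))) (.node 2 (.node 1 (.leaf 0x7b1) (.leaf 0x18d)) (.node 1 (.leaf 0x1286) (.leaf 0x56a)))) (.node 4 (.node 2 (.node 1 (.leaf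 0xae9) (.leaf 0xd01)) (.node 1 (.leaf 0x1071) (.leaf 0x363))) (.node 2 (.node 1 (.leaf 0x60a) (.leaf 0x88d)) (.node 1 (.leaf 0x12d3) (.leaf 0x9cd))))) (.node 8 (.node 4 (.node 2 (.node 1 (.leaf 0xb6) (.leaf 0x260)) (.node 1 (.leaf 0x344) (.leaf 0x54))) (.node 2 (.node 1 (.leaf 0x48e) (.leaf 0x62d)) (.node 1 (.leaf 0x10e7) (.leaf 0x1c3)))) (.node 4 (.node 2 (.node 1 (.leaf 0x9f1) (.leaf 0x4c0)) (.node 1 (.leaf 0x1589) (.leaf 0xa14))) (.node 2 (.node 1 (.leaf 0x1267) (.leaf 0xa69)) (.node 1 (.leaf 0xdc9) (.leaf 0xae)))))) (.node 16 (.node 8 (.node 4 (.node 2 (.node 1 (.leaf 0xb32) (.leaf 0x1019)) (.node 1 (.leaf 0x1dac) (.leaf 0x10ee))) (.node 2 (.node 1 (.leaf 0x346) (.leaf 0xe3)) (.node 1 (.leaf 0x12a6) (.leaf 0x1452)))) (.node 4 (.node 2 (.node 1 (.leaf 0x1da7) (.leaf 0x138f)) (.node 1 (.leaf 0xa84) (.leaf 0x46a))) (.node 2 (.node 1 (.leaf 0xeec)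 (.leaf 0x6e8)) (.node 1 (.leaf 0x150) (.leaf 0x1159))))) (.node 8 (.node 4 (.node 2 (.node 1 (.leaf 0x52a) (.leaf 0xb27)) (.node 1 (.leaf 0x11f7) (.leaf 0x22b))) (.node 2 (.node 1 (.leaf 0x1275) (.leaf 0xe2)) (.node 1 (.leaf 0x7ac) (.leaf 0x393)))) (.node 4 (.node 2 (.node 1 (.leaf 0x1ead) (.leaf 0x8f3)) (.node 1 (.leaf 0x11c0) (.leaf 0x24d))) (.node 2 (.node 1 (.leaf 0xc23) (.leaf 0x951)) (.node 1 (.leaf 0x1b43) (.leaf 0x1787))))))) (.node 32 (.node 16 (.node 8 (.node 4 (.node 2 (.node 1 (.leaf 0x28c) (.leaf 0x91)) (.node 1 (.leaf 0x67) (.leaf 0x109))) (.node 2 (.node 1 (.leaf 0x1aa9) (.leaf 0xba6)) (.node 1 (.leaf 0x8f9) (.leaf 0x5d4)))) (.node 4 (.node 2 (.node 1 (.leaf 0x13a7) (.leaf 0x3c0)) (.node 1 (.leaf 0x46c) (.leaf 0x274))) (.node 2 (.node 1 (.leaf 0x350) (.leaf 0x1701)) (.node 1 (.leaf 0x150c) (.leaf 0x110b))))) (.node 8 (.node 4 (.node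 2 (.node 1 (.leaf 0x15ad) (.leaf 0xea4)) (.node 1 (.leaf 0x1b77) (.leaf 0x1bcc))) (.node 2 (.node 1 (.leaf 0x924) (.leaf 0x13e9)) (.node 1 (.leaf 0x1dc6) (.leaf 0xf24)))) (.node 4 (.node 2 (.node 1 (.leaf 0x563) (.leaf 0x19ea)) (.node 1 (.leaf 0x1768) (.leaf 0x172d))) (.node 2 (.node 1 (.leaf 0x94f) (.leaf 0x1c86)) (.node 1 (.leaf 0x1c63) (.leaf 0x88f)))))) (.node 16 (.node 8 (.node 4 (.node 2 (.node 1 (.leaf 0x1cc3) (.leaf 0x684)) (.node 1 (.leaf 0x9e9) (.leaf 0x12e))) (.node 2 (.node 1 (.leaf 0x5a6) (.leaf 0x314)) (.node 1 (.leaf 0x36) (.leaf 0xc0a)))) (.node 4 (.node 2 (.node 1 (.leaf 0x19b4) (.leaf 0x190e)) (.node 1 (.leaf 0xd67) (.leaf 0x17af))) (.node 2 (.node 1 (.leaf 0xb87) (.leaf 0x14f7)) (.node 1 (.leaf 0x1476) (.leaf 0x86f))))) (.node 8 (.node 4 (.node 2 (.node 1 (.leaf 0x1084) (.leaf 0x12c6)) (.node 1 (.leaf 0x132) (.leaf 0x74)))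 (.node 2 (.node 1 (.leaf 0x6b) (.leaf 0x1754)) (.node 1 (.leaf 0x1503) (.leaf 0xccd)))) (.node 4 (.node 2 (.node 1 (.leaf 0x5a5) (.leaf 0x504)) (.node 1 (.leaf 0x11c7) (.leaf 0x1923))) (.node 2 (.node 1 (.leaf 0x14e6) (.leaf 0x1560)) (.node 1 (.leaf 0x170c) (.leaf 0x767)))))))))

def zClass_3 : Tree := (.node 128 (.node 64 (.node 32 (.node 16 (.node 8 (.node 4 (.node 2 (.node 1 (.leaf 0x337) (.leaf 0x136c)) (.node 1 (.leaf 0x1f86) (.leaf 0x16cc))) (.node 2 (.node 1 (.leaf 0x469) (.leaf 0x2cd)) (.node 1 (.leaf 0x11b1) (.leaf 0x116)))) (.node 4 (.node 2 (.node 1 (.leaf 0x687) (.leaf 0xd07)) (.node 1 (.leaf 0x626) (.leaf 0x7e8))) (.node 2 (.node 1 (.leaf 0x59) (.leaf 0xd9)) (.node 1 (.leaf 0x906) (.leaf 0x670))))) (.node 8 (.node 4 (.node 2 (.node 1 (.leaf 0x1667) (.leaf 0x690)) (.node 1 (.leaf 0x1a07) (.leaf 0x19c1))) (.node 2 (.node 1 (.leaf 0x17d6)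 (.leaf 0x1897)) (.node 1 (.leaf 0x15b7) (.leaf 0xad5)))) (.node 4 (.node 2 (.node 1 (.leaf 0x325) (.leaf 0xe62)) (.node 1 (.leaf 0x1b36) (.leaf 0x78a))) (.node 2 (.node 1 (.leaf 0x401) (.leaf 0x6f)) (.node 1 (.leaf 0x649) (.leaf 0x522)))))) (.node 16 (.node 8 (.node 4 (.node 2 (.node 1 (.leaf 0x1bc6) (.leaf 0xb09)) (.node 1 (.leaf 0x142d) (.leaf 0xdc4))) (.node 2 (.node 1 (.leaf 0x681) (.leaf 0xb46)) (.node 1 (.leaf 0x1a64) (.leaf 0x12a4)))) (.node 4 (.node 2 (.node 1 (.leaf 0xe66) (.leaf 0x144c)) (.node 1 (.leaf 0x1527) (.leaf 0x1545))) (.node 2 (.node 1 (.leaf 0x68f) (.leaf 0x1ea3)) (.node 1 (.leaf 0x1f49) (.leaf 0x181))))) (.node 8 (.node 4 (.node 2 (.node 1 (.leaf 0x3cd) (.leaf 0x1022)) (.node 1 (.leaf 0x1a23) (.leaf 0x114f))) (.node 2 (.node 1 (.leaf 0x144a) (.leaf 0x1207)) (.node 1 (.leaf 0x13e3) (.leaf 0xce6)))) (.node 4 (.node 2 (.node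 1 (.leaf 0x1f4f) (.leaf 0x62e)) (.node 1 (.leaf 0x18b9) (.leaf 0x1b83))) (.node 2 (.node 1 (.leaf 0x1f83) (.leaf 0x17a9)) (.node 1 (.leaf 0x1ac6) (.leaf 0xbc3))))))) (.node 32 (.node 16 (.node 8 (.node 4 (.node 2 (.node 1 (.leaf 0x828) (.leaf 0x14ed)) (.node 1 (.leaf 0x1509) (.leaf 0xa89))) (.node 2 (.node 1 (.leaf 0x11f3) (.leaf 0x72e)) (.node 1 (.leaf 0x1cef) (.leaf 0x1be3)))) (.node 4 (.node 2 (.node 1 (.leaf 0xe87) (.leaf 0xf8c)) (.node 1 (.leaf 0xaa3) (.leaf 0x240))) (.node 2 (.node 1 (.leaf 0x405) (.leaf 0x1985)) (.node 1 (.leaf 0xc49) (.leaf 0xf32))))) (.node 8 (.node 4 (.node 2 (.node 1 (.leaf 0x7ca) (.leaf 0x10b4)) (.node 1 (.leaf 0x1546) (.leaf 0x12d6))) (.node 2 (.node 1 (.leaf 0x1c09) (.leaf 0x1b0a)) (.node 1 (.leaf 0x18d2) (.leaf 0x164)))) (.node 4 (.node 2 (.node 1 (.leaf 0x24a) (.leaf 0x1ce3)) (.node 1 (.leaf 0x520) (.leaf 0x706)))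 (.node 2 (.node 1 (.leaf 0x4a3) (.leaf 0x38c)) (.node 1 (.leaf 0x15d5) (.leaf 0x1992)))))) (.node 16 (.node 8 (.node 4 (.node 2 (.node 1 (.leaf 0x3a0) (.leaf 0x263)) (.node 1 (.leaf 0xb8d) (.leaf 0x4ac))) (.node 2 (.node 1 (.leaf 0x1eea) (.leaf 0x1037)) (.node 1 (.leaf 0x14f0) (.leaf 0x13b1)))) (.node 4 (.node 2 (.node 1 (.leaf 0x19e6) (.leaf 0x8cd)) (.node 1 (.leaf 0x66c) (.leaf 0x3cc))) (.node 2 (.node 1 (.leaf 0xee4) (.leaf 0x14ec)) (.node 1 (.leaf 0x136e) (.leaf 0x1ca5))))) (.node 8 (.node 4 (.node 2 (.node 1 (.leaf 0x1c26) (.leaf 0x1ee3)) (.node 1 (.leaf 0x1d6c) (.leaf 0x204))) (.node 2 (.node 1 (.leaf 0x113) (.leaf 0x631)) (.node 1 (.leaf 0x6f4) (.leaf 0x243)))) (.node 4 (.node 2 (.node 1 (.leaf 0x110c) (.leaf 0x18aa)) (.node 1 (.leaf 0x1168) (.leaf 0x309))) (.node 2 (.node 1 (.leaf 0x1a81) (.leaf 0x331)) (.node 1 (.leaf 0x1d51) (.leaf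 0x6f5)))))))) (.node 64 (.node 32 (.node 16 (.node 8 (.node 4 (.node 2 (.node 1 (.leaf 0x112d) (.leaf 0xf51)) (.node 1 (.leaf 0x60e) (.leaf 0x803))) (.node 2 (.node 1 (.leaf 0x130a) (.leaf 0x62f)) (.node 1 (.leaf 0xc2f) (.leaf 0x158c)))) (.node 4 (.node 2 (.node 1 (.leaf 0x1a0c) (.leaf 0x5ae)) (.node 1 (.leaf 0x1c6f) (.leaf 0x2c0))) (.node 2 (.node 1 (.leaf 0x142) (.leaf 0x1e04)) (.node 1 (.leaf 0x4e) (.leaf 0x48c))))) (.node 8 (.node 4 (.node 2 (.node 1 (.leaf 0x1c41) (.leaf 0xf6a)) (.node 1 (.leaf 0x3b4) (.leaf 0x14a4))) (.node 2 (.node 1 (.leaf 0x341) (.leaf 0xe65)) (.node 1 (.leaf 0x18ac) (.leaf 0xc24)))) (.node 4 (.node 2 (.node 1 (.leaf 0x1f2f) (.leaf 0x1989)) (.node 1 (.leaf 0x4f6) (.leaf 0x13a1))) (.node 2 (.node 1 (.leaf 0x1114) (.leaf 0xb5)) (.node 1 (.leaf 0x1068) (.leaf 0x1140)))))) (.node 16 (.node 8 (.node 4 (.node 2 (.node 1 (.leaf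 0x108e) (.leaf 0x1542)) (.node 1 (.leaf 0x9a5) (.leaf 0x1b4f))) (.node 2 (.node 1 (.leaf 0x1de7) (.leaf 0x4aa)) (.node 1 (.leaf 0x4e2) (.leaf 0x10f5)))) (.node 4 (.node 2 (.node 1 (.leaf 0x1152) (.leaf 0x17cd)) (.node 1 (.leaf 0x901) (.leaf 0x1829))) (.node 2 (.node 1 (.leaf 0x192f) (.leaf 0xb97)) (.node 1 (.leaf 0x48f) (.leaf 0x1521))))) (.node 8 (.node 4 (.node 2 (.node 1 (.leaf 0x1e03) (.leaf 0x12c8)) (.node 1 (.leaf 0x160) (.leaf 0x1567))) (.node 2 (.node 1 (.leaf 0x1745) (.leaf 0xa47)) (.node 1 (.leaf 0x1586) (.leaf 0x1823)))) (.node 4 (.node 2 (.node 1 (.leaf 0x1b06) (.leaf 0x1ac9)) (.node 1 (.leaf 0x12d2) (.leaf 0x34))) (.node 2 (.node 1 (.leaf 0x1ecc) (.leaf 0x5ef)) (.node 1 (.leaf 0x10f3) (.leaf 0x1b48))))))) (.node 32 (.node 16 (.node 8 (.node 4 (.node 2 (.node 1 (.leaf 0x1288) (.leaf 0x15f2)) (.node 1 (.leaf 0xaca) (.leaf 0x1af)))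 (.node 2 (.node 1 (.leaf 0x216) (.leaf 0x174f)) (.node 1 (.leaf 0x40) (.leaf 0x6d)))) (.node 4 (.node 2 (.node 1 (.leaf 0x1035) (.leaf 0x1aa6)) (.node 1 (.leaf 0x5e4) (.leaf 0x1454))) (.node 2 (.node 1 (.leaf 0x58f) (.leaf 0xfa1)) (.node 1 (.leaf 0x26d) (.leaf 0x1599))))) (.node 8 (.node 4 (.node 2 (.node 1 (.leaf 0x1d23) (.leaf 0x1a95)) (.node 1 (.leaf 0x18a9) (.leaf 0x605))) (.node 2 (.node 1 (.leaf 0x16af) (.leaf 0x492)) (.node 1 (.leaf 0x1949) (.leaf 0xa03)))) (.node 4 (.node 2 (.node 1 (.leaf 0x353) (.leaf 0x14d2)) (.node 1 (.leaf 0x1e21) (.leaf 0x1a2a))) (.node 2 (.node 1 (.leaf 0x1dcc) (.leaf 0x14ea)) (.node 1 (.leaf 0x1ea1) (.leaf 0x1ea9)))))) (.node 16 (.node 8 (.node 4 (.node 2 (.node 1 (.leaf 0xc46) (.leaf 0x602)) (.node 1 (.leaf 0xe24) (.leaf 0x3a4))) (.node 2 (.node 1 (.leaf 0xe9) (.leaf 0x9ac)) (.node 1 (.leaf 0x12d4) (.leaf 0x7a0))))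 (.node 4 (.node 2 (.node 1 (.leaf 0x1102) (.leaf 0x1990)) (.node 1 (.leaf 0xb0) (.leaf 0x104b))) (.node 2 (.node 1 (.leaf 0x2e5) (.leaf 0x108a)) (.node 1 (.leaf 0x460) (.leaf 0xd0))))) (.node 8 (.node 4 (.node 2 (.node 1 (.leaf 0x1acf) (.leaf 0x1070)) (.node 1 (.leaf 0x1d0f) (.leaf 0xce7))) (.node 2 (.node 1 (.leaf 0x146e) (.leaf 0xbed)) (.node 1 (.leaf 0x5b2) (.leaf 0xa22)))) (.node 4 (.node 2 (.node 1 (.leaf 0x133) (.leaf 0xdaf)) (.node 1 (.leaf 0x66) (.leaf 0xd26))) (.node 2 (.node 1 (.leaf 0x2e6) (.leaf 0x1323)) (.node 1 (.leaf 0xf27) (.leaf 0x445)))))))))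

def zClass_4 : Tree := (.node 128 (.node 64 (.node 32 (.node 16 (.node 8 (.node 4 (.node 2 (.node 1 (.leaf 0x41) (.leaf 0x106a)) (.node 1 (.leaf 0x72b) (.leaf 0x1261))) (.node 2 (.node 1 (.leaf 0x1904) (.leaf 0x863)) (.node 1 (.leaf 0x114d) (.leaf 0x3a6)))) (.node 4 (.node 2 (.node 1 (.leaf 0x7a4) (.leaf 0x13b2)) (.node 1 (.leaf 0x80e) (.leaf 0x162c))) (.node 2 (.node 1 (.leaf 0x18c2) (.leaf 0x257)) (.node 1 (.leaf 0x27) (.leaf 0x18a2))))) (.node 8 (.node 4 (.node 2 (.node 1 (.leaf 0x2f7) (.leaf 0x11b9)) (.node 1 (.leaf 0x1732) (.leaf 0x1f69))) (.node 2 (.node 1 (.leaf 0x2cc) (.leaf 0x48d)) (.node 1 (.leaf 0xe6f) (.leaf 0x11c2)))) (.node 4 (.node 2 (.node 1 (.leaf 0x1e86) (.leaf 0xd4f)) (.node 1 (.leaf 0x124e) (.leaf 0x1062))) (.node 2 (.node 1 (.leaf 0x2c5) (.leaf 0xaef)) (.node 1 (.leaf 0x32) (.leaf 0x56f)))))) (.node 16 (.node 8 (.node 4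 (.node 2 (.node 1 (.leaf 0x597) (.leaf 0x1409)) (.node 1 (.leaf 0x1ec6) (.leaf 0x1145))) (.node 2 (.node 1 (.leaf 0x336) (.leaf 0x86d)) (.node 1 (.leaf 0xa0) (.leaf 0x30d)))) (.node 4 (.node 2 (.node 1 (.leaf 0x191) (.leaf 0xbb1)) (.node 1 (.leaf 0xae3) (.leaf 0x110a))) (.node 2 (.node 1 (.leaf 0x128) (.leaf 0x1750)) (.node 1 (.leaf 0x17e6) (.leaf 0x961))))) (.node 8 (.node 4 (.node 2 (.node 1 (.leaf 0xd41) (.leaf 0x18b6)) (.node 1 (.leaf 0x645) (.leaf 0x7ea))) (.node 2 (.node 1 (.leaf 0x6b0) (.leaf 0x889)) (.node 1 (.leaf 0x1bc1) (.leaf 0x1190)))) (.node 4 (.node 2 (.node 1 (.leaf 0x928) (.leaf 0x12a2)) (.node 1 (.leaf 0x1a4e) (.leaf 0x1435))) (.node 2 (.node 1 (.leaf 0x178e) (.leaf 0x75)) (.node 1 (.leaf 0x76d) (.leaf 0xbac))))))) (.node 32 (.node 16 (.node 8 (.node 4 (.node 2 (.node 1 (.leaf 0x20c) (.leaf 0x636)) (.node 1 (.leaf 0x1167) (.leaf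 0x180))) (.node 2 (.node 1 (.leaf 0x242) (.leaf 0x1c8d)) (.node 1 (.leaf 0x806) (.leaf 0x9c4)))) (.node 4 (.node 2 (.node 1 (.leaf 0x1536) (.leaf 0x5e6)) (.node 1 (.leaf 0x1dec) (.leaf 0xb2))) (.node 2 (.node 1 (.leaf 0x6c) (.leaf 0x1804)) (.node 1 (.leaf 0x1250) (.leaf 0xaa7))))) (.node 8 (.node 4 (.node 2 (.node 1 (.leaf 0x19e1) (.leaf 0x1493)) (.node 1 (.leaf 0xea6) (.leaf 0x1f43))) (.node 2 (.node 1 (.leaf 0x8d7) (.leaf 0x1ad)) (.node 1 (.leaf 0x11ec) (.leaf 0x1765)))) (.node 4 (.node 2 (.node 1 (.leaf 0x194) (.leaf 0x333)) (.node 1 (.leaf 0x362) (.leaf 0x2a))) (.node 2 (.node 1 (.leaf 0x15c9) (.leaf 0x1106)) (.node 1 (.leaf 0xa4) (.leaf 0x1e8a)))))) (.node 16 (.node 8 (.node 4 (.node 2 (.node 1 (.leaf 0x1dea) (.leaf 0x13e1)) (.node 1 (.leaf 0x10d5) (.leaf 0x1377))) (.node 2 (.node 1 (.leaf 0x1079) (.leaf 0xf07)) (.node 1 (.leaf 0x1810) (.leaf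 0x357)))) (.node 4 (.node 2 (.node 1 (.leaf 0x1b07) (.leaf 0x268)) (.node 1 (.leaf 0x166a) (.leaf 0x1e67))) (.node 2 (.node 1 (.leaf 0xbc7) (.leaf 0x1a43)) (.node 1 (.leaf 0x1711) (.leaf 0x5a7))))) (.node 8 (.node 4 (.node 2 (.node 1 (.leaf 0x1934) (.leaf 0xf8f)) (.node 1 (.leaf 0x1736) (.leaf 0x1eb))) (.node 2 (.node 1 (.leaf 0x1165) (.leaf 0x1be1)) (.node 1 (.leaf 0xc92) (.leaf 0xc0c)))) (.node 4 (.node 2 (.node 1 (.leaf 0x1661) (.leaf 0x3f4)) (.node 1 (.leaf 0x1a6d) (.leaf 0x14a9))) (.node 2 (.node 1 (.leaf 0x34b) (.leaf 0x19cc)) (.node 1 (.leaf 0x9c7) (.leaf 0x269)))))))) (.node 64 (.node 32 (.node 16 (.node 8 (.node 4 (.node 2 (.node 1 (.leaf 0x126a) (.leaf 0x1d03)) (.node 1 (.leaf 0x136) (.leaf 0x428))) (.node 2 (.node 1 (.leaf 0xaac) (.leaf 0x1d8c)) (.node 1 (.leaf 0x1e4d) (.leaf 0x130b)))) (.node 4 (.node 2 (.node 1 (.leaf 0x1f0a) (.leaf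 0x164c)) (.node 1 (.leaf 0x1627) (.leaf 0xe64))) (.node 2 (.node 1 (.leaf 0x4e1) (.leaf 0x245)) (.node 1 (.leaf 0x1b54) (.leaf 0x4cc))))) (.node 8 (.node 4 (.node 2 (.node 1 (.leaf 0x468) (.leaf 0x10ac)) (.node 1 (.leaf 0x19b2) (.leaf 0x18ce))) (.node 2 (.node 1 (.leaf 0x1125) (.leaf 0xdad)) (.node 1 (.leaf 0x84d) (.leaf 0x1bcd)))) (.node 4 (.node 2 (.node 1 (.leaf 0x890) (.leaf 0x1388)) (.node 1 (.leaf 0x5e9) (.leaf 0x1f64))) (.node 2 (.node 1 (.leaf 0x11a2) (.leaf 0x5aa)) (.node 1 (.leaf 0xb65) (.leaf 0x14e7)))))) (.node 16 (.node 8 (.node 4 (.node 2 (.node 1 (.leaf 0xd71) (.leaf 0x13f1)) (.node 1 (.leaf 0x885) (.leaf 0x42a))) (.node 2 (.node 1 (.leaf 0x4d) (.leaf 0x1bec)) (.node 1 (.leaf 0x236) (.leaf 0x168d)))) (.node 4 (.node 2 (.node 1 (.leaf 0x2a3) (.leaf 0x1e8)) (.node 1 (.leaf 0x112f) (.leaf 0x1081))) (.node 2 (.node 1 (.leaf 0x122c)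 (.leaf 0x170f)) (.node 1 (.leaf 0xdc3) (.leaf 0x616))))) (.node 8 (.node 4 (.node 2 (.node 1 (.leaf 0xb44) (.leaf 0x1887)) (.node 1 (.leaf 0x6b1) (.leaf 0xc06))) (.node 2 (.node 1 (.leaf 0x18c7) (.leaf 0x19a6)) (.node 1 (.leaf 0xf44) (.leaf 0x221)))) (.node 4 (.node 2 (.node 1 (.leaf 0xf6f) (.leaf 0x94c)) (.node 1 (.leaf 0x356) (.leaf 0xc74))) (.node 2 (.node 1 (.leaf 0x11c8) (.leaf 0x1153)) (.node 1 (.leaf 0x18c0) (.leaf 0x15cc))))))) (.node 32 (.node 16 (.node 8 (.node 4 (.node 2 (.node 1 (.leaf 0x98a) (.leaf 0x846)) (.node 1 (.leaf 0x1654) (.leaf 0xd49))) (.node 2 (.node 1 (.leaf 0x1459) (.leaf 0x223)) (.node 1 (.leaf 0x1eaa) (.leaf 0x1273)))) (.node 4 (.node 2 (.node 1 (.leaf 0x46b) (.leaf 0x14e3)) (.node 1 (.leaf 0x18f2) (.leaf 0x1322))) (.node 2 (.node 1 (.leaf 0x1065) (.leaf 0x1540)) (.node 1 (.leaf 0x24) (.leaf 0xe41))))) (.node 8 (.node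 4 (.node 2 (.node 1 (.leaf 0x96f) (.leaf 0x172a)) (.node 1 (.leaf 0x7ef) (.leaf 0x1c2d))) (.node 2 (.node 1 (.leaf 0x1d6d) (.leaf 0x14a)) (.node 1 (.leaf 0x196) (.leaf 0x1807)))) (.node 4 (.node 2 (.node 1 (.leaf 0x824) (.leaf 0x16a6)) (.node 1 (.leaf 0x1370) (.leaf 0x1368))) (.node 2 (.node 1 (.leaf 0x1b0) (.leaf 0xc83)) (.node 1 (.leaf 0x1060) (.leaf 0x1669)))))) (.node 16 (.node 8 (.node 4 (.node 2 (.node 1 (.leaf 0x1943) (.leaf 0x90f)) (.node 1 (.leaf 0xaa4) (.leaf 0x10b3))) (.node 2 (.node 1 (.leaf 0x1cca) (.leaf 0x12f1)) (.node 1 (.leaf 0x1c4d) (.leaf 0x1c4c)))) (.node 4 (.node 2 (.node 1 (.leaf 0x1185) (.leaf 0x1046)) (.node 1 (.leaf 0x882) (.leaf 0x7c9))) (.node 2 (.node 1 (.leaf 0x512) (.leaf 0xbea)) (.node 1 (.leaf 0xf8d) (.leaf 0x1e1))))) (.node 8 (.node 4 (.node 2 (.node 1 (.leaf 0x1553) (.leaf 0x1486)) (.node 1 (.leaf 0xc84) (.leaf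 0x4c1))) (.node 2 (.node 1 (.leaf 0x1eac) (.leaf 0x1523)) (.node 1 (.leaf 0x770) (.leaf 0x1c85)))) (.node 4 (.node 2 (.node 1 (.leaf 0x1f4c) (.leaf 0x226)) (.node 1 (.leaf 0x1de6) (.leaf 0x52d))) (.node 2 (.node 1 (.leaf 0x9ca) (.leaf 0x1ca7)) (.node 1 (.leaf 0x203) (.leaf 0xc89)))))))))

def zClass_5 : Tree := (.node 128 (.node 64 (.node 32 (.node 16 (.node 8 (.node 4 (.node 2 (.node 1 (.leaf 0x1463) (.leaf 0x1347)) (.node 1 (.leaf 0x186) (.leaf 0x5e1))) (.node 2 (.node 1 (.leaf 0xdcd) (.leaf 0x1f06)) (.node 1 (.leaf 0x652) (.leaf 0xd81)))) (.node 4 (.node 2 (.node 1 (.leaf 0x16c4) (.leaf 0x16d5)) (.node 1 (.leaf 0xd29) (.leaf 0x1255))) (.node 2 (.node 1 (.leaf 0x1741) (.leaf 0xcb1)) (.node 1 (.leaf 0x600) (.leaf 0x1e69))))) (.node 8 (.node 4 (.node 2 (.node 1 (.leaf 0x561) (.leaf 0x2ca)) (.node 1 (.leaf 0x80) (.leaf 0x11e4))) (.node 2 (.node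 1 (.leaf 0x180d) (.leaf 0xc27)) (.node 1 (.leaf 0x1b03) (.leaf 0x1e2)))) (.node 4 (.node 2 (.node 1 (.leaf 0x514) (.leaf 0x1709)) (.node 1 (.leaf 0x1947) (.leaf 0x161))) (.node 2 (.node 1 (.leaf 0x15c3) (.leaf 0xed)) (.node 1 (.leaf 0x1265) (.leaf 0x17ad)))))) (.node 16 (.node 8 (.node 4 (.node 2 (.node 1 (.leaf 0x1b2a) (.leaf 0x1861)) (.node 1 (.leaf 0x524) (.leaf 0x32b))) (.node 2 (.node 1 (.leaf 0x174d) (.leaf 0x704)) (.node 1 (.leaf 0x12f2) (.leaf 0x1146)))) (.node 4 (.node 2 (.node 1 (.leaf 0x1592) (.leaf 0x2d1)) (.node 1 (.leaf 0x8c9) (.leaf 0x565))) (.node 2 (.node 1 (.leaf 0x15af) (.leaf 0x1e6d)) (.node 1 (.leaf 0x1e49) (.leaf 0xea7))))) (.node 8 (.node 4 (.node 2 (.node 1 (.leaf 0xf0c) (.leaf 0x32a)) (.node 1 (.leaf 0x18b4) (.leaf 0x944))) (.node 2 (.node 1 (.leaf 0x198f) (.leaf 0x17ec)) (.node 1 (.leaf 0x903) (.leaf 0x1249)))) (.node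 4 (.node 2 (.node 1 (.leaf 0x1569) (.leaf 0x6a7)) (.node 1 (.leaf 0x72f) (.leaf 0x5cd))) (.node 2 (.node 1 (.leaf 0x1283) (.leaf 0x162a)) (.node 1 (.leaf 0xeed) (.leaf 0x89))))))) (.node 32 (.node 16 (.node 8 (.node 4 (.node 2 (.node 1 (.leaf 0x5e8) (.leaf 0x1e8d)) (.node 1 (.leaf 0x1a91) (.leaf 0x2ea))) (.node 2 (.node 1 (.leaf 0xa8f) (.leaf 0xda3)) (.node 1 (.leaf 0x1aad) (.leaf 0x84c)))) (.node 4 (.node 2 (.node 1 (.leaf 0x1e2c) (.leaf 0xa7)) (.node 1 (.leaf 0x1a88) (.leaf 0x556))) (.node 2 (.node 1 (.leaf 0xe07) (.leaf 0xa12)) (.node 1 (.leaf 0xe6a) (.leaf 0x2e))))) (.node 8 (.node 4 (.node 2 (.node 1 (.leaf 0x5f3) (.leaf 0x1021)) (.node 1 (.leaf 0x15b6) (.leaf 0x855))) (.node 2 (.node 1 (.leaf 0x892) (.leaf 0x1b29)) (.node 1 (.leaf 0x1026) (.leaf 0x1c4a)))) (.node 4 (.node 2 (.node 1 (.leaf 0x1154) (.leaf 0xb4e)) (.node 1 (.leaf 0x17c6)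 (.leaf 0x107))) (.node 2 (.node 1 (.leaf 0x198d) (.leaf 0x446)) (.node 1 (.leaf 0x1729) (.leaf 0x1515)))))) (.node 16 (.node 8 (.node 4 (.node 2 (.node 1 (.leaf 0x647) (.leaf 0x94d)) (.node 1 (.leaf 0xa0f) (.leaf 0x12a1))) (.node 2 (.node 1 (.leaf 0x1ef) (.leaf 0x1926)) (.node 1 (.leaf 0x319) (.leaf 0x1950)))) (.node 4 (.node 2 (.node 1 (.leaf 0x18e6) (.leaf 0x90a)) (.node 1 (.leaf 0x6ea) (.leaf 0x13ab))) (.node 2 (.node 1 (.leaf 0x17f0) (.leaf 0x138e)) (.node 1 (.leaf 0x18d5) (.leaf 0x99))))) (.node 8 (.node 4 (.node 2 (.node 1 (.leaf 0x11d6) (.leaf 0x154e)) (.node 1 (.leaf 0x427) (.leaf 0xd6))) (.node 2 (.node 1 (.leaf 0x18b5) (.leaf 0x16d)) (.node 1 (.leaf 0x14b3) (.leaf 0x449)))) (.node 4 (.node 2 (.node 1 (.leaf 0x7a1) (.leaf 0x4c9)) (.node 1 (.leaf 0x5a1) (.leaf 0x189))) (.node 2 (.node 1 (.leaf 0x1faf) (.leaf 0x1a2c)) (.node 1 (.leaf 0x1be9)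 (.leaf 0x10d)))))))) (.node 64 (.node 32 (.node 16 (.node 8 (.node 4 (.node 2 (.node 1 (.leaf 0x689) (.leaf 0x3ef)) (.node 1 (.leaf 0x1ded) (.leaf 0x646))) (.node 2 (.node 1 (.leaf 0x1050) (.leaf 0x1496)) (.node 1 (.leaf 0x1343) (.leaf 0x1a86)))) (.node 4 (.node 2 (.node 1 (.leaf 0xe31) (.leaf 0x5a0)) (.node 1 (.leaf 0x110f) (.leaf 0xc6))) (.node 2 (.node 1 (.leaf 0xd27) (.leaf 0x1566)) (.node 1 (.leaf 0x7c4) (.leaf 0x1c6d))))) (.node 8 (.node 4 (.node 2 (.node 1 (.leaf 0xc2) (.leaf 0x12f9)) (.node 1 (.leaf 0x1a4f) (.leaf 0xc2e))) (.node 2 (.node 1 (.leaf 0x1f61) (.leaf 0xca4)) (.node 1 (.leaf 0x402) (.leaf 0x656)))) (.node 4 (.node 2 (.node 1 (.leaf 0xaea) (.leaf 0xd64)) (.node 1 (.leaf 0xb21) (.leaf 0x1163))) (.node 2 (.node 1 (.leaf 0x94) (.leaf 0x1048)) (.node 1 (.leaf 0x293) (.leaf 0x4d3)))))) (.node 16 (.node 8 (.node 4 (.node 2 (.node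 1 (.leaf 0x1f09) (.leaf 0x1794)) (.node 1 (.leaf 0x19cf) (.leaf 0xcc))) (.node 2 (.node 1 (.leaf 0xf46) (.leaf 0x1c0d)) (.node 1 (.leaf 0x8f7) (.leaf 0x15e0)))) (.node 4 (.node 2 (.node 1 (.leaf 0x16f0) (.leaf 0x305)) (.node 1 (.leaf 0x3a8) (.leaf 0x9ad))) (.node 2 (.node 1 (.leaf 0x424) (.leaf 0xcb5)) (.node 1 (.leaf 0x182e) (.leaf 0x790))))) (.node 8 (.node 4 (.node 2 (.node 1 (.leaf 0x13e7) (.leaf 0x1416)) (.node 1 (.leaf 0x1ba7) (.leaf 0x177))) (.node 2 (.node 1 (.leaf 0x3d6) (.leaf 0xee1)) (.node 1 (.leaf 0x1ee2) (.leaf 0x1b7)))) (.node 4 (.node 2 (.node 1 (.leaf 0x15ce) (.leaf 0x1b67)) (.node 1 (.leaf 0x4d7) (.leaf 0xcea))) (.node 2 (.node 1 (.leaf 0x1c81) (.leaf 0x8cf)) (.node 1 (.leaf 0x1ce9) (.leaf 0x3c8))))))) (.node 32 (.node 16 (.node 8 (.node 4 (.node 2 (.node 1 (.leaf 0x15e3) (.leaf 0x38d)) (.node 1 (.leaf 0x13af) (.leaf 0x552)))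 (.node 2 (.node 1 (.leaf 0x16a3) (.leaf 0x11cd)) (.node 1 (.leaf 0xc66) (.leaf 0x603)))) (.node 4 (.node 2 (.node 1 (.leaf 0x966) (.leaf 0x15d1)) (.node 1 (.leaf 0x13d1) (.leaf 0x1551))) (.node 2 (.node 1 (.leaf 0x18b) (.leaf 0x414)) (.node 1 (.leaf 0x1a6e) (.leaf 0x6a4))))) (.node 8 (.node 4 (.node 2 (.node 1 (.leaf 0x10e5) (.leaf 0x760)) (.node 1 (.leaf 0x3b0) (.leaf 0x102f))) (.node 2 (.node 1 (.leaf 0x1643) (.leaf 0x131)) (.node 1 (.leaf 0xec1) (.leaf 0x140c)))) (.node 4 (.node 2 (.node 1 (.leaf 0x2b) (.leaf 0x1726)) (.node 1 (.leaf 0x1a8) (.leaf 0xde4))) (.node 2 (.node 1 (.leaf 0x143) (.leaf 0x1043)) (.node 1 (.leaf 0x128b) (.leaf 0xeaf)))))) (.node 16 (.node 8 (.node 4 (.node 2 (.node 1 (.leaf 0x1c6) (.leaf 0x17a5)) (.node 1 (.leaf 0x1381) (.leaf 0x1cb7))) (.node 2 (.node 1 (.leaf 0x126) (.leaf 0x1386)) (.node 1 (.leaf 0x160b) (.leaf 0xb0d))))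 (.node 4 (.node 2 (.node 1 (.leaf 0x1996) (.leaf 0x10cd)) (.node 1 (.leaf 0xba9) (.leaf 0xa9))) (.node 2 (.node 1 (.leaf 0x1077) (.leaf 0x234)) (.node 1 (.leaf 0xc03) (.leaf 0x10a2))))) (.node 8 (.node 4 (.node 2 (.node 1 (.leaf 0x11f6) (.leaf 0xca9)) (.node 1 (.leaf 0x1d8f) (.leaf 0x1192))) (.node 2 (.node 1 (.leaf 0x1369) (.leaf 0x1867)) (.node 1 (.leaf 0x1573) (.leaf 0xcc4)))) (.node 4 (.node 2 (.node 1 (.leaf 0x6e4) (.leaf 0xec7)) (.node 1 (.leaf 0x3ed) (.leaf 0x14e0))) (.node 2 (.node 1 (.leaf 0x146f) (.leaf 0xa50)) (.node 1 (.leaf 0x1f2c) (.leaf 0xa94)))))))))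

def zClass_6 : Tree := (.node 128 (.node 64 (.node 32 (.node 16 (.node 8 (.node 4 (.node 2 (.node 1 (.leaf 0x326) (.leaf 0x80c)) (.node 1 (.leaf 0xb6d) (.leaf 0xdc7))) (.node 2 (.node 1 (.leaf 0xd66) (.leaf 0x1474)) (.node 1 (.leaf 0x190c) (.leaf 0xe8)))) (.node 4 (.node 2 (.node 1 (.leaf 0x13c1) (.leaf 0x1057)) (.node 1 (.leaf 0x1c2a) (.leaf 0x1c69))) (.node 2 (.node 1 (.leaf 0x13f0) (.leaf 0x14ca)) (.node 1 (.leaf 0x1149) (.leaf 0x176a))))) (.node 8 (.node 4 (.node 2 (.node 1 (.leaf 0x763) (.leaf 0x1de1)) (.node 1 (.leaf 0xe72) (.leaf 0xe83))) (.node 2 (.node 1 (.leaf 0x13ad) (.leaf 0x110)) (.node 1 (.leaf 0x1a26) (.leaf 0x7c1)))) (.node 4 (.node 2 (.node 1 (.leaf 0x70a) (.leaf 0x84f)) (.node 1 (.leaf 0x1387) (.leaf 0x304))) (.node 2 (.node 1 (.leaf 0x1484) (.leaf 0x1772)) (.node 1 (.leaf 0x19b7) (.leaf 0x762)))))) (.node 16 (.node 8 (.node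 4 (.node 2 (.node 1 (.leaf 0x201) (.leaf 0x9c9)) (.node 1 (.leaf 0x1607) (.leaf 0x1612))) (.node 2 (.node 1 (.leaf 0x15b1) (.leaf 0x1b3)) (.node 1 (.leaf 0xa0a) (.leaf 0x441)))) (.node 4 (.node 2 (.node 1 (.leaf 0x1f29) (.leaf 0x52f)) (.node 1 (.leaf 0x1187) (.leaf 0x1482))) (.node 2 (.node 1 (.leaf 0x1946) (.leaf 0xca3)) (.node 1 (.leaf 0x1e2f) (.leaf 0x5a4))))) (.node 8 (.node 4 (.node 2 (.node 1 (.leaf 0x127) (.leaf 0x1608)) (.node 1 (.leaf 0x116a) (.leaf 0x1bad))) (.node 2 (.node 1 (.leaf 0xce) (.leaf 0x126b)) (.node 1 (.leaf 0x12e8) (.leaf 0x1866)))) (.node 4 (.node 2 (.node 1 (.leaf 0x1ca6) (.leaf 0x14cf)) (.node 1 (.leaf 0x8a1) (.leaf 0x29))) (.node 2 (.node 1 (.leaf 0xd1) (.leaf 0x1174)) (.node 1 (.leaf 0x56c) (.leaf 0x302))))))) (.node 32 (.node 16 (.node 8 (.node 4 (.node 2 (.node 1 (.leaf 0x1030) (.leaf 0x581)) (.node 1 (.leaf 0x56e)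 (.leaf 0xb89))) (.node 2 (.node 1 (.leaf 0x19a4) (.leaf 0x18e4)) (.node 1 (.leaf 0x46d) (.leaf 0x1fa4)))) (.node 4 (.node 2 (.node 1 (.leaf 0x8c4) (.leaf 0x16e9)) (.node 1 (.leaf 0x601) (.leaf 0xa75))) (.node 2 (.node 1 (.leaf 0x130) (.leaf 0x14a5)) (.node 1 (.leaf 0x1480) (.leaf 0x1594))))) (.node 8 (.node 4 (.node 2 (.node 1 (.leaf 0xf84) (.leaf 0x505)) (.node 1 (.leaf 0xaed) (.leaf 0xa83))) (.node 2 (.node 1 (.leaf 0x10d2) (.leaf 0x112c)) (.node 1 (.leaf 0x5ea) (.leaf 0x1292)))) (.node 4 (.node 2 (.node 1 (.leaf 0x134) (.leaf 0x54d)) (.node 1 (.leaf 0x1095) (.leaf 0x11a7))) (.node 2 (.node 1 (.leaf 0x1b6) (.leaf 0x2c9)) (.node 1 (.leaf 0xc29) (.leaf 0x675)))))) (.node 16 (.node 8 (.node 4 (.node 2 (.node 1 (.leaf 0x198c) (.leaf 0x17a3)) (.node 1 (.leaf 0x6c8) (.leaf 0x6b6))) (.node 2 (.node 1 (.leaf 0xf4d) (.leaf 0xbaa)) (.node 1 (.leaf 0xb17)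 (.leaf 0x12ee)))) (.node 4 (.node 2 (.node 1 (.leaf 0x17d7) (.leaf 0x1982)) (.node 1 (.leaf 0x282) (.leaf 0xa06))) (.node 2 (.node 1 (.leaf 0x1247) (.leaf 0xf23)) (.node 1 (.leaf 0x1281) (.leaf 0x19a9))))) (.node 8 (.node 4 (.node 2 (.node 1 (.leaf 0x1c8c) (.leaf 0x3d0)) (.node 1 (.leaf 0x11cc) (.leaf 0x1695))) (.node 2 (.node 1 (.leaf 0x1151) (.leaf 0x1e0f)) (.node 1 (.leaf 0x130c) (.leaf 0x1c44)))) (.node 4 (.node 2 (.node 1 (.leaf 0xcb) (.leaf 0x228)) (.node 1 (.leaf 0xb04) (.leaf 0x3f9))) (.node 2 (.node 1 (.leaf 0x724) (.leaf 0x174e)) (.node 1 (.leaf 0x1135) (.leaf 0x1e7)))))))) (.node 64 (.node 32 (.node 16 (.node 8 (.node 4 (.node 2 (.node 1 (.leaf 0x1b85) (.leaf 0x13ea)) (.node 1 (.leaf 0x156d) (.leaf 0x8a4))) (.node 2 (.node 1 (.leaf 0x1bc9) (.leaf 0x1073)) (.node 1 (.leaf 0x1366) (.leaf 0x980)))) (.node 4 (.node 2 (.node 1 (.leaf 0x1122)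 (.leaf 0x1a6f)) (.node 1 (.leaf 0x12aa) (.leaf 0xb81))) (.node 2 (.node 1 (.leaf 0xbd1) (.leaf 0x12e0)) (.node 1 (.leaf 0x128e) (.leaf 0x10b7))))) (.node 8 (.node 4 (.node 2 (.node 1 (.leaf 0x252) (.leaf 0x18a)) (.node 1 (.leaf 0xf41) (.leaf 0x529))) (.node 2 (.node 1 (.leaf 0x118e) (.leaf 0x2d9)) (.node 1 (.leaf 0x9d4) (.leaf 0x1d8a)))) (.node 4 (.node 2 (.node 1 (.leaf 0x19d5) (.leaf 0x1d7)) (.node 1 (.leaf 0x122f) (.leaf 0x122a))) (.node 2 (.node 1 (.leaf 0x13d5) (.leaf 0xb96)) (.node 1 (.leaf 0xc1) (.leaf 0x6ce)))))) (.node 16 (.node 8 (.node 4 (.node 2 (.node 1 (.leaf 0x10c8) (.leaf 0x1197)) (.node 1 (.leaf 0x19a1) (.leaf 0x1462))) (.node 2 (.node 1 (.leaf 0x17ee) (.leaf 0x17b0)) (.node 1 (.leaf 0x747) (.leaf 0x23)))) (.node 4 (.node 2 (.node 1 (.leaf 0xe4f) (.leaf 0x18d4)) (.node 1 (.leaf 0x5ec) (.leaf 0x1506))) (.node 2 (.node 1 (.leaf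 0x1844) (.leaf 0x1147)) (.node 1 (.leaf 0x4b0) (.leaf 0x1429))))) (.node 8 (.node 4 (.node 2 (.node 1 (.leaf 0x1137) (.leaf 0x19e7)) (.node 1 (.leaf 0x162) (.leaf 0x1516))) (.node 2 (.node 1 (.leaf 0x299) (.leaf 0x13ae)) (.node 1 (.leaf 0x259) (.leaf 0x1421)))) (.node 4 (.node 2 (.node 1 (.leaf 0x1cf) (.leaf 0x4f2)) (.node 1 (.leaf 0x11c1) (.leaf 0x8ca))) (.node 2 (.node 1 (.leaf 0x320) (.leaf 0x1907)) (.node 1 (.leaf 0x7ab) (.leaf 0x11ae))))))) (.node 32 (.node 16 (.node 8 (.node 4 (.node 2 (.node 1 (.leaf 0x14a7) (.leaf 0x1b22)) (.node 1 (.leaf 0xc0e) (.leaf 0x3c2))) (.node 2 (.node 1 (.leaf 0x13f5) (.leaf 0x8d6)) (.node 1 (.leaf 0xc67) (.leaf 0x3b7)))) (.node 4 (.node 2 (.node 1 (.leaf 0x17c2) (.leaf 0xa8a)) (.node 1 (.leaf 0x1117) (.leaf 0xdaa))) (.node 2 (.node 1 (.leaf 0xeca) (.leaf 0xb1)) (.node 1 (.leaf 0x1a87) (.leaf 0xf26))))) (.node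 8 (.node 4 (.node 2 (.node 1 (.leaf 0x1123) (.leaf 0xa68)) (.node 1 (.leaf 0x1e63) (.leaf 0xa2f))) (.node 2 (.node 1 (.leaf 0x1d1) (.leaf 0x36a)) (.node 1 (.leaf 0x1bcf) (.leaf 0x1a21)))) (.node 4 (.node 2 (.node 1 (.leaf 0x737) (.leaf 0x18c8)) (.node 1 (.leaf 0x1a67) (.leaf 0x1256))) (.node 2 (.node 1 (.leaf 0x1064) (.leaf 0x1cec)) (.node 1 (.leaf 0xf2a) (.leaf 0x17a6)))))) (.node 16 (.node 8 (.node 4 (.node 2 (.node 1 (.leaf 0x781) (.leaf 0x114c)) (.node 1 (.leaf 0x324) (.leaf 0x1a51))) (.node 2 (.node 1 (.leaf 0xe6) (.leaf 0xe8c)) (.node 1 (.leaf 0x16c9) (.leaf 0xc07)))) (.node 4 (.node 2 (.node 1 (.leaf 0x18e7) (.leaf 0x13ca)) (.node 1 (.leaf 0xb24) (.leaf 0x776))) (.node 2 (.node 1 (.leaf 0x11c9) (.leaf 0x488)) (.node 1 (.leaf 0x1088) (.leaf 0x134a))))) (.node 8 (.node 4 (.node 2 (.node 1 (.leaf 0x18f1) (.leaf 0x415)) (.node 1 (.leaf 0x383)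 (.leaf 0x501))) (.node 2 (.node 1 (.leaf 0x1f87) (.leaf 0x332)) (.node 1 (.leaf 0x142e) (.leaf 0x1cac)))) (.node 4 (.node 2 (.node 1 (.leaf 0x124) (.leaf 0xae4)) (.node 1 (.leaf 0x10c5) (.leaf 0x1345))) (.node 2 (.node 1 (.leaf 0x390) (.leaf 0x1ee7)) (.node 1 (.leaf 0x139) (.leaf 0xfa6)))))))))

def zClass_7 : Tree := (.node 128 (.node 64 (.node 32 (.node 16 (.node 8 (.node 4 (.node 2 (.node 1 (.leaf 0x190d) (.leaf 0xb61)) (.node 1 (.leaf 0x3e2) (.leaf 0x1407))) (.node 2 (.node 1 (.leaf 0x6ca) (.leaf 0x595)) (.node 1 (.leaf 0x1157) (.leaf 0x1b05)))) (.node 4 (.node 2 (.node 1 (.leaf 0x12c2) (.leaf 0x1baf)) (.node 1 (.leaf 0x5a8) (.leaf 0xa49))) (.node 2 (.node 1 (.leaf 0x403) (.leaf 0x36b)) (.node 1 (.leaf 0x12e1) (.leaf 0x954))))) (.node 8 (.node 4 (.node 2 (.node 1 (.leaf 0x1faa) (.leaf 0x10ad)) (.node 1 (.leaf 0x307) (.leaf 0xc87))) (.node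 2 (.node 1 (.leaf 0x1173) (.leaf 0x134c)) (.node 1 (.leaf 0x1e6c) (.leaf 0x1443)))) (.node 4 (.node 2 (.node 1 (.leaf 0x2ce) (.leaf 0x311)) (.node 1 (.leaf 0x155) (.leaf 0x19e4))) (.node 2 (.node 1 (.leaf 0x1bb4) (.leaf 0x6cf)) (.node 1 (.leaf 0xe88) (.leaf 0x1624)))))) (.node 16 (.node 8 (.node 4 (.node 2 (.node 1 (.leaf 0x1e06) (.leaf 0x1637)) (.node 1 (.leaf 0x20) (.leaf 0x16ee))) (.node 2 (.node 1 (.leaf 0x550) (.leaf 0x2d7)) (.node 1 (.leaf 0xb72) (.leaf 0x1b4d)))) (.node 4 (.node 2 (.node 1 (.leaf 0x1284) (.leaf 0x290)) (.node 1 (.leaf 0x196d) (.leaf 0xc01))) (.node 2 (.node 1 (.leaf 0x9c3) (.leaf 0x2cb)) (.node 1 (.leaf 0x1253) (.leaf 0x276))))) (.node 8 (.node 4 (.node 2 (.node 1 (.leaf 0xcaf) (.leaf 0x1083)) (.node 1 (.leaf 0x10ef) (.leaf 0x1ab))) (.node 2 (.node 1 (.leaf 0x533) (.leaf 0x8c)) (.node 1 (.leaf 0xb84) (.leaf 0x5e7)))) (.node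 4 (.node 2 (.node 1 (.leaf 0xec4) (.leaf 0x76)) (.node 1 (.leaf 0x1471) (.leaf 0x984))) (.node 2 (.node 1 (.leaf 0xdef) (.leaf 0xb0c)) (.node 1 (.leaf 0x1466) (.leaf 0x1a48))))))) (.node 32 (.node 16 (.node 8 (.node 4 (.node 2 (.node 1 (.leaf 0x1513) (.leaf 0x4d6)) (.node 1 (.leaf 0x16e1) (.leaf 0x158a))) (.node 2 (.node 1 (.leaf 0x134d) (.leaf 0x9a3)) (.node 1 (.leaf 0x13ec) (.leaf 0x1a85)))) (.node 4 (.node 2 (.node 1 (.leaf 0xd0a) (.leaf 0xf2d)) (.node 1 (.leaf 0x13aa) (.leaf 0x1c04))) (.node 2 (.node 1 (.leaf 0x44) (.leaf 0x1b2c)) (.node 1 (.leaf 0x2b0) (.leaf 0x342))))) (.node 8 (.node 4 (.node 2 (.node 1 (.leaf 0x893) (.leaf 0x1301)) (.node 1 (.leaf 0x830) (.leaf 0x316))) (.node 2 (.node 1 (.leaf 0x1ec9) (.leaf 0x1ae1)) (.node 1 (.leaf 0x168a) (.leaf 0x86a)))) (.node 4 (.node 2 (.node 1 (.leaf 0x1aec) (.leaf 0xa01)) (.node 1 (.leaf 0x6aa)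 (.leaf 0x5d0))) (.node 2 (.node 1 (.leaf 0xa4a) (.leaf 0x3f6)) (.node 1 (.leaf 0xc30) (.leaf 0x1f67)))))) (.node 16 (.node 8 (.node 4 (.node 2 (.node 1 (.leaf 0x4b7) (.leaf 0xf9)) (.node 1 (.leaf 0x10e4) (.leaf 0x360))) (.node 2 (.node 1 (.leaf 0x248) (.leaf 0x1297)) (.node 1 (.leaf 0xe0a) (.leaf 0x1acc)))) (.node 4 (.node 2 (.node 1 (.leaf 0x1970) (.leaf 0xd2a)) (.node 1 (.leaf 0x1119) (.leaf 0x97))) (.node 2 (.node 1 (.leaf 0xda6) (.leaf 0x1d84)) (.node 1 (.leaf 0x18a7) (.leaf 0x18e1))))) (.node 8 (.node 4 (.node 2 (.node 1 (.leaf 0x467) (.leaf 0x1f01)) (.node 1 (.leaf 0xa27) (.leaf 0x84a))) (.node 2 (.node 1 (.leaf 0x997) (.leaf 0x7c7)) (.node 1 (.leaf 0x5c8) (.leaf 0x1e29)))) (.node 4 (.node 2 (.node 1 (.leaf 0x176c) (.leaf 0x120a)) (.node 1 (.leaf 0x1a0d) (.leaf 0x1d46))) (.node 2 (.node 1 (.leaf 0xb41) (.leaf 0x17cc)) (.node 1 (.leaf 0x10f7)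 (.leaf 0xe0e)))))))) (.node 64 (.node 32 (.node 16 (.node 8 (.node 4 (.node 2 (.node 1 (.leaf 0x132d) (.leaf 0x1642)) (.node 1 (.leaf 0x34f) (.leaf 0x417))) (.node 2 (.node 1 (.leaf 0x1929) (.leaf 0xe23)) (.node 1 (.leaf 0xc21) (.leaf 0x102c)))) (.node 4 (.node 2 (.node 1 (.leaf 0x1ecd) (.leaf 0x80a)) (.node 1 (.leaf 0x8a6) (.leaf 0xdca))) (.node 2 (.node 1 (.leaf 0x1710) (.leaf 0x12d0)) (.node 1 (.leaf 0x1e4c) (.leaf 0x1f63))))) (.node 8 (.node 4 (.node 2 (.node 1 (.leaf 0x15cb) (.leaf 0x192e)) (.node 1 (.leaf 0xcc1) (.leaf 0x122e))) (.node 2 (.node 1 (.leaf 0x13c4) (.leaf 0xb01)) (.node 1 (.leaf 0x1f81) (.leaf 0x86c)))) (.node 4 (.node 2 (.node 1 (.leaf 0x1a24) (.leaf 0x1497)) (.node 1 (.leaf 0x1e8e) (.leaf 0x1927))) (.node 2 (.node 1 (.leaf 0x16c3) (.leaf 0x14c7)) (.node 1 (.leaf 0x183) (.leaf 0x120)))))) (.node 16 (.node 8 (.node 4 (.node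 2 (.node 1 (.leaf 0x328) (.leaf 0x391)) (.node 1 (.leaf 0xf37) (.leaf 0x1a92))) (.node 2 (.node 1 (.leaf 0x17e7) (.leaf 0x1967)) (.node 1 (.leaf 0x13a5) (.leaf 0x1361)))) (.node 4 (.node 2 (.node 1 (.leaf 0x36d) (.leaf 0x82c)) (.node 1 (.leaf 0x16ef) (.leaf 0xa8d))) (.node 2 (.node 1 (.leaf 0x1e26) (.leaf 0x1753)) (.node 1 (.leaf 0x2e4) (.leaf 0xd74))))) (.node 8 (.node 4 (.node 2 (.node 1 (.leaf 0x54f) (.leaf 0xd06)) (.node 1 (.leaf 0x1850) (.leaf 0x18c5))) (.node 2 (.node 1 (.leaf 0x1663) (.leaf 0x241)) (.node 1 (.leaf 0x14b) (.leaf 0x1564)))) (.node 4 (.node 2 (.node 1 (.leaf 0x1525) (.leaf 0x116c)) (.node 1 (.leaf 0xb86) (.leaf 0x1b63))) (.node 2 (.node 1 (.leaf 0x1d6f) (.leaf 0x1ac1)) (.node 1 (.leaf 0x537) (.leaf 0xe61))))))) (.node 32 (.node 16 (.node 8 (.node 4 (.node 2 (.node 1 (.leaf 0xb02) (.leaf 0x1a97)) (.node 1 (.leaf 0x38a) (.leaf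 0xb42))) (.node 2 (.node 1 (.leaf 0x1ae7) (.leaf 0x1172)) (.node 1 (.leaf 0x6d0) (.leaf 0xcc7)))) (.node 4 (.node 2 (.node 1 (.leaf 0x18e2) (.leaf 0x596)) (.node 1 (.leaf 0x1b76) (.leaf 0x277))) (.node 2 (.node 1 (.leaf 0x1aa1) (.leaf 0x757)) (.node 1 (.leaf 0x148a) (.leaf 0x11f0))))) (.node 8 (.node 4 (.node 2 (.node 1 (.leaf 0xd4) (.leaf 0x2c4)) (.node 1 (.leaf 0x10c7) (.leaf 0x456))) (.node 2 (.node 1 (.leaf 0x12f0) (.leaf 0x315)) (.node 1 (.leaf 0x5ca) (.leaf 0x621)))) (.node 4 (.node 2 (.node 1 (.leaf 0x1d2c) (.leaf 0x577)) (.node 1 (.leaf 0x447) (.leaf 0x1570))) (.node 2 (.node 1 (.leaf 0x1213) (.leaf 0x1039)) (.node 1 (.leaf 0x182a) (.leaf 0x964)))))) (.node 16 (.node 8 (.node 4 (.node 2 (.node 1 (.leaf 0x1b8f) (.leaf 0x7b6)) (.node 1 (.leaf 0x1da9) (.leaf 0x7c3))) (.node 2 (.node 1 (.leaf 0x1749) (.leaf 0x15a9)) (.node 1 (.leaf 0x1ac)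 (.leaf 0x1576)))) (.node 4 (.node 2 (.node 1 (.leaf 0x1a41) (.leaf 0x16f1)) (.node 1 (.leaf 0x10a8) (.leaf 0x1b23))) (.node 2 (.node 1 (.leaf 0xf8a) (.leaf 0x296)) (.node 1 (.leaf 0x1de3) (.leaf 0x303))))) (.node 8 (.node 4 (.node 2 (.node 1 (.leaf 0x1644) (.leaf 0x10a1)) (.node 1 (.leaf 0x617) (.leaf 0x1910))) (.node 2 (.node 1 (.leaf 0x1d61) (.leaf 0xa6a)) (.node 1 (.leaf 0x641) (.leaf 0x196a)))) (.node 4 (.node 2 (.node 1 (.leaf 0xa8e) (.leaf 0xd4a)) (.node 1 (.leaf 0x1cc2) (.leaf 0x1f47))) (.node 2 (.node 1 (.leaf 0x1af6) (.leaf 0x1791)) (.node 1 (.leaf 0x1721) (.leaf 0x166f)))))))))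

def zClass_8 : Tree := (.node 16 (.node 8 (.node 4 (.node 2 (.node 1 (.leaf 0x727) (.leaf 0x9a7)) (.node 1 (.leaf 0x18f) (.leaf 0x1e27))) (.node 2 (.node 1 (.leaf 0x1b47) (.leaf 0x78f)) (.node 1 (.leaf 0x28d) (.leaf 0x841)))) (.node 4 (.node 2 (.node 1 (.leaf 0xd43) (.leaf 0xe0)) (.node 1 (.leaf 0x10ca) (.leaf 0x13cf))) (.node 2 (.node 1 (.leaf 0x1a3) (.leaf 0x1a09)) (.node 1 (.leaf 0x723) (.leaf 0x1683))))) (.node 8 (.node 4 (.node 2 (.node 1 (.leaf 0x777) (.leaf 0xca1)) (.node 1 (.leaf 0x13c7) (.leaf 0x1e4a))) (.node 2 (.node 1 (.leaf 0x17b7) (.leaf 0x1437)) (.node 1 (.leaf 0xc8f) (.leaf 0xe2d)))) (.node 4 (.node 2 (.node 1 (.leaf 0x1532) (.leaf 0x1b6c)) (.node 1 (.leaf 0x11d3) (.leaf 0x1ba1))) (.node 2 (.node 1 (.leaf 0x8f6) (.leaf 0xab1)) (.node 1 (.leaf 0x174c) (.leaf 0x461))))))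

def zClass : Tree := (.node 1024 (.node 512 (.node 256 zClass_0 zClass_1) (.node 256 zClass_2 zClass_3)) (.node 512 (.node 256 zClass_4 zClass_5) (.node 256 zClass_6 (.node 256 zClass_7 zClass_8))))

def caseD : ℕ := 432

def kinds : List ℕ := [0, 1, 1, 0, 0, 0, 0, 1, 0, 0, 1, 0, 0, 0, 1, 0, 1, 0, 0, 0, 0, 1, 1, 2, 3, 2]

def caseA : List (ℕ × List ℕ) := [(0, [0, 1]), (3, [0, 0, 0, 1]), (4, [0, 0, 0, 1]), (5, [0, 0, 0, 1]), (6, [0, 0, 0, 1]), (8, [0, 0, 1, 1]), (9, [0, 0, 1]), (12, [0, 0, 0, 1, 0, 1, 0, 0, 1, 1]), (13, [0, 0, 0, 0, 1]), (15, [0, 1]), (19, [0, 0, 1]), (25, [0, 0, 1, 1]), (30, [0, 0, 0, 0, 1]), (38, [0, 1]), (40, [0, 0, 0, 1])]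

def caseB : List (ℕ × ℕ × List ℕ × List (List ℕ)) := [(1, 350, [5, 1, 0, 2, 1, 3, 2, 1, 0, 4, 3, 5], [[0, 0, 0, 0, 1, 0, 0, 1, 1, 0, 0, 0, 1, 1, 0, 1, 1, 0, 0, 1, 0, 1], [1, 1, 0, 0, 1, 0, 0, 0, 0, 0, 0, 1, 0, 0, 1, 1, 0, 0], [0, 1, 1, 0, 0, 0, 1, 0, 0, 1, 1, 0, 1, 1, 0, 0, 0, 0, 0], [1, 0, 1, 0, 0, 1, 0, 0, 1, 0, 1, 1, 0, 0, 1, 1, 0, 1, 0, 1, 1], [0, 0, 0, 0, 1, 0, 1, 1, 0, 1, 0, 0, 0, 1, 0, 1, 1, 0, 0, 1, 0, 1]]), (2, 350, [5, 1, 0, 2, 1, 3, 2, 1, 0, 4, 3, 5], [[0, 1, 1, 0, 0, 0, 1, 0, 1, 0, 1, 1, 0, 1, 1, 0, 1, 0, 1, 0, 0], [0, 0, 0, 1, 0, 1, 0, 1, 0, 1, 1, 0, 1, 1, 0, 0, 1, 1, 0, 1, 1, 0, 0, 1], [1, 0, 0, 0, 1, 1, 0, 1, 1, 0, 1, 1, 0, 0, 0, 1, 1, 0, 1, 0, 1, 0, 1], [1, 0, 0, 0, 0, 0, 0, 1, 0, 0, 0, 1, 1, 0, 0, 0, 1, 0, 1, 0, 0], [0, 1, 0, 0, 1, 1, 0, 0, 0, 0, 0, 1, 0, 1, 0, 1, 0, 0, 1]]), (7, 350, [5, 1, 0, 2, 1, 3, 2, 1, 0, 4, 3, 5], [[0,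 0, 0, 0, 0, 1, 0, 1, 0, 1, 0, 0, 1, 0, 0, 1, 1, 0, 0, 1, 0], [0, 1, 0, 1, 0, 0, 0, 1, 0, 0, 1, 0, 1, 1, 0, 0, 0, 0, 0, 1], [1, 1, 0, 0, 0, 0, 0, 1, 0, 1, 0, 1, 0, 0, 0, 1, 0, 0, 1, 0], [0, 0, 1, 1, 0, 0, 0, 0, 1, 1, 0, 0, 0, 1, 0, 0, 0, 0, 1, 1, 0], [1, 0, 1, 0, 1, 0, 0, 1, 1, 0, 0, 1, 0, 0, 0, 1, 0, 0]]), (11, 954, [5, 1, 2, 3, 2, 1, 4, 3, 2, 1, 0, 3, 5, 1], [[0, 1, 0, 0, 0, 0, 0, 1, 0, 1, 0, 1, 0, 1, 0, 0, 1, 0, 0, 1], [0, 0, 1, 1, 0, 0, 1, 0, 1, 0, 0, 1, 0, 0, 0, 0, 1, 1, 0, 1, 1, 0], [0, 1, 0, 0, 1, 1, 0, 1, 0, 1, 1, 0, 1, 0, 0, 0, 0, 1, 0, 1, 0, 1], [0, 1, 0, 0, 0, 1, 0, 0, 0, 1, 1, 0, 1, 1, 0, 1, 0, 0, 0, 0, 1, 0, 1], [0, 0, 0, 0, 0, 0, 1, 1, 0, 0, 1, 0, 1, 1, 0, 0, 1, 1, 0, 0, 0]]), (16, 954, [5, 1, 2, 3, 2, 1, 4, 3, 2, 1, 0, 3, 5, 1], [[0, 0, 0, 0, 1, 0, 0, 1, 0, 0, 1, 1, 0, 0, 1, 1, 0, 1, 0, 1, 0, 0, 0, 0, 0, 1, 0, 1, 0], [0, 1, 1, 0,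 1, 1, 0, 1, 0, 1, 1, 0, 0, 1, 0, 1, 0, 0, 0, 1, 1, 0, 1], [0, 1, 0, 0, 0, 0, 0, 1, 0, 0, 0, 0, 0, 1, 0, 0, 0, 0], [0, 1, 0, 1, 0, 0, 1, 1, 0, 1, 1, 0, 1, 0, 1, 0, 0, 0, 1, 1, 0, 0, 1, 0, 0], [1, 0, 1, 0, 1, 0, 1, 1, 0, 1, 1, 0, 1, 1, 0, 0, 0, 0]]), (24, 954, [5, 1, 2, 3, 2, 1, 4, 3, 2, 1, 0, 3, 5, 1], [[1, 0, 1, 1, 0, 0, 1, 1, 0, 0, 1, 0, 1, 1, 0, 0, 0, 1, 0, 0, 1, 1, 0, 1], [0, 0, 0, 1, 0, 0, 0, 1, 0, 0, 0, 1, 1, 0, 1, 0, 1, 0, 1, 0, 0, 0, 0], [0, 0, 0, 0, 0, 0, 1, 1, 0, 0, 0, 1, 0, 0, 0, 1, 1, 0, 1, 0, 1, 0, 0], [1, 0, 0, 0, 0, 1, 1, 0, 1, 0, 0, 0, 1, 1, 0, 1, 1, 0, 1, 0, 1], [0, 0, 0, 1, 0, 0, 0, 0, 0, 0, 1, 1, 0, 1, 0, 0, 1, 0, 1]]), (51, 350, [5, 1, 0, 2, 1, 3, 2, 1, 0, 4, 3, 5], [[0, 0, 0, 1, 1, 0, 1, 0, 0, 0, 1, 0, 0, 1, 1, 0, 0, 1, 0, 0, 0, 1], [0, 0, 0, 1, 1, 0, 0, 0, 1, 0, 1, 1, 0, 0, 0, 1, 0, 1, 1, 0, 1, 0], [0, 0, 1, 0, 0, 0, 1, 1,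 0, 1, 1, 0, 0, 1, 0, 1, 0, 0, 0, 1, 1, 0, 1], [1, 0, 1, 0, 0, 1, 0, 1, 1, 0, 1, 1, 0, 1, 0, 0, 0, 0, 1], [1, 0, 1, 0, 0, 0, 0, 1, 0, 1, 0, 1, 1, 0, 0, 0, 1, 1, 0, 1, 0, 1]]), (72, 350, [5, 1, 0, 2, 1, 3, 2, 1, 0, 4, 3, 5], [[0, 0, 0, 0, 0, 0, 1, 0, 1, 1, 0, 1, 1, 0, 1, 1, 0, 1, 1, 0, 1, 0], [1, 0, 1, 1, 0, 1, 1, 0, 1, 1, 0, 0, 0, 1, 0, 1, 0, 1, 1, 0, 0, 1], [0, 1, 1, 0, 1, 1, 0, 1, 1, 0, 0, 0, 0, 1, 0, 1, 1, 0, 1, 0], [0, 1, 0, 0, 1, 1, 0, 0, 1, 1, 0, 0, 1, 0, 1, 0, 0, 0, 0, 1, 1, 0, 0], [0, 1, 0, 1, 1, 0, 1, 0, 0, 1, 1, 0, 0, 1, 0, 0, 0, 1, 0, 1]])]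

def c0Z : ℕ := 111

def c0P : ℕ := 995

def c0Q : ℕ := 954

def c0Seven : List ℕ := [0, 5, 3]

def c0Class_0 : Tree := (.node 128 (.node 64 (.node 32 (.node 16 (.node 8 (.node 4 (.node 2 (.node 1 (.leaf 0x0) (.leaf 0x1)) (.node 1 (.leaf 0x74f0a0) (.leaf 0x3269080))) (.node 2 (.node 1 (.leaf 0x31f10b1) (.leaf 0x1136041)) (.node 1 (.leaf 0x2a40c0) (.leaf 0x147f090)))) (.node 4 (.node 2 (.node 1 (.leaf 0x20bd0a1) (.leaf 0x36530b0)) (.node 1 (.leaf 0x25e0b0) (.leaf 0x2))) (.node 2 (.node 1 (.leaf 0x36e5061) (.leaf 0x27150c0)) (.node 1 (.leaf 0x7430a2) (.leaf 0x15040a1))))) (.node 8 (.node 4 (.node 2 (.node 1 (.leaf 0x326e072) (.leaf 0x45b070)) (.node 1 (.leaf 0x21d1081) (.leaf 0x7820a1))) (.node 2 (.node 1 (.leaf 0x13210a0) (.leaf 0x1166051)) (.node 1 (.leaf 0x15260b1) (.leaf 0x309a071)))) (.node 4 (.node 2 (.node 1 (.leaf 0x2cc042) (.leaf 0x4e5061))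 (.node 1 (.leaf 0x38b080) (.leaf 0x1197060))) (.node 2 (.node 1 (.leaf 0x232d070) (.leaf 0x10e9081)) (.node 1 (.leaf 0x30610a1) (.leaf 0x16d6080)))))) (.node 16 (.node 8 (.node 4 (.node 2 (.node 1 (.leaf 0x3da0b1) (.leaf 0x24c080)) (.node 1 (.leaf 0x2786042) (.leaf 0x6bd0a0))) (.node 2 (.node 1 (.leaf 0x164061) (.leaf 0x25f3061)) (.node 1 (.leaf 0x1688090) (.leaf 0x36ae081)))) (.node 4 (.node 2 (.node 1 (.leaf 0x173e070) (.leaf 0x1be070)) (.node 1 (.leaf 0x2288071) (.leaf 0x4fa090))) (.node 2 (.node 1 (.leaf 0x144a090) (.leaf 0x3194050)) (.node 1 (.leaf 0x165040) (.leaf 0x3621061))))) (.node 8 (.node 4 (.node 2 (.node 1 (.leaf 0x119c0c1) (.leaf 0x1e9092)) (.node 1 (.leaf 0x3159052) (.leaf 0x3))) (.node 2 (.node 1 (.leaf 0x31de0a1) (.leaf 0x11fe0c0)) (.node 1 (.leaf 0x348a062) (.leaf 0x31350a1)))) (.node 4 (.node 2 (.node 1 (.leaf 0x14d0a1) (.leaf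 0x25430a0)) (.node 1 (.leaf 0x20640b0) (.leaf 0x352a090))) (.node 2 (.node 1 (.leaf 0x11980b1) (.leaf 0x36e9060)) (.node 1 (.leaf 0x30620a1) (.leaf 0x15e10b1))))))) (.node 32 (.node 16 (.node 8 (.node 4 (.node 2 (.node 1 (.leaf 0x17450c1) (.leaf 0x16290b1)) (.node 1 (.leaf 0x324b091) (.leaf 0x25cc0b1))) (.node 2 (.node 1 (.leaf 0x14e071) (.leaf 0x14730a1)) (.node 1 (.leaf 0x26d6080) (.leaf 0x236f0a1)))) (.node 4 (.node 2 (.node 1 (.leaf 0x13f2091) (.leaf 0x4d1042)) (.node 1 (.leaf 0x3250a1) (.leaf 0x26400a1))) (.node 2 (.node 1 (.leaf 0x10df062) (.leaf 0x2243090)) (.node 1 (.leaf 0x21060a0) (.leaf 0x5de0b1))))) (.node 8 (.node 4 (.node 2 (.node 1 (.leaf 0x246f0a0) (.leaf 0x79d080)) (.node 1 (.leaf 0x390062) (.leaf 0x104e0b0))) (.node 2 (.node 1 (.leaf 0x3168072) (.leaf 0x359f090)) (.node 1 (.leaf 0x15c20c1) (.leaf 0x3389082)))) (.node 4 (.node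 2 (.node 1 (.leaf 0x26ea080) (.leaf 0x115c081)) (.node 1 (.leaf 0x2370e1) (.leaf 0x308d080))) (.node 2 (.node 1 (.leaf 0x357091) (.leaf 0x34b50b1)) (.node 1 (.leaf 0x173f0b1) (.leaf 0x33ba0b1)))))) (.node 16 (.node 8 (.node 4 (.node 2 (.node 1 (.leaf 0x22210a0) (.leaf 0x13c0091)) (.node 1 (.leaf 0x16b8091) (.leaf 0x2e2071))) (.node 2 (.node 1 (.leaf 0x2bc0a0) (.leaf 0x204e0b0)) (.node 1 (.leaf 0x10230b0) (.leaf 0x22740a0)))) (.node 4 (.node 2 (.node 1 (.leaf 0x3171080) (.leaf 0x4010b0)) (.node 1 (.leaf 0x25da0a0) (.leaf 0x30c60c0))) (.node 2 (.node 1 (.leaf 0x22fb070) (.leaf 0x2049052)) (.node 1 (.leaf 0x242f042) (.leaf 0x4))))) (.node 8 (.node 4 (.node 2 (.node 1 (.leaf 0x114a0a0) (.leaf 0x17ad0b0)) (.node 1 (.leaf 0x1c00b0) (.leaf 0x3104080))) (.node 2 (.node 1 (.leaf 0x2452060) (.leaf 0x2581091)) (.node 1 (.leaf 0x4d00c0) (.leaf 0x30e10a0))))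 (.node 4 (.node 2 (.node 1 (.leaf 0x24de040) (.leaf 0x48a062)) (.node 1 (.leaf 0x37260b1) (.leaf 0x2147092))) (.node 2 (.node 1 (.leaf 0x1099080) (.leaf 0x11540b0)) (.node 1 (.leaf 0x22440c1) (.leaf 0x132b0a1)))))))) (.node 64 (.node 32 (.node 16 (.node 8 (.node 4 (.node 2 (.node 1 (.leaf 0x6dd070) (.leaf 0x32f10b1)) (.node 1 (.leaf 0x36e0082) (.leaf 0x33a7063))) (.node 2 (.node 1 (.leaf 0x18d051) (.leaf 0x31930a0)) (.node 1 (.leaf 0x27eb0b1) (.leaf 0x730061)))) (.node 4 (.node 2 (.node 1 (.leaf 0x10d8090) (.leaf 0x509062)) (.node 1 (.leaf 0x362e0a1) (.leaf 0x1c9080))) (.node 2 (.node 1 (.leaf 0x261b0b1) (.leaf 0x36dd070)) (.node 1 (.leaf 0xc5081) (.leaf 0x102d060))))) (.node 8 (.node 4 (.node 2 (.node 1 (.leaf 0x21cc0a0) (.leaf 0x1587080)) (.node 1 (.leaf 0x17620b1) (.leaf 0x30e7090))) (.node 2 (.node 1 (.leaf 0x15010a0) (.leaf 0x5060c1)) (.node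 1 (.leaf 0x1322080) (.leaf 0x1441052)))) (.node 4 (.node 2 (.node 1 (.leaf 0x54f080) (.leaf 0x5e7070)) (.node 1 (.leaf 0x6e3061) (.leaf 0x54e082))) (.node 2 (.node 1 (.leaf 0x33d0a1) (.leaf 0x1262071)) (.node 1 (.leaf 0x103c0c1) (.leaf 0x266e0c1)))))) (.node 16 (.node 8 (.node 4 (.node 2 (.node 1 (.leaf 0x21f051) (.leaf 0x360d092)) (.node 1 (.leaf 0x20e8021) (.leaf 0x31130b0))) (.node 2 (.node 1 (.leaf 0x880a0) (.leaf 0x8070a1)) (.node 1 (.leaf 0x3980c0) (.leaf 0x33c051)))) (.node 4 (.node 2 (.node 1 (.leaf 0x1612081) (.leaf 0x27340b0)) (.node 1 (.leaf 0x19d062) (.leaf 0x35db091))) (.node 2 (.node 1 (.leaf 0x2001011) (.leaf 0x3500040)) (.node 1 (.leaf 0x14db061) (.leaf 0x2036072))))) (.node 8 (.node 4 (.node 2 (.node 1 (.leaf 0x37320b1) (.leaf 0x21d7091)) (.node 1 (.leaf 0x4d8081) (.leaf 0x14de040))) (.node 2 (.node 1 (.leaf 0x22eb0a1) (.leaf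 0x1130b0)) (.node 1 (.leaf 0x34570a1) (.leaf 0x165d061)))) (.node 4 (.node 2 (.node 1 (.leaf 0x20b2091) (.leaf 0x1222082)) (.node 1 (.leaf 0x13f0a0) (.leaf 0x2091090))) (.node 2 (.node 1 (.leaf 0x20aa072) (.leaf 0x208e091)) (.node 1 (.leaf 0x24cf081) (.leaf 0x157c061))))))) (.node 32 (.node 16 (.node 8 (.node 4 (.node 2 (.node 1 (.leaf 0x35120a0) (.leaf 0x26f0070)) (.node 1 (.leaf 0x34d1042) (.leaf 0x243d082))) (.node 2 (.node 1 (.leaf 0x1636080) (.leaf 0x20cd071)) (.node 1 (.leaf 0x10500b0) (.leaf 0x21550a1)))) (.node 4 (.node 2 (.node 1 (.leaf 0x30660c0) (.leaf 0x2800b1)) (.node 1 (.leaf 0x23630a1) (.leaf 0x16890a1))) (.node 2 (.node 1 (.leaf 0x5d00a1) (.leaf 0x16e1061)) (.node 1 (.leaf 0x201e0b1) (.leaf 0x2268090))))) (.node 8 (.node 4 (.node 2 (.node 1 (.leaf 0x26840b0) (.leaf 0x26b20a0)) (.node 1 (.leaf 0x141d091) (.leaf 0x2161090))) (.node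 2 (.node 1 (.leaf 0x5d90c0) (.leaf 0x33e5081)) (.node 1 (.leaf 0x2790b1) (.leaf 0x10b2091)))) (.node 4 (.node 2 (.node 1 (.leaf 0x3606080) (.leaf 0x231f060)) (.node 1 (.leaf 0x36be0d1) (.leaf 0x23620a0))) (.node 2 (.node 1 (.leaf 0x178d0a1) (.leaf 0x5)) (.node 1 (.leaf 0xe4091) (.leaf 0x16d052)))))) (.node 16 (.node 8 (.node 4 (.node 2 (.node 1 (.leaf 0x6310c0) (.leaf 0x129d090)) (.node 1 (.leaf 0x24d7090) (.leaf 0x7ba081))) (.node 2 (.node 1 (.leaf 0x167081) (.leaf 0x2358082)) (.node 1 (.leaf 0x243e0d1) (.leaf 0x2f6080)))) (.node 4 (.node 2 (.node 1 (.leaf 0x1001011) (.leaf 0x3d4071)) (.node 1 (.leaf 0x34fa090) (.leaf 0x32930a0))) (.node 2 (.node 1 (.leaf 0x3015061) (.leaf 0x147c0b1)) (.node 1 (.leaf 0x24cd060) (.leaf 0x271f0b0))))) (.node 8 (.node 4 (.node 2 (.node 1 (.leaf 0xea0a0) (.leaf 0x162b082)) (.node 1 (.leaf 0x16740a1) (.leaf 0x799075)))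 (.node 2 (.node 1 (.leaf 0x2378090) (.leaf 0x30e3091)) (.node 1 (.leaf 0x168072) (.leaf 0x315054)))) (.node 4 (.node 2 (.node 1 (.leaf 0x24d3080) (.leaf 0x759075)) (.node 1 (.leaf 0x26f50b1) (.leaf 0x36c1075))) (.node 2 (.node 1 (.leaf 0x27f9085) (.leaf 0x2185071)) (.node 1 (.leaf 0x1258061) (.leaf 0x25be070)))))))))

def c0Class_1 : Tree := (.node 128 (.node 64 (.node 32 (.node 16 (.node 8 (.node 4 (.node 2 (.node 1 (.leaf 0x217c0a0) (.leaf 0x30af082)) (.node 1 (.leaf 0x33e8090) (.leaf 0x253f070))) (.node 2 (.node 1 (.leaf 0x3f5070) (.leaf 0x2306061)) (.node 1 (.leaf 0x3330090) (.leaf 0x3253041)))) (.node 4 (.node 2 (.node 1 (.leaf 0x210f0a1) (.leaf 0x32a3082)) (.node 1 (.leaf 0x688090) (.leaf 0x34380c1))) (.node 2 (.node 1 (.leaf 0xf1092) (.leaf 0x27b90c0)) (.node 1 (.leaf 0x26860b0) (.leaf 0x23d3091))))) (.node 8 (.node 4 (.node 2 (.node 1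 (.leaf 0x20bf071) (.leaf 0x23dc070)) (.node 1 (.leaf 0x72c071) (.leaf 0x27bb0a0))) (.node 2 (.node 1 (.leaf 0x5fb0a0) (.leaf 0x2655070)) (.node 1 (.leaf 0x21350a1) (.leaf 0x34ce060)))) (.node 4 (.node 2 (.node 1 (.leaf 0x239b082) (.leaf 0x3b1050)) (.node 1 (.leaf 0x30ac021) (.leaf 0x301d091))) (.node 2 (.node 1 (.leaf 0x270c0b1) (.leaf 0x369090)) (.node 1 (.leaf 0x3090) (.leaf 0x2816080)))))) (.node 16 (.node 8 (.node 4 (.node 2 (.node 1 (.leaf 0x17400c0) (.leaf 0x31240a0)) (.node 1 (.leaf 0x31d40b1) (.leaf 0x249e081))) (.node 2 (.node 1 (.leaf 0x2642090) (.leaf 0x34f6072)) (.node 1 (.leaf 0x37160c1) (.leaf 0x323b0a0)))) (.node 4 (.node 2 (.node 1 (.leaf 0x179d080) (.leaf 0x156b061)) (.node 1 (.leaf 0x456040) (.leaf 0xaf082))) (.node 2 (.node 1 (.leaf 0x2408080) (.leaf 0x36860b0)) (.node 1 (.leaf 0x35d5081) (.leaf 0x20380b1))))) (.node 8 (.node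 4 (.node 2 (.node 1 (.leaf 0x29d090) (.leaf 0x25340c1)) (.node 1 (.leaf 0x3355072) (.leaf 0x2767091))) (.node 2 (.node 1 (.leaf 0x3345092) (.leaf 0x41e091)) (.node 1 (.leaf 0x11a031) (.leaf 0x159e090)))) (.node 4 (.node 2 (.node 1 (.leaf 0x32570a1) (.leaf 0x129b073)) (.node 1 (.leaf 0x22a2061) (.leaf 0x252060))) (.node 2 (.node 1 (.leaf 0x24300b2) (.leaf 0x1d6081)) (.node 1 (.leaf 0x21140b0) (.leaf 0x1455090))))))) (.node 32 (.node 16 (.node 8 (.node 4 (.node 2 (.node 1 (.leaf 0x321f051) (.leaf 0x228e0a0)) (.node 1 (.leaf 0x3737062) (.leaf 0x154b0d1))) (.node 2 (.node 1 (.leaf 0xb9092) (.leaf 0x1199081)) (.node 1 (.leaf 0x13ae0c1) (.leaf 0x31cb082)))) (.node 4 (.node 2 (.node 1 (.leaf 0x29a080) (.leaf 0x2241090)) (.node 1 (.leaf 0x3243090) (.leaf 0x22e8090))) (.node 2 (.node 1 (.leaf 0x12d80b1) (.leaf 0x33d3091)) (.node 1 (.leaf 0x6e5061) (.leaf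 0x33c30b1))))) (.node 8 (.node 4 (.node 2 (.node 1 (.leaf 0x57d0b1) (.leaf 0x3335062)) (.node 1 (.leaf 0x164e070) (.leaf 0x23c0a0))) (.node 2 (.node 1 (.leaf 0x6100a0) (.leaf 0x1372091)) (.node 1 (.leaf 0x97062) (.leaf 0x310a0a0)))) (.node 4 (.node 2 (.node 1 (.leaf 0x98090) (.leaf 0x12cc042)) (.node 1 (.leaf 0x26600b0) (.leaf 0x1033013))) (.node 2 (.node 1 (.leaf 0x20b7071) (.leaf 0x3bb0b0)) (.node 1 (.leaf 0x8190a1) (.leaf 0x32390a0)))))) (.node 16 (.node 8 (.node 4 (.node 2 (.node 1 (.leaf 0x4a7081) (.leaf 0x2600080)) (.node 1 (.leaf 0x3105071) (.leaf 0x23a0062))) (.node 2 (.node 1 (.leaf 0x21a8051) (.leaf 0x350a030)) (.node 1 (.leaf 0x5eb041) (.leaf 0x313a071)))) (.node 4 (.node 2 (.node 1 (.leaf 0x23d1062) (.leaf 0x166b0b0)) (.node 1 (.leaf 0x36e3061) (.leaf 0x20b0c1))) (.node 2 (.node 1 (.leaf 0x46e0b0) (.leaf 0x3786042)) (.node 1 (.leaf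 0x3558080) (.leaf 0x12280b1))))) (.node 8 (.node 4 (.node 2 (.node 1 (.leaf 0x17190b0) (.leaf 0x53b070)) (.node 1 (.leaf 0x17630c0) (.leaf 0x378e060))) (.node 2 (.node 1 (.leaf 0x23b0a0) (.leaf 0x16870b0)) (.node 1 (.leaf 0x36840b0) (.leaf 0x271d0a0)))) (.node 4 (.node 2 (.node 1 (.leaf 0x372a0b0) (.leaf 0x1642090)) (.node 1 (.leaf 0x24030a1) (.leaf 0x4bc0b0))) (.node 2 (.node 1 (.leaf 0x3161090) (.leaf 0x112e091)) (.node 1 (.leaf 0x2399050) (.leaf 0x23f2091)))))))) (.node 64 (.node 32 (.node 16 (.node 8 (.node 4 (.node 2 (.node 1 (.leaf 0x14e00a0) (.leaf 0x34be0a0)) (.node 1 (.leaf 0x3f80a0) (.leaf 0x2163072))) (.node 2 (.node 1 (.leaf 0x22a50b0) (.leaf 0x84061)) (.node 1 (.leaf 0x11ad0a0) (.leaf 0x3ec0b1)))) (.node 4 (.node 2 (.node 1 (.leaf 0x21aa0b1) (.leaf 0x22a70b1)) (.node 1 (.leaf 0x56a075) (.leaf 0x3ef072))) (.node 2 (.node 1 (.leaf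 0x4ce060) (.leaf 0x23a8041)) (.node 1 (.leaf 0x27200a0) (.leaf 0x1630090))))) (.node 8 (.node 4 (.node 2 (.node 1 (.leaf 0x6bb072) (.leaf 0x262f091)) (.node 1 (.leaf 0x13cd0b1) (.leaf 0x79e090))) (.node 2 (.node 1 (.leaf 0x22c9040) (.leaf 0x1360070)) (.node 1 (.leaf 0x36bb072) (.leaf 0x320050)))) (.node 4 (.node 2 (.node 1 (.leaf 0x4910a1) (.leaf 0x24b8071)) (.node 1 (.leaf 0x236a0a0) (.leaf 0x11b0063))) (.node 2 (.node 1 (.leaf 0x3f60b1) (.leaf 0x441052)) (.node 1 (.leaf 0x8f070) (.leaf 0x24d0b1)))))) (.node 16 (.node 8 (.node 4 (.node 2 (.node 1 (.leaf 0x247d0b1) (.leaf 0x328a0b1)) (.node 1 (.leaf 0x13f0091) (.leaf 0x133a082))) (.node 2 (.node 1 (.leaf 0x252c0b1) (.leaf 0x138a0a1)) (.node 1 (.leaf 0x261a082) (.leaf 0x10ae071)))) (.node 4 (.node 2 (.node 1 (.leaf 0x15eb041) (.leaf 0x73f0b1)) (.node 1 (.leaf 0x6040a1) (.leaf 0x81a0c0))) (.node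 2 (.node 1 (.leaf 0x14040a1) (.leaf 0x51090)) (.node 1 (.leaf 0x17090b1) (.leaf 0x158d0d1))))) (.node 8 (.node 4 (.node 2 (.node 1 (.leaf 0x367e053) (.leaf 0x352e0b0)) (.node 1 (.leaf 0x35ff053) (.leaf 0x1ad0a0))) (.node 2 (.node 1 (.leaf 0x12fa092) (.leaf 0x16a4045)) (.node 1 (.leaf 0x21a90c1) (.leaf 0x377c065)))) (.node 4 (.node 2 (.node 1 (.leaf 0x26fc085) (.leaf 0x178a0c0)) (.node 1 (.leaf 0x2005051) (.leaf 0x3676071))) (.node 2 (.node 1 (.leaf 0x34810a0) (.leaf 0x26e6060)) (.node 1 (.leaf 0x34ae060) (.leaf 0x22080b0))))))) (.node 32 (.node 16 (.node 8 (.node 4 (.node 2 (.node 1 (.leaf 0x31300a0) (.leaf 0x487081)) (.node 1 (.leaf 0x24b9081) (.leaf 0x21530b0))) (.node 2 (.node 1 (.leaf 0x15d00a1) (.leaf 0x6e052)) (.node 1 (.leaf 0x33e7090) (.leaf 0x3390062)))) (.node 4 (.node 2 (.node 1 (.leaf 0x27a70a1) (.leaf 0x201b070)) (.node 1 (.leaf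 0x14c0c1) (.leaf 0x156072))) (.node 2 (.node 1 (.leaf 0x485090) (.leaf 0x12e1081)) (.node 1 (.leaf 0x3354040) (.leaf 0x26dc0b0))))) (.node 8 (.node 4 (.node 2 (.node 1 (.leaf 0x10) (.leaf 0x1394071)) (.node 1 (.leaf 0x36f10b5) (.leaf 0x2345092))) (.node 2 (.node 1 (.leaf 0x4570a1) (.leaf 0x3584091)) (.node 1 (.leaf 0x1251071) (.leaf 0x57e081)))) (.node 4 (.node 2 (.node 1 (.leaf 0x2314075) (.leaf 0x1605033)) (.node 1 (.leaf 0x2713095) (.leaf 0x1d8085))) (.node 2 (.node 1 (.leaf 0x1e3055) (.leaf 0x14cf081)) (.node 1 (.leaf 0x10e4091) (.leaf 0x1691045)))))) (.node 16 (.node 8 (.node 4 (.node 2 (.node 1 (.leaf 0x36f3085) (.leaf 0x620a1)) (.node 1 (.leaf 0x2703085) (.leaf 0x63f045))) (.node 2 (.node 1 (.leaf 0x2698085) (.leaf 0x356c055)) (.node 1 (.leaf 0x22d80b1) (.leaf 0x31bd070)))) (.node 4 (.node 2 (.node 1 (.leaf 0x1602070) (.leaf 0x1226082))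 (.node 1 (.leaf 0x239d092) (.leaf 0x12bd080))) (.node 2 (.node 1 (.leaf 0x2fa092) (.leaf 0x354040)) (.node 1 (.leaf 0x242081) (.leaf 0x32450b1))))) (.node 8 (.node 4 (.node 2 (.node 1 (.leaf 0x15140b1) (.leaf 0x238a0a1)) (.node 1 (.leaf 0x245d0a0) (.leaf 0x24950a0))) (.node 2 (.node 1 (.leaf 0x24840a1) (.leaf 0x31ec0a2)) (.node 1 (.leaf 0x16440a0) (.leaf 0x6130a0)))) (.node 4 (.node 2 (.node 1 (.leaf 0x367b082) (.leaf 0xc3092)) (.node 1 (.leaf 0x22d9040) (.leaf 0x25c80a0))) (.node 2 (.node 1 (.leaf 0x5c3091) (.leaf 0x12da071)) (.node 1 (.leaf 0x390b0) (.leaf 0x7620b1)))))))))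

def c0Class_2 : Tree := (.node 128 (.node 64 (.node 32 (.node 16 (.node 8 (.node 4 (.node 2 (.node 1 (.leaf 0x23a6062) (.leaf 0x34f50b0)) (.node 1 (.leaf 0x136041) (.leaf 0x153c090))) (.node 2 (.node 1 (.leaf 0x212072) (.leaf 0x364f063)) (.node 1 (.leaf 0x7e00b1) (.leaf 0xb40b1)))) (.node 4 (.node 2 (.node 1 (.leaf 0x14950a0) (.leaf 0x300c071)) (.node 1 (.leaf 0x5bd0b0) (.leaf 0x12a70b1))) (.node 2 (.node 1 (.leaf 0x11bc0b0) (.leaf 0x17a60a1)) (.node 1 (.leaf 0x3353042) (.leaf 0x2620082))))) (.node 8 (.node 4 (.node 2 (.node 1 (.leaf 0x10900b0) (.leaf 0x2546070)) (.node 1 (.leaf 0x20df062) (.leaf 0x353a0a1))) (.node 2 (.node 1 (.leaf 0x7b1080) (.leaf 0x180f0a0)) (.node 1 (.leaf 0x1671091) (.leaf 0x21bd070)))) (.node 4 (.node 2 (.node 1 (.leaf 0x1145091) (.leaf 0x16d2070)) (.node 1 (.leaf 0x3011080) (.leaf 0x262a072))) (.node 2 (.node 1 (.leaf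 0x17470a1) (.leaf 0x2513091)) (.node 1 (.leaf 0x2cf081) (.leaf 0x27fe041)))))) (.node 16 (.node 8 (.node 4 (.node 2 (.node 1 (.leaf 0x20c1080) (.leaf 0x2265090)) (.node 1 (.leaf 0x4c072) (.leaf 0x167d080))) (.node 2 (.node 1 (.leaf 0x267090) (.leaf 0x17081)) (.node 1 (.leaf 0x16ad072) (.leaf 0x23ac091)))) (.node 4 (.node 2 (.node 1 (.leaf 0x342d0a1) (.leaf 0x368d0b0)) (.node 1 (.leaf 0x27b8071) (.leaf 0x5ef082))) (.node 2 (.node 1 (.leaf 0x65d061) (.leaf 0x37bb0a0)) (.node 1 (.leaf 0x3373060) (.leaf 0x1426060))))) (.node 8 (.node 4 (.node 2 (.node 1 (.leaf 0x25040a1) (.leaf 0x232e0c1)) (.node 1 (.leaf 0x2150b0) (.leaf 0x226e072))) (.node 2 (.node 1 (.leaf 0x34d20c0) (.leaf 0x458053)) (.node 1 (.leaf 0x33013) (.leaf 0x27df0d1)))) (.node 4 (.node 2 (.node 1 (.leaf 0x14d3080) (.leaf 0x2616090)) (.node 1 (.leaf 0x280e0c0) (.leaf 0x16e090))) (.node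 2 (.node 1 (.leaf 0x2f7090) (.leaf 0x34170a2)) (.node 1 (.leaf 0x2521092) (.leaf 0x343d082))))))) (.node 32 (.node 16 (.node 8 (.node 4 (.node 2 (.node 1 (.leaf 0x2b0a0) (.leaf 0x34d4080)) (.node 1 (.leaf 0x272d071) (.leaf 0x21e7080))) (.node 2 (.node 1 (.leaf 0x13b40b1) (.leaf 0x24240a1)) (.node 1 (.leaf 0x4350d0) (.leaf 0x3910b0)))) (.node 4 (.node 2 (.node 1 (.leaf 0x89072) (.leaf 0x27080a2)) (.node 1 (.leaf 0x1764081) (.leaf 0x149e081))) (.node 2 (.node 1 (.leaf 0x332d070) (.leaf 0x314d0a1)) (.node 1 (.leaf 0x157e081) (.leaf 0x2011080))))) (.node 8 (.node 4 (.node 2 (.node 1 (.leaf 0x21ce050) (.leaf 0x34e5061)) (.node 1 (.leaf 0x11ce050) (.leaf 0x2347031))) (.node 2 (.node 1 (.leaf 0x13db082) (.leaf 0x34f10c1)) (.node 1 (.leaf 0x200072) (.leaf 0x212e091)))) (.node 4 (.node 2 (.node 1 (.leaf 0x25dd051) (.leaf 0x227a0a1)) (.node 1 (.leaf 0x1521092)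 (.leaf 0x21ee091))) (.node 2 (.node 1 (.leaf 0x14df0a0) (.leaf 0x166e0c1)) (.node 1 (.leaf 0x379f0a0) (.leaf 0xf40a0)))))) (.node 16 (.node 8 (.node 4 (.node 2 (.node 1 (.leaf 0x22f3080) (.leaf 0x1370a0)) (.node 1 (.leaf 0x258061) (.leaf 0x3d070))) (.node 2 (.node 1 (.leaf 0x24e9081) (.leaf 0x195080)) (.node 1 (.leaf 0x23ca0d0) (.leaf 0x3665080)))) (.node 4 (.node 2 (.node 1 (.leaf 0x23cb080) (.leaf 0x12fb070)) (.node 1 (.leaf 0x1420092) (.leaf 0x13cb080))) (.node 2 (.node 1 (.leaf 0x2890a1) (.leaf 0x23430c0)) (.node 1 (.leaf 0x141b062) (.leaf 0x3242081))))) (.node 8 (.node 4 (.node 2 (.node 1 (.leaf 0x37440b1) (.leaf 0x328d091)) (.node 1 (.leaf 0x530c0) (.leaf 0x211080))) (.node 2 (.node 1 (.leaf 0x30f8090) (.leaf 0x372d071)) (.node 1 (.leaf 0x2162081) (.leaf 0x3267090)))) (.node 4 (.node 2 (.node 1 (.leaf 0x236e082) (.leaf 0x23030a1)) (.node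 1 (.leaf 0x124e091) (.leaf 0x247b0b1))) (.node 2 (.node 1 (.leaf 0x104b0b1) (.leaf 0x23ba0b1)) (.node 1 (.leaf 0x31c30c0) (.leaf 0x101a090)))))))) (.node 64 (.node 32 (.node 16 (.node 8 (.node 4 (.node 2 (.node 1 (.leaf 0x271e0a1) (.leaf 0x335c0a1)) (.node 1 (.leaf 0x48d0c1) (.leaf 0x1539080))) (.node 2 (.node 1 (.leaf 0x26d40a1) (.leaf 0x172e080)) (.node 1 (.leaf 0x34b60a0) (.leaf 0x1096090)))) (.node 4 (.node 2 (.node 1 (.leaf 0x2015061) (.leaf 0x20be091)) (.node 1 (.leaf 0x22160a1) (.leaf 0x208d080))) (.node 2 (.node 1 (.leaf 0x33b1050) (.leaf 0x1112081)) (.node 1 (.leaf 0x21a090) (.leaf 0x6330a0))))) (.node 8 (.node 4 (.node 2 (.node 1 (.leaf 0x100b012) (.leaf 0x136a0a0)) (.node 1 (.leaf 0x36d40a1) (.leaf 0x239c090))) (.node 2 (.node 1 (.leaf 0x67d080) (.leaf 0x173a080)) (.node 1 (.leaf 0x34cd060) (.leaf 0x1044081)))) (.node 4 (.node 2 (.node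 1 (.leaf 0x22180a1) (.leaf 0x3068090)) (.node 1 (.leaf 0x13b070) (.leaf 0x22e5063))) (.node 2 (.node 1 (.leaf 0x13d60b0) (.leaf 0x29080)) (.node 1 (.leaf 0x7770a0) (.leaf 0x238e0d0)))))) (.node 16 (.node 8 (.node 4 (.node 2 (.node 1 (.leaf 0x36450c1) (.leaf 0x17be034)) (.node 1 (.leaf 0x1107051) (.leaf 0x17f1072))) (.node 2 (.node 1 (.leaf 0x3520b0) (.leaf 0x15e90a0)) (.node 1 (.leaf 0x3111080) (.leaf 0x6540a1)))) (.node 4 (.node 2 (.node 1 (.leaf 0x1668082) (.leaf 0x14150b0)) (.node 1 (.leaf 0x2533041) (.leaf 0x1101092))) (.node 2 (.node 1 (.leaf 0x371e0a1) (.leaf 0x15220c1)) (.node 1 (.leaf 0x36470b1) (.leaf 0x36c5065))))) (.node 8 (.node 4 (.node 2 (.node 1 (.leaf 0x42b022) (.leaf 0x22ec0a5)) (.node 1 (.leaf 0x810074) (.leaf 0x1476091))) (.node 2 (.node 1 (.leaf 0x170f043) (.leaf 0x1470090)) (.node 1 (.leaf 0x16f50b1) (.leaf 0x10d10b0))))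 (.node 4 (.node 2 (.node 1 (.leaf 0x12f0c1) (.leaf 0x1410b0)) (.node 1 (.leaf 0x10ee070) (.leaf 0x37e00b1))) (.node 2 (.node 1 (.leaf 0x13bc090) (.leaf 0x37e070)) (.node 1 (.leaf 0x24530a1) (.leaf 0x13ad092))))))) (.node 32 (.node 16 (.node 8 (.node 4 (.node 2 (.node 1 (.leaf 0x212a050) (.leaf 0x237d0c1)) (.node 1 (.leaf 0x3b3052) (.leaf 0x129e0b0))) (.node 2 (.node 1 (.leaf 0x5f1061) (.leaf 0x311c0c1)) (.node 1 (.leaf 0x3cf062) (.leaf 0x264f063)))) (.node 4 (.node 2 (.node 1 (.leaf 0x370e062) (.leaf 0x235a030)) (.node 1 (.leaf 0x32160a1) (.leaf 0x63d0b0))) (.node 2 (.node 1 (.leaf 0x2724032) (.leaf 0x32f092)) (.node 1 (.leaf 0x26700d1) (.leaf 0x200c071))))) (.node 8 (.node 4 (.node 2 (.node 1 (.leaf 0x170c0b1) (.leaf 0xb80a1)) (.node 1 (.leaf 0x354e082) (.leaf 0x2ca0b1))) (.node 2 (.node 1 (.leaf 0x1164061) (.leaf 0x11a40c1)) (.node 1 (.leaf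 0x27ac0b0) (.leaf 0x3027091)))) (.node 4 (.node 2 (.node 1 (.leaf 0x31910a1) (.leaf 0x4fc030)) (.node 1 (.leaf 0x24db061) (.leaf 0x307a0c1))) (.node 2 (.node 1 (.leaf 0x24190c0) (.leaf 0x328070)) (.node 1 (.leaf 0x33b90a1) (.leaf 0x35f8071)))))) (.node 16 (.node 8 (.node 4 (.node 2 (.node 1 (.leaf 0x3265090) (.leaf 0x163e071)) (.node 1 (.leaf 0x2621061) (.leaf 0x37080a2))) (.node 2 (.node 1 (.leaf 0x339c090) (.leaf 0x4c2053)) (.node 1 (.leaf 0x12c6072) (.leaf 0x2769075)))) (.node 4 (.node 2 (.node 1 (.leaf 0x4bb080) (.leaf 0x25ce065)) (.node 1 (.leaf 0x6b1075) (.leaf 0x6b8091))) (.node 2 (.node 1 (.leaf 0x27da095) (.leaf 0x36fd075)) (.node 1 (.leaf 0x573045) (.leaf 0x1283090))))) (.node 8 (.node 4 (.node 2 (.node 1 (.leaf 0x313d091) (.leaf 0x4070a1)) (.node 1 (.leaf 0x6570b1) (.leaf 0x37ec070))) (.node 2 (.node 1 (.leaf 0x37c50a1) (.leaf 0x260090))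 (.node 1 (.leaf 0x337e070) (.leaf 0x99080)))) (.node 4 (.node 2 (.node 1 (.leaf 0x1780091) (.leaf 0x24f20b1)) (.node 1 (.leaf 0x17cf082) (.leaf 0x4ae060))) (.node 2 (.node 1 (.leaf 0x30200c1) (.leaf 0x31d0020)) (.node 1 (.leaf 0x44081) (.leaf 0x11f20b0)))))))))

def c0Class_3 : Tree := (.node 128 (.node 64 (.node 32 (.node 16 (.node 8 (.node 4 (.node 2 (.node 1 (.leaf 0x176a054) (.leaf 0x153f070)) (.node 1 (.leaf 0x361b0b1) (.leaf 0xa8091))) (.node 2 (.node 1 (.leaf 0x20930a0) (.leaf 0x12e40a0)) (.node 1 (.leaf 0x1005051) (.leaf 0x480a1)))) (.node 4 (.node 2 (.node 1 (.leaf 0x34bc0b0) (.leaf 0x1195080)) (.node 1 (.leaf 0x13ea0a1) (.leaf 0x31a20a1))) (.node 2 (.node 1 (.leaf 0x591085) (.leaf 0x3724032)) (.node 1 (.leaf 0x1485090) (.leaf 0x27520b5))))) (.node 8 (.node 4 (.node 2 (.node 1 (.leaf 0x222f070) (.leaf 0x256c055)) (.node 1 (.leaf 0x15af085)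 (.leaf 0x281b085))) (.node 2 (.node 1 (.leaf 0x2431065) (.leaf 0x6d8044)) (.node 1 (.leaf 0x26b0054) (.leaf 0x32ed085)))) (.node 4 (.node 2 (.node 1 (.leaf 0x34d0b1) (.leaf 0x5b6085)) (.node 1 (.leaf 0x69d075) (.leaf 0x45f085))) (.node 2 (.node 1 (.leaf 0x594075) (.leaf 0x125b0a1)) (.node 1 (.leaf 0x252a090) (.leaf 0x3078050)))))) (.node 16 (.node 8 (.node 4 (.node 2 (.node 1 (.leaf 0x3165040) (.leaf 0x24eb090)) (.node 1 (.leaf 0x602070) (.leaf 0x364d081))) (.node 2 (.node 1 (.leaf 0x6110b1) (.leaf 0x3264091)) (.node 1 (.leaf 0x162d081) (.leaf 0x12840b1)))) (.node 4 (.node 2 (.node 1 (.leaf 0x2197060) (.leaf 0x347b0b1)) (.node 1 (.leaf 0x33a5090) (.leaf 0x4a2091))) (.node 2 (.node 1 (.leaf 0x273c0b1) (.leaf 0x246d060)) (.node 1 (.leaf 0x11c40b1) (.leaf 0x26e0082))))) (.node 8 (.node 4 (.node 2 (.node 1 (.leaf 0x4d4080) (.leaf 0x3e1082)) (.node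 1 (.leaf 0x25160b0) (.leaf 0x3bd0b1))) (.node 2 (.node 1 (.leaf 0x26810a0) (.leaf 0x306e052)) (.node 1 (.leaf 0x22be0b1) (.leaf 0x1119060)))) (.node 4 (.node 2 (.node 1 (.leaf 0x117a0b1) (.leaf 0x27180a0)) (.node 1 (.leaf 0x2c6072) (.leaf 0x1276091))) (.node 2 (.node 1 (.leaf 0x37fe041) (.leaf 0x26ec091)) (.node 1 (.leaf 0x1738081) (.leaf 0x500040))))))) (.node 32 (.node 16 (.node 8 (.node 4 (.node 2 (.node 1 (.leaf 0x610a1) (.leaf 0x10600b0)) (.node 1 (.leaf 0x32f6080) (.leaf 0x33520b0))) (.node 2 (.node 1 (.leaf 0x31580a0) (.leaf 0x23f4082)) (.node 1 (.leaf 0x352b0a1) (.leaf 0x30e8021)))) (.node 4 (.node 2 (.node 1 (.leaf 0x57092) (.leaf 0x758081)) (.node 1 (.leaf 0x262d081) (.leaf 0x317b0c0))) (.node 2 (.node 1 (.leaf 0x251071) (.leaf 0x12eb0a1)) (.node 1 (.leaf 0x212d0c0) (.leaf 0x326f091))))) (.node 8 (.node 4 (.node 2 (.node 1 (.leaf 0x379072)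 (.leaf 0x2930a0)) (.node 1 (.leaf 0x30f40a0) (.leaf 0x24a6032))) (.node 2 (.node 1 (.leaf 0x50a030) (.leaf 0x13a0062)) (.node 1 (.leaf 0x17d0a1) (.leaf 0x134c081)))) (.node 4 (.node 2 (.node 1 (.leaf 0x151072) (.leaf 0x201c080)) (.node 1 (.leaf 0x21d0020) (.leaf 0x346e0b0))) (.node 2 (.node 1 (.leaf 0x24fe091) (.leaf 0x116a071)) (.node 1 (.leaf 0x3156072) (.leaf 0x23d90a1)))))) (.node 16 (.node 8 (.node 4 (.node 2 (.node 1 (.leaf 0x2426060) (.leaf 0x17ea0a0)) (.node 1 (.leaf 0x2073090) (.leaf 0x1581091))) (.node 2 (.node 1 (.leaf 0x1212072) (.leaf 0x3460095)) (.node 1 (.leaf 0x26a50c1) (.leaf 0x3487081)))) (.node 4 (.node 2 (.node 1 (.leaf 0x3758081) (.leaf 0x322080)) (.node 1 (.leaf 0x27a9090) (.leaf 0x372091))) (.node 2 (.node 1 (.leaf 0x20410c1) (.leaf 0x2b60c1)) (.node 1 (.leaf 0x33ef072) (.leaf 0x35ea091))))) (.node 8 (.node 4 (.node 2 (.node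 1 (.leaf 0x161c0c0) (.leaf 0x33f050)) (.node 1 (.leaf 0x170d081) (.leaf 0x11ed050))) (.node 2 (.node 1 (.leaf 0x260a0) (.leaf 0x2529091)) (.node 1 (.leaf 0x25c0b0) (.leaf 0x145d0a0)))) (.node 4 (.node 2 (.node 1 (.leaf 0x1029080) (.leaf 0x1509062)) (.node 1 (.leaf 0x130a0b1) (.leaf 0x231e0a0))) (.node 2 (.node 1 (.leaf 0x1632082) (.leaf 0x2840b1)) (.node 1 (.leaf 0x268c060) (.leaf 0x16a9043)))))))) (.node 64 (.node 32 (.node 16 (.node 8 (.node 4 (.node 2 (.node 1 (.leaf 0x338d0b1) (.leaf 0x10bd0a1)) (.node 1 (.leaf 0x36e6060) (.leaf 0x12a50b0))) (.node 2 (.node 1 (.leaf 0x2190082) (.leaf 0x203e0b1)) (.node 1 (.leaf 0x10ea0a0) (.leaf 0x1500c1)))) (.node 4 (.node 2 (.node 1 (.leaf 0x2676071) (.leaf 0x349c072)) (.node 1 (.leaf 0x10be091) (.leaf 0x2360070))) (.node 2 (.node 1 (.leaf 0x32b0032) (.leaf 0x274b0a1)) (.node 1 (.leaf 0x33920c0) (.leaf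 0x81e0a1))))) (.node 8 (.node 4 (.node 2 (.node 1 (.leaf 0x22052) (.leaf 0x1490a0)) (.node 1 (.leaf 0x3510b0) (.leaf 0x373060))) (.node 2 (.node 1 (.leaf 0x20a0061) (.leaf 0x208a0b1)) (.node 1 (.leaf 0x3087071) (.leaf 0x25250b1)))) (.node 4 (.node 2 (.node 1 (.leaf 0x5620b0) (.leaf 0x12c9040)) (.node 1 (.leaf 0x27e10a2) (.leaf 0x27f1072))) (.node 2 (.node 1 (.leaf 0x2028080) (.leaf 0x321b082)) (.node 1 (.leaf 0x124c080) (.leaf 0x25a7080)))))) (.node 16 (.node 8 (.node 4 (.node 2 (.node 1 (.leaf 0x20e052) (.leaf 0x4ea080)) (.node 1 (.leaf 0x10fd081) (.leaf 0x13fc071))) (.node 2 (.node 1 (.leaf 0x125c0b0) (.leaf 0x3115080)) (.node 1 (.leaf 0x120e052) (.leaf 0x22b4053)))) (.node 4 (.node 2 (.node 1 (.leaf 0x10a2031) (.leaf 0x12b50a0)) (.node 1 (.leaf 0x10c5081) (.leaf 0x20ff080))) (.node 2 (.node 1 (.leaf 0x1a7081) (.leaf 0x1cb082)) (.node 1 (.leaf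 0x12790b1) (.leaf 0x20ac021))))) (.node 8 (.node 4 (.node 2 (.node 1 (.leaf 0x5ee0b0) (.leaf 0x32d9040)) (.node 1 (.leaf 0x25120a0) (.leaf 0x342f042))) (.node 2 (.node 1 (.leaf 0x20ab0a1) (.leaf 0x1408080)) (.node 1 (.leaf 0x22390a0) (.leaf 0x24810a0)))) (.node 4 (.node 2 (.node 1 (.leaf 0x36bf070) (.leaf 0x2421091)) (.node 1 (.leaf 0x173d0a1) (.leaf 0x16d00a0))) (.node 2 (.node 1 (.leaf 0x2111080) (.leaf 0x35070a1)) (.node 1 (.leaf 0x33bf070) (.leaf 0x2119060))))))) (.node 32 (.node 16 (.node 8 (.node 4 (.node 2 (.node 1 (.leaf 0x764081) (.leaf 0x3d5091)) (.node 1 (.leaf 0x2470c0) (.leaf 0x36900a1))) (.node 2 (.node 1 (.leaf 0x17430a2) (.leaf 0x3c30b1)) (.node 1 (.leaf 0x68d0b0) (.leaf 0x3655070)))) (.node 4 (.node 2 (.node 1 (.leaf 0x306d062) (.leaf 0x33750a1)) (.node 1 (.leaf 0x61c0c0) (.leaf 0x1074070))) (.node 2 (.node 1 (.leaf 0xc60c0)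 (.leaf 0x25070a1)) (.node 1 (.leaf 0x25750a1) (.leaf 0x566052))))) (.node 8 (.node 4 (.node 2 (.node 1 (.leaf 0x312c090) (.leaf 0x3439052)) (.node 1 (.leaf 0x15e7070) (.leaf 0x64d081))) (.node 2 (.node 1 (.leaf 0x257c061) (.leaf 0xfd081)) (.node 1 (.leaf 0x314b0a0) (.leaf 0x103d070)))) (.node 4 (.node 2 (.node 1 (.leaf 0x13910b0) (.leaf 0x59091)) (.node 1 (.leaf 0x34480a1) (.leaf 0x2355072))) (.node 2 (.node 1 (.leaf 0x2548060) (.leaf 0x224f090)) (.node 1 (.leaf 0x10a0061) (.leaf 0x1021090)))))) (.node 16 (.node 8 (.node 4 (.node 2 (.node 1 (.leaf 0x11820b0) (.leaf 0x13ed072)) (.node 1 (.leaf 0x25f8071) (.leaf 0x17b1080))) (.node 2 (.node 1 (.leaf 0x247f090) (.leaf 0x354a071)) (.node 1 (.leaf 0x14440b0) (.leaf 0x2ba080)))) (.node 4 (.node 2 (.node 1 (.leaf 0x14dd080) (.leaf 0x204082)) (.node 1 (.leaf 0x584091) (.leaf 0x225b0a1))) (.node 2 (.node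 1 (.leaf 0x27470a1) (.leaf 0x531062)) (.node 1 (.leaf 0x78050) (.leaf 0x615062))))) (.node 8 (.node 4 (.node 2 (.node 1 (.leaf 0x199081) (.leaf 0x12e2071)) (.node 1 (.leaf 0x14a9081) (.leaf 0x1f090))) (.node 2 (.node 1 (.leaf 0x3036072) (.leaf 0x1548060)) (.node 1 (.leaf 0x33250a1) (.leaf 0x27c0055)))) (.node 4 (.node 2 (.node 1 (.leaf 0x3058090) (.leaf 0x22ef0a0)) (.node 1 (.leaf 0x34820b1) (.leaf 0x21fb0b0))) (.node 2 (.node 1 (.leaf 0x11ba061) (.leaf 0x20350d0)) (.node 1 (.leaf 0x331c085) (.leaf 0x26fa0b1)))))))))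

def c0Class_4 : Tree := (.node 128 (.node 64 (.node 32 (.node 16 (.node 8 (.node 4 (.node 2 (.node 1 (.leaf 0x1022052) (.leaf 0x2870a0)) (.node 1 (.leaf 0x3624091) (.leaf 0x3513091))) (.node 2 (.node 1 (.leaf 0x2326091) (.leaf 0x31eb090)) (.node 1 (.leaf 0x2223090) (.leaf 0x264091)))) (.node 4 (.node 2 (.node 1 (.leaf 0x18c070) (.leaf 0x44b0b1)) (.node 1 (.leaf 0x2793095) (.leaf 0x11d7091))) (.node 2 (.node 1 (.leaf 0xdd015) (.leaf 0x36ca024)) (.node 1 (.leaf 0x622082) (.leaf 0x356e095))))) (.node 8 (.node 4 (.node 2 (.node 1 (.leaf 0x35a8075) (.leaf 0x175a065)) (.node 1 (.leaf 0x36fa0b1) (.leaf 0x22c4071))) (.node 2 (.node 1 (.leaf 0x21980b1) (.leaf 0x5240a0)) (.node 1 (.leaf 0x46090) (.leaf 0x3384092)))) (.node 4 (.node 2 (.node 1 (.leaf 0x36820b0) (.leaf 0x32860b0)) (.node 1 (.leaf 0x125082) (.leaf 0x439052))) (.node 2 (.node 1 (.leaf 0x7a60a1)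 (.leaf 0x322a081)) (.node 1 (.leaf 0x623081) (.leaf 0x3330c1)))))) (.node 16 (.node 8 (.node 4 (.node 2 (.node 1 (.leaf 0x3190082) (.leaf 0x2413081)) (.node 1 (.leaf 0x2565070) (.leaf 0x2110081))) (.node 2 (.node 1 (.leaf 0x1297091) (.leaf 0x2269080)) (.node 1 (.leaf 0x102e050) (.leaf 0x11d0a0)))) (.node 4 (.node 2 (.node 1 (.leaf 0x7fd090) (.leaf 0x16ac0b1)) (.node 1 (.leaf 0x9d081) (.leaf 0x200b012))) (.node 2 (.node 1 (.leaf 0x111a031) (.leaf 0x4dc091)) (.node 1 (.leaf 0x36140b0) (.leaf 0x563032))))) (.node 8 (.node 4 (.node 2 (.node 1 (.leaf 0x23e0a2) (.leaf 0x169b055)) (.node 1 (.leaf 0x7b30a1) (.leaf 0x60a065))) (.node 2 (.node 1 (.leaf 0x375f075) (.leaf 0x13e60c0)) (.node 1 (.leaf 0x81f085) (.leaf 0x5af085)))) (.node 4 (.node 2 (.node 1 (.leaf 0x30b0b1) (.leaf 0x238c042)) (.node 1 (.leaf 0x17c40a5) (.leaf 0x2462075))) (.node 2 (.node 1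 (.leaf 0x279a065) (.leaf 0x3c8072)) (.node 1 (.leaf 0x27a80c1) (.leaf 0x2349091))))))) (.node 32 (.node 16 (.node 8 (.node 4 (.node 2 (.node 1 (.leaf 0x17ed0b1) (.leaf 0x353042)) (.node 1 (.leaf 0x1b30b0) (.leaf 0x25d10d0))) (.node 2 (.node 1 (.leaf 0x25170a0) (.leaf 0x252d0c0)) (.node 1 (.leaf 0x4d90b0) (.leaf 0x311d0a0)))) (.node 4 (.node 2 (.node 1 (.leaf 0x13ac091) (.leaf 0x136f0a1)) (.node 1 (.leaf 0x1211080) (.leaf 0x20d20a1))) (.node 2 (.node 1 (.leaf 0x263e071) (.leaf 0x31890c1)) (.node 1 (.leaf 0x27cf082) (.leaf 0x17c0055))))) (.node 8 (.node 4 (.node 2 (.node 1 (.leaf 0x35b0085) (.leaf 0x27ad0b0)) (.node 1 (.leaf 0x2e050) (.leaf 0x14fe091))) (.node 2 (.node 1 (.leaf 0x8150a2) (.leaf 0x23c7080)) (.node 1 (.leaf 0x12fd030) (.leaf 0x24b091)))) (.node 4 (.node 2 (.node 1 (.leaf 0x165a043) (.leaf 0x154f080)) (.node 1 (.leaf 0x10bb0a0) (.leaf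 0x228c060))) (.node 2 (.node 1 (.leaf 0x1000010) (.leaf 0x13ab090)) (.node 1 (.leaf 0x10070a0) (.leaf 0x3594075)))))) (.node 16 (.node 8 (.node 4 (.node 2 (.node 1 (.leaf 0x6cc085) (.leaf 0x77c065)) (.node 1 (.leaf 0x255f065) (.leaf 0x36b0054))) (.node 2 (.node 1 (.leaf 0x155f065) (.leaf 0x1591085)) (.node 1 (.leaf 0x434085) (.leaf 0x20f7064)))) (.node 4 (.node 2 (.node 1 (.leaf 0x1811085) (.leaf 0x14b9081)) (.node 1 (.leaf 0x27de095) (.leaf 0x26fd075))) (.node 2 (.node 1 (.leaf 0x375d055) (.leaf 0x312a050)) (.node 1 (.leaf 0x4280a0) (.leaf 0x2630090))))) (.node 8 (.node 4 (.node 2 (.node 1 (.leaf 0x2696080) (.leaf 0x241d091)) (.node 1 (.leaf 0x24480a1) (.leaf 0x24a091))) (.node 2 (.node 1 (.leaf 0x20ec071) (.leaf 0x14a3092)) (.node 1 (.leaf 0x2612081) (.leaf 0x350d081)))) (.node 4 (.node 2 (.node 1 (.leaf 0x3140061) (.leaf 0x377a0a0)) (.node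 1 (.leaf 0x355c081) (.leaf 0x38070a1))) (.node 2 (.node 1 (.leaf 0x35050a1) (.leaf 0x43f0a1)) (.node 1 (.leaf 0x37020a5) (.leaf 0x2103080)))))))) (.node 64 (.node 32 (.node 16 (.node 8 (.node 4 (.node 2 (.node 1 (.leaf 0x2632082) (.leaf 0x2359090)) (.node 1 (.leaf 0x105c0a1) (.leaf 0x6070a1))) (.node 2 (.node 1 (.leaf 0x6f7091) (.leaf 0x2606080)) (.node 1 (.leaf 0x22b80d1) (.leaf 0xae071)))) (.node 4 (.node 2 (.node 1 (.leaf 0x25200a0) (.leaf 0x17820a1)) (.node 1 (.leaf 0x20c2052) (.leaf 0x14920a1))) (.node 2 (.node 1 (.leaf 0x2578072) (.leaf 0x21d40b1)) (.node 1 (.leaf 0x720c0) (.leaf 0x37a10a0))))) (.node 8 (.node 4 (.node 2 (.node 1 (.leaf 0x6a00b1) (.leaf 0x12091)) (.node 1 (.leaf 0x20d5091) (.leaf 0x138c042))) (.node 2 (.node 1 (.leaf 0x36770c1) (.leaf 0x2425090)) (.node 1 (.leaf 0x5140b1) (.leaf 0x6460b0)))) (.node 4 (.node 2 (.node 1 (.leaf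 0x3097062) (.leaf 0x15cb051)) (.node 1 (.leaf 0x205f0c1) (.leaf 0x4e20c0))) (.node 2 (.node 1 (.leaf 0x241b062) (.leaf 0x1340a2)) (.node 1 (.leaf 0x129071) (.leaf 0x1278092)))))) (.node 16 (.node 8 (.node 4 (.node 2 (.node 1 (.leaf 0x10370b1) (.leaf 0x10a50b1)) (.node 1 (.leaf 0x22a081) (.leaf 0x2054082))) (.node 2 (.node 1 (.leaf 0x104080) (.leaf 0x1167081)) (.node 1 (.leaf 0x290022) (.leaf 0x3185071)))) (.node 4 (.node 2 (.node 1 (.leaf 0x358f0a0) (.leaf 0x2da071)) (.node 1 (.leaf 0x33d5091) (.leaf 0x27c0c1))) (.node 2 (.node 1 (.leaf 0x35d081) (.leaf 0x8020b0)) (.node 1 (.leaf 0x133f050) (.leaf 0x1256082))))) (.node 8 (.node 4 (.node 2 (.node 1 (.leaf 0x24b60a0) (.leaf 0x8000b0)) (.node 1 (.leaf 0x3810b1) (.leaf 0x125f0b0))) (.node 2 (.node 1 (.leaf 0x345f085) (.leaf 0x5c60a1)) (.node 1 (.leaf 0x2058090) (.leaf 0x1142072)))) (.node 4 (.node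 2 (.node 1 (.leaf 0x15f3061) (.leaf 0x13a071)) (.node 1 (.leaf 0x13970c1) (.leaf 0x1382070))) (.node 2 (.node 1 (.leaf 0x131e0a0) (.leaf 0x32bc0a0)) (.node 1 (.leaf 0x1586090) (.leaf 0x10cc0b1))))))) (.node 32 (.node 16 (.node 8 (.node 4 (.node 2 (.node 1 (.leaf 0x3634092) (.leaf 0x33fb0c0)) (.node 1 (.leaf 0x26a9043) (.leaf 0x7e20a0))) (.node 2 (.node 1 (.leaf 0x30c2052) (.leaf 0x10c4090)) (.node 1 (.leaf 0x75c075) (.leaf 0x1046090)))) (.node 4 (.node 2 (.node 1 (.leaf 0x13800c1) (.leaf 0x26610a1)) (.node 1 (.leaf 0x1423091) (.leaf 0x328e0a0))) (.node 2 (.node 1 (.leaf 0x52b0a1) (.leaf 0x194050)) (.node 1 (.leaf 0xb3050) (.leaf 0x3de071))))) (.node 8 (.node 4 (.node 2 (.node 1 (.leaf 0x21770b0) (.leaf 0x2b0032)) (.node 1 (.leaf 0x33340b0) (.leaf 0x2117070))) (.node 2 (.node 1 (.leaf 0x3393070) (.leaf 0x3378090)) (.node 1 (.leaf 0x3480092) (.leaf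 0x539080)))) (.node 4 (.node 2 (.node 1 (.leaf 0x3129071) (.leaf 0x6ff0a0)) (.node 1 (.leaf 0x3578072) (.leaf 0x70a051))) (.node 2 (.node 1 (.leaf 0x3f1081) (.leaf 0x6d2070)) (.node 1 (.leaf 0x22fd030) (.leaf 0x23ab090)))))) (.node 16 (.node 8 (.node 4 (.node 2 (.node 1 (.leaf 0x324f090) (.leaf 0x6890a1)) (.node 1 (.leaf 0x25950b0) (.leaf 0x3459090))) (.node 2 (.node 1 (.leaf 0x23db082) (.leaf 0x5cb051)) (.node 1 (.leaf 0x20f8090) (.leaf 0x13a8041)))) (.node 4 (.node 2 (.node 1 (.leaf 0x35f1061) (.leaf 0x3fc071)) (.node 1 (.leaf 0x20d9070) (.leaf 0x3d2080))) (.node 2 (.node 1 (.leaf 0x2476091) (.leaf 0x15a7080)) (.node 1 (.leaf 0x3219080) (.leaf 0x33aa091))))) (.node 8 (.node 4 (.node 2 (.node 1 (.leaf 0x17150c0) (.leaf 0x2280b1)) (.node 1 (.leaf 0x333b0a1) (.leaf 0x17a0b1))) (.node 2 (.node 1 (.leaf 0x19a0b0) (.leaf 0x11e0a0)) (.node 1 (.leaf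 0x12c2062) (.leaf 0x3950c1)))) (.node 4 (.node 2 (.node 1 (.leaf 0x12980b1) (.leaf 0x5e5090)) (.node 1 (.leaf 0x2422080) (.leaf 0x12d30c1))) (.node 2 (.node 1 (.leaf 0x345c020) (.leaf 0x17fa075)) (.node 1 (.leaf 0x344c081) (.leaf 0x50f0d0)))))))))

def c0Class_5 : Tree := (.node 128 (.node 64 (.node 32 (.node 16 (.node 8 (.node 4 (.node 2 (.node 1 (.leaf 0x135a030) (.leaf 0x1273090)) (.node 1 (.leaf 0x11210b0) (.leaf 0x226a0a2))) (.node 2 (.node 1 (.leaf 0x121e091) (.leaf 0x20e3091)) (.node 1 (.leaf 0x3560b1) (.leaf 0x23aa091)))) (.node 4 (.node 2 (.node 1 (.leaf 0x238d0b1) (.leaf 0x1566052)) (.node 1 (.leaf 0x45c020) (.leaf 0x236023))) (.node 2 (.node 1 (.leaf 0x210c0a2) (.leaf 0x9a071)) (.node 1 (.leaf 0x12910b0) (.leaf 0x17840c0))))) (.node 8 (.node 4 (.node 2 (.node 1 (.leaf 0x25a0a2) (.leaf 0x74a0c0)) (.node 1 (.leaf 0x26bc090) (.leaf 0x1fd081)))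 (.node 2 (.node 1 (.leaf 0x37b60a1) (.leaf 0x21b082)) (.node 1 (.leaf 0x7e30a0) (.leaf 0x261f090)))) (.node 4 (.node 2 (.node 1 (.leaf 0x5ed033) (.leaf 0x16310c0)) (.node 1 (.leaf 0x1c7072) (.leaf 0x17870c1))) (.node 2 (.node 1 (.leaf 0x13a1090) (.leaf 0x23ce0b1)) (.node 1 (.leaf 0x2474081) (.leaf 0x18080c0)))))) (.node 16 (.node 8 (.node 4 (.node 2 (.node 1 (.leaf 0x68090) (.leaf 0x4b7082)) (.node 1 (.leaf 0x220d0b1) (.leaf 0x37280b1))) (.node 2 (.node 1 (.leaf 0x455090) (.leaf 0x143f0a1)) (.node 1 (.leaf 0x36040a1) (.leaf 0x4490b1)))) (.node 4 (.node 2 (.node 1 (.leaf 0x2710a1) (.leaf 0x31fd081)) (.node 1 (.leaf 0x6af080) (.leaf 0x423091))) (.node 2 (.node 1 (.leaf 0x24aa0a1) (.leaf 0x53e0b0)) (.node 1 (.leaf 0x23df0a0) (.leaf 0x23b5090))))) (.node 8 (.node 4 (.node 2 (.node 1 (.leaf 0x74d0a1) (.leaf 0x13b3052)) (.node 1 (.leaf 0x12b4053) (.leaf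 0x20a2031))) (.node 2 (.node 1 (.leaf 0x31380b1) (.leaf 0x201d091)) (.node 1 (.leaf 0xa40b0) (.leaf 0x14d90b0)))) (.node 4 (.node 2 (.node 1 (.leaf 0x13ff0c1) (.leaf 0x173070)) (.node 1 (.leaf 0x151e091) (.leaf 0x3452060))) (.node 2 (.node 1 (.leaf 0x10ff080) (.leaf 0x12cb0c0)) (.node 1 (.leaf 0x16330a0) (.leaf 0x17e060))))))) (.node 32 (.node 16 (.node 8 (.node 4 (.node 2 (.node 1 (.leaf 0x101b070) (.leaf 0x24e60a0)) (.node 1 (.leaf 0x2bd080) (.leaf 0x24ed090))) (.node 2 (.node 1 (.leaf 0x146f0a0) (.leaf 0x24050a0)) (.node 1 (.leaf 0x2d060) (.leaf 0x26010b0)))) (.node 4 (.node 2 (.node 1 (.leaf 0xad050) (.leaf 0x3248082)) (.node 1 (.leaf 0x2140061) (.leaf 0x17760c1))) (.node 2 (.node 1 (.leaf 0x11d30a2) (.leaf 0x12f20c1)) (.node 1 (.leaf 0x1089072) (.leaf 0x2382070))))) (.node 8 (.node 4 (.node 2 (.node 1 (.leaf 0x4510c0) (.leaf 0x64a0a2)) (.node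 1 (.leaf 0x4820b1) (.leaf 0x21d9043))) (.node 2 (.node 1 (.leaf 0x138f0b1) (.leaf 0x643091)) (.node 1 (.leaf 0x13070b1) (.leaf 0x16c3075)))) (.node 4 (.node 2 (.node 1 (.leaf 0x10d9070) (.leaf 0x3390b0)) (.node 1 (.leaf 0x12c30c0) (.leaf 0x1425090))) (.node 2 (.node 1 (.leaf 0x1679071) (.leaf 0x10c70b1)) (.node 1 (.leaf 0x106a0b0) (.leaf 0x168a055)))))) (.node 16 (.node 8 (.node 4 (.node 2 (.node 1 (.leaf 0x4b4095) (.leaf 0x21f30b0)) (.node 1 (.leaf 0x31370a0) (.leaf 0x3290022))) (.node 2 (.node 1 (.leaf 0x31310d1) (.leaf 0x346d060)) (.node 1 (.leaf 0x230d042) (.leaf 0x7b2075)))) (.node 4 (.node 2 (.node 1 (.leaf 0x23b60b0) (.leaf 0x3627085)) (.node 1 (.leaf 0x756065) (.leaf 0x107051))) (.node 2 (.node 1 (.leaf 0x3573045) (.leaf 0x7f8085)) (.node 1 (.leaf 0x243b085) (.leaf 0x1765044))))) (.node 8 (.node 4 (.node 2 (.node 1 (.leaf 0x2e6082) (.leaf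 0x1d30a2)) (.node 1 (.leaf 0x5b9095) (.leaf 0x6b3035))) (.node 2 (.node 1 (.leaf 0x37f9085) (.leaf 0x224e091)) (.node 1 (.leaf 0x17140a0) (.leaf 0x174d0a1)))) (.node 4 (.node 2 (.node 1 (.leaf 0x33cf062) (.leaf 0x308b090)) (.node 1 (.leaf 0x17ba081) (.leaf 0x137b0b0))) (.node 2 (.node 1 (.leaf 0x32aa051) (.leaf 0x73d0a1)) (.node 1 (.leaf 0x222c071) (.leaf 0xf0b1)))))))) (.node 64 (.node 32 (.node 16 (.node 8 (.node 4 (.node 2 (.node 1 (.leaf 0x1570b0) (.leaf 0x3a3081)) (.node 1 (.leaf 0x30ce0c1) (.leaf 0x21780c0))) (.node 2 (.node 1 (.leaf 0x33e2081) (.leaf 0x1f8092)) (.node 1 (.leaf 0x21e8080) (.leaf 0x313b070)))) (.node 4 (.node 2 (.node 1 (.leaf 0x16830d1) (.leaf 0x35170a0)) (.node 1 (.leaf 0x31dd091) (.leaf 0x10b3050))) (.node 2 (.node 1 (.leaf 0x1a3092) (.leaf 0x25270c1)) (.node 1 (.leaf 0x12890a1) (.leaf 0x5b090))))) (.node 8 (.node 4 (.node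 2 (.node 1 (.leaf 0x174e0a5) (.leaf 0x2411075)) (.node 1 (.leaf 0x1396081) (.leaf 0x2723025))) (.node 2 (.node 1 (.leaf 0x27cc065) (.leaf 0x6440a0)) (.node 1 (.leaf 0x27fa075) (.leaf 0x26c5065)))) (.node 4 (.node 2 (.node 1 (.leaf 0x6e9060) (.leaf 0x71b0b0)) (.node 1 (.leaf 0x268b085) (.leaf 0x10eb0b0))) (.node 2 (.node 1 (.leaf 0x215f0b0) (.leaf 0x2636080)) (.node 1 (.leaf 0x72e080) (.leaf 0x3be080)))))) (.node 16 (.node 8 (.node 4 (.node 2 (.node 1 (.leaf 0x25550a1) (.leaf 0x229b073)) (.node 1 (.leaf 0x27090b1) (.leaf 0x14ca0a1))) (.node 2 (.node 1 (.leaf 0x5050a1) (.leaf 0x3422080)) (.node 1 (.leaf 0x2420092) (.leaf 0x264e070)))) (.node 4 (.node 2 (.node 1 (.leaf 0x311065) (.leaf 0x24320b1)) (.node 1 (.leaf 0x7ea0a0) (.leaf 0x58f0a0))) (.node 2 (.node 1 (.leaf 0x420a1) (.leaf 0x3793095)) (.node 1 (.leaf 0xfb085) (.leaf 0x25a8075))))) (.node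 8 (.node 4 (.node 2 (.node 1 (.leaf 0x1314075) (.leaf 0x17f8085)) (.node 1 (.leaf 0x17600a5) (.leaf 0x1467074))) (.node 2 (.node 1 (.leaf 0x37ca085) (.leaf 0x436095)) (.node 1 (.leaf 0x6c1075) (.leaf 0x1759075)))) (.node 4 (.node 2 (.node 1 (.leaf 0x31e2095) (.leaf 0x1596085)) (.node 1 (.leaf 0x77e054) (.leaf 0x813095))) (.node 2 (.node 1 (.leaf 0x35ce065) (.leaf 0x30d30a0)) (.node 1 (.leaf 0x331f060) (.leaf 0x36010b0))))))) (.node 32 (.node 16 (.node 8 (.node 4 (.node 2 (.node 1 (.leaf 0x2570a1) (.leaf 0x27ab0a0)) (.node 1 (.leaf 0x16a80b1) (.leaf 0x3413081))) (.node 2 (.node 1 (.leaf 0x150f0d0) (.leaf 0x15610c0)) (.node 1 (.leaf 0x33e091) (.leaf 0x17000a1)))) (.node 4 (.node 2 (.node 1 (.leaf 0x2a6090) (.leaf 0x21c60a0)) (.node 1 (.leaf 0x4a00c1) (.leaf 0x1533041))) (.node 2 (.node 1 (.leaf 0x24020a1) (.leaf 0x302b0a0)) (.node 1 (.leaf 0x1df055)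 (.leaf 0x6470b1))))) (.node 8 (.node 4 (.node 2 (.node 1 (.leaf 0x251e091) (.leaf 0x27630c0)) (.node 1 (.leaf 0x14dc091) (.leaf 0x322c071))) (.node 2 (.node 1 (.leaf 0x32f50a0) (.leaf 0x2105071)) (.node 1 (.leaf 0x30d70a1) (.leaf 0x1f40b1)))) (.node 4 (.node 2 (.node 1 (.leaf 0x33630a1) (.leaf 0x35450b0)) (.node 1 (.leaf 0x39e090) (.leaf 0x1388081))) (.node 2 (.node 1 (.leaf 0x5c00b1) (.leaf 0x2253041)) (.node 1 (.leaf 0x16d10a1) (.leaf 0x592091)))))) (.node 16 (.node 8 (.node 4 (.node 2 (.node 1 (.leaf 0x14ec0a1) (.leaf 0x321d0a1)) (.node 1 (.leaf 0x237c092) (.leaf 0x372b072))) (.node 2 (.node 1 (.leaf 0x2860b0) (.leaf 0x2587080)) (.node 1 (.leaf 0x16a70c1) (.leaf 0x32c0060)))) (.node 4 (.node 2 (.node 1 (.leaf 0x741091) (.leaf 0x283090)) (.node 1 (.leaf 0x202a081) (.leaf 0x13af031))) (.node 2 (.node 1 (.leaf 0x7d9085) (.leaf 0x215b023)) (.node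 1 (.leaf 0x3d00a0) (.leaf 0x11c7072))))) (.node 8 (.node 4 (.node 2 (.node 1 (.leaf 0x151d0c1) (.leaf 0x370a051)) (.node 1 (.leaf 0x32cf081) (.leaf 0x35dd051))) (.node 2 (.node 1 (.leaf 0x1220090) (.leaf 0x136e082)) (.node 1 (.leaf 0x31c9080) (.leaf 0x104f0c1)))) (.node 4 (.node 2 (.node 1 (.leaf 0x1084061) (.leaf 0x79b0b0)) (.node 1 (.leaf 0x35410b0) (.leaf 0x3e7090))) (.node 2 (.node 1 (.leaf 0x1600080) (.leaf 0x35b80a5)) (.node 1 (.leaf 0x2388081) (.leaf 0x270f043)))))))))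

def c0Class_6 : Tree := (.node 128 (.node 64 (.node 32 (.node 16 (.node 8 (.node 4 (.node 2 (.node 1 (.leaf 0x1546070) (.leaf 0x104d0a0)) (.node 1 (.leaf 0x3250060) (.leaf 0x8030b0))) (.node 2 (.node 1 (.leaf 0x368091) (.leaf 0x3236023)) (.node 1 (.leaf 0x222e070) (.leaf 0x2469091)))) (.node 4 (.node 2 (.node 1 (.leaf 0x16fc085) (.leaf 0x410085)) (.node 1 (.leaf 0x618055) (.leaf 0x23b90a1))) (.node 2 (.node 1 (.leaf 0xf50a1) (.leaf 0x3204082)) (.node 1 (.leaf 0x14f30c1) (.leaf 0x14af092))))) (.node 8 (.node 4 (.node 2 (.node 1 (.leaf 0x228b090) (.leaf 0x17970a1)) (.node 1 (.leaf 0x12c4071) (.leaf 0x161f090))) (.node 2 (.node 1 (.leaf 0x27110a0) (.leaf 0x18052)) (.node 1 (.leaf 0x23b8080) (.leaf 0x263a075)))) (.node 4 (.node 2 (.node 1 (.leaf 0x2691045) (.leaf 0x20e9081)) (.node 1 (.leaf 0x10aa072) (.leaf 0x7f00a1))) (.node 2 (.node 1 (.leaf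 0x770b0) (.leaf 0x219c0c1)) (.node 1 (.leaf 0x2666082) (.leaf 0x3103080)))))) (.node 16 (.node 8 (.node 4 (.node 2 (.node 1 (.leaf 0x16ef072) (.leaf 0x3202051)) (.node 1 (.leaf 0x26c0072) (.leaf 0x32d4071))) (.node 2 (.node 1 (.leaf 0x5d5081) (.leaf 0x6850a0)) (.node 1 (.leaf 0x320f092) (.leaf 0x461075)))) (.node 4 (.node 2 (.node 1 (.leaf 0x327f0a0) (.leaf 0x58a0a1)) (.node 1 (.leaf 0x1400062) (.leaf 0x142072))) (.node 2 (.node 1 (.leaf 0x277b0a0) (.leaf 0x37b8071)) (.node 1 (.leaf 0x334a091) (.leaf 0x3017081))))) (.node 8 (.node 4 (.node 2 (.node 1 (.leaf 0x3310080) (.leaf 0x11b30b0)) (.node 1 (.leaf 0x23ed072) (.leaf 0x4ee090))) (.node 2 (.node 1 (.leaf 0x2010082) (.leaf 0x3f0c1)) (.node 1 (.leaf 0x3bf070) (.leaf 0x4f90a0)))) (.node 4 (.node 2 (.node 1 (.leaf 0x16ec091) (.leaf 0x27320b1)) (.node 1 (.leaf 0x1789065) (.leaf 0x31a10c1))) (.node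 2 (.node 1 (.leaf 0x1051090) (.leaf 0x11790a0)) (.node 1 (.leaf 0x6e1061) (.leaf 0x781035))))))) (.node 32 (.node 16 (.node 8 (.node 4 (.node 2 (.node 1 (.leaf 0x2671091) (.leaf 0x3812095)) (.node 1 (.leaf 0x219e080) (.leaf 0x14a7081))) (.node 2 (.node 1 (.leaf 0x21090) (.leaf 0x1a50b1)) (.node 1 (.leaf 0x5e90a0) (.leaf 0x276d0a1)))) (.node 4 (.node 2 (.node 1 (.leaf 0x25ac0b1) (.leaf 0x35e5090)) (.node 1 (.leaf 0x220f092) (.leaf 0x2553053))) (.node 2 (.node 1 (.leaf 0x27290a2) (.leaf 0x3024071)) (.node 1 (.leaf 0x3ee060) (.leaf 0x1553053))))) (.node 8 (.node 4 (.node 2 (.node 1 (.leaf 0x26f90b0) (.leaf 0x18060c1)) (.node 1 (.leaf 0x2330090) (.leaf 0x4e00a0))) (.node 2 (.node 1 (.leaf 0x14a2091) (.leaf 0x2c0060)) (.node 1 (.leaf 0x35990c0) (.leaf 0x35c60a1)))) (.node 4 (.node 2 (.node 1 (.leaf 0x2558080) (.leaf 0x228d091)) (.node 1 (.leaf 0x250b033)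 (.leaf 0x2c2062))) (.node 2 (.node 1 (.leaf 0x11340a2) (.leaf 0x166051)) (.node 1 (.leaf 0x5190d0) (.leaf 0x115b023)))))) (.node 16 (.node 8 (.node 4 (.node 2 (.node 1 (.leaf 0x13620a0) (.leaf 0x297091)) (.node 1 (.leaf 0x3162081) (.leaf 0x24720b1))) (.node 2 (.node 1 (.leaf 0x26b090) (.leaf 0x27ec070)) (.node 1 (.leaf 0x365b072) (.leaf 0x25590c0)))) (.node 4 (.node 2 (.node 1 (.leaf 0x1052072) (.leaf 0x14a0a0)) (.node 1 (.leaf 0x24440b0) (.leaf 0x1790a0))) (.node 2 (.node 1 (.leaf 0x67f0b0) (.leaf 0x23d7080)) (.node 1 (.leaf 0x7b50b1) (.leaf 0x260b0b1))))) (.node 8 (.node 4 (.node 2 (.node 1 (.leaf 0x27160c1) (.leaf 0x6ae081)) (.node 1 (.leaf 0x17f00a1) (.leaf 0x12e5063))) (.node 2 (.node 1 (.leaf 0x624091) (.leaf 0x2219080)) (.node 1 (.leaf 0x30a7061) (.leaf 0x31080b1)))) (.node 4 (.node 2 (.node 1 (.leaf 0x221c0b1) (.leaf 0x499061)) (.node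 1 (.leaf 0x258e0b1) (.leaf 0x3079072))) (.node 2 (.node 1 (.leaf 0x25220c1) (.leaf 0x26bf070)) (.node 1 (.leaf 0x265a043) (.leaf 0x13f30a0)))))))) (.node 64 (.node 32 (.node 16 (.node 8 (.node 4 (.node 2 (.node 1 (.leaf 0x15de0b1) (.leaf 0x12a6090)) (.node 1 (.leaf 0x24060a0) (.leaf 0x6450c1))) (.node 2 (.node 1 (.leaf 0x31cc0a0) (.leaf 0x25f6090)) (.node 1 (.leaf 0x2e40a0) (.leaf 0x22990a0)))) (.node 4 (.node 2 (.node 1 (.leaf 0x338b080) (.leaf 0x619091)) (.node 1 (.leaf 0x704045) (.leaf 0x17f6075))) (.node 2 (.node 1 (.leaf 0x3399050) (.leaf 0x24be0a0)) (.node 1 (.leaf 0x241a092) (.leaf 0x17f3095))))) (.node 8 (.node 4 (.node 2 (.node 1 (.leaf 0x2145091) (.leaf 0x3781035)) (.node 1 (.leaf 0x7710a5) (.leaf 0x17340b0))) (.node 2 (.node 1 (.leaf 0x1766035) (.leaf 0x2af075)) (.node 1 (.leaf 0x1598070) (.leaf 0x569095)))) (.node 4 (.node 2 (.node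 1 (.leaf 0x143c075) (.leaf 0x3574095)) (.node 1 (.leaf 0x325e0b0) (.leaf 0x363f045))) (.node 2 (.node 1 (.leaf 0x35ae095) (.leaf 0x160a065)) (.node 1 (.leaf 0x26f3085) (.leaf 0x176e095)))))) (.node 16 (.node 8 (.node 4 (.node 2 (.node 1 (.leaf 0x18170a1) (.leaf 0x2ed085)) (.node 1 (.leaf 0x21e0095) (.leaf 0x156d095))) (.node 2 (.node 1 (.leaf 0x593035) (.leaf 0x204b0b1)) (.node 1 (.leaf 0x1615062) (.leaf 0x33400b1)))) (.node 4 (.node 2 (.node 1 (.leaf 0x25df0a1) (.leaf 0x150b033)) (.node 1 (.leaf 0x35d20a1) (.leaf 0x1117070))) (.node 2 (.node 1 (.leaf 0x15e80a1) (.leaf 0x737062)) (.node 1 (.leaf 0x216a071) (.leaf 0x353b070))))) (.node 8 (.node 4 (.node 2 (.node 1 (.leaf 0x2765044) (.leaf 0x17d3065)) (.node 1 (.leaf 0x238090) (.leaf 0x3723025))) (.node 2 (.node 1 (.leaf 0x32a1044) (.leaf 0x365e0e0)) (.node 1 (.leaf 0x1315054) (.leaf 0x1461075))))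 (.node 4 (.node 2 (.node 1 (.leaf 0x5d3081) (.leaf 0x1160b1)) (.node 1 (.leaf 0x12e6082) (.leaf 0x119d062))) (.node 2 (.node 1 (.leaf 0x319e080) (.leaf 0x26da090)) (.node 1 (.leaf 0x1a10c1) (.leaf 0x33ee060))))))) (.node 32 (.node 16 (.node 8 (.node 4 (.node 2 (.node 1 (.leaf 0x13d1062) (.leaf 0x3311065)) (.node 1 (.leaf 0x31da0a5) (.leaf 0x1dc065))) (.node 2 (.node 1 (.leaf 0x37cd095) (.leaf 0x1b5055)) (.node 1 (.leaf 0x356a075) (.leaf 0x369d075)))) (.node 4 (.node 2 (.node 1 (.leaf 0x3593035) (.leaf 0x20fc095)) (.node 1 (.leaf 0x206f014) (.leaf 0x2757065))) (.node 2 (.node 1 (.leaf 0x21b7075) (.leaf 0x2019071)) (.node 1 (.leaf 0x1350082) (.leaf 0x266b0b0))))) (.node 8 (.node 4 (.node 2 (.node 1 (.leaf 0x253c090) (.leaf 0x2225091)) (.node 1 (.leaf 0x2371060) (.leaf 0x600b0))) (.node 2 (.node 1 (.leaf 0x3741091) (.leaf 0x15a60a2)) (.node 1 (.leaf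 0x1328070) (.leaf 0x30f3085)))) (.node 4 (.node 2 (.node 1 (.leaf 0x27be034) (.leaf 0x4830b1)) (.node 1 (.leaf 0x1152080) (.leaf 0x133e091))) (.node 2 (.node 1 (.leaf 0x32240a0) (.leaf 0x278e060)) (.node 1 (.leaf 0x3515092) (.leaf 0x5e00b1)))))) (.node 16 (.node 8 (.node 4 (.node 2 (.node 1 (.leaf 0x2052072) (.leaf 0x118d051)) (.node 1 (.leaf 0x34e10b1) (.leaf 0x202051))) (.node 2 (.node 1 (.leaf 0x207c090) (.leaf 0x4e7051)) (.node 1 (.leaf 0x1ed050) (.leaf 0x344e092)))) (.node 4 (.node 2 (.node 1 (.leaf 0x378c0a5) (.leaf 0x21fa050)) (.node 1 (.leaf 0x33f5070) (.leaf 0x180b0b1))) (.node 2 (.node 1 (.leaf 0x1110081) (.leaf 0x206a0b0)) (.node 1 (.leaf 0x12a00d1) (.leaf 0x6d062))))) (.node 8 (.node 4 (.node 2 (.node 1 (.leaf 0x2250060) (.leaf 0x6c40a5)) (.node 1 (.leaf 0x26530b0) (.leaf 0x5bc075))) (.node 2 (.node 1 (.leaf 0x16a1095) (.leaf 0x12270a1))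 (.node 1 (.leaf 0x2a3082) (.leaf 0x3e5081)))) (.node 4 (.node 2 (.node 1 (.leaf 0x34030a1) (.leaf 0x32e00a0)) (.node 1 (.leaf 0x14840a1) (.leaf 0x232b0a1))) (.node 2 (.node 1 (.leaf 0x3773075) (.leaf 0x46c065)) (.node 1 (.leaf 0x26b4054) (.leaf 0x33b5090)))))))))

def c0Class_7 : Tree := (.node 128 (.node 64 (.node 32 (.node 16 (.node 8 (.node 4 (.node 2 (.node 1 (.leaf 0x247a091) (.leaf 0xf9085)) (.node 1 (.leaf 0x359a095) (.leaf 0x275f075))) (.node 2 (.node 1 (.leaf 0x2766035) (.leaf 0x56e095)) (.node 1 (.leaf 0xf3085) (.leaf 0x20fe071)))) (.node 4 (.node 2 (.node 1 (.leaf 0x22b092) (.leaf 0x4710a1)) (.node 1 (.leaf 0x242c041) (.leaf 0x4df0a0))) (.node 2 (.node 1 (.leaf 0x78f0a1) (.leaf 0x2f071)) (.node 1 (.leaf 0x1049052) (.leaf 0x2605033))))) (.node 8 (.node 4 (.node 2 (.node 1 (.leaf 0x16c8045) (.leaf 0x4a4090)) (.node 1 (.leaf 0x36b7085)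 (.leaf 0x30f9085))) (.node 2 (.node 1 (.leaf 0x2128090) (.leaf 0x20140b0)) (.node 1 (.leaf 0x2ac0b1) (.leaf 0x23360c1)))) (.node 4 (.node 2 (.node 1 (.leaf 0x3073090) (.leaf 0x36850a0)) (.node 1 (.leaf 0x135e082) (.leaf 0x14f90a0))) (.node 2 (.node 1 (.leaf 0x353e0b0) (.leaf 0x675090)) (.node 1 (.leaf 0x377d091) (.leaf 0x7d10a0)))))) (.node 16 (.node 8 (.node 4 (.node 2 (.node 1 (.leaf 0x36bc090) (.leaf 0x725095)) (.node 1 (.leaf 0x329a080) (.leaf 0x10dd015))) (.node 2 (.node 1 (.leaf 0x342b022) (.leaf 0x26c7085)) (.node 1 (.leaf 0x234f0a1) (.leaf 0x6640a0)))) (.node 4 (.node 2 (.node 1 (.leaf 0x221d0a1) (.leaf 0x44e092)) (.node 1 (.leaf 0x204d0a0) (.leaf 0x1c5062))) (.node 2 (.node 1 (.leaf 0x20a7061) (.leaf 0x56b061)) (.node 1 (.leaf 0x118c070) (.leaf 0x2700c1))))) (.node 8 (.node 4 (.node 2 (.node 1 (.leaf 0x133c051) (.leaf 0x10a60d0)) (.node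 1 (.leaf 0xde0a1) (.leaf 0x22f40b1))) (.node 2 (.node 1 (.leaf 0x32210a0) (.leaf 0x32740a0)) (.node 1 (.leaf 0x11000b0) (.leaf 0x2159052)))) (.node 4 (.node 2 (.node 1 (.leaf 0x22d4071) (.leaf 0x7e70b2)) (.node 1 (.leaf 0x33dc070) (.leaf 0x360c0b1))) (.node 2 (.node 1 (.leaf 0x2270a1) (.leaf 0x77d091)) (.node 1 (.leaf 0x317e060) (.leaf 0x30b80a1))))))) (.node 32 (.node 16 (.node 8 (.node 4 (.node 2 (.node 1 (.leaf 0x25760b0) (.leaf 0x21bb081)) (.node 1 (.leaf 0x3240c1) (.leaf 0x24e4092))) (.node 2 (.node 1 (.leaf 0x6590a1) (.leaf 0x2de0b1)) (.node 1 (.leaf 0x14f70d1) (.leaf 0x308e091)))) (.node 4 (.node 2 (.node 1 (.leaf 0x35bc075) (.leaf 0x14a4090)) (.node 1 (.leaf 0x15cd0b0) (.leaf 0x3619091))) (.node 2 (.node 1 (.leaf 0x11f30b0) (.leaf 0x1123091)) (.node 1 (.leaf 0x27c6095) (.leaf 0x3a1090))))) (.node 8 (.node 4 (.node 2 (.node 1 (.leaf 0x35590c0)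 (.leaf 0x179a065)) (.node 1 (.leaf 0x17720a5) (.leaf 0x2597075))) (.node 2 (.node 1 (.leaf 0x34d7090) (.leaf 0x3756065)) (.node 1 (.leaf 0x11e3055) (.leaf 0x69b055)))) (.node 4 (.node 2 (.node 1 (.leaf 0x1025071) (.leaf 0x1757065)) (.node 1 (.leaf 0x710055) (.leaf 0x17bf0b5))) (.node 2 (.node 1 (.leaf 0x11dc065) (.leaf 0x3704045)) (.node 1 (.leaf 0x37da095) (.leaf 0x44f065)))))) (.node 16 (.node 8 (.node 4 (.node 2 (.node 1 (.leaf 0x26a1095) (.leaf 0x76a054)) (.node 1 (.leaf 0x205c0a1) (.leaf 0x25890b0))) (.node 2 (.node 1 (.leaf 0x372c071) (.leaf 0x40d034)) (.node 1 (.leaf 0x340c025) (.leaf 0x309d081)))) (.node 4 (.node 2 (.node 1 (.leaf 0x74e0a5) (.leaf 0x13f7065)) (.node 1 (.leaf 0x22a1044) (.leaf 0x2300064))) (.node 2 (.node 1 (.leaf 0x32dd080) (.leaf 0x35c3091)) (.node 1 (.leaf 0x15b6085) (.leaf 0x36c6085))))) (.node 8 (.node 4 (.node 2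 (.node 1 (.leaf 0x7d2065) (.leaf 0x59a095)) (.node 1 (.leaf 0x468095) (.leaf 0x2789065))) (.node 2 (.node 1 (.leaf 0x3463064) (.leaf 0x3801095)) (.node 1 (.leaf 0x3400b1) (.leaf 0x1542090)))) (.node 4 (.node 2 (.node 1 (.leaf 0x2301080) (.leaf 0x17fd090)) (.node 1 (.leaf 0x17ee090) (.leaf 0x76c090))) (.node 2 (.node 1 (.leaf 0x3791055) (.leaf 0x2396081)) (.node 1 (.leaf 0x7cb044) (.leaf 0x15b9095)))))))) (.node 64 (.node 32 (.node 16 (.node 8 (.node 4 (.node 2 (.node 1 (.leaf 0x255c081) (.leaf 0x240c025)) (.node 1 (.leaf 0x27b0091) (.leaf 0x1082092))) (.node 2 (.node 1 (.leaf 0x29e0b0) (.leaf 0x3b0a0)) (.node 1 (.leaf 0x34a6032) (.leaf 0xca0b1)))) (.node 4 (.node 2 (.node 1 (.leaf 0x37b50b1) (.leaf 0x32ee055)) (.node 1 (.leaf 0x10390b0) (.leaf 0x18a085))) (.node 2 (.node 1 (.leaf 0x10fc095) (.leaf 0x16f7091)) (.node 1 (.leaf 0x11fa050) (.leaf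 0x141e091))))) (.node 8 (.node 4 (.node 2 (.node 1 (.leaf 0x1a20a1) (.leaf 0x6a4045)) (.node 1 (.leaf 0x6d7095) (.leaf 0x318a085))) (.node 2 (.node 1 (.leaf 0x10140b0) (.leaf 0x2617085)) (.node 1 (.leaf 0x2755075) (.leaf 0x4ac091)))) (.node 4 (.node 2 (.node 1 (.leaf 0x14890b1) (.leaf 0x37cc065)) (.node 1 (.leaf 0x791055) (.leaf 0x11c60a0))) (.node 2 (.node 1 (.leaf 0x16030c0) (.leaf 0x2296070)) (.node 1 (.leaf 0x1263080) (.leaf 0x20d8090)))))) (.node 16 (.node 8 (.node 4 (.node 2 (.node 1 (.leaf 0x32ae0c1) (.leaf 0x542090)) (.node 1 (.leaf 0x223f092) (.leaf 0x10040c1))) (.node 2 (.node 1 (.leaf 0x515092) (.leaf 0x3364082)) (.node 1 (.leaf 0x1012091) (.leaf 0x57a091)))) (.node 4 (.node 2 (.node 1 (.leaf 0x31e10b1) (.leaf 0x2080080)) (.node 1 (.leaf 0x17ff0b1) (.leaf 0x1675090))) (.node 2 (.node 1 (.leaf 0x35240a0) (.leaf 0x17110a0)) (.node 1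 (.leaf 0x15c80a0) (.leaf 0x2470090))))) (.node 8 (.node 4 (.node 2 (.node 1 (.leaf 0x33f1081) (.leaf 0x2337070)) (.node 1 (.leaf 0x344f065) (.leaf 0x123091))) (.node 2 (.node 1 (.leaf 0x23b70b0) (.leaf 0x35350a1)) (.node 1 (.leaf 0x21c1091) (.leaf 0x35f40a0)))) (.node 4 (.node 2 (.node 1 (.leaf 0x21ba061) (.leaf 0x7350b0)) (.node 1 (.leaf 0x33d4071) (.leaf 0x66d090))) (.node 2 (.node 1 (.leaf 0x1cd091) (.leaf 0x1769075)) (.node 1 (.leaf 0x6ca024) (.leaf 0x25b50a5))))))) (.node 32 (.node 16 (.node 8 (.node 4 (.node 2 (.node 1 (.leaf 0x6c8045) (.leaf 0x1312095)) (.node 1 (.leaf 0x26c90a5) (.leaf 0x1701095))) (.node 2 (.node 1 (.leaf 0x2812095) (.leaf 0x35fe091)) (.node 1 (.leaf 0x3695085) (.leaf 0x27720a5)))) (.node 4 (.node 2 (.node 1 (.leaf 0x2596085) (.leaf 0x3813095)) (.node 1 (.leaf 0x37d6075) (.leaf 0x340d034))) (.node 2 (.node 1 (.leaf 0x1618055)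 (.leaf 0x14c6085)) (.node 1 (.leaf 0x20710c0) (.leaf 0x4f6072))))) (.node 8 (.node 4 (.node 2 (.node 1 (.leaf 0x2518043) (.leaf 0x23e3090)) (.node 1 (.leaf 0x11b5055) (.leaf 0x275d055))) (.node 2 (.node 1 (.leaf 0x30750a1) (.leaf 0x27050a5)) (.node 1 (.leaf 0x7f7065) (.leaf 0x312b092)))) (.node 4 (.node 2 (.node 1 (.leaf 0x24bf0c1) (.leaf 0x3462075)) (.node 1 (.leaf 0x5b0085) (.leaf 0x2ae0c1))) (.node 2 (.node 1 (.leaf 0x18090b0) (.leaf 0x30c095)) (.node 1 (.leaf 0x748085) (.leaf 0x3270c1)))))) (.node 16 (.node 8 (.node 4 (.node 2 (.node 1 (.leaf 0x750a1) (.leaf 0x570092)) (.node 1 (.leaf 0x1eb090) (.leaf 0x3128090))) (.node 2 (.node 1 (.leaf 0x38180d1) (.leaf 0xc00b0)) (.node 1 (.leaf 0x244c081) (.leaf 0x1440a2)))) (.node 4 (.node 2 (.node 1 (.leaf 0x2478071) (.leaf 0x15f00d1)) (.node 1 (.leaf 0x259d090) (.leaf 0x233b0a1))) (.node 2 (.node 1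 (.leaf 0x1371060) (.leaf 0x6db0a1)) (.node 1 (.leaf 0x206c080) (.leaf 0x179e090))))) (.node 8 (.node 4 (.node 2 (.node 1 (.leaf 0x17e6091) (.leaf 0x400062)) (.node 1 (.leaf 0x36cc085) (.leaf 0x131a085))) (.node 2 (.node 1 (.leaf 0x2450095) (.leaf 0x2773075)) (.node 1 (.leaf 0x21e5065) (.leaf 0x268a055)))) (.node 4 (.node 2 (.node 1 (.leaf 0x22e9075) (.leaf 0x26cb075)) (.node 1 (.leaf 0x3f7065) (.leaf 0x1569095))) (.node 2 (.node 1 (.leaf 0x37f7065) (.leaf 0x263080)) (.node 1 (.leaf 0x23af031) (.leaf 0x217f0a1)))))))))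

def c0Class_8 : Tree := (.node 16 (.node 8 (.node 4 (.node 2 (.node 1 (.leaf 0x32a0a0) (.leaf 0x26c6085)) (.node 1 (.leaf 0x14060a0) (.leaf 0x163c0a0))) (.node 2 (.node 1 (.leaf 0x3319095) (.leaf 0x35760b0)) (.node 1 (.leaf 0x373c0b1) (.leaf 0x276091)))) (.node 4 (.node 2 (.node 1 (.leaf 0x25450b0) (.leaf 0x37d10a0)) (.node 1 (.leaf 0x2082092) (.leaf 0x27bc0a1))) (.node 2 (.node 1 (.leaf 0x21e60c1) (.leaf 0x35d40b0)) (.node 1 (.leaf 0x4f50b0) (.leaf 0x27ee090))))) (.node 8 (.node 4 (.node 2 (.node 1 (.leaf 0x36b6064) (.leaf 0x32e9075)) (.node 1 (.leaf 0x2ea085) (.leaf 0x24c6085))) (.node 2 (.node 1 (.leaf 0x6990a5) (.leaf 0x22d2092)) (.node 1 (.leaf 0x1337070) (.leaf 0x2160091)))) (.node 4 (.node 2 (.node 1 (.leaf 0x20ce0c1) (.leaf 0x25fe091)) (.node 1 (.leaf 0x16460b0) (.leaf 0x32af075))) (.node 2 (.node 1 (.leaf 0x27c90a5) (.leaf 0x250d081))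 (.node 1 (.leaf 0x7e6091) (.leaf 0x37fc075))))))

def c0Class : Tree := (.node 1024 (.node 512 (.node 256 c0Class_0 c0Class_1) (.node 256 c0Class_2 c0Class_3)) (.node 512 (.node 256 c0Class_4 c0Class_5) (.node 256 c0Class_6 (.node 256 c0Class_7 c0Class_8))))

def c0Reps : List ℕ := [0, 1, 11, 51, 111, 221]

def c0A : List (ℕ × List ℕ) := [(0, [0, 2]), (1, [0, 2, 2, 1]), (51, [0, 0, 2, 1, 1])]

def c0B : List (ℕ × ℕ × List ℕ × List (List ℕ)) := [(11, 954, [5, 1, 2, 3, 2, 1, 4, 3, 2, 1, 0, 3, 5, 1], [[0, 2, 2, 0, 1, 2, 2, 0, 2, 0, 2, 1, 1, 2], [0, 1, 0, 0, 0, 1, 0, 0, 0, 1, 0, 0, 0], [1, 0, 1, 0, 1, 0, 1, 0, 0, 0, 2, 0, 2], [1, 0, 2, 0, 0, 2, 2, 1, 0, 0, 0, 2, 2], [2, 2, 1, 0, 2, 0, 2, 0, 2, 1]]), (221, 995, [], [[2, 2, 0, 1, 2, 1, 0, 1, 0, 1, 2, 2, 1], [2, 1, 2, 0, 1, 2, 2, 0, 1, 0, 1, 0, 0], [0, 0, 1, 0, 1, 1, 0, 1, 0, 0, 0, 1, 0], [0, 1, 0,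 2, 2, 0, 0, 2, 1, 1, 0], [1, 0, 1, 1, 2, 0, 0, 0, 0, 2, 0, 0, 2]])]

def c0C : List (ℕ × List ℕ) := [(111, [1])]

def c1Z : ℕ := 673

def c1P : ℕ := 995

def c1Q : ℕ := 954

def c1Seven : List ℕ := [0, 0, 3, 0, 1, 5]

def c1Class_0 : Tree := (.node 128 (.node 64 (.node 32 (.node 16 (.node 8 (.node 4 (.node 2 (.node 1 (.leaf 0x0) (.leaf 0x1)) (.node 1 (.leaf 0x10d3080) (.leaf 0x2586090))) (.node 2 (.node 1 (.leaf 0x12ac091) (.leaf 0x26fb0a1)) (.node 1 (.leaf 0x318f060) (.leaf 0x146d030)))) (.node 4 (.node 2 (.node 1 (.leaf 0x20bd0a1) (.leaf 0x2100b0)) (.node 1 (.leaf 0x1128080) (.leaf 0x2))) (.node 2 (.node 1 (.leaf 0x47c0c1) (.leaf 0x27150c0)) (.node 1 (.leaf 0x743092) (.leaf 0x10b60a1))))) (.node 8 (.node 4 (.node 2 (.node 1 (.leaf 0x23d082) (.leaf 0x45b080)) (.node 1 (.leaf 0x3552091) (.leaf 0x782061))) (.node 2 (.node 1 (.leaf 0x15a70a0) (.leaf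 0x1298081)) (.node 1 (.leaf 0x387091) (.leaf 0x172c061)))) (.node 4 (.node 2 (.node 1 (.leaf 0x1249072) (.leaf 0x4e5081)) (.node 1 (.leaf 0x38b0a0) (.leaf 0x161f090))) (.node 2 (.node 1 (.leaf 0x232d040) (.leaf 0x12d4081)) (.node 1 (.leaf 0x21fc091) (.leaf 0x52f090)))))) (.node 16 (.node 8 (.node 4 (.node 2 (.node 1 (.leaf 0x3da0a1) (.leaf 0x24c0a0)) (.node 1 (.leaf 0x27860a2) (.leaf 0x171c0a0))) (.node 2 (.node 1 (.leaf 0x13a2091) (.leaf 0x25f3081)) (.node 1 (.leaf 0x3067080) (.leaf 0x26770b1)))) (.node 4 (.node 2 (.node 1 (.leaf 0x18f060) (.leaf 0x126b0b0)) (.node 1 (.leaf 0x16cd031) (.leaf 0x4fa060))) (.node 2 (.node 1 (.leaf 0x2055080) (.leaf 0x25ab0b0)) (.node 1 (.leaf 0x15360c0) (.leaf 0x4f081))))) (.node 8 (.node 4 (.node 2 (.node 1 (.leaf 0x23970b1) (.leaf 0x1e9082)) (.node 1 (.leaf 0x62b092) (.leaf 0x3))) (.node 2 (.node 1 (.leaf 0x450c1)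 (.leaf 0x123b0a0)) (.node 1 (.leaf 0x2249072) (.leaf 0x2700081)))) (.node 4 (.node 2 (.node 1 (.leaf 0x12f2071) (.leaf 0x112a070)) (.node 1 (.leaf 0x3170090) (.leaf 0x3540080))) (.node 2 (.node 1 (.leaf 0x38180b1) (.leaf 0x121a090)) (.node 1 (.leaf 0x16070a1) (.leaf 0x3063081))))))) (.node 32 (.node 16 (.node 8 (.node 4 (.node 2 (.node 1 (.leaf 0x305f0a1) (.leaf 0x21920b1)) (.node 1 (.leaf 0x2d7081) (.leaf 0x12b60a1))) (.node 2 (.node 1 (.leaf 0x30120a1) (.leaf 0x24860b1)) (.node 1 (.leaf 0x26d60a0) (.leaf 0x236f0a1)))) (.node 4 (.node 2 (.node 1 (.leaf 0x347d0a1) (.leaf 0x4d1042)) (.node 1 (.leaf 0x3788071) (.leaf 0x26400a1))) (.node 2 (.node 1 (.leaf 0x79032) (.leaf 0x22430b0)) (.node 1 (.leaf 0x100a090) (.leaf 0x5de071))))) (.node 8 (.node 4 (.node 2 (.node 1 (.leaf 0x246f0b0) (.leaf 0x79d090)) (.node 1 (.leaf 0x13a6082) (.leaf 0x341090)))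 (.node 2 (.node 1 (.leaf 0x12bf072) (.leaf 0x1119070)) (.node 1 (.leaf 0x200b1) (.leaf 0x304c042)))) (.node 4 (.node 2 (.node 1 (.leaf 0x26ea0b0) (.leaf 0x2090a1)) (.node 1 (.leaf 0x13660d1) (.leaf 0x125c080))) (.node 2 (.node 1 (.leaf 0x324b0c1) (.leaf 0x31cd0b1)) (.node 1 (.leaf 0x163b081) (.leaf 0x1025091)))))) (.node 16 (.node 8 (.node 4 (.node 2 (.node 1 (.leaf 0x22210a0) (.leaf 0x33da0a1)) (.node 1 (.leaf 0x178d091) (.leaf 0x2e2071))) (.node 2 (.node 1 (.leaf 0x2bc0a0) (.leaf 0x204e0a0)) (.node 1 (.leaf 0x26cf0c0) (.leaf 0x117e070)))) (.node 4 (.node 2 (.node 1 (.leaf 0x334070) (.leaf 0x33510a0)) (.node 1 (.leaf 0x25da090) (.leaf 0x3495090))) (.node 2 (.node 1 (.leaf 0x22fb0a0) (.leaf 0x2049052)) (.node 1 (.leaf 0x242f082) (.leaf 0x4))))) (.node 8 (.node 4 (.node 2 (.node 1 (.leaf 0x155b050) (.leaf 0x36d30a0)) (.node 1 (.leaf 0x1c00b0)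 (.leaf 0x25fa090))) (.node 2 (.node 1 (.leaf 0x33b60a0) (.leaf 0x12cf0c1)) (.node 1 (.leaf 0x1241090) (.leaf 0x16e90a0)))) (.node 4 (.node 2 (.node 1 (.leaf 0x380e060) (.leaf 0x48a022)) (.node 1 (.leaf 0x22c10a1) (.leaf 0x34c4082))) (.node 2 (.node 1 (.leaf 0x20d3080) (.leaf 0x129d0a0)) (.node 1 (.leaf 0x134f0d1) (.leaf 0x11b0a1)))))))) (.node 64 (.node 32 (.node 16 (.node 8 (.node 4 (.node 2 (.node 1 (.leaf 0x6dd050) (.leaf 0x16f081)) (.node 1 (.leaf 0x32e3082) (.leaf 0x350b033))) (.node 2 (.node 1 (.leaf 0x18d091) (.leaf 0x12d90a0)) (.node 1 (.leaf 0x147c0c1) (.leaf 0x3264051)))) (.node 4 (.node 2 (.node 1 (.leaf 0x1104090) (.leaf 0x509082)) (.node 1 (.leaf 0x26800b1) (.leaf 0x3794090))) (.node 2 (.node 1 (.leaf 0x261b0a1) (.leaf 0x3173080)) (.node 1 (.leaf 0x31620a1) (.leaf 0x16640b0))))) (.node 8 (.node 4 (.node 2 (.node 1 (.leaf 0x21cc090)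 (.leaf 0x210e090)) (.node 1 (.leaf 0x13d5091) (.leaf 0x15370b0))) (.node 2 (.node 1 (.leaf 0x214b090) (.leaf 0x5060a1)) (.node 1 (.leaf 0x244a090) (.leaf 0x3364082)))) (.node 4 (.node 2 (.node 1 (.leaf 0x54f090) (.leaf 0x5e7050)) (.node 1 (.leaf 0x14b8071) (.leaf 0x54e092))) (.node 2 (.node 1 (.leaf 0x33d0a1) (.leaf 0x2275081)) (.node 1 (.leaf 0x26350a1) (.leaf 0x266e0c1)))))) (.node 16 (.node 8 (.node 4 (.node 2 (.node 1 (.leaf 0x33af031) (.leaf 0x313c062)) (.node 1 (.leaf 0x20e8091) (.leaf 0x12680c0))) (.node 2 (.node 1 (.leaf 0x880a0) (.leaf 0x8070c1)) (.node 1 (.leaf 0x153c0a0) (.leaf 0x160c061)))) (.node 4 (.node 2 (.node 1 (.leaf 0x24770a1) (.leaf 0x33930a0)) (.node 1 (.leaf 0x15e3062) (.leaf 0x24cc091))) (.node 2 (.node 1 (.leaf 0x2001011) (.leaf 0x1777090)) (.node 1 (.leaf 0x1621061) (.leaf 0x2036082))))) (.node 8 (.node 4 (.node 2 (.node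 1 (.leaf 0x3421091) (.leaf 0x302f091)) (.node 1 (.leaf 0x4d80b1) (.leaf 0x34880a0))) (.node 2 (.node 1 (.leaf 0x22eb051) (.leaf 0x113070)) (.node 1 (.leaf 0x11fc091) (.leaf 0x31400a1)))) (.node 4 (.node 2 (.node 1 (.leaf 0x20b20c1) (.leaf 0x164a032)) (.node 1 (.leaf 0x31540a0) (.leaf 0x20910a0))) (.node 2 (.node 1 (.leaf 0x20aa072) (.leaf 0x3282091)) (.node 1 (.leaf 0x15db071) (.leaf 0x23b40b1))))))) (.node 32 (.node 16 (.node 8 (.node 4 (.node 2 (.node 1 (.leaf 0x33700a0) (.leaf 0x1334070)) (.node 1 (.leaf 0x1578062) (.leaf 0x243d072))) (.node 2 (.node 1 (.leaf 0x16280b0) (.leaf 0x136c0b1)) (.node 1 (.leaf 0x34f5050) (.leaf 0x34e5081)))) (.node 4 (.node 2 (.node 1 (.leaf 0x12340b0) (.leaf 0x2800a1)) (.node 1 (.leaf 0x23630b1) (.leaf 0x37410b1))) (.node 2 (.node 1 (.leaf 0x355d091) (.leaf 0x120d0b1)) (.node 1 (.leaf 0x113d091) (.leaf 0x15e90c0)))))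 (.node 8 (.node 4 (.node 2 (.node 1 (.leaf 0x15da090) (.leaf 0x26b2090)) (.node 1 (.leaf 0x15a40a1) (.leaf 0x33bb070))) (.node 2 (.node 1 (.leaf 0x5d90a0) (.leaf 0x22590a1)) (.node 1 (.leaf 0x10b20c1) (.leaf 0x20f20a1)))) (.node 4 (.node 2 (.node 1 (.leaf 0x234b0b0) (.leaf 0x231f040)) (.node 1 (.leaf 0x351b0d1) (.leaf 0x32630b0))) (.node 2 (.node 1 (.leaf 0x242d0b1) (.leaf 0x5)) (.node 1 (.leaf 0x35040b1) (.leaf 0x337c072)))))) (.node 16 (.node 8 (.node 4 (.node 2 (.node 1 (.leaf 0x631060) (.leaf 0x33bf080)) (.node 1 (.leaf 0x24d70a0) (.leaf 0x7ba0a1))) (.node 2 (.node 1 (.leaf 0x16f80b1) (.leaf 0x11cb0a2)) (.node 1 (.leaf 0x243e0a1) (.leaf 0x1215090)))) (.node 4 (.node 2 (.node 1 (.leaf 0x1225081) (.leaf 0x15d20a1)) (.node 1 (.leaf 0x5f4080) (.leaf 0x25410a0))) (.node 2 (.node 1 (.leaf 0x3180c1) (.leaf 0x23fa0c1)) (.node 1 (.leaf 0x24cd060)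 (.leaf 0x271f090))))) (.node 8 (.node 4 (.node 2 (.node 1 (.leaf 0xea090) (.leaf 0x2510082)) (.node 1 (.leaf 0x2d1091) (.leaf 0x799085))) (.node 2 (.node 1 (.leaf 0x10640b0) (.leaf 0x36b8041)) (.node 1 (.leaf 0x30af092) (.leaf 0x315044)))) (.node 4 (.node 2 (.node 1 (.leaf 0x24d3090) (.leaf 0x759065)) (.node 1 (.leaf 0x26f5071) (.leaf 0x17c7075))) (.node 2 (.node 1 (.leaf 0x3760075) (.leaf 0x31f0071)) (.node 1 (.leaf 0x3469091) (.leaf 0x25be090)))))))))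

def c1Class_1 : Tree := (.node 128 (.node 64 (.node 32 (.node 16 (.node 8 (.node 4 (.node 2 (.node 1 (.leaf 0x217c040) (.leaf 0x264c052)) (.node 1 (.leaf 0x37b70a0) (.leaf 0x253f080))) (.node 2 (.node 1 (.leaf 0x3f5080) (.leaf 0x32090a1)) (.node 1 (.leaf 0x305b090) (.leaf 0x1676091)))) (.node 4 (.node 2 (.node 1 (.leaf 0x1645091) (.leaf 0x480072)) (.node 1 (.leaf 0x14bd0b0) (.leaf 0x25a90a1))) (.node 2 (.node 1 (.leaf 0xf1092) (.leaf 0x27b9090)) (.node 1 (.leaf 0x2686080) (.leaf 0x31a40b1))))) (.node 8 (.node 4 (.node 2 (.node 1 (.leaf 0x3087061) (.leaf 0x31480a0)) (.node 1 (.leaf 0x72c061) (.leaf 0x27bb060))) (.node 2 (.node 1 (.leaf 0x5fb060) (.leaf 0x2655090)) (.node 1 (.leaf 0x2135071) (.leaf 0x285070)))) (.node 4 (.node 2 (.node 1 (.leaf 0x1668072) (.leaf 0x3b1060)) (.node 1 (.leaf 0x81d091) (.leaf 0x3496091))) (.node 2 (.node 1 (.leaf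 0x270c0a1) (.leaf 0x3690b0)) (.node 1 (.leaf 0x37ef030) (.leaf 0x2816090)))))) (.node 16 (.node 8 (.node 4 (.node 2 (.node 1 (.leaf 0x1175090) (.leaf 0x1681060)) (.node 1 (.leaf 0x2ad0c1) (.leaf 0x249e0d1))) (.node 2 (.node 1 (.leaf 0x2642080) (.leaf 0x2780a2)) (.node 1 (.leaf 0x11600a1) (.leaf 0x2418060)))) (.node 4 (.node 2 (.node 1 (.leaf 0x459070) (.leaf 0x15cf0b1)) (.node 1 (.leaf 0x35fb060) (.leaf 0xaf092))) (.node 2 (.node 1 (.leaf 0x353e0b0) (.leaf 0x14ff0b0)) (.node 1 (.leaf 0x280c0c1) (.leaf 0x2038081))))) (.node 8 (.node 4 (.node 2 (.node 1 (.leaf 0x29d0a0) (.leaf 0x25340a1)) (.node 1 (.leaf 0x1549062) (.leaf 0x11d50b1))) (.node 2 (.node 1 (.leaf 0x1163062) (.leaf 0x41e061)) (.node 1 (.leaf 0x11a0a1) (.leaf 0x10530a0)))) (.node 4 (.node 2 (.node 1 (.leaf 0x41c0c1) (.leaf 0x1033013)) (.node 1 (.leaf 0x22a20a1) (.leaf 0x252090))) (.node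 2 (.node 1 (.leaf 0x36ba052) (.leaf 0x1d6081)) (.node 1 (.leaf 0x2114070) (.leaf 0x14a40a0))))))) (.node 32 (.node 16 (.node 8 (.node 4 (.node 2 (.node 1 (.leaf 0x26d1091) (.leaf 0x228e0a0)) (.node 1 (.leaf 0x16ef072) (.leaf 0x21af091))) (.node 2 (.node 1 (.leaf 0xb9042) (.leaf 0x61d081)) (.node 1 (.leaf 0x1a40b1) (.leaf 0x361a072)))) (.node 4 (.node 2 (.node 1 (.leaf 0x29a090) (.leaf 0x2241090)) (.node 1 (.leaf 0x22b50b0) (.leaf 0x123c080))) (.node 2 (.node 1 (.leaf 0x17a30b1) (.leaf 0x15c3081)) (.node 1 (.leaf 0x10bf0c1) (.leaf 0x32fe0c1))))) (.node 8 (.node 4 (.node 2 (.node 1 (.leaf 0x144b071) (.leaf 0x260f082)) (.node 1 (.leaf 0x345d080) (.leaf 0x23c080))) (.node 2 (.node 1 (.leaf 0x36d2090) (.leaf 0x36a50c1)) (.node 1 (.leaf 0x320f092) (.leaf 0x27540c0)))) (.node 4 (.node 2 (.node 1 (.leaf 0x115d080) (.leaf 0x1147082)) (.node 1 (.leaf 0x1418060)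 (.leaf 0x25ff053))) (.node 2 (.node 1 (.leaf 0x10b10a1) (.leaf 0x3bb070)) (.node 1 (.leaf 0x3588051) (.leaf 0x215d080)))))) (.node 16 (.node 8 (.node 4 (.node 2 (.node 1 (.leaf 0x4a7091) (.leaf 0x26000a0)) (.node 1 (.leaf 0x3cd091) (.leaf 0x33e1052))) (.node 2 (.node 1 (.leaf 0x309d091) (.leaf 0x2140c0)) (.node 1 (.leaf 0x5eb091) (.leaf 0x1310b1)))) (.node 4 (.node 2 (.node 1 (.leaf 0x162b092) (.leaf 0x14ee050)) (.node 1 (.leaf 0x312e0d1) (.leaf 0x132b0b1))) (.node 2 (.node 1 (.leaf 0x110d0a0) (.leaf 0x3331062)) (.node 1 (.leaf 0x22e0080) (.leaf 0x3207071))))) (.node 8 (.node 4 (.node 2 (.node 1 (.leaf 0x12e0080) (.leaf 0x1580070)) (.node 1 (.leaf 0x15e4080) (.leaf 0x1114070))) (.node 2 (.node 1 (.leaf 0x23b0a0) (.leaf 0x24b1080)) (.node 1 (.leaf 0x34ae0b0) (.leaf 0x271d0a0)))) (.node 4 (.node 2 (.node 1 (.leaf 0x15610b0) (.leaf 0x144a090)) (.node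 1 (.leaf 0x14a9091) (.leaf 0x4bc080))) (.node 2 (.node 1 (.leaf 0x335a030) (.leaf 0x166f0c1)) (.node 1 (.leaf 0x2399060) (.leaf 0x31a5081)))))))) (.node 64 (.node 32 (.node 16 (.node 8 (.node 4 (.node 2 (.node 1 (.leaf 0x15be090) (.leaf 0x225f0a0)) (.node 1 (.leaf 0x3f8090) (.leaf 0x2163062))) (.node 2 (.node 1 (.leaf 0x3193090) (.leaf 0x12c10a1)) (.node 1 (.leaf 0x20a60b0) (.leaf 0x3ec0b1)))) (.node 4 (.node 2 (.node 1 (.leaf 0x31f10b1) (.leaf 0x22a7091)) (.node 1 (.leaf 0x16b3095) (.leaf 0x3ef092))) (.node 2 (.node 1 (.leaf 0x16cf0c0) (.leaf 0x23a8081)) (.node 1 (.leaf 0x2720080) (.leaf 0x23e6050))))) (.node 8 (.node 4 (.node 2 (.node 1 (.leaf 0x6bb082) (.leaf 0x262f051)) (.node 1 (.leaf 0x33810a1) (.leaf 0x139e080))) (.node 2 (.node 1 (.leaf 0x22c9040) (.leaf 0x23cc070)) (.node 1 (.leaf 0x1379082) (.leaf 0x3649080)))) (.node 4 (.node 2 (.node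 1 (.leaf 0x170a091) (.leaf 0x24b8071)) (.node 1 (.leaf 0x236a080) (.leaf 0x1083043))) (.node 2 (.node 1 (.leaf 0x351d061) (.leaf 0x13c4082)) (.node 1 (.leaf 0x3359060) (.leaf 0x24d0c1)))))) (.node 16 (.node 8 (.node 4 (.node 2 (.node 1 (.leaf 0x247d0a1) (.leaf 0x5d80c1)) (.node 1 (.leaf 0x11640a1) (.leaf 0x27a50a2))) (.node 2 (.node 1 (.leaf 0x252c0a1) (.leaf 0x1135071)) (.node 1 (.leaf 0x261a072) (.leaf 0x142a061)))) (.node 4 (.node 2 (.node 1 (.leaf 0x22aa091) (.leaf 0x12ca0d1)) (.node 1 (.leaf 0x124d0c1) (.leaf 0x81a0c0))) (.node 2 (.node 1 (.leaf 0x215e061) (.leaf 0x13dd0a0)) (.node 1 (.leaf 0x206091) (.leaf 0x31d6081))))) (.node 8 (.node 4 (.node 2 (.node 1 (.leaf 0x1236023) (.leaf 0x20a0a0)) (.node 1 (.leaf 0x2205033) (.leaf 0x324f090))) (.node 2 (.node 1 (.leaf 0x454082) (.leaf 0x27ca085)) (.node 1 (.leaf 0x11870c1) (.leaf 0x278b0a5))))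 (.node 4 (.node 2 (.node 1 (.leaf 0x26fc065) (.leaf 0x210d0a0)) (.node 1 (.leaf 0x20050b1) (.leaf 0x32ae0d1))) (.node 2 (.node 1 (.leaf 0x37ac090) (.leaf 0x26e60a0)) (.node 1 (.leaf 0x357b0a0) (.leaf 0x102c090))))))) (.node 32 (.node 16 (.node 8 (.node 4 (.node 2 (.node 1 (.leaf 0x11490a0) (.leaf 0x487081)) (.node 1 (.leaf 0x16e10c1) (.leaf 0x2153090))) (.node 2 (.node 1 (.leaf 0x37ba0a1) (.leaf 0x6e092)) (.node 1 (.leaf 0x12c0080) (.leaf 0x1097092)))) (.node 4 (.node 2 (.node 1 (.leaf 0x16a00c1) (.leaf 0x201b0a0)) (.node 1 (.leaf 0x14c0c1) (.leaf 0x11f9092))) (.node 2 (.node 1 (.leaf 0x485080) (.leaf 0x5a20a1)) (.node 1 (.leaf 0x5c90a0) (.leaf 0x320a0a0))))) (.node 8 (.node 4 (.node 2 (.node 1 (.leaf 0x10) (.leaf 0x3019091)) (.node 1 (.leaf 0x7c7075) (.leaf 0x2345052))) (.node 2 (.node 1 (.leaf 0x4570c1) (.leaf 0x20b60a1)) (.node 1 (.leaf 0x207071)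 (.leaf 0x33a8081)))) (.node 4 (.node 2 (.node 1 (.leaf 0x2314065) (.leaf 0x265f053)) (.node 1 (.leaf 0x2713035) (.leaf 0x1d8075))) (.node 2 (.node 1 (.leaf 0x1e3055) (.leaf 0x1001011)) (.node 1 (.leaf 0x109e0b1) (.leaf 0x33f7095)))))) (.node 16 (.node 8 (.node 4 (.node 2 (.node 1 (.leaf 0x27bd075) (.leaf 0x3732081)) (.node 1 (.leaf 0x2703095) (.leaf 0x63f045))) (.node 2 (.node 1 (.leaf 0x377f0a5) (.leaf 0x6b7095)) (.node 1 (.leaf 0x15ac0a1) (.leaf 0x25a5090)))) (.node 4 (.node 2 (.node 1 (.leaf 0x23a070) (.leaf 0x168e072)) (.node 1 (.leaf 0x12b0032) (.leaf 0x33010b0))) (.node 2 (.node 1 (.leaf 0x17e7062) (.leaf 0x36af0a0)) (.node 1 (.leaf 0x2420a1) (.leaf 0x34f8081))))) (.node 8 (.node 4 (.node 2 (.node 1 (.leaf 0x251d061) (.leaf 0x238a0a1)) (.node 1 (.leaf 0x245d080) (.leaf 0x2495090))) (.node 2 (.node 1 (.leaf 0x2484081) (.leaf 0x12c8072))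 (.node 1 (.leaf 0x1820a0) (.leaf 0x13a1070)))) (.node 4 (.node 2 (.node 1 (.leaf 0x265c072) (.leaf 0xc3082)) (.node 1 (.leaf 0x22d90a0) (.leaf 0x1377090))) (.node 2 (.node 1 (.leaf 0x5c3081) (.leaf 0x2191061)) (.node 1 (.leaf 0x39080) (.leaf 0x152b081)))))))))

def c1Class_2 : Tree := (.node 128 (.node 64 (.node 32 (.node 16 (.node 8 (.node 4 (.node 2 (.node 1 (.leaf 0x23a6082) (.leaf 0x12080a0)) (.node 1 (.leaf 0x13e50b1) (.leaf 0x228f070))) (.node 2 (.node 1 (.leaf 0x149d082) (.leaf 0x2139023)) (.node 1 (.leaf 0x361d081) (.leaf 0xb4061)))) (.node 4 (.node 2 (.node 1 (.leaf 0x177a090) (.leaf 0x27c5091)) (.node 1 (.leaf 0x5bd090) (.leaf 0x117d0d1))) (.node 2 (.node 1 (.leaf 0x153d0a0) (.leaf 0x40a1)) (.node 1 (.leaf 0x2493072) (.leaf 0x2620082))))) (.node 8 (.node 4 (.node 2 (.node 1 (.leaf 0x2460a0) (.leaf 0x14f40a0)) (.node 1 (.leaf 0x20df082)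 (.leaf 0x1258091))) (.node 2 (.node 1 (.leaf 0x31810b0) (.leaf 0x24d2080)) (.node 1 (.leaf 0x34770a1) (.leaf 0x3816090)))) (.node 4 (.node 2 (.node 1 (.leaf 0x2429061) (.leaf 0x30e1090)) (.node 1 (.leaf 0x33be080) (.leaf 0x14da072))) (.node 2 (.node 1 (.leaf 0x26be0b1) (.leaf 0x2513081)) (.node 1 (.leaf 0x318d091) (.leaf 0x27fe041)))))) (.node 16 (.node 8 (.node 4 (.node 2 (.node 1 (.leaf 0x20c1080) (.leaf 0x3636090)) (.node 1 (.leaf 0x4c042) (.leaf 0x3153090))) (.node 2 (.node 1 (.leaf 0x332a060) (.leaf 0x17071)) (.node 1 (.leaf 0x36a60a2) (.leaf 0x23ac081)))) (.node 4 (.node 2 (.node 1 (.leaf 0x10ec0d1) (.leaf 0x227e0b0)) (.node 1 (.leaf 0x32ad0c1) (.leaf 0x160d092))) (.node 2 (.node 1 (.leaf 0x3289091) (.leaf 0x17790b0)) (.node 1 (.leaf 0x5470a0) (.leaf 0x11cc090))))) (.node 8 (.node 4 (.node 2 (.node 1 (.leaf 0x33d9051) (.leaf 0x35270b1))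 (.node 1 (.leaf 0x33b7080) (.leaf 0x30320a2))) (.node 2 (.node 1 (.leaf 0x23080a0) (.leaf 0x365a043)) (.node 1 (.leaf 0x33013) (.leaf 0x27df0d1)))) (.node 4 (.node 2 (.node 1 (.leaf 0x24cb080) (.leaf 0x2616080)) (.node 1 (.leaf 0x280e060) (.leaf 0x16e090))) (.node 2 (.node 1 (.leaf 0x2f7070) (.leaf 0x571072)) (.node 1 (.leaf 0x2521042) (.leaf 0x1f5082))))))) (.node 32 (.node 16 (.node 8 (.node 4 (.node 2 (.node 1 (.leaf 0x2b070) (.leaf 0x10b5080)) (.node 1 (.leaf 0x272d091) (.leaf 0x158f0a0))) (.node 2 (.node 1 (.leaf 0x4a10c1) (.leaf 0x35550b1)) (.node 1 (.leaf 0x1293090) (.leaf 0x3910b0)))) (.node 4 (.node 2 (.node 1 (.leaf 0x31f5082) (.leaf 0x2708062)) (.node 1 (.leaf 0x70d0a1) (.leaf 0x30e30b1))) (.node 2 (.node 1 (.leaf 0x152090) (.leaf 0x16800b1)) (.node 1 (.leaf 0x31dd021) (.leaf 0x1595080))))) (.node 8 (.node 4 (.node 2 (.node 1 (.leaf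 0x134e0a0) (.leaf 0x137a0a1)) (.node 1 (.leaf 0x3542080) (.leaf 0x3629061))) (.node 2 (.node 1 (.leaf 0x17860a2) (.leaf 0x15f2091)) (.node 1 (.leaf 0x1079032) (.leaf 0x31430a1)))) (.node 4 (.node 2 (.node 1 (.leaf 0x25dd081) (.leaf 0x227a091)) (.node 1 (.leaf 0x36ce062) (.leaf 0x36e30a1))) (.node 2 (.node 1 (.leaf 0x121070) (.leaf 0x24f8081)) (.node 1 (.leaf 0x34e0a0) (.leaf 0x3637090)))))) (.node 16 (.node 8 (.node 4 (.node 2 (.node 1 (.leaf 0x11fa0b0) (.leaf 0x1277060)) (.node 1 (.leaf 0x258091) (.leaf 0x3d0a0))) (.node 2 (.node 1 (.leaf 0x24e9041) (.leaf 0x195080)) (.node 1 (.leaf 0x3203080) (.leaf 0x2540080)))) (.node 4 (.node 2 (.node 1 (.leaf 0x16130b0) (.leaf 0x33f8090)) (.node 1 (.leaf 0x1190092) (.leaf 0x30900a0))) (.node 2 (.node 1 (.leaf 0x289091) (.leaf 0x23430b0)) (.node 1 (.leaf 0x170e092) (.leaf 0x20d70b1))))) (.node 8 (.node 4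 (.node 2 (.node 1 (.leaf 0x37670b1) (.leaf 0x24920a1)) (.node 1 (.leaf 0x329f090) (.leaf 0x1332070))) (.node 2 (.node 1 (.leaf 0x13b5080) (.leaf 0x2112071)) (.node 1 (.leaf 0x21620a1) (.leaf 0x30d9050)))) (.node 4 (.node 2 (.node 1 (.leaf 0x236e092) (.leaf 0x13630b1)) (.node 1 (.leaf 0x1487081) (.leaf 0x36db061))) (.node 2 (.node 1 (.leaf 0x20b00a1) (.leaf 0x23ba091)) (.node 1 (.leaf 0x5bf0a0) (.leaf 0x11f0a0)))))))) (.node 64 (.node 32 (.node 16 (.node 8 (.node 4 (.node 2 (.node 1 (.leaf 0x16f7091) (.leaf 0x5230c1)) (.node 1 (.leaf 0x48d081) (.leaf 0x18050a0))) (.node 2 (.node 1 (.leaf 0x26d4071) (.leaf 0x3070060)) (.node 1 (.leaf 0x17490a0) (.leaf 0x24d5090)))) (.node 4 (.node 2 (.node 1 (.leaf 0x14e9041) (.leaf 0x20be081)) (.node 1 (.leaf 0x22160b1) (.leaf 0x37d1080))) (.node 2 (.node 1 (.leaf 0x15620c0) (.leaf 0x36ac0a1)) (.node 1 (.leaf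 0x3539090) (.leaf 0x633060))))) (.node 8 (.node 4 (.node 2 (.node 1 (.leaf 0x3109082) (.leaf 0x23b2080)) (.node 1 (.leaf 0x207f0b1) (.leaf 0x239c080))) (.node 2 (.node 1 (.leaf 0x67d0b0) (.leaf 0x37bb060)) (.node 1 (.leaf 0x229c090) (.leaf 0x26a7091)))) (.node 4 (.node 2 (.node 1 (.leaf 0x2218071) (.leaf 0x28090a0)) (.node 1 (.leaf 0x153f080) (.leaf 0x1139023))) (.node 2 (.node 1 (.leaf 0x3055080) (.leaf 0x1011090)) (.node 1 (.leaf 0x777090) (.leaf 0x339c080)))))) (.node 16 (.node 8 (.node 4 (.node 2 (.node 1 (.leaf 0x1890a1) (.leaf 0x56f044)) (.node 1 (.leaf 0x797091) (.leaf 0x2183072))) (.node 2 (.node 1 (.leaf 0x1224070) (.leaf 0x23610b0)) (.node 1 (.leaf 0x218e090) (.leaf 0x654081)))) (.node 4 (.node 2 (.node 1 (.leaf 0x25f5092) (.leaf 0x1520090)) (.node 1 (.leaf 0x12df081) (.leaf 0x3503082))) (.node 2 (.node 1 (.leaf 0x3116081) (.leaf 0x33960b1))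 (.node 1 (.leaf 0x30410c1) (.leaf 0x37de085))))) (.node 8 (.node 4 (.node 2 (.node 1 (.leaf 0x42b022) (.leaf 0x1814055)) (.node 1 (.leaf 0x810064) (.leaf 0x24730a1))) (.node 2 (.node 1 (.leaf 0x267e043) (.leaf 0x20d10a0)) (.node 1 (.leaf 0x1797091) (.leaf 0x35c90a0)))) (.node 4 (.node 2 (.node 1 (.leaf 0x12f091) (.leaf 0x331e0b0)) (.node 1 (.leaf 0x722070) (.leaf 0x20e60b1))) (.node 2 (.node 1 (.leaf 0x193090) (.leaf 0x37e060)) (.node 1 (.leaf 0x34fb0c1) (.leaf 0x348062))))))) (.node 32 (.node 16 (.node 8 (.node 4 (.node 2 (.node 1 (.leaf 0x212a070) (.leaf 0x237d091)) (.node 1 (.leaf 0x3b30a2) (.leaf 0x111d0c0))) (.node 2 (.node 1 (.leaf 0x5f10d1) (.leaf 0x17280a1)) (.node 1 (.leaf 0x1739062) (.leaf 0x264f053)))) (.node 4 (.node 2 (.node 1 (.leaf 0x549062) (.leaf 0x235a030)) (.node 1 (.leaf 0x33180c1) (.leaf 0x63d090))) (.node 2 (.node 1 (.leaf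 0x2724072) (.leaf 0x340e0b2)) (.node 1 (.leaf 0x26700b1) (.leaf 0x15920b1))))) (.node 8 (.node 4 (.node 2 (.node 1 (.leaf 0x17460a1) (.leaf 0x13ac081)) (.node 1 (.leaf 0x7a2052) (.leaf 0x15080c1))) (.node 2 (.node 1 (.leaf 0x2323071) (.leaf 0x14e70b1)) (.node 1 (.leaf 0x27ac090) (.leaf 0x3218071)))) (.node 4 (.node 2 (.node 1 (.leaf 0x25dc0a1) (.leaf 0x335b090)) (.node 1 (.leaf 0x35f7071) (.leaf 0x11a00b1))) (.node 2 (.node 1 (.leaf 0x2419080) (.leaf 0x34ed0a0)) (.node 1 (.leaf 0x14f70b1) (.leaf 0x253a071)))))) (.node 16 (.node 8 (.node 4 (.node 2 (.node 1 (.leaf 0x2332070) (.leaf 0x25db071)) (.node 1 (.leaf 0x2621061) (.leaf 0x68e072))) (.node 2 (.node 1 (.leaf 0x10c6060) (.leaf 0x337f053)) (.node 1 (.leaf 0x24af072) (.leaf 0x10dd015)))) (.node 4 (.node 2 (.node 1 (.leaf 0x4bb090) (.leaf 0x25ce065)) (.node 1 (.leaf 0x1311075) (.leaf 0x6b8041)))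 (.node 2 (.node 1 (.leaf 0x27da065) (.leaf 0x2814055)) (.node 1 (.leaf 0x15b5095) (.leaf 0x37850a0))))) (.node 8 (.node 4 (.node 2 (.node 1 (.leaf 0x6e20b1) (.leaf 0x407061)) (.node 1 (.leaf 0x657061) (.leaf 0x6580a0))) (.node 2 (.node 1 (.leaf 0x17160a1) (.leaf 0x10510a0)) (.node 1 (.leaf 0x32bc0a0) (.leaf 0x99060)))) (.node 4 (.node 2 (.node 1 (.leaf 0x4940a1) (.leaf 0x24f20b1)) (.node 1 (.leaf 0x318b0a2) (.leaf 0x34d3090))) (.node 2 (.node 1 (.leaf 0x26df0c1) (.leaf 0x239f090)) (.node 1 (.leaf 0x440b1) (.leaf 0x325e0b0)))))))))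

def c1Class_3 : Tree := (.node 128 (.node 64 (.node 32 (.node 16 (.node 8 (.node 4 (.node 2 (.node 1 (.leaf 0x176b044) (.leaf 0x21150a0)) (.node 1 (.leaf 0x15560b1) (.leaf 0xa80b1))) (.node 2 (.node 1 (.leaf 0x31610b0) (.leaf 0x6140b0)) (.node 1 (.leaf 0x114c0c1) (.leaf 0x14a50a1)))) (.node 4 (.node 2 (.node 1 (.leaf 0x114b090) (.leaf 0x23f30b0)) (.node 1 (.leaf 0x2f1071) (.leaf 0x3423081))) (.node 2 (.node 1 (.leaf 0x591085) (.leaf 0x1222052)) (.node 1 (.leaf 0x158b0b0) (.leaf 0x27520a5))))) (.node 8 (.node 4 (.node 2 (.node 1 (.leaf 0x222f0a0) (.leaf 0x256c065)) (.node 1 (.leaf 0x7120a5) (.leaf 0x17c1075))) (.node 2 (.node 1 (.leaf 0x168a055) (.leaf 0x36b0034)) (.node 1 (.leaf 0x26b0034) (.leaf 0x26f1085)))) (.node 4 (.node 2 (.node 1 (.leaf 0x34d0b1) (.leaf 0x143a085)) (.node 1 (.leaf 0x16c9075) (.leaf 0x16a2085))) (.node 2 (.node 1 (.leaf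 0x594085) (.leaf 0x241f0b1)) (.node 1 (.leaf 0x10980a0) (.leaf 0x3e8030)))))) (.node 16 (.node 8 (.node 4 (.node 2 (.node 1 (.leaf 0x34250b0) (.leaf 0x24eb0b0)) (.node 1 (.leaf 0x3265090) (.leaf 0x3407061))) (.node 2 (.node 1 (.leaf 0x15ca0a1) (.leaf 0x341d081)) (.node 1 (.leaf 0x26ac0a1) (.leaf 0x25080c1)))) (.node 4 (.node 2 (.node 1 (.leaf 0x2197090) (.leaf 0x27460a1)) (.node 1 (.leaf 0x55b050) (.leaf 0x30f20a1))) (.node 2 (.node 1 (.leaf 0x3412071) (.leaf 0x246d030)) (.node 1 (.leaf 0x25a00c1) (.leaf 0x26e00a2))))) (.node 8 (.node 4 (.node 2 (.node 1 (.leaf 0x4d4090) (.leaf 0x3e1052)) (.node 1 (.leaf 0x2516060) (.leaf 0x13ea091))) (.node 2 (.node 1 (.leaf 0x2681060) (.leaf 0x249f082)) (.node 1 (.leaf 0x10470b1) (.leaf 0x20740b0)))) (.node 4 (.node 2 (.node 1 (.leaf 0x3227091) (.leaf 0x2718080)) (.node 1 (.leaf 0x2c6072) (.leaf 0x27170d1)))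 (.node 2 (.node 1 (.leaf 0x42a061) (.leaf 0x26ec091)) (.node 1 (.leaf 0x2081091) (.leaf 0x5000b0))))))) (.node 32 (.node 16 (.node 8 (.node 4 (.node 2 (.node 1 (.leaf 0x610b1) (.leaf 0x3427080)) (.node 1 (.leaf 0x4ff0b0) (.leaf 0x31800a0))) (.node 2 (.node 1 (.leaf 0x14cb080) (.leaf 0x3256042)) (.node 1 (.leaf 0x142d0b1) (.leaf 0x1037091)))) (.node 4 (.node 2 (.node 1 (.leaf 0x57052) (.leaf 0x758091)) (.node 1 (.leaf 0x17b30c1) (.leaf 0x16b50a0))) (.node 2 (.node 1 (.leaf 0x15f8091) (.leaf 0xcc0a1)) (.node 1 (.leaf 0x1103090) (.leaf 0x254d0c1))))) (.node 8 (.node 4 (.node 2 (.node 1 (.leaf 0x379082) (.leaf 0x293090)) (.node 1 (.leaf 0xd40b0) (.leaf 0x24a60a2))) (.node 2 (.node 1 (.leaf 0x50a0a0) (.leaf 0x350092)) (.node 1 (.leaf 0x15a00c1) (.leaf 0x18190b1)))) (.node 4 (.node 2 (.node 1 (.leaf 0x151092) (.leaf 0x201c050)) (.node 1 (.leaf 0x21d0020)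 (.leaf 0x2502080))) (.node 2 (.node 1 (.leaf 0x24fe0a1) (.leaf 0x21c20d1)) (.node 1 (.leaf 0x1417072) (.leaf 0x23d9051)))))) (.node 16 (.node 8 (.node 4 (.node 2 (.node 1 (.leaf 0x24260c0) (.leaf 0x15d90a0)) (.node 1 (.leaf 0x20730a0) (.leaf 0x24400a1))) (.node 2 (.node 1 (.leaf 0x20a1072) (.leaf 0x7f2085)) (.node 1 (.leaf 0x26a50c1) (.leaf 0x6cd031)))) (.node 4 (.node 2 (.node 1 (.leaf 0x400b1) (.leaf 0x3220a0)) (.node 1 (.leaf 0x27a9070) (.leaf 0x12f40b1))) (.node 2 (.node 1 (.leaf 0x33bd0a1) (.leaf 0x3409081)) (.node 1 (.leaf 0x3142082) (.leaf 0x3a2091))))) (.node 8 (.node 4 (.node 2 (.node 1 (.leaf 0x35b090) (.leaf 0x151c070)) (.node 1 (.leaf 0x12b80a1) (.leaf 0x16d60a0))) (.node 2 (.node 1 (.leaf 0x26090) (.leaf 0x2529051)) (.node 1 (.leaf 0x25c080) (.leaf 0x3642080)))) (.node 4 (.node 2 (.node 1 (.leaf 0x17ae0b0) (.leaf 0x148c072)) (.node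 1 (.leaf 0x26ee091) (.leaf 0x322f0a0))) (.node 2 (.node 1 (.leaf 0x13c062) (.leaf 0x284081)) (.node 1 (.leaf 0x166d050) (.leaf 0x673043)))))))) (.node 64 (.node 32 (.node 16 (.node 8 (.node 4 (.node 2 (.node 1 (.leaf 0x136d091) (.leaf 0x125d091)) (.node 1 (.leaf 0x1722070) (.leaf 0x5c40b0))) (.node 2 (.node 1 (.leaf 0x1521042) (.leaf 0x352c0a1)) (.node 1 (.leaf 0x14fa060) (.leaf 0x150081)))) (.node 4 (.node 2 (.node 1 (.leaf 0x2676091) (.leaf 0x22e3082)) (.node 1 (.leaf 0x10e8091) (.leaf 0x34d5090))) (.node 2 (.node 1 (.leaf 0x1335092) (.leaf 0x138f0a1)) (.node 1 (.leaf 0x6670b0) (.leaf 0x81e091))))) (.node 8 (.node 4 (.node 2 (.node 1 (.leaf 0x17a50a2) (.leaf 0x1490a0)) (.node 1 (.leaf 0x3510a0) (.leaf 0x15fa090))) (.node 2 (.node 1 (.leaf 0x20a0041) (.leaf 0x14db0a1)) (.node 1 (.leaf 0x160a1) (.leaf 0x25250a1)))) (.node 4 (.node 2 (.node 1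 (.leaf 0x5620c0) (.leaf 0x15e7050)) (.node 1 (.leaf 0x27e1092) (.leaf 0x3151092))) (.node 2 (.node 1 (.leaf 0x2028070) (.leaf 0x31e9082)) (.node 1 (.leaf 0x2224070) (.leaf 0x33d0080)))))) (.node 16 (.node 8 (.node 4 (.node 2 (.node 1 (.leaf 0x20e082) (.leaf 0x4ea060)) (.node 1 (.leaf 0x3489081) (.leaf 0x23380a1))) (.node 2 (.node 1 (.leaf 0x5f9090) (.leaf 0x7790b0)) (.node 1 (.leaf 0x132072) (.leaf 0x22b4053)))) (.node 4 (.node 2 (.node 1 (.leaf 0x23c1071) (.leaf 0x35fc090)) (.node 1 (.leaf 0x32760b1) (.leaf 0x20ff0a0))) (.node 2 (.node 1 (.leaf 0x1a7071) (.leaf 0x1cb0a2)) (.node 1 (.leaf 0x3c5081) (.leaf 0x20ac021))))) (.node 8 (.node 4 (.node 2 (.node 1 (.leaf 0x5ee090) (.leaf 0x17e3050)) (.node 1 (.leaf 0x1669070) (.leaf 0x16d5092))) (.node 2 (.node 1 (.leaf 0x20ab0a1) (.leaf 0x1028070)) (.node 1 (.leaf 0x2239090) (.leaf 0x2481070)))) (.node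 4 (.node 2 (.node 1 (.leaf 0x12430b0) (.leaf 0x2421091)) (.node 1 (.leaf 0x2409081) (.leaf 0x70060))) (.node 2 (.node 1 (.leaf 0x21110b0) (.leaf 0x23ae091)) (.node 1 (.leaf 0x24c7070) (.leaf 0x2119070))))))) (.node 32 (.node 16 (.node 8 (.node 4 (.node 2 (.node 1 (.leaf 0x764091) (.leaf 0x135f061)) (.node 1 (.leaf 0x2470c0) (.leaf 0x37070b1))) (.node 2 (.node 1 (.leaf 0x365c072) (.leaf 0x13c1071)) (.node 1 (.leaf 0x38080a0) (.leaf 0x10ea090)))) (.node 4 (.node 2 (.node 1 (.leaf 0x71a052) (.leaf 0x35140c1)) (.node 1 (.leaf 0x36020b0) (.leaf 0x4790a0))) (.node 2 (.node 1 (.leaf 0xc6060) (.leaf 0x104a081)) (.node 1 (.leaf 0x2575041) (.leaf 0x566072))))) (.node 8 (.node 4 (.node 2 (.node 1 (.leaf 0x251c070) (.leaf 0x235e082)) (.node 1 (.leaf 0x1480a0) (.leaf 0x35d70a1))) (.node 2 (.node 1 (.leaf 0x257c0a1) (.leaf 0xfd081)) (.node 1 (.leaf 0x34eb0b0)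 (.leaf 0x27ef030)))) (.node 4 (.node 2 (.node 1 (.leaf 0x1675090) (.leaf 0x1575041)) (.node 1 (.leaf 0x37aa091) (.leaf 0x36f6062))) (.node 2 (.node 1 (.leaf 0x25480b0) (.leaf 0x224f090)) (.node 1 (.leaf 0x27e8071) (.leaf 0x70b0b0)))))) (.node 16 (.node 8 (.node 4 (.node 2 (.node 1 (.leaf 0x37310a0) (.leaf 0x256042)) (.node 1 (.leaf 0x119c071) (.leaf 0x33910b0))) (.node 2 (.node 1 (.leaf 0x247f0a0) (.leaf 0x36830a1)) (.node 1 (.leaf 0x111e040) (.leaf 0x12c9040)))) (.node 4 (.node 2 (.node 1 (.leaf 0x35d4020) (.leaf 0x149f082)) (.node 1 (.leaf 0x584081) (.leaf 0x225b0b1))) (.node 2 (.node 1 (.leaf 0x361b0a1) (.leaf 0x531082)) (.node 1 (.leaf 0x302b070) (.leaf 0x615082))))) (.node 8 (.node 4 (.node 2 (.node 1 (.leaf 0x199081) (.leaf 0x31af091)) (.node 1 (.leaf 0x36f5071) (.leaf 0x1f0a0))) (.node 2 (.node 1 (.leaf 0x30c3082) (.leaf 0x2295070)) (.node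 1 (.leaf 0x22f2071) (.leaf 0x27c0085)))) (.node 4 (.node 2 (.node 1 (.leaf 0x34d2080) (.leaf 0x22ef0b0)) (.node 1 (.leaf 0x58d0b1) (.leaf 0x21fb0a0))) (.node 2 (.node 1 (.leaf 0x21dd021) (.leaf 0x20350b0)) (.node 1 (.leaf 0x17f60a5) (.leaf 0x26fa091)))))))))

def c1Class_4 : Tree := (.node 128 (.node 64 (.node 32 (.node 16 (.node 8 (.node 4 (.node 2 (.node 1 (.leaf 0x162a082) (.leaf 0x2870a0)) (.node 1 (.leaf 0x36a7091) (.leaf 0x167c0d1))) (.node 2 (.node 1 (.leaf 0x23260b1) (.leaf 0x1481070)) (.node 1 (.leaf 0x3158090) (.leaf 0x264051)))) (.node 4 (.node 2 (.node 1 (.leaf 0x32100b0) (.leaf 0x44b071)) (.node 1 (.leaf 0x3460085) (.leaf 0x414091))) (.node 2 (.node 1 (.leaf 0xdd015) (.leaf 0x356f044)) (.node 1 (.leaf 0x6220a2) (.leaf 0x27c8085))))) (.node 8 (.node 4 (.node 2 (.node 1 (.leaf 0x27c1075) (.leaf 0x2464065)) (.node 1 (.leaf 0x3429061)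 (.leaf 0x381d091))) (.node 2 (.node 1 (.leaf 0x10fd081) (.leaf 0x1232090)) (.node 1 (.leaf 0x36520b0) (.leaf 0x2331062)))) (.node 4 (.node 2 (.node 1 (.leaf 0x3194050) (.leaf 0x171b070)) (.node 1 (.leaf 0x164c052) (.leaf 0x11ec072))) (.node 2 (.node 1 (.leaf 0x7a60b1) (.leaf 0x17d4071)) (.node 1 (.leaf 0x3529051) (.leaf 0x3330a1)))))) (.node 16 (.node 8 (.node 4 (.node 2 (.node 1 (.leaf 0x25e3062) (.leaf 0x3284081)) (.node 1 (.leaf 0x2565090) (.leaf 0x2110071))) (.node 2 (.node 1 (.leaf 0x5e80b1) (.leaf 0x22690a0)) (.node 1 (.leaf 0x23c60b0) (.leaf 0x3127070)))) (.node 4 (.node 2 (.node 1 (.leaf 0x11c90b0) (.leaf 0x588051)) (.node 1 (.leaf 0x13ce051) (.leaf 0x200b012))) (.node 2 (.node 1 (.leaf 0x3c00a1) (.leaf 0x15a20a1)) (.node 1 (.leaf 0x23700a0) (.leaf 0x3585072))))) (.node 8 (.node 4 (.node 2 (.node 1 (.leaf 0x351a052) (.leaf 0x1792095))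 (.node 1 (.leaf 0x116f081) (.leaf 0x17060a5))) (.node 2 (.node 1 (.leaf 0x1b8075) (.leaf 0x17150c0)) (.node 1 (.leaf 0x1796075) (.leaf 0x5af085)))) (.node 4 (.node 2 (.node 1 (.leaf 0x34cc091) (.leaf 0x121b082)) (.node 1 (.leaf 0x5b8075) (.leaf 0x32e7025))) (.node 2 (.node 1 (.leaf 0x279a065) (.leaf 0x3c8062)) (.node 1 (.leaf 0x27a8091) (.leaf 0x23490a1))))))) (.node 32 (.node 16 (.node 8 (.node 4 (.node 2 (.node 1 (.leaf 0x36d091) (.leaf 0x3530b2)) (.node 1 (.leaf 0x1b30a0) (.leaf 0x25d10b0))) (.node 2 (.node 1 (.leaf 0x25170a0) (.leaf 0x252d0c0)) (.node 1 (.leaf 0x31ed0b0) (.leaf 0x3451090)))) (.node 4 (.node 2 (.node 1 (.leaf 0x32d00b1) (.leaf 0x12d50c1)) (.node 1 (.leaf 0x32ba080) (.leaf 0x1191061))) (.node 2 (.node 1 (.leaf 0x16e50c1) (.leaf 0x30c7091)) (.node 1 (.leaf 0x33cf082) (.leaf 0x4fd065))))) (.node 8 (.node 4 (.node 2 (.node 1 (.leaf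 0x2313085) (.leaf 0x33f5080)) (.node 1 (.leaf 0x101f0a0) (.leaf 0x309f0d1))) (.node 2 (.node 1 (.leaf 0x815072) (.leaf 0x23c70a0)) (.node 1 (.leaf 0x27780b0) (.leaf 0x17a60b1)))) (.node 4 (.node 2 (.node 1 (.leaf 0x5a1043) (.leaf 0x277060)) (.node 1 (.leaf 0x1006070) (.leaf 0x12bd070))) (.node 2 (.node 1 (.leaf 0x15f4080) (.leaf 0x30ee070)) (.node 1 (.leaf 0x30c00b0) (.leaf 0x16a3095)))))) (.node 16 (.node 8 (.node 4 (.node 2 (.node 1 (.leaf 0x6cc075) (.leaf 0x77c095)) (.node 1 (.leaf 0x14fd065) (.leaf 0x2316044))) (.node 2 (.node 1 (.leaf 0x175e055) (.leaf 0x22b1065)) (.node 1 (.leaf 0x434085) (.leaf 0x20f7054)))) (.node 4 (.node 2 (.node 1 (.leaf 0x37f7065) (.leaf 0x1275081)) (.node 1 (.leaf 0x27de085) (.leaf 0x169c085))) (.node 2 (.node 1 (.leaf 0x2770065) (.leaf 0x31d0020)) (.node 1 (.leaf 0x326d0c0) (.leaf 0x26300a0))))) (.node 8 (.node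 4 (.node 2 (.node 1 (.leaf 0x1800070) (.leaf 0x241d081)) (.node 1 (.leaf 0x24480c1) (.leaf 0x173c091))) (.node 2 (.node 1 (.leaf 0x16380d1) (.leaf 0x349c072)) (.node 1 (.leaf 0x3288051) (.leaf 0x7d8091)))) (.node 4 (.node 2 (.node 1 (.leaf 0x226c0a1) (.leaf 0x48e090)) (.node 1 (.leaf 0x496091) (.leaf 0x34020a1))) (.node 2 (.node 1 (.leaf 0x20430b1) (.leaf 0x3387091)) (.node 1 (.leaf 0x1464065) (.leaf 0x2103090)))))))) (.node 64 (.node 32 (.node 16 (.node 8 (.node 4 (.node 2 (.node 1 (.leaf 0x1783062) (.leaf 0x2359060)) (.node 1 (.leaf 0x27ed071) (.leaf 0x6070a1))) (.node 2 (.node 1 (.leaf 0x17ed071) (.leaf 0x2606070)) (.node 1 (.leaf 0x22b80a1) (.leaf 0xae071)))) (.node 4 (.node 2 (.node 1 (.leaf 0x2520090) (.leaf 0x1ac071)) (.node 1 (.leaf 0x300b012) (.leaf 0x236c0b1))) (.node 2 (.node 1 (.leaf 0x2578062) (.leaf 0x3323071)) (.node 1 (.leaf 0x3718080)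 (.leaf 0x1b90b0))))) (.node 8 (.node 4 (.node 2 (.node 1 (.leaf 0x6a00c1) (.leaf 0x120a1)) (.node 1 (.leaf 0x12aa091) (.leaf 0x26f6062))) (.node 2 (.node 1 (.leaf 0x2282091) (.leaf 0x3599080)) (.node 1 (.leaf 0x30fa081) (.leaf 0x646090)))) (.node 4 (.node 2 (.node 1 (.leaf 0x34f6082) (.leaf 0x254a0b1)) (.node 1 (.leaf 0x205f0a1) (.leaf 0x4e2090))) (.node 2 (.node 1 (.leaf 0x31d3062) (.leaf 0x134072)) (.node 1 (.leaf 0x1290c1) (.leaf 0x1ec072)))))) (.node 16 (.node 8 (.node 4 (.node 2 (.node 1 (.leaf 0x2298081) (.leaf 0x24b20b1)) (.node 1 (.leaf 0x13d30b1) (.leaf 0x2054082))) (.node 2 (.node 1 (.leaf 0x1124090) (.leaf 0x312f091)) (.node 1 (.leaf 0x290092) (.leaf 0x2582081)))) (.node 4 (.node 2 (.node 1 (.leaf 0x174a0a0) (.leaf 0x2da081)) (.node 1 (.leaf 0x21430a1) (.leaf 0x27c0b1))) (.node 2 (.node 1 (.leaf 0x17e8071) (.leaf 0x10d00a0)) (.node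 1 (.leaf 0x27850a0) (.leaf 0x306d062))))) (.node 8 (.node 4 (.node 2 (.node 1 (.leaf 0x1485080) (.leaf 0x800070)) (.node 1 (.leaf 0x3810a1) (.leaf 0x23fb0b0))) (.node 2 (.node 1 (.leaf 0x1692085) (.leaf 0x5c60b1)) (.node 1 (.leaf 0x381a0c0) (.leaf 0x348a022)))) (.node 4 (.node 2 (.node 1 (.leaf 0x87061) (.leaf 0x142c0b1)) (.node 1 (.leaf 0x254b0e1) (.leaf 0x3405080))) (.node 2 (.node 1 (.leaf 0xe0070) (.leaf 0x5500a0)) (.node 1 (.leaf 0x201a0b0) (.leaf 0x12f1071))))))) (.node 32 (.node 16 (.node 8 (.node 4 (.node 2 (.node 1 (.leaf 0x60d092) (.leaf 0x31b90b0)) (.node 1 (.leaf 0x26a9063) (.leaf 0x14f00b0))) (.node 2 (.node 1 (.leaf 0x67b072) (.leaf 0x26f2080)) (.node 1 (.leaf 0x1781035) (.leaf 0x2714060)))) (.node 4 (.node 2 (.node 1 (.leaf 0x308c0b1) (.leaf 0x330b091)) (.node 1 (.leaf 0x301d091) (.leaf 0x2669070))) (.node 2 (.node 1 (.leaf 0x52b081)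 (.leaf 0x194050)) (.node 1 (.leaf 0xb30b0) (.leaf 0x3de081))))) (.node 8 (.node 4 (.node 2 (.node 1 (.leaf 0x21770b0) (.leaf 0x2b0032)) (.node 1 (.leaf 0x2386070) (.leaf 0x2117080))) (.node 2 (.node 1 (.leaf 0x203080) (.leaf 0x1735080)) (.node 1 (.leaf 0x1626062) (.leaf 0x539090)))) (.node 4 (.node 2 (.node 1 (.leaf 0x101e0a1) (.leaf 0x36bd0a0)) (.node 1 (.leaf 0x101062) (.leaf 0x70a091))) (.node 2 (.node 1 (.leaf 0x32620a1) (.leaf 0x6d2090)) (.node 1 (.leaf 0x22fd0a0) (.leaf 0x1252090)))))) (.node 16 (.node 8 (.node 4 (.node 2 (.node 1 (.leaf 0x11c6090) (.leaf 0x6890a1)) (.node 1 (.leaf 0x2595080) (.leaf 0x2261070))) (.node 2 (.node 1 (.leaf 0x23db072) (.leaf 0x5cb071)) (.node 1 (.leaf 0x10ef0a0) (.leaf 0x25350a1)))) (.node 4 (.node 2 (.node 1 (.leaf 0x180c0c1) (.leaf 0x3fc031)) (.node 1 (.leaf 0x20d9050) (.leaf 0x34220a0))) (.node 2 (.node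 1 (.leaf 0x2476061) (.leaf 0x315f090)) (.node 1 (.leaf 0x33d7040) (.leaf 0x15770d1))))) (.node 8 (.node 4 (.node 2 (.node 1 (.leaf 0x7500a0) (.leaf 0x17db0e1)) (.node 1 (.leaf 0x12420a1) (.leaf 0x17a0a1))) (.node 2 (.node 1 (.leaf 0x19a090) (.leaf 0x11e040)) (.node 1 (.leaf 0x4da072) (.leaf 0x13c00a1)))) (.node 4 (.node 2 (.node 1 (.leaf 0x11ac071) (.leaf 0x1121070)) (.node 1 (.leaf 0x301c050) (.leaf 0x34e10b1))) (.node 2 (.node 1 (.leaf 0x3291090) (.leaf 0x801055)) (.node 1 (.leaf 0x34a7091) (.leaf 0x50f0a0)))))))))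

def c1Class_5 : Tree := (.node 128 (.node 64 (.node 32 (.node 16 (.node 8 (.node 4 (.node 2 (.node 1 (.leaf 0xe70a0) (.leaf 0x14c7070)) (.node 1 (.leaf 0x127070) (.leaf 0x3815072))) (.node 2 (.node 1 (.leaf 0x12970a1) (.leaf 0x20e30b1)) (.node 1 (.leaf 0x1709091) (.leaf 0x305e091)))) (.node 4 (.node 2 (.node 1 (.leaf 0x238d0b1) (.leaf 0x367b072)) (.node 1 (.leaf 0x45c090) (.leaf 0x236023))) (.node 2 (.node 1 (.leaf 0x14c00a2) (.leaf 0x9a081)) (.node 1 (.leaf 0x213e080) (.leaf 0x1803090))))) (.node 8 (.node 4 (.node 2 (.node 1 (.leaf 0x25a072) (.leaf 0x3470080)) (.node 1 (.leaf 0x167d0b0) (.leaf 0x1fd071))) (.node 2 (.node 1 (.leaf 0x21d50b1) (.leaf 0x1493072)) (.node 1 (.leaf 0x7e3050) (.leaf 0x261f090)))) (.node 4 (.node 2 (.node 1 (.leaf 0x5ed063) (.leaf 0x57b0a0)) (.node 1 (.leaf 0x3551042) (.leaf 0x32bb0c1))) (.node 2 (.node 1 (.leaf 0x169060)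 (.leaf 0x23ce051)) (.node 1 (.leaf 0x34b90c1) (.leaf 0x25c50a0)))))) (.node 16 (.node 8 (.node 4 (.node 2 (.node 1 (.leaf 0x68080) (.leaf 0x4b7032)) (.node 1 (.leaf 0x220d0b1) (.leaf 0x32d80b1))) (.node 2 (.node 1 (.leaf 0x145b080) (.leaf 0x378f091)) (.node 1 (.leaf 0x162e0a1) (.leaf 0x12590a1)))) (.node 4 (.node 2 (.node 1 (.leaf 0x3015091) (.leaf 0x367041)) (.node 1 (.leaf 0x6af0a0) (.leaf 0x3013071))) (.node 2 (.node 1 (.leaf 0x31c1091) (.leaf 0x53e0b0)) (.node 1 (.leaf 0x17a9070) (.leaf 0x23b5080))))) (.node 8 (.node 4 (.node 2 (.node 1 (.leaf 0x16be0b1) (.leaf 0x3571072)) (.node 1 (.leaf 0x12e5063) (.leaf 0x20a20a1))) (.node 2 (.node 1 (.leaf 0x2639091) (.leaf 0x201d091)) (.node 1 (.leaf 0xa40b0) (.leaf 0x20f00a0)))) (.node 4 (.node 2 (.node 1 (.leaf 0x33240b1) (.leaf 0x173080)) (.node 1 (.leaf 0x2629061) (.leaf 0x72a0b0))) (.node 2 (.node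 1 (.leaf 0x377090) (.leaf 0x511090)) (.node 1 (.leaf 0x4970a0) (.leaf 0x17e070))))))) (.node 32 (.node 16 (.node 8 (.node 4 (.node 2 (.node 1 (.leaf 0x1113070) (.leaf 0x14d4090)) (.node 1 (.leaf 0x2bd070) (.leaf 0x24ed0a0))) (.node 2 (.node 1 (.leaf 0x22dc090) (.leaf 0x2405080)) (.node 1 (.leaf 0x11820a0) (.leaf 0x310e090)))) (.node 4 (.node 2 (.node 1 (.leaf 0xad0a0) (.leaf 0x2222052)) (.node 1 (.leaf 0x21400a1) (.leaf 0x15f10d1))) (.node 2 (.node 1 (.leaf 0x37d7092) (.leaf 0x950b1)) (.node 1 (.leaf 0x364082) (.leaf 0x2382080))))) (.node 8 (.node 4 (.node 2 (.node 1 (.leaf 0x451090) (.leaf 0x64a032)) (.node 1 (.leaf 0x482081) (.leaf 0x21d9063))) (.node 2 (.node 1 (.leaf 0x412071) (.leaf 0x11660a1)) (.node 1 (.leaf 0x14940a1) (.leaf 0x36c50a5)))) (.node 4 (.node 2 (.node 1 (.leaf 0x20ba0b0) (.leaf 0x339090)) (.node 1 (.leaf 0x78a0b0) (.leaf 0x7040)))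 (.node 2 (.node 1 (.leaf 0x1112071) (.leaf 0x130a081)) (.node 1 (.leaf 0x31f60b0) (.leaf 0x2574075)))))) (.node 16 (.node 8 (.node 4 (.node 2 (.node 1 (.leaf 0x4b4095) (.leaf 0x12d60a0)) (.node 1 (.leaf 0x16530b0) (.leaf 0x31b4092))) (.node 2 (.node 1 (.leaf 0x11050b1) (.leaf 0x374f080)) (.node 1 (.leaf 0x230d062) (.leaf 0x7b2095)))) (.node 4 (.node 2 (.node 1 (.leaf 0x319a090) (.leaf 0x36980a5)) (.node 1 (.leaf 0x756095) (.leaf 0x1070a1))) (.node 2 (.node 1 (.leaf 0x1801055) (.leaf 0x7f8085)) (.node 1 (.leaf 0x243b035) (.leaf 0x26fe034))))) (.node 8 (.node 4 (.node 2 (.node 1 (.leaf 0x2e6082) (.leaf 0x1d3062)) (.node 1 (.leaf 0x5b90a5) (.leaf 0x16c2095))) (.node 2 (.node 1 (.leaf 0x7d5065) (.leaf 0x224e031)) (.node 1 (.leaf 0x1344090) (.leaf 0x328a0c1)))) (.node 4 (.node 2 (.node 1 (.leaf 0x6ba052) (.leaf 0x176c0a0)) (.node 1 (.leaf 0x36700b1)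 (.leaf 0x200a090))) (.node 2 (.node 1 (.leaf 0x25f2091) (.leaf 0x31c40b1)) (.node 1 (.leaf 0x222c0a1) (.leaf 0xf0b1)))))))) (.node 64 (.node 32 (.node 16 (.node 8 (.node 4 (.node 2 (.node 1 (.leaf 0x14ea060) (.leaf 0x3a30b1)) (.node 1 (.leaf 0x2788071) (.leaf 0x35410a0))) (.node 2 (.node 1 (.leaf 0x27d4071) (.leaf 0x12d2062)) (.node 1 (.leaf 0x21e8080) (.leaf 0x11f2090)))) (.node 4 (.node 2 (.node 1 (.leaf 0x37fe041) (.leaf 0x35aa0b0)) (.node 1 (.leaf 0x3367041) (.leaf 0x31e70a0))) (.node 2 (.node 1 (.leaf 0x161e092) (.leaf 0x16fb0a1)) (.node 1 (.leaf 0x26830a1) (.leaf 0x5b090))))) (.node 8 (.node 4 (.node 2 (.node 1 (.leaf 0x11b8075) (.leaf 0x2411075)) (.node 1 (.leaf 0x27ff0a1) (.leaf 0x2723085))) (.node 2 (.node 1 (.leaf 0x27cc075) (.leaf 0x644070)) (.node 1 (.leaf 0x27fa0a5) (.leaf 0x175d085)))) (.node 4 (.node 2 (.node 1 (.leaf 0x6e90a0)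 (.leaf 0x71b070)) (.node 1 (.leaf 0x1753085) (.leaf 0x27310a0))) (.node 2 (.node 1 (.leaf 0x215f090) (.leaf 0x1240080)) (.node 1 (.leaf 0x13cc070) (.leaf 0x3be080)))))) (.node 16 (.node 8 (.node 4 (.node 2 (.node 1 (.leaf 0x25550b1) (.leaf 0x229b033)) (.node 1 (.leaf 0x2709091) (.leaf 0x2ce0c1))) (.node 2 (.node 1 (.leaf 0x16ec091) (.leaf 0x2171080)) (.node 1 (.leaf 0x2420072) (.leaf 0x264e090)))) (.node 4 (.node 2 (.node 1 (.leaf 0x179a065) (.leaf 0x2432091)) (.node 1 (.leaf 0x7ea0a0) (.leaf 0x58f0a0))) (.node 2 (.node 1 (.leaf 0x42091) (.leaf 0x3721065)) (.node 1 (.leaf 0x31e3055) (.leaf 0x25a8075))))) (.node 8 (.node 4 (.node 2 (.node 1 (.leaf 0x363f045) (.leaf 0x21db085)) (.node 1 (.leaf 0x35ec065) (.leaf 0x276b044))) (.node 2 (.node 1 (.leaf 0x753085) (.leaf 0x436085)) (.node 1 (.leaf 0x37d3095) (.leaf 0x5ec065)))) (.node 4 (.node 2 (.node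 1 (.leaf 0x5ae065) (.leaf 0x36f3095)) (.node 1 (.leaf 0x12b2074) (.leaf 0x813055))) (.node 2 (.node 1 (.leaf 0x1710075) (.leaf 0x1501080)) (.node 1 (.leaf 0x252e080) (.leaf 0x17b090))))))) (.node 32 (.node 16 (.node 8 (.node 4 (.node 2 (.node 1 (.leaf 0x2570b1) (.leaf 0x31cf0b0)) (.node 1 (.leaf 0x13ba091) (.leaf 0x11fd071))) (.node 2 (.node 1 (.leaf 0x15bf0a0) (.leaf 0x2170090)) (.node 1 (.leaf 0x33880a1) (.leaf 0x10a7071)))) (.node 4 (.node 2 (.node 1 (.leaf 0x2a60a0) (.leaf 0x21c6090)) (.node 1 (.leaf 0x4a0091) (.leaf 0x2375061))) (.node 2 (.node 1 (.leaf 0x14380a1) (.leaf 0x850b0)) (.node 1 (.leaf 0x15b0055) (.leaf 0x17ff0a1))))) (.node 8 (.node 4 (.node 2 (.node 1 (.leaf 0x13b40b1) (.leaf 0x325f0a0)) (.node 1 (.leaf 0x33f0091) (.leaf 0x353a071))) (.node 2 (.node 1 (.leaf 0x3000010) (.leaf 0x30d70b1)) (.node 1 (.leaf 0x33260b1) (.leaf 0x1f4091))))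 (.node 4 (.node 2 (.node 1 (.leaf 0x31e60b1) (.leaf 0x21f2090)) (.node 1 (.leaf 0x39e080) (.leaf 0x2738061))) (.node 2 (.node 1 (.leaf 0x16ee091) (.leaf 0x2253071)) (.node 1 (.leaf 0x341e061) (.leaf 0x354a0b1)))))) (.node 16 (.node 8 (.node 4 (.node 2 (.node 1 (.leaf 0x36400a1) (.leaf 0x1080a1)) (.node 1 (.leaf 0x237c072) (.leaf 0x123e052))) (.node 2 (.node 1 (.leaf 0x30e0070) (.leaf 0x11e8080)) (.node 1 (.leaf 0x4c80c1) (.leaf 0x331f040)))) (.node 4 (.node 2 (.node 1 (.leaf 0x14400a1) (.leaf 0x2830b0)) (.node 1 (.leaf 0x202a041) (.leaf 0x35f3081))) (.node 2 (.node 1 (.leaf 0x3705055) (.leaf 0x12b4053)) (.node 1 (.leaf 0x3d0080) (.leaf 0x12b0a2))))) (.node 8 (.node 4 (.node 2 (.node 1 (.leaf 0x6eb091) (.leaf 0x66f0c1)) (.node 1 (.leaf 0x33f6081) (.leaf 0x15cb071))) (.node 2 (.node 1 (.leaf 0x27e5070) (.leaf 0x21a6082)) (.node 1 (.leaf 0x24bd0b0)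 (.leaf 0x10b4061)))) (.node 4 (.node 2 (.node 1 (.leaf 0x22e1081) (.leaf 0x79b080)) (.node 1 (.leaf 0x727080) (.leaf 0x3e7050))) (.node 2 (.node 1 (.leaf 0x34e3080) (.leaf 0x3804095)) (.node 1 (.leaf 0x23880a1) (.leaf 0x31b2043)))))))))

def c1Class_6 : Tree := (.node 128 (.node 64 (.node 32 (.node 16 (.node 8 (.node 4 (.node 2 (.node 1 (.leaf 0x2c090) (.leaf 0x14fc0a0)) (.node 1 (.leaf 0x27490a0) (.leaf 0x803090))) (.node 2 (.node 1 (.leaf 0x3680c1) (.leaf 0x32c7063)) (.node 1 (.leaf 0x137e060) (.leaf 0x3042091)))) (.node 4 (.node 2 (.node 1 (.leaf 0x27f4045) (.leaf 0x37f4045)) (.node 1 (.leaf 0x618095) (.leaf 0x23b90a1))) (.node 2 (.node 1 (.leaf 0xf5051) (.leaf 0x109082)) (.node 1 (.leaf 0x49a0b1) (.leaf 0x3566072))))) (.node 8 (.node 4 (.node 2 (.node 1 (.leaf 0x228b090) (.leaf 0x32160b1)) (.node 1 (.leaf 0x2a00b1) (.leaf 0x3a0a0))) (.node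 2 (.node 1 (.leaf 0x12870a0) (.leaf 0x30c2072)) (.node 1 (.leaf 0x119e070) (.leaf 0x346a095)))) (.node 4 (.node 2 (.node 1 (.leaf 0x37c3085) (.leaf 0x30920a1)) (.node 1 (.leaf 0x26ce062) (.leaf 0x37d8091))) (.node 2 (.node 1 (.leaf 0x178a0b0) (.leaf 0x219c071)) (.node 1 (.leaf 0x2666082) (.leaf 0x245a080)))))) (.node 16 (.node 8 (.node 4 (.node 2 (.node 1 (.leaf 0x248c072) (.leaf 0x25ea051)) (.node 1 (.leaf 0x3089092) (.leaf 0x25091))) (.node 2 (.node 1 (.leaf 0x36350a1) (.leaf 0x6850b0)) (.node 1 (.leaf 0x384052) (.leaf 0x176e0a5)))) (.node 4 (.node 2 (.node 1 (.leaf 0x280d0a0) (.leaf 0x58a051)) (.node 1 (.leaf 0x22bf072) (.leaf 0x142082))) (.node 2 (.node 1 (.leaf 0x14b0090) (.leaf 0x27450d1)) (.node 1 (.leaf 0x27aa091) (.leaf 0x10a0041))))) (.node 8 (.node 4 (.node 2 (.node 1 (.leaf 0x172090) (.leaf 0x33e7050)) (.node 1 (.leaf 0x23ed092) (.leaf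 0x4ee050))) (.node 2 (.node 1 (.leaf 0x106e092) (.leaf 0x3f091)) (.node 1 (.leaf 0x3bf080) (.leaf 0x4f9080)))) (.node 4 (.node 2 (.node 1 (.leaf 0x24b50c1) (.leaf 0x2732081)) (.node 1 (.leaf 0x1769085) (.leaf 0x27b071))) (.node 2 (.node 1 (.leaf 0x145c090) (.leaf 0x3068080)) (.node 1 (.leaf 0x6e10c1) (.leaf 0x781035))))))) (.node 32 (.node 16 (.node 8 (.node 4 (.node 2 (.node 1 (.leaf 0x33ae091) (.leaf 0x17f3075)) (.node 1 (.leaf 0x219e070) (.leaf 0x25770d1))) (.node 2 (.node 1 (.leaf 0x1080060) (.leaf 0x1a5081)) (.node 1 (.leaf 0x1502080) (.leaf 0x276d0a1)))) (.node 4 (.node 2 (.node 1 (.leaf 0x25ac0a1) (.leaf 0x580070)) (.node 1 (.leaf 0x142b022) (.leaf 0x3235053))) (.node 2 (.node 1 (.leaf 0x34d1042) (.leaf 0x10b70b1)) (.node 1 (.leaf 0x3ee080) (.leaf 0x21b2043))))) (.node 8 (.node 4 (.node 2 (.node 1 (.leaf 0x30910a0) (.leaf 0x4f70b1)) (.node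 1 (.leaf 0x23300a0) (.leaf 0x4e00a0))) (.node 2 (.node 1 (.leaf 0x4ec071) (.leaf 0x2c0080)) (.node 1 (.leaf 0x34790a0) (.leaf 0x358a051)))) (.node 4 (.node 2 (.node 1 (.leaf 0x16b2090) (.leaf 0x228d0b1)) (.node 1 (.leaf 0x250b033) (.leaf 0x3389092))) (.node 2 (.node 1 (.leaf 0x2739062) (.leaf 0x1660a1)) (.node 1 (.leaf 0x32210a0) (.leaf 0x35a1043)))))) (.node 16 (.node 8 (.node 4 (.node 2 (.node 1 (.leaf 0x48f0c0) (.leaf 0x2970a1)) (.node 1 (.leaf 0x1b60d1) (.leaf 0x24720d1))) (.node 2 (.node 1 (.leaf 0x32e80a0) (.leaf 0x30e70a0)) (.node 1 (.leaf 0x668072) (.leaf 0x25590a0)))) (.node 4 (.node 2 (.node 1 (.leaf 0x2783062) (.leaf 0x3516060)) (.node 1 (.leaf 0x24440b0) (.leaf 0x1790a0))) (.node 2 (.node 1 (.leaf 0x14010b0) (.leaf 0x23d7040)) (.node 1 (.leaf 0x16e20b1) (.leaf 0x260b0b1))))) (.node 8 (.node 4 (.node 2 (.node 1 (.leaf 0x27160a1) (.leaf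 0x13380a1)) (.node 1 (.leaf 0x307a0b1) (.leaf 0x11b0033))) (.node 2 (.node 1 (.leaf 0x338d0b1) (.leaf 0x3117080)) (.node 1 (.leaf 0x2489081) (.leaf 0x170d0a1)))) (.node 4 (.node 2 (.node 1 (.leaf 0x15a90a1) (.leaf 0x15fe0b1)) (.node 1 (.leaf 0x258e0b1) (.leaf 0x33c8062))) (.node 2 (.node 1 (.leaf 0x25220c1) (.leaf 0x26bf0a0)) (.node 1 (.leaf 0x1205033) (.leaf 0x17ab0c0)))))))) (.node 64 (.node 32 (.node 16 (.node 8 (.node 4 (.node 2 (.node 1 (.leaf 0x3ff0a1) (.leaf 0x100050)) (.node 1 (.leaf 0x1371080) (.leaf 0x645091))) (.node 2 (.node 1 (.leaf 0x36670b0) (.leaf 0x33220a0)) (.node 1 (.leaf 0x2e4070) (.leaf 0x14420b0)))) (.node 4 (.node 2 (.node 1 (.leaf 0x13cb0b0) (.leaf 0x3471091)) (.node 1 (.leaf 0x704045) (.leaf 0x34330b5))) (.node 2 (.node 1 (.leaf 0x73a0b0) (.leaf 0x33280a0)) (.node 1 (.leaf 0x241a062) (.leaf 0x2609055))))) (.node 8 (.node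 4 (.node 2 (.node 1 (.leaf 0x2145091) (.leaf 0x3789095)) (.node 1 (.leaf 0x35b7075) (.leaf 0x32140c0))) (.node 2 (.node 1 (.leaf 0x243c075) (.leaf 0x2af095)) (.node 1 (.leaf 0x71c0a0) (.leaf 0x381b085)))) (.node 4 (.node 2 (.node 1 (.leaf 0x1365095) (.leaf 0x365095)) (.node 1 (.leaf 0x22a90a0) (.leaf 0x7c2085))) (.node 2 (.node 1 (.leaf 0x32e9075) (.leaf 0x27d3095)) (.node 1 (.leaf 0x26f3095) (.leaf 0x277f0a5)))))) (.node 16 (.node 8 (.node 4 (.node 2 (.node 1 (.leaf 0x80b1) (.leaf 0x17d2055)) (.node 1 (.leaf 0x10f9075) (.leaf 0x590085))) (.node 2 (.node 1 (.leaf 0x593095) (.leaf 0x204b0b1)) (.node 1 (.leaf 0x33d1092) (.leaf 0x25c7081)))) (.node 4 (.node 2 (.node 1 (.leaf 0x25df0c1) (.leaf 0x235053)) (.node 1 (.leaf 0x238f0a1) (.leaf 0x22dd0b0))) (.node 2 (.node 1 (.leaf 0x37c5091) (.leaf 0x144e092)) (.node 1 (.leaf 0x367a0c1) (.leaf 0xe1090)))))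 (.node 8 (.node 4 (.node 2 (.node 1 (.leaf 0x36ca024) (.leaf 0x47e075)) (.node 1 (.leaf 0x1686080) (.leaf 0x31a085))) (.node 2 (.node 1 (.leaf 0x106f014) (.leaf 0x29f090)) (.node 1 (.leaf 0x16d8044) (.leaf 0x701085)))) (.node 4 (.node 2 (.node 1 (.leaf 0x33fc031) (.leaf 0x116081)) (.node 1 (.leaf 0x2551042) (.leaf 0x34af072))) (.node 2 (.node 1 (.leaf 0x306a0a0) (.leaf 0x3267090)) (.node 1 (.leaf 0x30160a1) (.leaf 0x124090))))))) (.node 32 (.node 16 (.node 8 (.node 4 (.node 2 (.node 1 (.leaf 0x307b092) (.leaf 0x356d095)) (.node 1 (.leaf 0x243a085) (.leaf 0x1dc065))) (.node 2 (.node 1 (.leaf 0x269c085) (.leaf 0x1b5095)) (.node 1 (.leaf 0x1e20a5) (.leaf 0x68f065)))) (.node 4 (.node 2 (.node 1 (.leaf 0x355f085) (.leaf 0x35bb065)) (.node 1 (.leaf 0x206f014) (.leaf 0x3410085))) (.node 2 (.node 1 (.leaf 0x3314065) (.leaf 0x10ac021)) (.node 1 (.leaf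 0x251a052) (.leaf 0x266b0b0))))) (.node 8 (.node 4 (.node 2 (.node 1 (.leaf 0x35ee090) (.leaf 0x2225081)) (.node 1 (.leaf 0x2371080) (.leaf 0x179e090))) (.node 2 (.node 1 (.leaf 0x3738061) (.leaf 0x249d082)) (.node 1 (.leaf 0x25fc090) (.leaf 0x37f8085)))) (.node 4 (.node 2 (.node 1 (.leaf 0x27be034) (.leaf 0x3782061)) (.node 1 (.leaf 0x363d090) (.leaf 0x35ea051))) (.node 2 (.node 1 (.leaf 0x27b70a0) (.leaf 0x317c040)) (.node 1 (.leaf 0x2626062) (.leaf 0x5e00b1)))))) (.node 16 (.node 8 (.node 4 (.node 2 (.node 1 (.leaf 0x37a4092) (.leaf 0x6aa0b1)) (.node 1 (.leaf 0x273b0a1) (.leaf 0x12a7091))) (.node 2 (.node 1 (.leaf 0x352e080) (.leaf 0x4e70b1)) (.node 1 (.leaf 0x17b9090) (.leaf 0x3018082)))) (.node 4 (.node 2 (.node 1 (.leaf 0x21d2085) (.leaf 0x35f9090)) (.node 1 (.leaf 0x27360a0) (.leaf 0x1584081))) (.node 2 (.node 1 (.leaf 0x63b081) (.leaf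 0x206a0a0)) (.node 1 (.leaf 0x7a0081) (.leaf 0x6d062))))) (.node 8 (.node 4 (.node 2 (.node 1 (.leaf 0x120c0b0) (.leaf 0x3411075)) (.node 1 (.leaf 0x3295070) (.leaf 0x5bc085))) (.node 2 (.node 1 (.leaf 0x27c4095) (.leaf 0x35f061)) (.node 1 (.leaf 0x1144052) (.leaf 0x12e1081)))) (.node 4 (.node 2 (.node 1 (.leaf 0x7280a1) (.leaf 0x794090)) (.node 1 (.leaf 0x155c081) (.leaf 0x3081091))) (.node 2 (.node 1 (.leaf 0x1608055) (.leaf 0x46c075)) (.node 1 (.leaf 0x26b4024) (.leaf 0x21020b0)))))))))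

def c1Class_7 : Tree := (.node 128 (.node 64 (.node 32 (.node 16 (.node 8 (.node 4 (.node 2 (.node 1 (.leaf 0x1253071) (.leaf 0xf9075)) (.node 1 (.leaf 0x27c3085) (.leaf 0x275f085))) (.node 2 (.node 1 (.leaf 0x2766035) (.leaf 0x56e045)) (.node 1 (.leaf 0xf3095) (.leaf 0x20fe0a1)))) (.node 4 (.node 2 (.node 1 (.leaf 0x3384052) (.leaf 0x3554081)) (.node 1 (.leaf 0x3513081) (.leaf 0x4df0a0))) (.node 2 (.node 1 (.leaf 0x78f091) (.leaf 0x2f091)) (.node 1 (.leaf 0x2475082) (.leaf 0x167e043))))) (.node 8 (.node 4 (.node 2 (.node 1 (.leaf 0x17da065) (.leaf 0x4a40a0)) (.node 1 (.leaf 0x36c4095) (.leaf 0x340c025))) (.node 2 (.node 1 (.leaf 0x3100050) (.leaf 0x17110b0)) (.node 1 (.leaf 0x2ac091) (.leaf 0x23360c1)))) (.node 4 (.node 2 (.node 1 (.leaf 0x328f070) (.leaf 0x16c0b0)) (.node 1 (.leaf 0x21ea042) (.leaf 0x1099060))) (.node 2 (.node 1 (.leaf 0x2376090)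 (.leaf 0x675090)) (.node 1 (.leaf 0x4380a1) (.leaf 0x33ee080)))))) (.node 16 (.node 8 (.node 4 (.node 2 (.node 1 (.leaf 0x3644070) (.leaf 0x3813055)) (.node 1 (.leaf 0x34cd060) (.leaf 0x37d6075))) (.node 2 (.node 1 (.leaf 0x330d062) (.leaf 0x26c7075)) (.node 1 (.leaf 0x31330c1) (.leaf 0x123a070)))) (.node 4 (.node 2 (.node 1 (.leaf 0x221d091) (.leaf 0x44e092)) (.node 1 (.leaf 0x17360a0) (.leaf 0x1c50a2))) (.node 2 (.node 1 (.leaf 0x3394051) (.leaf 0x15d3081)) (.node 1 (.leaf 0x2344090) (.leaf 0x12db0c1))))) (.node 8 (.node 4 (.node 2 (.node 1 (.leaf 0x1f10b1) (.leaf 0x154f090)) (.node 1 (.leaf 0x14ec071) (.leaf 0x12510b1))) (.node 2 (.node 1 (.leaf 0x23740a0) (.leaf 0x15a070)) (.node 1 (.leaf 0x17b4090) (.leaf 0x2159092)))) (.node 4 (.node 2 (.node 1 (.leaf 0x12eb051) (.leaf 0x3049052)) (.node 1 (.leaf 0x63c0a0) (.leaf 0x21ff091))) (.node 2 (.node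 1 (.leaf 0x1199081) (.leaf 0x77d0c1)) (.node 1 (.leaf 0x58b0b0) (.leaf 0x174d0c1))))))) (.node 32 (.node 16 (.node 8 (.node 4 (.node 2 (.node 1 (.leaf 0x25760a0) (.leaf 0x10a20a1)) (.node 1 (.leaf 0x15dc0a1) (.leaf 0x11f8082))) (.node 2 (.node 1 (.leaf 0x36aa0b1) (.leaf 0x2de0c1)) (.node 1 (.leaf 0x225d091) (.leaf 0x14fe0a1)))) (.node 4 (.node 2 (.node 1 (.leaf 0x25bb065) (.leaf 0x77a090)) (.node 1 (.leaf 0x21fe090) (.leaf 0x10860d1))) (.node 2 (.node 1 (.leaf 0x27ae0b0) (.leaf 0x1260b1)) (.node 1 (.leaf 0x3725085) (.leaf 0x3a1070))))) (.node 8 (.node 4 (.node 2 (.node 1 (.leaf 0x17a1090) (.leaf 0x3704045)) (.node 1 (.leaf 0x17b2095) (.leaf 0x1748075))) (.node 2 (.node 1 (.leaf 0x31bd0b0) (.leaf 0x2608055)) (.node 1 (.leaf 0x2460085) (.leaf 0x69b095)))) (.node 4 (.node 2 (.node 1 (.leaf 0x12d7081) (.leaf 0x751055)) (.node 1 (.leaf 0x710075) (.leaf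 0x17710a5))) (.node 2 (.node 1 (.leaf 0x35a8075) (.leaf 0x31d8075)) (.node 1 (.leaf 0x78c045) (.leaf 0x44f075)))))) (.node 16 (.node 8 (.node 4 (.node 2 (.node 1 (.leaf 0x26a1065) (.leaf 0x35b3054)) (.node 1 (.leaf 0x38170b1) (.leaf 0x35170a0))) (.node 2 (.node 1 (.leaf 0x13de081) (.leaf 0x40d054)) (.node 1 (.leaf 0x22e7025) (.leaf 0x25d70a1)))) (.node 4 (.node 2 (.node 1 (.leaf 0x74e095) (.leaf 0x27d6075)) (.node 1 (.leaf 0x3463054) (.leaf 0x36fe034))) (.node 2 (.node 1 (.leaf 0x637090) (.leaf 0x36d1091)) (.node 1 (.leaf 0x26e8095) (.leaf 0x641085))))) (.node 8 (.node 4 (.node 2 (.node 1 (.leaf 0x7d2055) (.leaf 0x59a095)) (.node 1 (.leaf 0x468075) (.leaf 0x11db085))) (.node 2 (.node 1 (.leaf 0x177e074) (.leaf 0x1590085)) (.node 1 (.leaf 0x3400c1) (.leaf 0x2649080)))) (.node 4 (.node 2 (.node 1 (.leaf 0x11bc0a0) (.leaf 0x23dd0a0)) (.node 1 (.leaf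 0x427080) (.leaf 0x76c0a0))) (.node 2 (.node 1 (.leaf 0x2692085) (.leaf 0x23960b1)) (.node 1 (.leaf 0x1467064) (.leaf 0x26c2095)))))))) (.node 64 (.node 32 (.node 16 (.node 8 (.node 4 (.node 2 (.node 1 (.leaf 0x255c081) (.leaf 0x240c025)) (.node 1 (.leaf 0x121f051) (.leaf 0x171a052))) (.node 2 (.node 1 (.leaf 0x180d0a0) (.leaf 0x3b090)) (.node 1 (.leaf 0x3570092) (.leaf 0x108a0c1)))) (.node 4 (.node 2 (.node 1 (.leaf 0x230061) (.leaf 0x275a085)) (.node 1 (.leaf 0x5680a0) (.leaf 0x1317095))) (.node 2 (.node 1 (.leaf 0x1713035) (.leaf 0x1482081)) (.node 1 (.leaf 0x24f40a0) (.leaf 0x104f081))))) (.node 8 (.node 4 (.node 2 (.node 1 (.leaf 0x16890a1) (.leaf 0x14c6045)) (.node 1 (.leaf 0x17f2085) (.leaf 0x256d095))) (.node 2 (.node 1 (.leaf 0x599080) (.leaf 0x26170a5)) (.node 1 (.leaf 0x1770065) (.leaf 0x4ac081)))) (.node 4 (.node 2 (.node 1 (.leaf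 0x365d0b1) (.leaf 0x3468075)) (.node 1 (.leaf 0x791055) (.leaf 0x3078070))) (.node 2 (.node 1 (.leaf 0x380f0a0) (.leaf 0x359e080)) (.node 1 (.leaf 0x1f7080) (.leaf 0x16500b0)))))) (.node 16 (.node 8 (.node 4 (.node 2 (.node 1 (.leaf 0x26d9071) (.leaf 0x542080)) (.node 1 (.leaf 0x31ea042) (.leaf 0x27d0a1))) (.node 2 (.node 1 (.leaf 0x1510082) (.leaf 0x31092)) (.node 1 (.leaf 0x33490a1) (.leaf 0x57a0c1)))) (.node 4 (.node 2 (.node 1 (.leaf 0x1038081) (.leaf 0x2080060)) (.node 1 (.leaf 0x32c081) (.leaf 0x25610b0))) (.node 2 (.node 1 (.leaf 0x2240080) (.leaf 0x37500a0)) (.node 1 (.leaf 0xef0a0) (.leaf 0x2470080))))) (.node 8 (.node 4 (.node 2 (.node 1 (.leaf 0x22df081) (.leaf 0x14ce0c0)) (.node 1 (.leaf 0x35af085) (.leaf 0x30e60b1))) (.node 2 (.node 1 (.leaf 0x23b7080) (.leaf 0x366e0c1)) (.node 1 (.leaf 0x21c1091) (.leaf 0x350e090)))) (.node 4 (.node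 2 (.node 1 (.leaf 0x30a80b1) (.leaf 0x735080)) (.node 1 (.leaf 0x255d091) (.leaf 0x66d050))) (.node 2 (.node 1 (.leaf 0x1cd0b1) (.leaf 0x16a1065)) (.node 1 (.leaf 0x6ca024) (.leaf 0x25b5095))))))) (.node 32 (.node 16 (.node 8 (.node 4 (.node 2 (.node 1 (.leaf 0x35b8075) (.leaf 0x721065)) (.node 1 (.leaf 0x26c9075) (.leaf 0x3574075))) (.node 2 (.node 1 (.leaf 0x1772085) (.leaf 0xfa081)) (.node 1 (.leaf 0x5fd0a5) (.leaf 0x1759065)))) (.node 4 (.node 2 (.node 1 (.leaf 0x143c075) (.leaf 0x1723085)) (.node 1 (.leaf 0x3465075) (.leaf 0x25b3054))) (.node 2 (.node 1 (.leaf 0x15ae065) (.leaf 0x25b7075)) (.node 1 (.leaf 0x20710b0) (.leaf 0x4f6082))))) (.node 8 (.node 4 (.node 2 (.node 1 (.leaf 0x16a9063) (.leaf 0x32f7070)) (.node 1 (.leaf 0x1da045) (.leaf 0x175f085))) (.node 2 (.node 1 (.leaf 0x60c061) (.leaf 0x2705055)) (.node 1 (.leaf 0x7f7065) (.leaf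 0x118082)))) (.node 4 (.node 2 (.node 1 (.leaf 0x24bf081) (.leaf 0x378b0a5)) (.node 1 (.leaf 0x5b0055) (.leaf 0x2ae0d1))) (.node 2 (.node 1 (.leaf 0x13210c0) (.leaf 0x30c095)) (.node 1 (.leaf 0x748075) (.leaf 0x13400c1)))))) (.node 16 (.node 8 (.node 4 (.node 2 (.node 1 (.leaf 0x13970b1) (.leaf 0x160f082)) (.node 1 (.leaf 0x1eb0c0) (.leaf 0x332d040))) (.node 2 (.node 1 (.leaf 0x1ca0d1) (.leaf 0x1714060)) (.node 1 (.leaf 0x3582081) (.leaf 0x144052)))) (.node 4 (.node 2 (.node 1 (.leaf 0x1375061) (.leaf 0x5ca0a1)) (.node 1 (.leaf 0x259d090) (.leaf 0x34dc0b1))) (.node 2 (.node 1 (.leaf 0x25980b0) (.leaf 0x6db061)) (.node 1 (.leaf 0x206c0b0) (.leaf 0x5d4020))))) (.node 8 (.node 4 (.node 2 (.node 1 (.leaf 0x16eb091) (.leaf 0x17cf092)) (.node 1 (.leaf 0x2760075) (.leaf 0x12ed065))) (.node 2 (.node 1 (.leaf 0x1766035) (.leaf 0x2773095)) (.node 1 (.leaf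 0x131c095) (.leaf 0x268a055)))) (.node 4 (.node 2 (.node 1 (.leaf 0x22e9075) (.leaf 0x1755065)) (.node 1 (.leaf 0x3f7095) (.leaf 0x465075))) (.node 2 (.node 1 (.leaf 0x3701085) (.leaf 0x2630b0)) (.node 1 (.leaf 0x23af031) (.leaf 0x217f091)))))))))

def c1Class_8 : Tree := (.node 16 (.node 8 (.node 4 (.node 2 (.node 1 (.leaf 0x32a060) (.leaf 0x31da045)) (.node 1 (.leaf 0x328e0a0) (.leaf 0x136a080))) (.node 2 (.node 1 (.leaf 0x27fb085) (.leaf 0x34e2090)) (.node 1 (.leaf 0x22bb0c1) (.leaf 0x13d40b1)))) (.node 4 (.node 2 (.node 1 (.leaf 0x2545090) (.leaf 0x2291090)) (.node 1 (.leaf 0x2082092) (.leaf 0x32f00c1))) (.node 2 (.node 1 (.leaf 0x21e60b1) (.leaf 0x1220090)) (.node 1 (.leaf 0x4f5050) (.leaf 0x17af090))))) (.node 8 (.node 4 (.node 2 (.node 1 (.leaf 0x463054) (.leaf 0x6a2085)) (.node 1 (.leaf 0x2ea085) (.leaf 0x24c6045))) (.node 2 (.node 1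 (.leaf 0x156e045) (.leaf 0x22d2062)) (.node 1 (.leaf 0x14bc080) (.leaf 0x36900a1)))) (.node 4 (.node 2 (.node 1 (.leaf 0x35340a1) (.leaf 0x30840a1)) (.node 1 (.leaf 0x34550b0) (.leaf 0x2796075))) (.node 2 (.node 1 (.leaf 0x3697095) (.leaf 0x1654081)) (.node 1 (.leaf 0x37a0081) (.leaf 0x17f9075))))))

def c1Class : Tree := (.node 1024 (.node 512 (.node 256 c1Class_0 c1Class_1) (.node 256 c1Class_2 c1Class_3)) (.node 512 (.node 256 c1Class_4 c1Class_5) (.node 256 c1Class_6 (.node 256 c1Class_7 c1Class_8))))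

def c1Reps : List ℕ := [0, 1, 11, 51, 111, 221]

def c1A : List (ℕ × List ℕ) := [(0, [0, 2]), (1, [0, 0, 0, 1, 2]), (51, [0, 1, 1, 2])]

def c1B : List (ℕ × ℕ × List ℕ × List (List ℕ)) := [(11, 954, [5, 1, 2, 3, 2, 1, 4, 3, 2, 1, 0, 3, 5, 1], [[0, 1, 1, 2, 0, 2, 2, 1, 0, 2, 2, 1], [1, 2, 0, 1, 0, 1, 0, 1, 0, 1, 2, 2, 1, 1], [0, 1, 0, 1, 1, 0, 0, 0, 1, 0, 2, 0, 2], [1, 2, 1, 0, 0, 0, 0, 1, 2, 2, 1], [0, 0, 1, 1, 0, 2, 2, 0, 0, 2, 1, 1, 0, 1]]), (221, 995, [], [[0, 2, 1, 2, 0, 1, 0, 1, 1, 0, 0, 0, 2, 0], [1, 2, 2, 0, 1, 2, 1, 0, 1, 2, 1, 2, 1, 1], [0, 0, 0, 0, 0, 1, 0, 1, 1, 0, 0, 1, 0, 0, 1], [0, 1, 2, 1, 2, 1, 0, 0, 0, 0, 0, 1, 0], [1, 2, 1, 1, 0, 1, 2, 2, 1, 2, 0, 1, 2]])]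

def c1C : List (ℕ × List ℕ) := [(111, [1, 0, 0, 0, 1, 0, 0, 0, 0, 1, 1])]

end Cfsg.Agent.Lib.SuzUnique.Data
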