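import Cfsg.Agent.Lib.CosetCert.Check

/-!
Certificate data for the graph of the Suzuki group on 1782 points: transversal words.
-/

set_option autoImplicit false
set_option linter.all false
set_option maxRecDepth 100000

namespace Cfsg.Agent.Lib.SuzUnique.Data

open Cfsg.Agent.CosetCert

def c0Tp : List ℕ := []

def c1Tp : List ℕ := []

end Cfsg.Agent.Lib.SuzUnique.Data
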