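import Cfsg.Agent.InvChar.Coset.SuzCheck
import Cfsg.Agent.Lib.SuzUnique.DataRowsA
import Cfsg.Agent.Lib.SuzUnique.DataRowsB
import Cfsg.Agent.Lib.SuzUnique.DataMasks
import Cfsg.Agent.Lib.SuzUnique.DataOrbits
import Cfsg.Agent.Lib.SuzUnique.DataSub

/-!
Functions for the certificate of the graph of the Suzuki group on 1782 points.  Sets of points are bit sets.
-/

set_option autoImplicit false
set_option linter.all false
set_option maxRecDepth 100000

noncomputable section

namespace Cfsg.Agent.Lib.SuzUnique

open Cfsg.Agent.CosetCert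


abbrev T : Table := Cfsg.Agent.InvChar.Coset.Suz.table

/-- Membership in a bit set. -/
def bit (m i : ℕ) : Bool := Nat.beq (Nat.land (Nat.shiftRight m i) 1) 1

/-- All numbers below `n` satisfy `f`. -/
def allUpto (f : ℕ → Bool) (n : ℕ) : Bool :=
  Nat.rec (motive := fun _ => Bool) true (fun i ih => f i && ih) n

/-- All numbers in `[a, a + n)` satisfy `f`. -/
def allFrom (f : ℕ → Bool) (a n : ℕ) : Bool := allUpto (fun i => f (Nat.add a i)) n

/-- The number of elements below `n`. -/
def cntUpto (f : ℕ → Bool) (n : ℕ) : ℕ :=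
  Nat.rec (motive := fun _ => ℕ) 0 (fun i ih => cond (f i) (Nat.succ ih) ih) n

/-- The set of the values. -/
def maskOf (f : ℕ → ℕ) (n : ℕ) : ℕ :=
  Nat.rec (motive := fun _ => ℕ) 0 (fun i ih => Nat.lor (Nat.shiftLeft 1 (f i)) ih) n

/-- An entry of a packed list. -/
def nth11 (p i : ℕ) : ℕ := Nat.land (Nat.shiftRight p (Nat.mul 11 i)) 2047

/-- The neighbour lists. -/
def nbList (c : ℕ) : ℕ :=
  Bool.rec (motive := fun _ => ℕ) (Data.listsA.get c) (Data.listsB.get (Nat.sub c 891)) (Nat.ble 891 c)

/-- The row of a point. -/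
def rowM (c : ℕ) : ℕ := Data.masks.get c

/-- Adjacency. -/
def adjB (i j : ℕ) : Bool := bit (rowM i) j

/-- The value of a word at a point. -/
def runW (w : List ℕ) (c : ℕ) : ℕ := T.run w c

/-- A packed word. -/
def unpackW : ℕ → ℕ → List ℕ
  | 0, _ => []
  | n + 1, p => Nat.land p 7 :: unpackW n (Nat.shiftRight p 3)

/-- A word of a table of packed words. -/
def wordAt (t : Tree) (i : ℕ) : List ℕ :=
  unpackW (Nat.land (t.get i) 255) (Nat.shiftRight (t.get i) 8)

/-! ### Rows -/

/-- The list at a row is the image of the list at its parent. -/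
def rowListOK (c : ℕ) : Bool :=
  Nat.beq c 0 ||
    allUpto (fun k => Nat.beq (nth11 (nbList c) k) (T.tgt (nth11 (nbList (T.tgt c (T.parent c))) k) (T.parent c))) 416

/-- The row is the set of the list. -/
def rowMaskOK (c : ℕ) : Bool := Nat.beq (rowM c) (maskOf (nth11 (nbList c)) 416)

/-- The outer automorphism maps rows to rows. -/
def sigmaOK (c : ℕ) : Bool :=
  Nat.blt (Data.sigma.get c) 1782 && Nat.blt (Data.sigmaInv.get c) 1782 &&
  Nat.beq (Data.sigma.get (Data.sigmaInv.get c)) c && Nat.beq (Data.sigmaInv.get (Data.sigma.get c)) c &&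
  Nat.beq (rowM (Data.sigma.get c)) (maskOf (fun k => Data.sigma.get (nth11 (nbList c) k)) 416)

/-! ### Orbits -/

/-- The point of an entry. -/
def rPt (t : Tree) (i : ℕ) : ℕ := Nat.land (t.get i) 2047

/-- An entry is the image of an earlier one. -/
def stepROK (gens : List (List ℕ)) (t : Tree) (i : ℕ) : Bool :=
  Nat.blt (rPt t i) 1782 && (Nat.beq i 0 ||
    (Nat.blt (Nat.land (Nat.shiftRight (t.get i) 11) 2047) i &&
      Nat.blt (Nat.shiftRight (t.get i) 22) gens.length &&
      Nat.beq (runW (getWord gens (Nat.shiftRight (t.get i) 22)) (rPt t (Nat.land (Nat.shiftRight (t.get i) 11) 2047)))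
        (rPt t i)))

/-- A list reached from its first point. -/
def reachOK (gens : List (List ℕ)) (t : Tree) (n : ℕ) : Bool :=
  gens.all (fun w => lettersOK 7 w) && allUpto (stepROK gens t) n &&
    Nat.beq (cntUpto (bit (maskOf (rPt t) n)) 1782) n

/-- The list is closed. -/
def closedOK (gens : List (List ℕ)) (t : Tree) (n : ℕ) : Bool :=
  gens.all fun w => allUpto (fun i => bit (maskOf (rPt t) n) (runW w (rPt t i))) n

/-- The six letters of the point stabiliser. -/
def hGens : List (List ℕ) := [[0], [1], [2], [3], [4], [5]]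

/-- The five letters of the stabiliser of two points. -/
def jGens : List (List ℕ) := [[0], [1], [2], [3], [4]]

/-- Letters below six. -/
def hWord (w : List ℕ) : Bool := lettersOK 6 w

/-- The points which tell the elements of the stabiliser apart. -/
def keyPts : List ℕ := Data.levPts

/-- The images of those points, packed. -/
def keyOf (w : List ℕ) : ℕ :=
  List.rec (motive := fun _ => ℕ) 0 (fun b _ ih => Nat.lor (runW w b) (Nat.shiftLeft ih 11)) keyPts

/-- The images under a word of a list of points. -/
def keyW (w : List ℕ) : List ℕ := keyPts.map (runW w)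

/-! ### Determination -/

def dPt (t : Tree) (i : ℕ) : ℕ := Nat.land (t.get i) 2047
def dNew (t : Tree) (i : ℕ) : Bool := Nat.beq (Nat.shiftRight (t.get i) 11) 1

/-- Neighbouring entries are in order, strictly at a new point. -/
def detStep (t : Tree) (m : ℕ) (i : ℕ) : Bool :=
  let a := Nat.land (rowM (dPt t i)) m
  let b := Nat.land (rowM (dPt t (Nat.succ i))) m
  Nat.ble a b && (!(dNew t i || dNew t (Nat.succ i)) || Nat.blt a b)

/-- The list has the points outside the set, sorted by their traces on it. -/
def detOK (t : Tree) (m n : ℕ) : Bool :=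
  allUpto (fun i => Nat.blt (dPt t i) 1782 && !bit m (dPt t i)) n &&
    Nat.beq (cntUpto (bit (maskOf (dPt t) n)) 1782) n &&
    Nat.beq (cntUpto (fun c => !bit m c) 1782) n &&
    allUpto (detStep t m) (Nat.sub n 1)

/-- The new points are the difference of two sets. -/
def detNext (t : Tree) (m m' n : ℕ) : Bool :=
  allUpto (fun i => !bit m' (dPt t i) || dNew t i) n

end Cfsg.Agent.Lib.SuzUnique
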