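import Cfsg.Agent.Lib.SuzUnique.Defs

/-!
Functions for the certificate of the traces of the far points on the neighbours.
-/

set_option autoImplicit false
set_option linter.all false
set_option maxRecDepth 100000

noncomputable section

namespace Cfsg.Agent.Lib.SuzUnique

open Cfsg.Agent.CosetCert

def maskN : ℕ := maskOf (rPt Data.orbN) Data.orbNLen
def maskF : ℕ := maskOf (rPt Data.orbF) Data.orbFLen
def maskJS : ℕ := maskOf (rPt Data.orbJS) Data.orbJSLen
def maskJL : ℕ := maskOf (rPt Data.orbJL) Data.orbJLLen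

/-- The trace of a far point. -/
def traceM (j : ℕ) : ℕ := Nat.land (rowM j) maskN

/-- The orbits of the two-group, numbered. -/
def uOrb (k : ℕ) : Tree × ℕ :=
  Nat.rec (motive := fun _ => Tree × ℕ) (Data.orbU0, Data.orbU0Len)
    (fun i _ => Nat.rec (motive := fun _ => Tree × ℕ) (Data.orbU1, Data.orbU1Len)
      (fun i _ => Nat.rec (motive := fun _ => Tree × ℕ) (Data.orbU2, Data.orbU2Len)
        (fun i _ => Nat.rec (motive := fun _ => Tree × ℕ) (Data.orbU3, Data.orbU3Len)
          (fun _ _ => (Data.orbU4, Data.orbU4Len)) i) i) i) k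

def vOrb (k : ℕ) : Tree × ℕ :=
  Nat.rec (motive := fun _ => Tree × ℕ) (Data.orbV0, Data.orbV0Len)
    (fun i _ => Nat.rec (motive := fun _ => Tree × ℕ) (Data.orbV1, Data.orbV1Len)
      (fun i _ => Nat.rec (motive := fun _ => Tree × ℕ) (Data.orbV2, Data.orbV2Len)
        (fun i _ => Nat.rec (motive := fun _ => Tree × ℕ) (Data.orbV3, Data.orbV3Len)
          (fun i _ => Nat.rec (motive := fun _ => Tree × ℕ) (Data.orbV4, Data.orbV4Len)
            (fun _ _ => (Data.orbV5, Data.orbV5Len)) i) i) i) i) k

def orbMask (o : Tree × ℕ) : ℕ := maskOf (rPt o.1) o.2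

/-- The union of the orbits selected by the bits. -/
def unionM (orb : ℕ → Tree × ℕ) (s n : ℕ) : ℕ :=
  Nat.rec (motive := fun _ => ℕ) 0
    (fun k ih => Bool.rec (motive := fun _ => ℕ) ih (Nat.lor (orbMask (orb k)) ih) (bit s k)) n

/-- The total length of the orbits selected. -/
def unionLen (orb : ℕ → Tree × ℕ) (s n : ℕ) : ℕ :=
  Nat.rec (motive := fun _ => ℕ) 0
    (fun k ih => Bool.rec (motive := fun _ => ℕ) ih (Nat.add (orb k).2 ih) (bit s k)) n

/-- The ordered adjacent pairs inside a set. -/
def pairsIn (m : ℕ) : ℕ :=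
  Nat.rec (motive := fun _ => ℕ) 0
    (fun x ih => Bool.rec (motive := fun _ => ℕ) ih (Nat.add (cntUpto (bit (Nat.land (rowM x) m)) 1782) ih) (bit m x)) 1782

/-- A union of orbits with 96 points is the trace or has the wrong number of edges. -/
def traceCaseOK (s : ℕ) : Bool :=
  !Nat.beq (unionLen uOrb s 5) 96 || Nat.beq (unionM uOrb s 5) (traceM Data.j0) ||
    !Nat.beq (pairsIn (unionM uOrb s 5)) 1920

/-- A union of orbits with 320 points is the far part of the row. -/
def farCaseOK (s : ℕ) : Bool :=
  !Nat.beq (unionLen vOrb s 6) 320 || Nat.beq (unionM vOrb s 6) (Nat.land (rowM Data.j0) maskF)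

/-- No other point has the same trace. -/
def traceUnique : Bool :=
  allUpto (fun i => Nat.beq (rPt Data.orbF i) Data.j0 || !Nat.beq (traceM (rPt Data.orbF i)) (traceM Data.j0))
    Data.orbFLen

/-- An entry of the relations of the two-group. -/
def uRelOK (i : ℕ) : Bool :=
  let r := Data.uRels.getD i ([], [])
  r.1.all (fun a => Nat.blt a i) && Nat.beq r.2.length i && r.2.all (fun c => c.all fun a => Nat.blt a i) &&
    Nat.beq (runW (getWord Data.uWords i) 0) 0 && hWord (getWord Data.uWords i) &&
    Nat.beq (runW (getWord Data.uWords i) Data.j0) Data.j0 &&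
    Nat.beq (keyOf (getWord Data.uWords i ++ getWord Data.uWords i))
      (keyOf (List.flatten (r.1.map (getWord Data.uWords)))) &&
    allUpto (fun j => Nat.beq (keyOf ((getWord Data.uWords i).reverse ++ getWord Data.uWords j ++ getWord Data.uWords i))
      (keyOf (List.flatten ((getWord r.2 j).map (getWord Data.uWords))))) i

end Cfsg.Agent.Lib.SuzUnique
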