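import Cfsg.Agent.Lib.SuzUnique.Basic
import Cfsg.Agent.Lib.SuzUnique.ChkTrace

/-!
Traces of the far points of the Suzuki graph on the neighbours of a point, and a two-group fixing one of them.
-/

set_option autoImplicit false
set_option linter.all false
set_option maxRecDepth 100000

noncomputable section

namespace Cfsg.Agent.Lib.SuzUnique

open Cfsg.Agent.CosetCert

/-- The trace of a point. -/
def trace (j : Fin 1782) : Finset (Fin 1782) := setM (traceM j)

theorem mem_trace {j c : Fin 1782} : c ∈ trace j ↔ Adj j c ∧ c ∈ N0 := by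
  rw [trace, mem_setM, traceM, bit_land, Bool.and_eq_true, adj_iff, N0, mem_setM, adjB]

theorem trace_map {h : Equiv.Perm (Fin 1782)} (hh : h ∈ H0) (j c : Fin 1782) :
    h c ∈ trace (h j) ↔ c ∈ trace j := by
  rw [mem_trace, mem_trace, adj_map_iff (H0_le hh)]
  refine and_congr_right' ⟨fun hc => ?_, N0_closed hh⟩
  have := N0_closed (inv_mem hh) hc
  simpa using this

theorem j0_lt : Data.j0 < 1782 := by decide +kernel

theorem j0_mem : j0 ∈ F0 := by
  rw [F0, maskF, mem_reach]
  exact ⟨0, by rw [orbF_spec.2.2.2]; norm_num, by rw [orbF_spec.2.2.1, j0, pt_val j0_lt]⟩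

/-- Only one far point has its trace. -/
theorem eq_j0_of_trace {j : Fin 1782} (hj : j ∈ F0) (h : trace j = trace j0) : j = j0 := by
  rw [F0, maskF, mem_reach] at hj
  obtain ⟨i, hi, e⟩ := hj
  have hu := allUpto_spec.1 trace_unique_ok i hi
  simp only [Bool.or_eq_true, Bool.not_eq_true'] at hu
  rcases hu with hu | hu
  · exact Fin.ext (by rw [← e, Nat.eq_of_beq_eq_true hu, j0, pt_val j0_lt])
  · exfalso
    have heq : traceM (rPt Data.orbF i) = traceM Data.j0 := by
      refine Nat.eq_of_testBit_eq fun d => ?_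
      rw [← bit_eq, ← bit_eq]
      by_cases hd : d < 1782
      · have := Finset.ext_iff.1 h ⟨d, hd⟩
        rw [trace, trace, mem_setM, mem_setM, j0, pt_val j0_lt, ← e] at this
        exact Bool.eq_iff_iff.2 this
      · have hN : bit maskN d = false := by
          by_contra hne
          rw [maskN] at hne
          obtain ⟨k, hk, ek⟩ := bit_maskOf.1 (by simpa using hne)
          exact hd (ek ▸ ((reachOK_spec orbN_spec.1).1 k hk).1)
        rw [traceM, traceM, bit_land, bit_land, hN, Bool.and_false, Bool.and_false]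
    rw [heq] at hu
    simp at hu

theorem stab_trace {h : Equiv.Perm (Fin 1782)} (hh : h ∈ H0) (e : ∀ c, h c ∈ trace j0 ↔ c ∈ trace j0) : h j0 = j0 := by
  refine eq_j0_of_trace (F0_closed hh j0_mem) (Finset.ext fun c => ?_)
  obtain ⟨d, rfl⟩ := h.surjective c
  rw [trace_map hh, e]

/-! ### The two-group -/

/-- The first terms of the series. -/
def UK (i : ℕ) : Subgroup (Equiv.Perm (Fin 1782)) :=
  Subgroup.closure {g | ∃ a, a < i ∧ el (getWord Data.uWords a) = g}

theorem uWord_ok {i : ℕ} (hi : i < 12) : hWord (getWord Data.uWords i) = true ∧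
    el (getWord Data.uWords i) j0 = j0 ∧ el (getWord Data.uWords i) * el (getWord Data.uWords i) ∈ UK i ∧
    ∀ a < i, el (getWord Data.uWords i) * el (getWord Data.uWords a) * (el (getWord Data.uWords i))⁻¹ ∈ UK i := by
  have h := allUpto_spec.1 u_ok i hi
  simp only [uRelOK, Bool.and_eq_true, List.all_eq_true, Nat.blt, Nat.ble_eq, allUpto_spec] at h
  obtain ⟨⟨⟨⟨⟨⟨⟨hsqi, hlen⟩, hcji⟩, -⟩, hw⟩, hj⟩, hsq⟩, hcj⟩ := h
  have hword : ∀ a < i, hWord (getWord Data.uWords a) = true := fun a ha => by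
    have h := allUpto_spec.1 u_ok a (by omega)
    simp only [uRelOK, Bool.and_eq_true] at h
    exact h.1.1.1.2
  have hflat : ∀ l : List ℕ, (∀ a ∈ l, a < i) → hWord (List.flatten (l.map (getWord Data.uWords))) = true ∧
      el (List.flatten (l.map (getWord Data.uWords))) ∈ UK i := by
    intro l hl
    induction l with
    | nil => exact ⟨rfl, one_mem _⟩
    | cons a l ih =>
      obtain ⟨h1, h2⟩ := ih fun b hb => hl b (List.mem_cons_of_mem _ hb)
      have ha := hl a List.mem_cons_self
      refine ⟨?_, ?_⟩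
      · rw [List.map_cons, List.flatten_cons]
        exact lettersOK_iff.2 fun y hy => (List.mem_append.1 hy).elim (lettersOK_iff.1 (hword a ha) y) (lettersOK_iff.1 h1 y)
      · rw [List.map_cons, List.flatten_cons, el_app]
        exact mul_mem h2 (Subgroup.subset_closure ⟨a, ha, rfl⟩)
  refine ⟨hw, Fin.ext ?_, ?_, fun a ha => ?_⟩
  · rw [el_apply (letters7 hw), j0, pt_val j0_lt]
    exact Nat.eq_of_beq_eq_true hj
  · obtain ⟨h1, h2⟩ := hflat _ hsqi
    rw [← el_app, el_eq_of_key (lettersOK_iff.2 fun y hy => (List.mem_append.1 hy).elim (lettersOK_iff.1 hw y)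
      (lettersOK_iff.1 hw y)) h1 (Nat.eq_of_beq_eq_true hsq)]
    exact h2
  · have hm := hcji (getWord (Data.uRels.getD i ([], [])).2 a) (getWord_mem (by rw [Nat.eq_of_beq_eq_true hlen]; exact ha))
    obtain ⟨h1, h2⟩ := hflat _ hm
    have hu : hWord ((getWord Data.uWords i).reverse ++ getWord Data.uWords a ++ getWord Data.uWords i) = true := by
      refine lettersOK_iff.2 fun y hy => ?_
      simp only [List.mem_append, List.mem_reverse] at hy
      rcases hy with (hy | hy) | hy
      exacts [lettersOK_iff.1 hw y hy, lettersOK_iff.1 (hword a ha) y hy, lettersOK_iff.1 hw y hy]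
    have e := el_eq_of_key hu h1 (Nat.eq_of_beq_eq_true (hcj a ha))
    rw [el_app, el_app, el_rev, ← mul_assoc] at e
    rw [e]
    exact h2

theorem UK_isPGroup : ∀ i ≤ 12, IsPGroup 2 (UK i)
  | 0, _ => by
    have : UK 0 = ⊥ := by rw [UK, Subgroup.closure_eq_bot_iff]; rintro g ⟨a, ha, -⟩; omega
    rw [this]
    exact IsPGroup.of_bot
  | i + 1, hi => by
    have ih := UK_isPGroup i (by omega)
    obtain ⟨-, -, hsq, hcj⟩ := uWord_ok (show i < 12 by omega)
    set u := el (getWord Data.uWords i) with hu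
    have hle : UK i ≤ UK (i + 1) := Subgroup.closure_mono fun g ⟨a, ha, e⟩ => ⟨a, by omega, e⟩
    have hnorm : ∀ g ∈ UK i, u * g * u⁻¹ ∈ UK i := by
      intro g hg
      refine closure_induction_perm (Q := fun g => u * g * u⁻¹ ∈ UK i) ?_ (by simpa using one_mem _)
        (fun a b ha hb => by
          rw [show u * (a * b) * u⁻¹ = (u * a * u⁻¹) * (u * b * u⁻¹) by group]; exact mul_mem ha hb) hg
      rintro _ ⟨a, ha, rfl⟩
      exact hcj a ha
    have hnorm' : ∀ g ∈ UK i, u⁻¹ * g * u ∈ UK i := by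
      intro g hg
      have h1 := hnorm g hg
      have := mul_mem (mul_mem (inv_mem hsq) h1) hsq
      rwa [show (u * u)⁻¹ * (u * g * u⁻¹) * (u * u) = u⁻¹ * g * u by group] at this
    have hcos : ∀ g ∈ UK (i + 1), g ∈ UK i ∨ u⁻¹ * g ∈ UK i := by
      intro g hg
      refine closure_induction_perm (Q := fun g => g ∈ UK i ∨ u⁻¹ * g ∈ UK i) ?_ (Or.inl (one_mem _)) ?_ hg
      · rintro _ ⟨a, ha, rfl⟩
        rcases Nat.lt_succ_iff_lt_or_eq.1 ha with ha | rfl
        · exact Or.inl (Subgroup.subset_closure ⟨a, ha, rfl⟩)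
        · exact Or.inr (by rw [← hu, inv_mul_cancel]; exact one_mem _)
      · rintro a b (ha | ha) (hb | hb)
        · exact Or.inl (mul_mem ha hb)
        · refine Or.inr ?_
          rw [show u⁻¹ * (a * b) = (u⁻¹ * a * u) * (u⁻¹ * b) by group]
          exact mul_mem (hnorm' a ha) hb
        · exact Or.inr (by rw [← mul_assoc]; exact mul_mem ha hb)
        · refine Or.inl ?_
          have := mul_mem (mul_mem (hnorm _ ha) hsq) hb
          rwa [show u * (u⁻¹ * a) * u⁻¹ * (u * u) * (u⁻¹ * b) = a * b by group] at this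
    have hcard : Nat.card (UK (i + 1)) ≤ 2 * Nat.card (UK i) := by
      have hsub : (UK (i + 1) : Set (Equiv.Perm (Fin 1782))) ⊆ (UK i : Set _) ∪ (fun g => u * g) '' (UK i : Set _) := by
        intro g hg
        rcases hcos g hg with h | h
        exacts [Or.inl h, Or.inr ⟨_, h, by group⟩]
      rw [← SetLike.coe_sort_coe, Nat.card_coe_set_eq, ← SetLike.coe_sort_coe (UK i), Nat.card_coe_set_eq, two_mul]
      exact (Set.ncard_le_ncard hsub (Set.toFinite _)).trans ((Set.ncard_union_le _ _).trans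
        (Nat.add_le_add_left (Set.ncard_image_le (Set.toFinite _)) _))
    obtain ⟨k, hk⟩ := IsPGroup.iff_card.1 ih
    obtain ⟨m, hm⟩ := Subgroup.card_dvd_of_le hle
    have hm2 : m ≤ 2 := Nat.le_of_mul_le_mul_left (by rw [← hm, mul_comm _ 2]; exact hcard) Nat.card_pos
    have hm0 : m ≠ 0 := fun e => by rw [e, mul_zero] at hm; exact Nat.card_pos.ne' hm
    rcases (show m = 1 ∨ m = 2 by omega) with rfl | rfl
    · exact IsPGroup.of_card (n := k) (by rw [hm, hk, mul_one])
    · exact IsPGroup.of_card (n := k + 1) (by rw [hm, hk, pow_succ])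

/-- The two-group. -/
def UG : Subgroup (Equiv.Perm (Fin 1782)) := UK 12

theorem UG_isPGroup : IsPGroup 2 UG := UK_isPGroup 12 le_rfl

theorem UG_le : UG ≤ H0 :=
  (Subgroup.closure_le _).2 (by rintro _ ⟨a, ha, rfl⟩; exact el_H0' (uWord_ok ha).1)

theorem UG_fix {g : Equiv.Perm (Fin 1782)} (hg : g ∈ UG) : g j0 = j0 := by
  refine closure_induction_perm (Q := fun g => g j0 = j0) ?_ rfl
    (fun a b ha hb => by rw [Equiv.Perm.mul_apply, hb, ha]) hg
  rintro _ ⟨a, ha, rfl⟩
  exact (uWord_ok ha).2.1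

theorem genGrp_uWords : genGrp Data.uWords ≤ UG := by
  refine genGrp_le fun w hw => ?_
  obtain ⟨a, ha, rfl⟩ : ∃ a < 12, getWord Data.uWords a = w := by
    have h : ∀ l : List (List ℕ), ∀ w ∈ l, ∃ a < l.length, getWord l a = w := by
      intro l
      induction l with
      | nil => intro w hw; exact absurd hw List.not_mem_nil
      | cons b l ih =>
        intro w hw
        rcases List.mem_cons.1 hw with rfl | hw
        · exact ⟨0, by simp, rfl⟩
        · obtain ⟨a, ha, e⟩ := ih w hw
          exact ⟨a + 1, by simpa using ha, e⟩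
    have := h _ w hw
    rwa [uWords_len] at this
  exact Subgroup.subset_closure ⟨a, ha, rfl⟩

theorem unionM_spec (orb : ℕ → Tree × ℕ) (s : ℕ) : ∀ {n c : ℕ},
    bit (unionM orb s n) c = true ↔ ∃ k < n, bit s k = true ∧ bit (orbMask (orb k)) c = true
  | 0, c => by simp [unionM, bit_eq]
  | n + 1, c => by
    have ih := unionM_spec orb s (n := n) (c := c)
    show bit (Bool.rec (motive := fun _ => ℕ) (unionM orb s n) (Nat.lor (orbMask (orb n)) (unionM orb s n)) (bit s n)) c = true ↔ _
    cases hs : bit s n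
    · show bit (unionM orb s n) c = true ↔ _
      rw [ih]
      constructor
      · rintro ⟨k, hk, h⟩; exact ⟨k, by omega, h⟩
      · rintro ⟨k, hk, h1, h2⟩
        rcases Nat.lt_succ_iff_lt_or_eq.1 hk with hk | rfl
        exacts [⟨k, hk, h1, h2⟩, by simp [hs] at h1]
    · show bit (Nat.lor (orbMask (orb n)) (unionM orb s n)) c = true ↔ _
      rw [bit_eq, show Nat.lor (orbMask (orb n)) (unionM orb s n) = orbMask (orb n) ||| unionM orb s n from rfl,
        Nat.testBit_or, Bool.or_eq_true, ← bit_eq, ← bit_eq, ih]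
      constructor
      · rintro (h | ⟨k, hk, h⟩)
        exacts [⟨n, by omega, hs, h⟩, ⟨k, by omega, h⟩]
      · rintro ⟨k, hk, h1, h2⟩
        rcases Nat.lt_succ_iff_lt_or_eq.1 hk with hk | rfl
        exacts [Or.inr ⟨k, hk, h1, h2⟩, Or.inl h2]

/-- A bit set with given bits. -/
def selBits (f : ℕ → Bool) : ℕ → ℕ
  | 0 => 0
  | n + 1 => Nat.lor (cond (f n) (2 ^ n) 0) (selBits f n)

theorem selBits_spec (f : ℕ → Bool) : ∀ n, selBits f n < 2 ^ n ∧ ∀ k, bit (selBits f n) k = (decide (k < n) && f k)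
  | 0 => ⟨by simp [selBits], fun k => by simp [selBits, bit_eq]⟩
  | n + 1 => by
    obtain ⟨h1, h2⟩ := selBits_spec f n
    have hc : cond (f n) (2 ^ n) 0 < 2 ^ (n + 1) := by
      cases f n
      · exact Nat.two_pow_pos _
      · exact Nat.pow_lt_pow_right (by norm_num) (by omega)
    refine ⟨Nat.or_lt_two_pow hc (h1.trans (Nat.pow_lt_pow_right (by norm_num) (by omega))), fun k => ?_⟩
    have h2k := h2 k
    rw [bit_eq] at h2k ⊢
    rw [show selBits f (n + 1) = cond (f n) (2 ^ n) 0 ||| selBits f n from rfl, Nat.testBit_or, h2k]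
    rcases Nat.lt_trichotomy k n with h | rfl | h
    · have : (cond (f n) (2 ^ n) 0).testBit k = false := by
        cases f n <;> simp [Nat.testBit_two_pow, (show n ≠ k by omega)]
      rw [this]; simp [h, (show k < n + 1 by omega)]
    · cases hf : f k <;> simp [Nat.testBit_two_pow, hf]
    · have : (cond (f n) (2 ^ n) 0).testBit k = false := by
        cases f n <;> simp [Nat.testBit_two_pow, (show n ≠ k by omega)]
      rw [this]; simp [(show ¬ k < n by omega), (show ¬ k < n + 1 by omega)]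

/-- An invariant set is a union of orbits. -/
theorem union_of_invariant (orb : ℕ → Tree × ℕ) (n : ℕ) (hr : ∀ k < n, reachOK Data.uWords (orb k).1 (orb k).2 = true)
    (M : Finset (Fin 1782)) (hcov : ∀ c ∈ M, bit (unionM orb (2 ^ n - 1) n) c = true)
    (S : Finset (Fin 1782)) (hS : S ⊆ M) (hinv : ∀ g ∈ UG, ∀ c ∈ S, g c ∈ S) :
    ∃ s < 2 ^ n, S = setM (unionM orb s n) := by
  classical
  set f : ℕ → Bool := fun k => decide (pt (rPt (orb k).1 0) ∈ S) with hf
  obtain ⟨h1, h2⟩ := selBits_spec f n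
  refine ⟨selBits f n, h1, Finset.ext fun c => ?_⟩
  rw [mem_setM, unionM_spec]
  have hiff : ∀ k < n, bit (orbMask (orb k)) c = true → (c ∈ S ↔ pt (rPt (orb k).1 0) ∈ S) := by
    intro k hk hc
    obtain ⟨g, hg, e⟩ := reach_mem (hr k hk) (mem_setM.2 hc)
    have hgU := genGrp_uWords hg
    refine ⟨fun h => ?_, fun h => e ▸ hinv g hgU _ h⟩
    have := hinv g⁻¹ (inv_mem hgU) c h
    rwa [← e, Equiv.Perm.coe_inv, Equiv.symm_apply_apply] at this
  constructor
  · intro hc
    obtain ⟨k, hk, -, hk2⟩ := (unionM_spec orb _).1 (hcov c (hS hc))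
    exact ⟨k, hk, by rw [h2]; simp [hk, hf, (hiff k hk hk2).1 hc], hk2⟩
  · rintro ⟨k, hk, hk1, hk2⟩
    rw [h2] at hk1
    simp only [hk, decide_true, Bool.true_and, hf, decide_eq_true_eq] at hk1
    exact (hiff k hk hk2).2 hk1

/-- The ordered adjacent pairs inside a set. -/
def pairs (S : Finset (Fin 1782)) : ℕ := ∑ x ∈ S, (S.filter fun y : Fin 1782 => adjB (x : ℕ) (y : ℕ) = true).card

theorem sum_rec (g : ℕ → ℕ) (p : ℕ → Bool) : ∀ n, Nat.rec (motive := fun _ => ℕ) 0
    (fun x ih => Bool.rec (motive := fun _ => ℕ) ih (Nat.add (g x) ih) (p x)) n =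
      ∑ x ∈ Finset.range n, if p x then g x else 0
  | 0 => rfl
  | n + 1 => by
    rw [Finset.sum_range_succ]
    show Bool.rec (motive := fun _ => ℕ) _ (Nat.add (g n) _) (p n) = _
    rw [sum_rec g p n]
    cases p n
    · simp
    · simp only [↓reduceIte, Nat.add_eq]; omega

theorem pairsIn_eq (m : ℕ) : pairsIn m = pairs (setM m) := by
  unfold pairsIn pairs
  rw [sum_rec (fun x => cntUpto (bit (Nat.land (rowM x) m)) 1782) (bit m) 1782]
  rw [← Fin.sum_univ_eq_sum_range (fun x => if bit m x then cntUpto (bit (Nat.land (rowM x) m)) 1782 else 0) 1782]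
  rw [setM, Finset.sum_filter]
  refine Finset.sum_congr rfl fun x _ => ?_
  split_ifs with h
  · rw [cntUpto_fin]
    congr 1
    ext y
    rw [Finset.mem_filter, Finset.mem_filter, Finset.mem_filter, bit_land, Bool.and_eq_true, adjB]
    simp [and_comm]
  · rfl

/-- A set with 96 points fixed by the two-group and with 1920 ordered adjacent pairs is the trace. -/
theorem trace_of_invariant {S : Finset (Fin 1782)} (hS : S ⊆ N0) (hinv : ∀ g ∈ UG, ∀ c ∈ S, g c ∈ S)
    (hc : S.card = 96) (hp : pairs S = 1920) : S = trace j0 := by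
  obtain ⟨s, hs, e⟩ := union_of_invariant uOrb 5 (allUpto_spec.1 uOrb_ok.1) N0 (fun c hc' => by
    have := allUpto_spec.1 uOrb_ok.2 c c.2
    rw [N0, mem_setM] at hc'
    simpa [hc'] using this) S hS hinv
  have hl := allUpto_spec.1 lenU_ok s hs
  have ht := allUpto_spec.1 trace_cases s hs
  simp only [traceCaseOK, Bool.or_eq_true, Bool.not_eq_true'] at ht
  rw [e, card_setM, Nat.eq_of_beq_eq_true hl] at hc
  rw [e, ← pairsIn_eq] at hp
  rw [hc, hp] at ht
  rcases ht with (ht | ht) | ht
  · simp at ht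
  · rw [e, trace, j0, pt_val j0_lt, Nat.eq_of_beq_eq_true ht]
  · simp at ht

/-- The far neighbours of the chosen far point. -/
def farRow : Finset (Fin 1782) := setM (Nat.land (rowM Data.j0) maskF)

theorem mem_farRow {c : Fin 1782} : c ∈ farRow ↔ Adj j0 c ∧ c ∈ F0 := by
  rw [farRow, mem_setM, bit_land, Bool.and_eq_true, adj_iff, F0, mem_setM, adjB, j0, pt_val j0_lt]

theorem far_of_invariant {S : Finset (Fin 1782)} (hS : S ⊆ F0) (hinv : ∀ g ∈ UG, ∀ c ∈ S, g c ∈ S)
    (hc : S.card = 320) : S = farRow := by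
  obtain ⟨s, hs, e⟩ := union_of_invariant vOrb 6 (allUpto_spec.1 vOrb_ok.1) F0 (fun c hc' => by
    have := allUpto_spec.1 vOrb_ok.2.1 c c.2
    rw [F0, mem_setM] at hc'
    simpa [hc'] using this) S hS hinv
  have hl := allUpto_spec.1 lenV_ok s hs
  have ht := allUpto_spec.1 far_cases s hs
  simp only [farCaseOK, Bool.or_eq_true, Bool.not_eq_true'] at ht
  rw [e, card_setM, Nat.eq_of_beq_eq_true hl] at hc
  rw [hc] at ht
  rcases ht with ht | ht
  · simp at ht
  · rw [e, farRow, Nat.eq_of_beq_eq_true ht]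

end Cfsg.Agent.Lib.SuzUnique
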