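import Cfsg.Agent.Lib.SuzUnique.Basic
import Cfsg.Agent.Lib.SuzUnique.ChkSub0
import Cfsg.Agent.Lib.SuzUnique.ChkSub1
import Cfsg.Agent.Lib.SuzUnique.ChkSub2
import Cfsg.Agent.Lib.SuzUnique.ChkSub3

/-!
A subgroup of index 416 in the stabiliser of a point of the Suzuki graph fixes a neighbour of that point.
-/

set_option autoImplicit false
set_option linter.all false
set_option maxRecDepth 100000

noncomputable section

namespace Cfsg.Agent.Lib.SuzUnique

open Cfsg.Agent.CosetCert
open Cfsg.Agent.InvChar.Coset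

/-! ### The stabiliser of two adjacent points -/

/-- The stabiliser of the second point. -/
def J0 : Subgroup (Equiv.Perm (Fin 1782)) := H0 ⊓ MulAction.stabilizer (Equiv.Perm (Fin 1782)) n0

theorem mem_J0 {g : Equiv.Perm (Fin 1782)} : g ∈ J0 ↔ g ∈ H0 ∧ g n0 = n0 := Iff.rfl

theorem n0_lt : Data.n0 < 1782 := by decide +kernel

theorem n0_mem : n0 ∈ N0 := by
  rw [N0, maskN, mem_reach]
  exact ⟨0, by rw [orbN_spec.2.2.2]; norm_num, by rw [orbN_spec.2.2.1, n0, pt_val n0_lt]⟩

/-- The index of the stabiliser of a neighbour. -/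
theorem card_stab_N0 {p : Fin 1782} (hp : p ∈ N0) :
    416 * Nat.card ↥(H0 ⊓ MulAction.stabilizer (Equiv.Perm (Fin 1782)) p) = 251596800 := by
  have h1 := Subgroup.index_mul_card (MulAction.stabilizer H0 p)
  rw [MulAction.index_stabilizer, card_H0] at h1
  have horb : MulAction.orbit H0 p = ↑N0 := by
    ext c
    constructor
    · rintro ⟨g, rfl⟩; exact N0_closed g.2 hp
    · intro hc
      obtain ⟨a, ha, e1⟩ := N0_reach hp
      obtain ⟨b, hb, e2⟩ := N0_reach (Finset.mem_coe.1 hc)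
      refine ⟨⟨b * a⁻¹, mul_mem hb (inv_mem ha)⟩, ?_⟩
      show (b * a⁻¹) p = c
      rw [Equiv.Perm.mul_apply, ← e1, Equiv.Perm.coe_inv, Equiv.symm_apply_apply, e2]
  rw [horb, Set.ncard_coe_finset, card_N0] at h1
  rw [← h1]
  congr 1
  exact Nat.card_congr ⟨fun g => ⟨⟨g.1, g.2.1⟩, g.2.2⟩, fun g => ⟨g.1.1, g.1.2, g.2⟩, fun _ => rfl, fun _ => rfl⟩

theorem card_stab {p : Fin 1782} (hp : p ∈ N0) :
    Nat.card ↥(H0 ⊓ MulAction.stabilizer (Equiv.Perm (Fin 1782)) p) = 604800 := by
  have := card_stab_N0 hp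
  omega

theorem card_J0 : Nat.card J0 = 604800 := card_stab n0_mem

theorem jGens_fix {w : List ℕ} (hw : w ∈ jGens) : hWord w = true ∧ el w n0 = n0 := by
  have h : ∀ w ∈ jGens, hWord w = true ∧ runW w Data.n0 = Data.n0 := by decide +kernel
  refine ⟨(h w hw).1, Fin.ext ?_⟩
  rw [el_apply (letters7 (h w hw).1), n0, pt_val n0_lt]
  exact (h w hw).2

theorem genGrp_jGens : genGrp jGens = J0 := by
  refine Subgroup.eq_of_le_of_card_ge (genGrp_le fun w hw => mem_J0.2 ⟨el_H0' (jGens_fix hw).1, (jGens_fix hw).2⟩) ?_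
  have e : genGrp jGens = SuzJTwo.HJ.map φ := by
    rw [SuzJTwo.HJ, Cfsg.Agent.CosetCert.subg, MonoidHom.map_closure, genGrp, ← Set.image_comp]
    congr 1
    ext g
    constructor
    · rintro ⟨w, hw, rfl⟩
      simp only [jGens, List.mem_cons, List.not_mem_nil, or_false] at hw
      rcases hw with rfl | rfl | rfl | rfl | rfl <;> exact ⟨_, by simp, (φ_gen _).trans (el_one _).symm⟩
    · rintro ⟨x, hx, rfl⟩
      have hx' : x ∈ [0, 1, 2, 3, 4] := hx
      exact ⟨[x], by simp only [jGens, List.mem_cons, List.not_mem_nil, or_false] at hx' ⊢; rcases hx' with rfl | rfl | rfl | rfl | rfl <;> simp,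
        (el_one x).trans (φ_gen x).symm⟩
  obtain ⟨i⟩ := SuzJTwo.exists_iso
  rw [card_J0, e, Subgroup.card_map_of_injective φ_injective, Nat.card_congr i.toEquiv, Cfsg.Agent.IcoLeech.card_J2]

/-! ### Words -/

theorem hWord_app {u w : List ℕ} (hu : hWord u = true) (hw : hWord w = true) : hWord (u ++ w) = true :=
  lettersOK_iff.2 fun y hy => (List.mem_append.1 hy).elim (lettersOK_iff.1 hu y) (lettersOK_iff.1 hw y)

theorem hWord_rev {u : List ℕ} (hu : hWord u = true) : hWord u.reverse = true :=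
  lettersOK_iff.2 fun y hy => lettersOK_iff.1 hu y (List.mem_reverse.1 hy)

theorem hWord_conj {t w : List ℕ} (ht : hWord t = true) (hw : hWord w = true) : hWord (conjW t w) = true :=
  hWord_app (hWord_app (hWord_rev ht) hw) ht

theorem el_conjW (t w : List ℕ) : el (conjW t w) = el t * el w * (el t)⁻¹ := by
  rw [conjW, el_app, el_app, el_rev, mul_assoc]

theorem hWord_pow {w : List ℕ} (hw : hWord w = true) : ∀ n, hWord (powW w n) = true
  | 0 => rfl
  | n + 1 => hWord_app (hWord_pow hw n) hw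

theorem el_powW (w : List ℕ) : ∀ n, el (powW w n) = el w ^ n
  | 0 => rfl
  | n + 1 => by rw [powW, el_app, el_powW w n, pow_succ']

theorem hWord_get {gl : List (List ℕ)} (h : ∀ g ∈ gl, hWord g = true) {i : ℕ} (hi : i < gl.length) :
    hWord (getWord gl i) = true := h _ (getWord_mem hi)

theorem flat_spec {gl : List (List ℕ)} (h : ∀ g ∈ gl, hWord g = true) {K : Subgroup (Equiv.Perm (Fin 1782))}
    (hK : ∀ g ∈ gl, el g ∈ K) : ∀ {w : List ℕ}, (∀ i ∈ w, i < gl.length) →
    hWord (flatW gl w) = true ∧ el (flatW gl w) ∈ K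
  | [], _ => ⟨rfl, one_mem _⟩
  | i :: w, hw => by
    obtain ⟨h1, h2⟩ := flat_spec h hK (w := w) fun j hj => hw j (List.mem_cons_of_mem _ hj)
    have hi := hw i List.mem_cons_self
    refine ⟨hWord_app (hWord_get h hi) h1, ?_⟩
    show el (getWord gl i ++ flatW gl w) ∈ K
    rw [el_app]
    exact mul_mem h2 (hK _ (getWord_mem hi))

theorem keyOf_congr {u w : List ℕ} (hu : hWord u = true) (hw : hWord w = true) (e : el u = el w) :
    keyOf u = keyOf w := by
  have key : ∀ L : List ℕ, (∀ b ∈ L, b < 1782) →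
      List.rec (motive := fun _ => ℕ) 0 (fun b _ ih => Nat.lor (runW u b) (Nat.shiftLeft ih 11)) L =
        List.rec (motive := fun _ => ℕ) 0 (fun b _ ih => Nat.lor (runW w b) (Nat.shiftLeft ih 11)) L := by
    intro L hL
    induction L with
    | nil => rfl
    | cons a L ih =>
      have ea : runW u a = runW w a := by
        have h1 := el_apply (letters7 hu) (pt a)
        rw [e, el_apply (letters7 hw), pt_val (hL a List.mem_cons_self)] at h1
        exact h1.symm
      show Nat.lor (runW u a) _ = Nat.lor (runW w a) _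
      rw [ea, ih fun b hb => hL b (List.mem_cons_of_mem _ hb)]
  exact key _ fun b hb => levPts_lt hb

theorem jsub {c : ℕ} (hc : c < 1782) (h : bit maskJS c = true ∨ bit maskJL c = true) :
    bit maskN c = true ∧ c ≠ Data.n0 := by
  have hs := split_ok
  simp only [Bool.and_eq_true, Bool.not_eq_true'] at hs
  obtain ⟨⟨⟨⟨⟨-, hout⟩, hnS⟩, hnL⟩, -⟩, -⟩ := hs
  have := allUpto_spec.1 hout c hc
  refine ⟨?_, fun e => ?_⟩
  · rcases h with h | h <;> simpa [h] using this
  · rw [e, hnS, hnL] at h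
    simp at h

theorem J0_stab_small {q : Fin 1782} (h : bit maskJS q = true ∨ bit maskJL q = true) :
    100 * Nat.card ↥(J0 ⊓ MulAction.stabilizer (Equiv.Perm (Fin 1782)) q) ≤ 604800 := by
  have hj := orbJ_ok
  simp only [Bool.and_eq_true] at hj
  obtain ⟨⟨⟨⟨⟨hr1, -⟩, hr2⟩, -⟩, hn1⟩, hn2⟩ := hj
  have key : ∀ (t : Tree) (n : ℕ), reachOK jGens t n = true → 100 ≤ n → bit (maskOf (rPt t) n) q = true →
      100 * Nat.card ↥(J0 ⊓ MulAction.stabilizer (Equiv.Perm (Fin 1782)) q) ≤ 604800 := by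
    intro t n hr hn hq
    obtain ⟨g, hg, e⟩ := reach_mem hr (mem_setM.2 hq)
    rw [genGrp_jGens] at hg
    have h1 := card_stab_le hr (K := J0) genGrp_jGens.le
    rw [card_J0] at h1
    refine le_trans ?_ h1
    refine le_trans (Nat.mul_le_mul_right _ hn) (le_of_eq (congrArg _ ?_))
    refine Nat.card_congr ((MulAut.conj g⁻¹).toEquiv.subtypeEquiv fun k => ?_)
    show k ∈ _ ⊓ _ ↔ g⁻¹ * k * g⁻¹⁻¹ ∈ _ ⊓ _
    simp only [Subgroup.mem_inf, inv_inv, MulAction.mem_stabilizer_iff, Equiv.Perm.smul_def, Equiv.Perm.mul_apply,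
      e, Equiv.Perm.inv_eq_iff_eq]
    rw [Subgroup.mul_mem_cancel_right _ hg, Subgroup.mul_mem_cancel_left _ (inv_mem hg)]
  rcases h with h | h
  · exact key _ _ hr1 (by rw [Nat.eq_of_beq_eq_true hn1]) h
  · exact key _ _ hr2 (by rw [Nat.eq_of_beq_eq_true hn2]; norm_num) h

theorem nthNat_mem : ∀ {l : List ℕ} {i : ℕ}, i < l.length → nthNat l i ∈ l
  | [], i, h => absurd h (by simp)
  | a :: l, 0, _ => List.mem_cons_self
  | a :: l, i + 1, h => List.mem_cons_of_mem _ (nthNat_mem (l := l) (i := i) (by simpa using h))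

theorem memN_fst {α : Type} {l : List (ℕ × α)} {a : ℕ} (h : memN (l.map Prod.fst) a = true) :
    ∃ c ∈ l, c.1 = a := by
  simp only [memN, List.any_eq_true, List.mem_map] at h
  obtain ⟨b, ⟨c, hc, rfl⟩, e⟩ := h
  exact ⟨c, hc, Nat.eq_of_beq_eq_true e⟩

/-! ### The conjugates of the element of order three -/

theorem basics : hWord Data.three = true ∧ hWord Data.seven = true ∧ el Data.seven ^ 7 = 1 ∧ el Data.seven ≠ 1 ∧
    el Data.three ^ 3 = 1 ∧ el Data.three ≠ 1 := by
  have h := n_ok.2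
  simp only [Bool.and_eq_true, Bool.not_eq_true'] at h
  obtain ⟨⟨⟨⟨⟨⟨h1, h2⟩, h3⟩, h4⟩, h5⟩, h6⟩, -⟩ := h
  refine ⟨h1, h2, ?_, ?_, ?_, ?_⟩
  · rw [← el_powW]; exact el_eq_one_of_key (hWord_pow h2 7) (Nat.eq_of_beq_eq_true h3)
  · intro e
    refine absurd ?_ (Bool.eq_false_iff.1 h4)
    have : keyOf Data.seven = keyOf [] := keyOf_congr h2 rfl (by rw [e]; rfl)
    rw [this]; exact Nat.beq_refl _
  · rw [← el_powW]; exact el_eq_one_of_key (hWord_pow h1 3) (Nat.eq_of_beq_eq_true h5)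
  · intro e
    refine absurd ?_ (Bool.eq_false_iff.1 h6)
    have : keyOf Data.three = keyOf [] := keyOf_congr h1 rfl (by rw [e]; rfl)
    rw [this]; exact Nat.beq_refl _

/-- The conjugate with a number. -/
def zE (k : ℕ) : Equiv.Perm (Fin 1782) := el (zWord k)

theorem zKey_spec {k : ℕ} (hk : k < 2080) :
    hWord (zWord k) = true ∧ keyOf (zWord k) = Data.zKey.get k ∧ keyOf (zWord k).reverse = Data.zKeyInv.get k := by
  have h : zKeyOK k = true := by
    rcases Nat.lt_or_ge k 416 with h1 | h1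
    · exact allFrom_spec zKey_0 (by omega) (by omega)
    rcases Nat.lt_or_ge k 832 with h2 | h2
    · exact allFrom_spec zKey_1 (by omega) (by omega)
    rcases Nat.lt_or_ge k 1248 with h3 | h3
    · exact allFrom_spec zKey_2 (by omega) (by omega)
    rcases Nat.lt_or_ge k 1664 with h4 | h4
    · exact allFrom_spec zKey_3 (by omega) (by omega)
    · exact allFrom_spec zKey_4 (by omega) (by omega)
  simp only [zKeyOK, Bool.and_eq_true] at h
  exact ⟨h.1.1, Nat.eq_of_beq_eq_true h.1.2, Nat.eq_of_beq_eq_true h.2⟩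

theorem eq_of_signKey {w : List ℕ} (hw : hWord w = true) {k s : ℕ} (hk : k < 2080) (h : keyOf w = signKey k s) :
    el w = zE k ∨ el w = (zE k)⁻¹ := by
  obtain ⟨h1, h2, h3⟩ := zKey_spec hk
  unfold signKey at h
  cases e : Nat.beq s 1 <;> rw [e] at h
  · refine Or.inr ?_
    rw [zE, ← el_rev]
    exact el_eq_of_key hw (hWord_rev h1) (h.trans h3.symm)
  · exact Or.inl (el_eq_of_key hw h1 (h.trans h2.symm))

theorem pm_mem {K : Subgroup (Equiv.Perm (Fin 1782))} {g a : Equiv.Perm (Fin 1782)} (h : g = a ∨ g = a⁻¹) :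
    g ∈ K ↔ a ∈ K := by rcases h with rfl | rfl <;> simp

theorem zE_zero : zE 0 = el Data.three := by
  have h := n_ok.2
  simp only [Bool.and_eq_true] at h
  have e := Nat.eq_of_beq_eq_true h.2
  rw [zE, zWord, zPathW, wordAt, e]
  show el (conjW [] Data.three) = _
  rw [el_conjW]
  simp [el_nil]

/-- Every conjugate is one of the list, up to inversion. -/
theorem zE_conj {h : Equiv.Perm (Fin 1782)} (hh : h ∈ H0) : ∀ k < 2080,
    ∃ l < 2080, h * zE k * h⁻¹ = zE l ∨ h * zE k * h⁻¹ = (zE l)⁻¹ := by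
  refine closure_induction_perm (Q := fun h => ∀ k < 2080,
    ∃ l < 2080, h * zE k * h⁻¹ = zE l ∨ h * zE k * h⁻¹ = (zE l)⁻¹) ?_ ?_ ?_ hh
  · rintro _ ⟨x, hx, rfl⟩ k hk
    have hx' : x < 6 := hx
    have h : zStepOK k = true := by
      rcases Nat.lt_or_ge k 208 with h1 | h1
      · exact allFrom_spec zStep_0 (by omega) (by omega)
      rcases Nat.lt_or_ge k 416 with h2 | h2
      · exact allFrom_spec zStep_1 (by omega) (by omega)
      rcases Nat.lt_or_ge k 624 with h3 | h3
      · exact allFrom_spec zStep_2 (by omega) (by omega)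
      rcases Nat.lt_or_ge k 832 with h4 | h4
      · exact allFrom_spec zStep_3 (by omega) (by omega)
      rcases Nat.lt_or_ge k 1040 with h5 | h5
      · exact allFrom_spec zStep_4 (by omega) (by omega)
      rcases Nat.lt_or_ge k 1248 with h6 | h6
      · exact allFrom_spec zStep_5 (by omega) (by omega)
      rcases Nat.lt_or_ge k 1456 with h7 | h7
      · exact allFrom_spec zStep_6 (by omega) (by omega)
      rcases Nat.lt_or_ge k 1664 with h8 | h8
      · exact allFrom_spec zStep_7 (by omega) (by omega)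
      rcases Nat.lt_or_ge k 1872 with h9 | h9
      · exact allFrom_spec zStep_8 (by omega) (by omega)
      · exact allFrom_spec zStep_9 (by omega) (by omega)
    have h' := allUpto_spec.1 h x hx'
    simp only [zStepOne, Bool.and_eq_true, Nat.blt, Nat.ble_eq] at h'
    have hw : hWord [x] = true := lettersOK_iff.2 fun y hy => by rw [List.mem_singleton] at hy; omega
    refine ⟨_, h'.1, ?_⟩
    have := eq_of_signKey (hWord_conj hw (zKey_spec hk).1) h'.1 (Nat.eq_of_beq_eq_true h'.2)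
    rw [el_conjW, el_one] at this
    exact this
  · exact fun k hk => ⟨k, hk, Or.inl (by group)⟩
  · intro a b ha hb k hk
    obtain ⟨l, hl, e⟩ := hb k hk
    obtain ⟨m, hm, e'⟩ := ha l hl
    refine ⟨m, hm, ?_⟩
    have eab : a * b * zE k * (a * b)⁻¹ = a * (b * zE k * b⁻¹) * a⁻¹ := by group
    rw [eab]
    rcases e with e | e <;> rw [e]
    · exact e'
    · rw [show a * (zE l)⁻¹ * a⁻¹ = (a * zE l * a⁻¹)⁻¹ by group]
      rcases e' with e' | e' <;> rw [e']
      · exact Or.inr rfl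
      · exact Or.inl (inv_inv _)

theorem zE_pow {k : ℕ} : zE k ^ 3 = 1 := by
  rw [zE, zWord, el_conjW, conj_pow, basics.2.2.2.2.1]
  group

/-! ### Sylow -/

theorem exists_conj_le {p : ℕ} [Fact p.Prime] {J P : Subgroup (Equiv.Perm (Fin 1782))} (hJ : J ≤ H0) (hP : P ≤ H0)
    (hp : IsPGroup p P) (hidx : ¬ p ∣ (J.subgroupOf H0).index) :
    ∃ h ∈ H0, ∀ g ∈ P, h * g * h⁻¹ ∈ J := by
  have hPp : IsPGroup p (P.subgroupOf H0) := hp.of_equiv (Subgroup.subgroupOfEquivOfLe hP).symm
  obtain ⟨Q, hQ⟩ := hPp.exists_le_sylow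
  obtain ⟨S⟩ := (inferInstance : Nonempty (Sylow p (J.subgroupOf H0)))
  set R : Subgroup H0 := (S : Subgroup _).map (J.subgroupOf H0).subtype with hR
  have hRc : Nat.card R = p ^ (Nat.card H0).factorization p := by
    rw [hR, Subgroup.card_map_of_injective (Subgroup.subtype_injective _), S.card_eq_multiplicity,
      ← (J.subgroupOf H0).card_mul_index, Nat.factorization_mul Nat.card_pos.ne' Subgroup.index_ne_zero_of_finite,
      Finsupp.add_apply, Nat.factorization_eq_zero_of_not_dvd hidx, add_zero]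
  obtain ⟨g, hg⟩ := MulAction.exists_smul_eq H0 Q (Sylow.ofCard R hRc)
  refine ⟨g, g.2, fun x hx => ?_⟩
  have h1 : MulAut.conj g (⟨x, hP hx⟩ : H0) ∈ ((g • Q : Sylow p H0) : Subgroup H0) := by
    rw [Sylow.coe_subgroup_smul]
    exact Subgroup.smul_mem_pointwise_smul _ _ _ (hQ hx)
  rw [hg] at h1
  obtain ⟨y, -, hy⟩ := h1
  have h2 : (MulAut.conj g (⟨x, hP hx⟩ : H0)) ∈ J.subgroupOf H0 := hy ▸ y.2
  exact h2

/-! ### The conclusion -/

/-- The subgroup fixes a neighbour. -/
def Fixes (J : Subgroup (Equiv.Perm (Fin 1782))) : Prop := ∃ p ∈ N0, ∀ g ∈ J, g p = p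

theorem Fixes.of_conj {J : Subgroup (Equiv.Perm (Fin 1782))} {h : Equiv.Perm (Fin 1782)} (hh : h ∈ H0)
    (H : Fixes (J.map (MulAut.conj h).toMonoidHom)) : Fixes J := by
  obtain ⟨p, hp, hfix⟩ := H
  refine ⟨h⁻¹ p, N0_closed (inv_mem hh) hp, fun g hg => ?_⟩
  have := hfix _ (Subgroup.mem_map_of_mem _ hg)
  simp only [MulEquiv.coe_toMonoidHom, MulAut.conj_apply, Equiv.Perm.mul_apply] at this
  exact h.injective (this.trans (by simp))

section Cases

variable {J : Subgroup (Equiv.Perm (Fin 1782))} (hJ : J ≤ H0) (hc : Nat.card J = 604800)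
include hJ hc

theorem thirteen_false {gl : List (List ℕ)} (hgl : ∀ g ∈ gl, hWord g = true ∧ el g ∈ J) {w : List ℕ}
    (h : thirteenOK gl w = true) : False := by
  simp only [thirteenOK, Bool.and_eq_true, List.all_eq_true, Nat.blt, Nat.ble_eq, Bool.not_eq_true'] at h
  obtain ⟨⟨h1, h2⟩, h3⟩ := h
  obtain ⟨hw, hm⟩ := flat_spec (fun g hg => (hgl g hg).1) (fun g hg => (hgl g hg).2) h1
  have e1 : el (flatW gl w) ^ 13 = 1 := by
    rw [← el_powW]; exact el_eq_one_of_key (hWord_pow hw 13) (Nat.eq_of_beq_eq_true h2)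
  have e2 : el (flatW gl w) ≠ 1 := by
    intro e
    refine absurd ?_ (Bool.eq_false_iff.1 h3)
    rw [keyOf_congr (w := []) hw rfl (e.trans el_nil.symm)]
    exact Nat.beq_refl _
  have h13 : orderOf (⟨_, hm⟩ : J) = 13 := by
    haveI : Fact (Nat.Prime 13) := ⟨by norm_num⟩
    exact orderOf_eq_prime (Subtype.ext e1) (fun e => e2 (congrArg Subtype.val e))
  have := orderOf_dvd_natCard (⟨_, hm⟩ : J)
  rw [h13, hc] at this
  norm_num at this

theorem point_fixes {gl : List (List ℕ)} (hgl : ∀ g ∈ gl, hWord g = true ∧ el g ∈ J) {p : ℕ} {t : List ℕ}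
    {ws : List (List ℕ)} (h : pointOK gl p t ws = true) : Fixes J := by
  simp only [pointOK, Bool.and_eq_true, List.all_eq_true, Nat.blt, Nat.ble_eq, allUpto_spec] at h
  obtain ⟨⟨⟨⟨ht, -⟩, hl⟩, hws⟩, hk⟩ := h
  refine ⟨el t n0, N0_closed (el_H0' ht) n0_mem, ?_⟩
  have hsub : J0.map (MulAut.conj (el t)).toMonoidHom ≤ J := by
    rw [← genGrp_jGens, genGrp, MonoidHom.map_closure, Subgroup.closure_le]
    rintro _ ⟨g, ⟨w, hw, rfl⟩, rfl⟩
    obtain ⟨x, hx, rfl⟩ : ∃ x < 5, w = [x] := by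
      simp only [jGens, List.mem_cons, List.not_mem_nil, or_false] at hw
      rcases hw with rfl | rfl | rfl | rfl | rfl <;> exact ⟨_, by norm_num, rfl⟩
    have hxw : getWord ws x ∈ ws := getWord_mem (by rw [Nat.eq_of_beq_eq_true hl]; exact hx)
    obtain ⟨hfw, hfm⟩ := flat_spec (fun g hg => (hgl g hg).1) (fun g hg => (hgl g hg).2) (hws _ hxw)
    have e := el_eq_of_key hfw (hWord_conj ht (lettersOK_iff.2 fun y hy => by
      rw [List.mem_singleton] at hy; omega)) (Nat.eq_of_beq_eq_true (hk x hx))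
    rw [el_conjW] at e
    show el t * el [x] * (el t)⁻¹ ∈ J
    rw [← e]
    exact hfm
  have heq := Subgroup.eq_of_le_of_card_ge hsub (by
    rw [hc, Subgroup.card_map_of_injective (MulAut.conj (el t)).injective, card_J0])
  intro g hg
  rw [← heq] at hg
  obtain ⟨k, hk', rfl⟩ := hg
  show (el t * k * (el t)⁻¹) (el t n0) = el t n0
  rw [Equiv.Perm.mul_apply, Equiv.Perm.mul_apply, Equiv.Perm.coe_inv, Equiv.symm_apply_apply, (mem_J0.1 hk').2]

theorem class_mem {D : CaseC} (hD : ∀ k < 2080, cClassOK D k = true) (hz : D.z < 2080)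
    (h7 : el Data.seven ∈ J) (hzJ : zE D.z ∈ J) : ∀ n j, j < 2080 → cRank D j = n →
    nthNat D.reps (cR D j) < 2080 →
    (zE j ∈ J ↔ zE (nthNat D.reps (cR D j)) ∈ J) ∧
      (zE (nthNat D.reps (cR D j)) ∈ Subgroup.closure {el Data.seven, zE D.z} →
        zE j ∈ Subgroup.closure {el Data.seven, zE D.z}) := by
  intro n
  induction n with
  | zero =>
    intro j hj hn hr
    have h := hD j hj
    simp only [cClassOK, hn, Nat.beq, Bool.and_eq_true] at h
    rw [Nat.eq_of_beq_eq_true h.2]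
    exact ⟨Iff.rfl, id⟩
  | succ n ih =>
    intro j hj hn hr
    have h := hD j hj
    simp only [cClassOK, hn, Nat.beq, Bool.and_eq_true, Nat.blt, Nat.ble_eq] at h
    obtain ⟨-, ⟨⟨ha, hR⟩, hrank⟩, hkey⟩ := h
    have hR' := Nat.eq_of_beq_eq_true hR
    obtain ⟨ih1, ih2⟩ := ih (cA D j) ha (Nat.succ_injective (Nat.eq_of_beq_eq_true hrank))
      (by rw [hR']; exact hr)
    rw [hR'] at ih1 ih2
    have hu : hWord (getWord (glTwo D.z) (cG D j)) = true ∧ el (getWord (glTwo D.z) (cG D j)) ∈ J ∧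
        el (getWord (glTwo D.z) (cG D j)) ∈ Subgroup.closure {el Data.seven, zE D.z} := by
      have hg : cG D j < 2 := lt_of_le_of_lt Nat.and_le_right (by norm_num)
      have hm : getWord (glTwo D.z) (cG D j) ∈ glTwo D.z := getWord_mem (by show cG D j < 2; exact hg)
      simp only [glTwo, List.mem_cons, List.not_mem_nil, or_false] at hm
      rcases hm with e | e <;> simp only [glTwo, e]
      exacts [⟨basics.2.1, h7, Subgroup.subset_closure (Or.inl rfl)⟩,
        ⟨(zKey_spec hz).1, hzJ, Subgroup.subset_closure (Or.inr rfl)⟩]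
    have e := eq_of_signKey (hWord_conj hu.1 (zKey_spec ha).1) hj (Nat.eq_of_beq_eq_true hkey)
    rw [el_conjW] at e
    refine ⟨?_, fun h => ?_⟩
    · rw [← pm_mem e, Subgroup.mul_mem_cancel_right _ (inv_mem hu.2.1), Subgroup.mul_mem_cancel_left _ hu.2.1]
      exact ih1
    · rw [← pm_mem e]
      exact mul_mem (mul_mem hu.2.2 (ih2 h)) (inv_mem hu.2.2)

theorem caseC_fixes {D : CaseC} (hD : caseCOK D = true) (hcl : ∀ k < 2080, cClassOK D k = true)
    (h7 : el Data.seven ∈ J) (hzJ : zE D.z ∈ J) (hreps : ∀ r ∈ D.reps, r < 2080) : Fixes J := by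
  simp only [caseCOK, Bool.and_eq_true, Nat.blt, Nat.ble_eq, allUpto_spec, List.all_eq_true, Bool.or_eq_true] at hD
  obtain ⟨⟨⟨⟨⟨⟨⟨⟨⟨⟨⟨⟨⟨⟨⟨⟨hz, hp⟩, hq⟩, htp⟩, htpn⟩, hsv⟩, hsvk⟩, hf1⟩, hf2⟩, hf3⟩, hf4⟩, hmov⟩, hqorb⟩, hcov⟩, hA⟩, hB⟩, hC⟩ := hD
  have hgl3 : ∀ j, j < 2080 → zE j ∈ J → ∀ g ∈ glThree D.z j, hWord g = true ∧ el g ∈ J := by
    intro j hj hjJ g hg
    simp only [glThree, List.mem_cons, List.not_mem_nil, or_false] at hg
    rcases hg with rfl | rfl | rfl
    exacts [⟨basics.2.1, h7⟩, ⟨(zKey_spec hz).1, hzJ⟩, ⟨(zKey_spec hj).1, hjJ⟩]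
  set U : Subgroup (Equiv.Perm (Fin 1782)) := Subgroup.closure {el Data.seven, zE D.z} with hU
  by_cases hall : ∀ k < 2080, zE k ∈ J → zE k ∈ U
  · exfalso
    have hp' : (runW D.tp Data.n0) = D.p := Nat.eq_of_beq_eq_true htpn
    have elp : el D.tp n0 = pt D.p := Fin.ext (by rw [el_apply (letters7 htp), n0, pt_val n0_lt, pt_val hp, hp'])
    have hUfix : ∀ u ∈ U, u (pt D.p) = pt D.p ∧ u (pt D.q) = pt D.q := by
      intro u hu
      refine closure_induction_perm (Q := fun u => u (pt D.p) = pt D.p ∧ u (pt D.q) = pt D.q) ?_ ⟨rfl, rfl⟩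
        (fun a b ha hb => ⟨by rw [Equiv.Perm.mul_apply, hb.1, ha.1], by rw [Equiv.Perm.mul_apply, hb.2, ha.2]⟩) hu
      rintro _ (rfl | rfl) <;> constructor <;> refine Fin.ext ?_
      · rw [el_apply (letters7 basics.2.1), pt_val hp]; exact Nat.eq_of_beq_eq_true hf1
      · rw [el_apply (letters7 basics.2.1), pt_val hq]; exact Nat.eq_of_beq_eq_true hf2
      · rw [zE, el_apply (letters7 (zKey_spec hz).1), pt_val hp]; exact Nat.eq_of_beq_eq_true hf3
      · rw [zE, el_apply (letters7 (zKey_spec hz).1), pt_val hq]; exact Nat.eq_of_beq_eq_true hf4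
    have hUJ : U ≤ J := (Subgroup.closure_le _).2 (by rintro _ (rfl | rfl) <;> assumption)
    -- the subgroup is normal
    have hconj : ∀ g ∈ J, g * zE D.z * g⁻¹ ∈ U := by
      intro g hg
      obtain ⟨l, hl, e⟩ := zE_conj (hJ hg) D.z hz
      rw [pm_mem e]
      exact hall l hl ((pm_mem e).1 (mul_mem (mul_mem hg hzJ) (inv_mem hg)))
    have hnorm : ∀ g ∈ J, ∀ u ∈ U, g * u * g⁻¹ ∈ U := by
      intro g hg u hu
      let K : Subgroup (Equiv.Perm (Fin 1782)) := U.comap (MulAut.conj g).toMonoidHom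
      suffices U ≤ K from this hu
      have hzK : zE D.z ∈ K := hconj g hg
      have h7K : el Data.seven ∈ K := by
        have hgl : ∀ a ∈ sevenGl D.z, hWord a = true ∧ el a ∈ K := by
          have hc' : ∀ i, hWord (conjW (powW Data.seven i) (zWord D.z)) = true ∧
              el (conjW (powW Data.seven i) (zWord D.z)) ∈ K := by
            intro i
            refine ⟨hWord_conj (hWord_pow basics.2.1 i) (zKey_spec hz).1, ?_⟩
            rw [el_conjW, el_powW]
            show g * (el Data.seven ^ i * zE D.z * (el Data.seven ^ i)⁻¹) * g⁻¹ ∈ U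
            rw [show g * (el Data.seven ^ i * zE D.z * (el Data.seven ^ i)⁻¹) * g⁻¹ =
              (g * el Data.seven ^ i) * zE D.z * (g * el Data.seven ^ i)⁻¹ by group]
            exact hconj _ (mul_mem hg (pow_mem h7 i))
          intro a ha
          simp only [sevenGl, List.mem_cons, List.not_mem_nil, or_false] at ha
          rcases ha with rfl | rfl | rfl | rfl | rfl | rfl | rfl
          · exact ⟨(zKey_spec hz).1, hzK⟩
          · have := hc' 1
            simpa [powW] using this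
          all_goals exact hc' _
        obtain ⟨hw, hm⟩ := flat_spec (fun a ha => (hgl a ha).1) (fun a ha => (hgl a ha).2) (w := D.sv) hsv
        rw [← el_eq_of_key hw basics.2.1 (Nat.eq_of_beq_eq_true hsvk)]
        exact hm
      exact (Subgroup.closure_le _).2 (by rintro _ (rfl | rfl) <;> assumption)
    -- the two fixed points are permuted
    have hperm : ∀ g ∈ J, g (pt D.p) = pt D.p ∨ g (pt D.p) = pt D.q := by
      intro g hg
      have hpN : pt D.p ∈ N0 := elp ▸ N0_closed (el_H0' htp) n0_mem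
      have hgp : g (pt D.p) ∈ N0 := N0_closed (hJ hg) hpN
      have hfix : ∀ u ∈ U, u (g (pt D.p)) = g (pt D.p) := by
        intro u hu
        have := (hUfix _ (hnorm g⁻¹ (inv_mem hg) u hu)).1
        simp only [inv_inv, Equiv.Perm.mul_apply] at this
        exact Equiv.Perm.inv_eq_iff_eq.1 this
      rw [N0, maskN, mem_reach] at hgp
      obtain ⟨i, hi, e⟩ := hgp
      have hm := hmov i hi
      rw [e] at hm
      rcases hm with ((hm | hm) | hm) | hm
      · exact Or.inl (Fin.ext ((Nat.eq_of_beq_eq_true hm).trans (pt_val hp).symm))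
      · exact Or.inr (Fin.ext ((Nat.eq_of_beq_eq_true hm).trans (pt_val hq).symm))
      · exfalso
        have := congrArg Fin.val (hfix _ (Subgroup.subset_closure (Or.inl rfl)))
        rw [el_apply (letters7 basics.2.1)] at this
        simp [this] at hm
      · exfalso
        have := congrArg Fin.val (hfix _ (Subgroup.subset_closure (Or.inr rfl)))
        rw [zE, el_apply (letters7 (zKey_spec hz).1)] at this
        simp [this] at hm
    -- counting
    set Jp : Subgroup (Equiv.Perm (Fin 1782)) := J ⊓ MulAction.stabilizer (Equiv.Perm (Fin 1782)) (pt D.p) with hJp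
    have hhalf : 604800 ≤ 2 * Nat.card Jp := by
      have h1 := Subgroup.index_mul_card (MulAction.stabilizer J (pt D.p))
      rw [MulAction.index_stabilizer, hc] at h1
      have h2 : (MulAction.orbit J (pt D.p)).ncard ≤ 2 := by
        refine (Set.ncard_le_ncard (t := {pt D.p, pt D.q}) ?_ (Set.toFinite _)).trans
          ((Set.ncard_insert_le _ _).trans (by rw [Set.ncard_singleton]))
        rintro _ ⟨g, rfl⟩
        exact hperm g g.2
      rw [← h1, show Nat.card Jp = Nat.card (MulAction.stabilizer J (pt D.p)) from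
        Nat.card_congr ⟨fun g => ⟨⟨g.1, g.2.1⟩, g.2.2⟩, fun g => ⟨g.1.1, g.1.2, g.2⟩, fun _ => rfl, fun _ => rfl⟩]
      exact Nat.mul_le_mul_right _ h2
    -- and they fix the other point
    set q' : Fin 1782 := (el D.tp)⁻¹ (pt D.q) with hq'
    have hq'v : (q' : ℕ) = runW D.tp.reverse D.q := by
      rw [hq', ← el_rev, el_apply (letters7 (hWord_rev htp)), pt_val hq]
    have hle : Jp.map (MulAut.conj (el D.tp)⁻¹).toMonoidHom ≤ J0 ⊓ MulAction.stabilizer (Equiv.Perm (Fin 1782)) q' := by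
      rintro _ ⟨g, ⟨hg, hgp⟩, rfl⟩
      have hgp' : g (pt D.p) = pt D.p := hgp
      have hgq : g (pt D.q) = pt D.q := by
        obtain ⟨a, ha⟩ : ∃ a, g a = pt D.q := g.surjective _
        have hfix : ∀ u ∈ U, u (g (pt D.q)) = g (pt D.q) := by
          intro u hu
          have := (hUfix _ (hnorm g⁻¹ (inv_mem hg) u hu)).2
          simp only [inv_inv, Equiv.Perm.mul_apply] at this
          exact Equiv.Perm.inv_eq_iff_eq.1 this
        have hqN : pt D.q ∈ N0 := by
          have : q' ∈ N0 := by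
            rw [N0, mem_setM, hq'v]
            exact (jsub (runW_lt (letters7 (hWord_rev htp)) hq) hqorb).1
          have := N0_closed (el_H0' htp) this
          simpa [hq'] using this
        have hgq' := N0_closed (hJ hg) hqN
        rw [N0, maskN, mem_reach] at hgq'
        obtain ⟨i, hi, e⟩ := hgq'
        have hm := hmov i hi
        rw [e] at hm
        rcases hm with ((hm | hm) | hm) | hm
        · exfalso
          have e' : g (pt D.q) = g (pt D.p) := hgp'.symm ▸ Fin.ext ((Nat.eq_of_beq_eq_true hm).trans (pt_val hp).symm)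
          have e2 : pt D.q = pt D.p := g.injective e'
          have : q' = n0 := by rw [hq', e2, ← elp]; simp
          rw [this, n0, pt_val n0_lt] at hq'v
          exact (jsub (runW_lt (letters7 (hWord_rev htp)) hq) hqorb).2 hq'v.symm
        · exact Fin.ext ((Nat.eq_of_beq_eq_true hm).trans (pt_val hq).symm)
        · exfalso
          have := congrArg Fin.val (hfix _ (Subgroup.subset_closure (Or.inl rfl)))
          rw [el_apply (letters7 basics.2.1)] at this
          simp [this] at hm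
        · exfalso
          have := congrArg Fin.val (hfix _ (Subgroup.subset_closure (Or.inr rfl)))
          rw [zE, el_apply (letters7 (zKey_spec hz).1)] at this
          simp [this] at hm
      refine ⟨mem_J0.2 ⟨mul_mem (mul_mem (inv_mem (el_H0' htp)) (hJ hg)) (inv_mem (inv_mem (el_H0' htp))), ?_⟩, ?_⟩
      · show ((el D.tp)⁻¹ * g * (el D.tp)⁻¹⁻¹) n0 = n0
        rw [inv_inv, Equiv.Perm.mul_apply, Equiv.Perm.mul_apply, elp, hgp', ← elp]
        simp
      · show ((el D.tp)⁻¹ * g * (el D.tp)⁻¹⁻¹) q' = q'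
        rw [inv_inv, Equiv.Perm.mul_apply, Equiv.Perm.mul_apply, hq']
        simp [hgq]
    have hcount := Subgroup.card_le_of_le hle
    rw [Subgroup.card_map_of_injective (MulAut.conj (el D.tp)⁻¹).injective] at hcount
    have h100 := J0_stab_small (q := q') (by rw [hq'v]; exact hqorb)
    omega
  · push Not at hall
    obtain ⟨k, hk, hkJ, hkU⟩ := hall
    have h := hcl k hk
    simp only [cClassOK, Bool.and_eq_true, Nat.blt, Nat.ble_eq] at h
    have hrep : nthNat D.reps (cR D k) ∈ D.reps := nthNat_mem h.1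
    have hcases := hcov _ hrep
    have hlt : nthNat D.reps (cR D k) < 2080 := hreps _ hrep
    obtain ⟨e1, e2⟩ := class_mem hJ hc hcl hz h7 hzJ _ k hk rfl hlt
    have hrJ := e1.1 hkJ
    rcases hcases with (hm | hm) | hm
    · obtain ⟨c, hc1, hc2⟩ := memN_fst hm
      rw [← hc2] at hrJ hlt
      exact (thirteen_false hJ hc (hgl3 _ hlt hrJ) (hA c hc1)).elim
    · obtain ⟨c, hc1, hc2⟩ := memN_fst hm
      rw [← hc2] at hrJ hlt
      exact point_fixes hJ hc (hgl3 _ hlt hrJ) (hB c hc1)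
    · obtain ⟨c, hc1, hc2⟩ := memN_fst hm
      refine absurd (e2 ?_) hkU
      have hin := hC c hc1
      simp only [cInOK, Bool.and_eq_true, List.all_eq_true, Nat.blt, Nat.ble_eq] at hin
      have hgl : ∀ g ∈ glTwo D.z, hWord g = true ∧ el g ∈ U := by
        intro g hg
        simp only [glTwo, List.mem_cons, List.not_mem_nil, or_false] at hg
        rcases hg with rfl | rfl
        exacts [⟨basics.2.1, Subgroup.subset_closure (Or.inl rfl)⟩,
          ⟨(zKey_spec hz).1, Subgroup.subset_closure (Or.inr rfl)⟩]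
      obtain ⟨hw, hm'⟩ := flat_spec (fun g hg => (hgl g hg).1) (fun g hg => (hgl g hg).2) hin.1
      rw [← hc2] at hlt ⊢
      show el (zWord c.1) ∈ U
      rw [← el_eq_of_key hw (zKey_spec hlt).1 (Nat.eq_of_beq_eq_true hin.2)]
      exact hm'

end Cases


theorem reps_small : (∀ r ∈ cc0.reps, r < 2080) ∧ (∀ r ∈ cc1.reps, r < 2080) ∧ cc0.z < 2080 ∧ cc1.z < 2080 ∧
    Data.caseD < 2080 := by decide +kernel

theorem cc_class {k : ℕ} (hk : k < 2080) : cClassOK cc0 k = true ∧ cClassOK cc1 k = true := by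
  rcases Nat.lt_or_ge k 520 with h1 | h1
  · exact ⟨allFrom_spec cc0Class_0 (by omega) (by omega), allFrom_spec cc1Class_0 (by omega) (by omega)⟩
  rcases Nat.lt_or_ge k 1040 with h2 | h2
  · exact ⟨allFrom_spec cc0Class_1 (by omega) (by omega), allFrom_spec cc1Class_1 (by omega) (by omega)⟩
  rcases Nat.lt_or_ge k 1560 with h3 | h3
  · exact ⟨allFrom_spec cc0Class_2 (by omega) (by omega), allFrom_spec cc1Class_2 (by omega) (by omega)⟩
  · exact ⟨allFrom_spec cc0Class_3 (by omega) (by omega), allFrom_spec cc1Class_3 (by omega) (by omega)⟩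

theorem zClass_spec {k : ℕ} (hk : k < 2080) : zClassOK k = true := by
  rcases Nat.lt_or_ge k 416 with h1 | h1
  · exact allFrom_spec zClass_0 (by omega) (by omega)
  rcases Nat.lt_or_ge k 832 with h2 | h2
  · exact allFrom_spec zClass_1 (by omega) (by omega)
  rcases Nat.lt_or_ge k 1248 with h3 | h3
  · exact allFrom_spec zClass_2 (by omega) (by omega)
  rcases Nat.lt_or_ge k 1664 with h4 | h4
  · exact allFrom_spec zClass_3 (by omega) (by omega)
  · exact allFrom_spec zClass_4 (by omega) (by omega)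

theorem zE_orbit {k : ℕ} (hk : k < 2080) : ∃ t ∈ H0, zE k = t * zE 0 * t⁻¹ := by
  have hw := lettersOK_iff.1 (zKey_spec hk).1
  refine ⟨el (zPathW k), el_H0 fun y hy => hw y ?_, ?_⟩
  · rw [zWord, conjW]; exact List.mem_append_right _ hy
  · rw [zE_zero, zE, zWord, el_conjW]

/-- A subgroup of index 416 does not keep one of the conjugates. -/
theorem exists_other {J : Subgroup (Equiv.Perm (Fin 1782))} (hJ : J ≤ H0) (hc : Nat.card J = 604800)
    {r : ℕ} (hr : r < 2080) (hrJ : zE r ∈ J) : ∃ l < 2080, l ≠ r ∧ zE l ∈ J := by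
  by_contra hno
  push Not at hno
  have hkeep : ∀ g ∈ J, g * zE r * g⁻¹ = zE r ∨ g * zE r * g⁻¹ = (zE r)⁻¹ := by
    intro g hg
    obtain ⟨l, hl, e⟩ := zE_conj (hJ hg) r hr
    by_cases h : l = r
    · exact h ▸ e
    · exact absurd ((pm_mem e).1 (mul_mem (mul_mem hg hrJ) (inv_mem hg))) (hno l hl h)
  obtain ⟨t, ht, et⟩ := zE_orbit hr
  have hpick : ∀ i : Fin 417, ∃ a ∈ H0, zE i = a * zE r * a⁻¹ := by
    intro i
    obtain ⟨a, ha, ea⟩ := zE_orbit (show (i : ℕ) < 2080 by omega)
    refine ⟨a * t⁻¹, mul_mem ha (inv_mem ht), ?_⟩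
    rw [ea, et]; group
  choose a ha hza using hpick
  have hinj : Function.Injective fun p : Fin 417 × J => (⟨a p.1 * p.2, mul_mem (ha p.1) (hJ p.2.2)⟩ : H0) := by
    rintro ⟨i, g⟩ ⟨l, k⟩ e
    have e' : a i * g = a l * k := congrArg Subtype.val e
    have key : ∀ (i l : Fin 417) (g k : J), a i * g = a l * k → zE i = zE l ∨ zE i = (zE l)⁻¹ := by
      intro i l g k e'
      have : a i = a l * (k * (g : Equiv.Perm (Fin 1782))⁻¹) := by rw [← mul_assoc, ← e', mul_inv_cancel_right]
      rw [hza i, hza l, this, show a l * (k * (g : Equiv.Perm (Fin 1782))⁻¹) * zE r * (a l * (k * (g : Equiv.Perm (Fin 1782))⁻¹))⁻¹ =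
        a l * ((k * (g : Equiv.Perm (Fin 1782))⁻¹) * zE r * (k * (g : Equiv.Perm (Fin 1782))⁻¹)⁻¹) * (a l)⁻¹ by group]
      rcases hkeep _ (mul_mem k.2 (inv_mem g.2)) with h | h <;> rw [h]
      · exact Or.inl rfl
      · exact Or.inr (by group)
    have hne : ∀ i l : Fin 417, (i : ℕ) < l → zE i ≠ zE l ∧ zE i ≠ (zE l)⁻¹ := by
      intro i l hil
      have h := distinct_ok
      simp only [distinctOK, allUpto_spec, Bool.and_eq_true, Bool.not_eq_true'] at h
      obtain ⟨h1, h2⟩ := h l l.2 i hil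
      obtain ⟨wi, ki, -⟩ := zKey_spec (show (i : ℕ) < 2080 by omega)
      obtain ⟨wl, kl, kl'⟩ := zKey_spec (show (l : ℕ) < 2080 by omega)
      refine ⟨fun e => ?_, fun e => ?_⟩
      · have := keyOf_congr wi wl e
        rw [ki, kl] at this
        rw [this] at h1; simp at h1
      · have := keyOf_congr wi (hWord_rev wl) (by rw [el_rev]; exact e)
        rw [ki, kl'] at this
        rw [this] at h2; simp at h2
    have hil : i = l := by
      rcases Nat.lt_trichotomy i l with h | h | h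
      · rcases key i l g k e' with e2 | e2
        exacts [absurd e2 (hne i l h).1, absurd e2 (hne i l h).2]
      · exact Fin.ext h
      · rcases key l i k g e'.symm with e2 | e2
        exacts [absurd e2 (hne l i h).1, absurd e2 (hne l i h).2]
    subst hil
    exact Prod.ext rfl (Subtype.ext (mul_left_cancel e'))
  have := Nat.card_le_card_of_injective _ hinj
  rw [Nat.card_prod, Nat.card_fin, hc, card_H0] at this
  norm_num at this

/-- A subgroup of index 416 fixes a neighbour. -/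
theorem fixes_point {J : Subgroup (Equiv.Perm (Fin 1782))} (hJ : J ≤ H0) (hc : Nat.card J = 604800) : Fixes J := by
  have hidx : (J.subgroupOf H0).index = 416 := by
    have h := (J.subgroupOf H0).card_mul_index
    rw [Nat.card_congr (Subgroup.subgroupOfEquivOfLe hJ).toEquiv, hc, card_H0] at h
    omega
  have h3 : ∃ h ∈ H0, h * el Data.three * h⁻¹ ∈ J := by
    haveI : Fact (Nat.Prime 3) := ⟨by norm_num⟩
    have ho : orderOf (el Data.three) = 3 := orderOf_eq_prime basics.2.2.2.2.1 basics.2.2.2.2.2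
    obtain ⟨h, hh, hm⟩ := exists_conj_le (p := 3) hJ (P := Subgroup.zpowers (el Data.three))
      (Subgroup.zpowers_le.2 (el_H0' basics.1))
      (IsPGroup.of_card (n := 1) (by rw [Nat.card_zpowers, ho]; norm_num)) (by rw [hidx]; norm_num)
    exact ⟨h, hh, hm _ (Subgroup.mem_zpowers _)⟩
  haveI : Fact (Nat.Prime 7) := ⟨by norm_num⟩
  have ho : orderOf (el Data.seven) = 7 := orderOf_eq_prime basics.2.2.1 basics.2.2.2.1
  obtain ⟨g, hg, hm⟩ := exists_conj_le (p := 7) hJ (P := Subgroup.zpowers (el Data.seven))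
    (Subgroup.zpowers_le.2 (el_H0' basics.2.1))
    (IsPGroup.of_card (n := 1) (by rw [Nat.card_zpowers, ho]; norm_num)) (by rw [hidx]; norm_num)
  -- now it contains the element of order seven
  refine Fixes.of_conj (inv_mem hg) ?_
  set J1 := J.map (MulAut.conj g⁻¹).toMonoidHom with hJ1
  have hJ1le : J1 ≤ H0 := by
    rintro _ ⟨x, hx, rfl⟩
    exact mul_mem (mul_mem (inv_mem hg) (hJ hx)) (inv_mem (inv_mem hg))
  have hc1 : Nat.card J1 = 604800 := by
    rw [hJ1, Subgroup.card_map_of_injective (MulAut.conj g⁻¹).injective, hc]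
  have h7 : el Data.seven ∈ J1 := ⟨_, hm _ (Subgroup.mem_zpowers _), by
    show g⁻¹ * (g * el Data.seven * g⁻¹) * g⁻¹⁻¹ = el Data.seven
    group⟩
  -- and a conjugate of the element of order three
  obtain ⟨k, hk, hkJ⟩ : ∃ k < 2080, zE k ∈ J1 := by
    obtain ⟨h, hh, hm3⟩ := h3
    obtain ⟨k, hk, e⟩ := zE_conj (mul_mem (inv_mem hg) hh) 0 (by norm_num)
    refine ⟨k, hk, (pm_mem e).1 ⟨_, hm3, ?_⟩⟩
    show g⁻¹ * (h * el Data.three * h⁻¹) * g⁻¹⁻¹ = g⁻¹ * h * zE 0 * (g⁻¹ * h)⁻¹
    rw [zE_zero]; group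
  -- reduce to the representatives
  have reduce : ∀ k < 2080, zE k ∈ J1 → ∃ n ∈ H0, repAt (clsR k) < 2080 ∧ clsR k < Data.repList.length ∧
      el Data.seven ∈ J1.map (MulAut.conj n⁻¹).toMonoidHom ∧ zE (repAt (clsR k)) ∈ J1.map (MulAut.conj n⁻¹).toMonoidHom := by
    intro k hk hkJ
    have h := zClass_spec hk
    simp only [zClassOK, Bool.and_eq_true, Nat.blt, Nat.ble_eq] at h
    obtain ⟨⟨⟨h1, h2⟩, h3'⟩, h4⟩ := h
    have hn := allUpto_spec.1 n_ok.1 _ h2
    simp only [nOK, Bool.and_eq_true] at hn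
    set n := el (nWord (clsN k)) with hn'
    have e := eq_of_signKey (hWord_conj hn.1 (zKey_spec h3').1) hk (Nat.eq_of_beq_eq_true h4)
    rw [el_conjW] at e
    have e7 := el_eq_of_key (hWord_conj hn.1 basics.2.1) (hWord_pow basics.2.1 _) (Nat.eq_of_beq_eq_true hn.2)
    rw [el_conjW, el_powW] at e7
    refine ⟨n, el_H0' hn.1, h3', h1, ?_, ⟨n * zE (repAt (clsR k)) * n⁻¹, (pm_mem e).2 hkJ, by
      show n⁻¹ * (n * zE (repAt (clsR k)) * n⁻¹) * n⁻¹⁻¹ = _
      group⟩⟩
    refine ⟨n * el Data.seven * n⁻¹, ?_, by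
      show n⁻¹ * (n * el Data.seven * n⁻¹) * n⁻¹⁻¹ = _
      group⟩
    rw [e7]
    exact pow_mem h7 _
  have main : ∀ k < 2080, zE k ∈ J1 → Fixes J1 ∨ k = Data.caseD := by
    intro k hk hkJ
    obtain ⟨n, hn, hr, hrl, hn7, hnz⟩ := reduce k hk hkJ
    set J2 := J1.map (MulAut.conj n⁻¹).toMonoidHom with hJ2
    have hJ2le : J2 ≤ H0 := by
      rintro _ ⟨x, hx, rfl⟩
      exact mul_mem (mul_mem (inv_mem hn) (hJ1le hx)) (inv_mem (inv_mem hn))
    have hc2 : Nat.card J2 = 604800 := by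
      rw [hJ2, Subgroup.card_map_of_injective (MulAut.conj n⁻¹).injective, hc1]
    have fin : Fixes J2 → Fixes J1 := Fixes.of_conj (inv_mem hn)
    have h := cover_ok
    simp only [coverOK, Bool.and_eq_true, allUpto_spec, Bool.or_eq_true, Bool.not_eq_true'] at h
    have hgl : ∀ r, r = repAt (clsR k) → ∀ a ∈ glTwo r, hWord a = true ∧ el a ∈ J2 := by
      rintro r rfl a ha
      simp only [glTwo, List.mem_cons, List.not_mem_nil, or_false] at ha
      rcases ha with rfl | rfl
      exacts [⟨basics.2.1, hn7⟩, ⟨(zKey_spec hr).1, hnz⟩]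
    rcases h.1 _ hrl with (((hm | hm) | hm) | hm) | hm
    · obtain ⟨c, hc', e⟩ := memN_fst hm
      exact (thirteen_false hJ2le hc2 (hgl _ e) (List.all_eq_true.1 caseA_ok c hc')).elim
    · obtain ⟨c, hc', e⟩ := memN_fst hm
      exact Or.inl (fin (point_fixes hJ2le hc2 (hgl _ e) (List.all_eq_true.1 caseB_ok c hc')))
    · exact Or.inl (fin (caseC_fixes hJ2le hc2 cc0_ok (fun j hj => (cc_class hj).1) hn7
        (Nat.eq_of_beq_eq_true hm ▸ hnz) reps_small.1))
    · exact Or.inl (fin (caseC_fixes hJ2le hc2 cc1_ok (fun j hj => (cc_class hj).2) hn7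
        (Nat.eq_of_beq_eq_true hm ▸ hnz) reps_small.2.1))
    · refine Or.inr ?_
      rcases h.2 k hk with h' | h'
      · rw [Nat.eq_of_beq_eq_true hm] at h'; simp at h'
      · exact Nat.eq_of_beq_eq_true h'
  rcases main k hk hkJ with h | rfl
  · exact h
  · obtain ⟨l, hl, hne, hlJ⟩ := exists_other hJ1le hc1 hk hkJ
    exact (main l hl hlJ).resolve_right hne

end Cfsg.Agent.Lib.SuzUnique
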