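import Cfsg.Agent.Lib.SuzUnique.Rank3
import Cfsg.Agent.Lib.SuzUnique.Sub416
import Cfsg.Agent.Lib.SuzUnique.GraphFacts
import Cfsg.Agent.Lib.SuzUnique.Aut

/-!
A transitive group of degree 1782 with suborbits 1, 416, 1365 and the stabiliser of the Suzuki graph preserves a
graph isomorphic to the Suzuki graph, and so is the Suzuki group.
-/

set_option autoImplicit false
set_option linter.all false
set_option maxRecDepth 100000

noncomputable section

namespace Cfsg.Agent.Lib.SuzUnique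

open Cfsg.Agent.CosetCert

theorem n0_ne : n0 ≠ o0 := fun e => o0_not.1 (e ▸ n0_mem)

theorem j0_ne : j0 ≠ o0 := fun e => o0_not.2 (e ▸ j0_mem)

theorem not_both {c : Fin 1782} (h1 : c ∈ N0) (h2 : c ∈ F0) : False := by
  rcases three_kinds c with rfl | ⟨-, -, h⟩ | ⟨-, h, -⟩
  exacts [o0_not.1 h1, h h2, h h1]

theorem mem_genJ {g : Equiv.Perm (Fin 1782)} (hg : g ∈ genGrp jGens) : g ∈ H0 ∧ g n0 = n0 :=
  mem_J0.1 (genGrp_jGens ▸ hg)

theorem jOrbit_facts : (setM maskJS).card = 100 ∧ (setM maskJL).card = 315 ∧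
    reachOK jGens Data.orbJS Data.orbJSLen = true ∧ reachOK jGens Data.orbJL Data.orbJLLen = true := by
  have h := orbJ_ok
  simp only [Bool.and_eq_true] at h
  obtain ⟨⟨⟨⟨⟨hr1, -⟩, hr2⟩, -⟩, hn1⟩, hn2⟩ := h
  exact ⟨(reachOK_spec hr1).2.trans (Nat.eq_of_beq_eq_true hn1),
    (reachOK_spec hr2).2.trans (Nat.eq_of_beq_eq_true hn2), hr1, hr2⟩

theorem jSplit {c : Fin 1782} :
    (c ∈ setM maskJS ↔ Adj n0 c ∧ c ∈ N0) ∧
    (c ∈ N0 → c ≠ n0 → c ∈ setM maskJS ∨ c ∈ setM maskJL) := by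
  have hs := split_ok
  simp only [Bool.and_eq_true] at hs
  obtain ⟨⟨⟨⟨⟨⟨-, hsp⟩, -⟩, -⟩, -⟩, hrow⟩, -⟩ := hs
  constructor
  · rw [mem_setM, adj_iff, N0, mem_setM, adjB, n0, pt_val n0_lt, ← Bool.and_eq_true, ← bit_land,
      Nat.eq_of_beq_eq_true hrow]
  · intro hc hne
    rw [N0, mem_setM] at hc
    have := allUpto_spec.1 hsp c c.2
    simp only [hc, Bool.not_true, Bool.false_or, Bool.or_eq_true] at this
    rcases this with h | h
    · exact absurd (Fin.ext ((Nat.eq_of_beq_eq_true h).trans (pt_val n0_lt).symm)) hne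
    · rw [mem_setM, mem_setM]
      cases h1 : bit maskJS c <;> cases h2 : bit maskJL c <;> simp [h1, h2] at h ⊢

theorem common_model {x y : Fin 1782} (hx : x ∈ N0) (hy : y ∈ N0) (h : Adj x y) :
    (N0.filter fun d : Fin 1782 => adjB (x : ℕ) (d : ℕ) = true ∧ adjB (y : ℕ) (d : ℕ) = true).card = 36 := by
  obtain ⟨g, hg, rfl⟩ := N0_reach hx
  obtain ⟨y', rfl⟩ := g.surjective y
  have hy' : y' ∈ N0 := by
    have := N0_closed (inv_mem hg) hy
    simpa using this
  have h' : Adj n0 y' := (adj_map_iff (H0_le hg)).1 h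
  have e : (N0.filter fun d : Fin 1782 => adjB (g n0 : ℕ) (d : ℕ) = true ∧ adjB (g y' : ℕ) (d : ℕ) = true) =
      (N0.filter fun d : Fin 1782 => adjB (n0 : ℕ) (d : ℕ) = true ∧ adjB (y' : ℕ) (d : ℕ) = true).image g := by
    ext d
    obtain ⟨d', rfl⟩ := g.surjective d
    simp only [Finset.mem_filter, Finset.mem_image, g.injective.eq_iff, exists_eq_right, ← adj_iff,
      adj_map_iff (H0_le hg)]
    refine and_congr_left' ⟨fun hd => ?_, N0_closed hg⟩
    have := N0_closed (inv_mem hg) hd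
    simpa using this
  rw [e, Finset.card_image_of_injective _ g.injective]
  have hS : bit maskJS y' = true := mem_setM.1 (jSplit.1.2 ⟨h', hy'⟩)
  have hc := allUpto_spec.1 common_ok y' y'.2
  simp only [hS, Bool.not_true, Bool.false_or] at hc
  rw [← Nat.eq_of_beq_eq_true hc, ← card_setM]
  congr 1
  ext d
  rw [Finset.mem_filter, mem_setM, bit_land, bit_land, N0, mem_setM, n0, adjB, adjB, pt_val n0_lt]
  simp only [Bool.and_eq_true]
  tauto

attribute [local irreducible] N0 F0 trace farRow maskN maskF adjB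

set_option maxHeartbeats 1000000

namespace Setup

variable {Ω : Type*} [Fintype Ω] [DecidableEq Ω] {G : Subgroup (Equiv.Perm Ω)} (S : Setup Ω G)

theorem stab_a (g : MulAction.stabilizer G S.a) : g • S.a = S.a := g.2

theorem R_stab (g : MulAction.stabilizer G S.a) (x y : Ω) : S.R (g • x) (g • y) ↔ S.R x y :=
  S.R_smul (g : G) x y

theorem R_a_stab (g : MulAction.stabilizer G S.a) (x : Ω) : S.R S.a (g • x) ↔ S.R S.a x := by
  have h := S.R_stab g S.a x
  rwa [S.stab_a g] at h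

/-- The stabiliser of a point, in the model. -/
def img (z : Ω) : Subgroup (Equiv.Perm (Fin 1782)) :=
  (MulAction.stabilizer (MulAction.stabilizer G S.a) z).map (H0.subtype.comp S.ψ.toMonoidHom)

theorem mem_img {z : Ω} {g : MulAction.stabilizer G S.a} : (S.ψ g : Equiv.Perm (Fin 1782)) ∈ S.img z ↔ g • z = z := by
  constructor
  · rintro ⟨k, hk, e⟩
    have : k = g := S.ψ.injective (Subtype.ext e)
    exact this ▸ hk
  · exact fun h => ⟨g, h, rfl⟩

theorem img_le (z : Ω) : S.img z ≤ H0 := by rintro _ ⟨g, -, rfl⟩; exact (S.ψ g).2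

theorem card_img (z : Ω) : (MulAction.orbit (MulAction.stabilizer G S.a) z).ncard * Nat.card (S.img z) = 251596800 := by
  rw [img, Subgroup.card_map_of_injective (show Function.Injective (H0.subtype.comp S.ψ.toMonoidHom) from
    fun a b e => S.ψ.injective (Subtype.ext e)), ← MulAction.index_stabilizer,
    Subgroup.index_mul_card, (Nat.card_congr S.ψ.toEquiv).trans card_H0]

theorem exists_b : ∃ b', b' ∈ MulAction.orbit (MulAction.stabilizer G S.a) S.b ∧
    ∀ g : MulAction.stabilizer G S.a, (S.ψ g : Equiv.Perm (Fin 1782)) n0 = n0 ↔ g • b' = b' := by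
  have hc := S.card_img S.b
  rw [S.hb] at hc
  obtain ⟨p, hp, hfix⟩ := fixes_point (S.img_le S.b) (by omega)
  obtain ⟨h, hh, rfl⟩ := N0_reach hp
  have heq : S.img S.b = H0 ⊓ MulAction.stabilizer (Equiv.Perm (Fin 1782)) (h n0) :=
    Subgroup.eq_of_le_of_card_ge (fun g hg => ⟨S.img_le _ hg, hfix g hg⟩) (by rw [card_stab hp]; omega)
  set k := S.ψ.symm ⟨h, hh⟩ with hk
  refine ⟨k⁻¹ • S.b, ⟨k⁻¹, rfl⟩, fun g => ?_⟩
  have e : (S.ψ (k * g * k⁻¹) : Equiv.Perm (Fin 1782)) = h * (S.ψ g : Equiv.Perm (Fin 1782)) * h⁻¹ := by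
    rw [map_mul, map_mul, map_inv, hk, MulEquiv.apply_symm_apply]; rfl
  calc (S.ψ g : Equiv.Perm (Fin 1782)) n0 = n0 ↔ (S.ψ (k * g * k⁻¹) : Equiv.Perm (Fin 1782)) (h n0) = h n0 := by
        rw [e, Equiv.Perm.mul_apply, Equiv.Perm.mul_apply, Equiv.Perm.coe_inv, Equiv.symm_apply_apply,
          h.injective.eq_iff]
    _ ↔ (S.ψ (k * g * k⁻¹) : Equiv.Perm (Fin 1782)) ∈ S.img S.b := by
        rw [heq, Subgroup.mem_inf, MulAction.mem_stabilizer_iff]
        exact ⟨fun h => ⟨(S.ψ _).2, h⟩, And.right⟩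
    _ ↔ g • k⁻¹ • S.b = k⁻¹ • S.b := by
        rw [mem_img, mul_smul, mul_smul, eq_inv_smul_iff]

/-- The neighbour with the stabiliser of the model. -/
def b' : Ω := S.exists_b.choose

theorem b'_mem : S.R S.a S.b' := (S.R_a_iff _).2 S.exists_b.choose_spec.1

theorem b'_stab (g : MulAction.stabilizer G S.a) : (S.ψ g : Equiv.Perm (Fin 1782)) n0 = n0 ↔ g • S.b' = S.b' :=
  S.exists_b.choose_spec.2 g

open Classical in
/-- The point corresponding to a point of an orbit of the model. -/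
def lift (c0 : Fin 1782) (z0 : Ω) (c : Fin 1782) : Ω :=
  if h : ∃ g : MulAction.stabilizer G S.a, (S.ψ g : Equiv.Perm (Fin 1782)) c0 = c then h.choose • z0 else S.a

/-- A point of the model and a point with the same stabiliser. -/
def Same (c0 : Fin 1782) (z0 : Ω) : Prop :=
  ∀ g : MulAction.stabilizer G S.a, (S.ψ g : Equiv.Perm (Fin 1782)) c0 = c0 ↔ g • z0 = z0

theorem lift_eq {c0 : Fin 1782} {z0 : Ω} (hs : S.Same c0 z0) (g : MulAction.stabilizer G S.a) :
    S.lift c0 z0 ((S.ψ g : Equiv.Perm (Fin 1782)) c0) = g • z0 := by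
  have hex : ∃ k : MulAction.stabilizer G S.a, (S.ψ k : Equiv.Perm (Fin 1782)) c0 = (S.ψ g : Equiv.Perm (Fin 1782)) c0 := ⟨g, rfl⟩
  rw [lift, dif_pos hex]
  have := (hs (g⁻¹ * hex.choose)).1 (by
    rw [map_mul, map_inv, Subgroup.coe_mul, Equiv.Perm.mul_apply, hex.choose_spec, Subgroup.coe_inv,
      Equiv.Perm.coe_inv, Equiv.symm_apply_apply])
  rwa [mul_smul, inv_smul_eq_iff] at this

theorem lift_inj {c0 : Fin 1782} {z0 : Ω} (hs : S.Same c0 z0) (g k : MulAction.stabilizer G S.a)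
    (e : g • z0 = k • z0) : (S.ψ g : Equiv.Perm (Fin 1782)) c0 = (S.ψ k : Equiv.Perm (Fin 1782)) c0 := by
  have h := (hs (k⁻¹ * g)).2 (by rw [mul_smul, e, inv_smul_smul])
  rw [map_mul, map_inv, Subgroup.coe_mul, Equiv.Perm.mul_apply, Subgroup.coe_inv, Equiv.Perm.inv_eq_iff_eq] at h
  exact h

theorem exists_N0 {c : Fin 1782} (hc : c ∈ N0) : ∃ g : MulAction.stabilizer G S.a, (S.ψ g : Equiv.Perm (Fin 1782)) n0 = c := by
  obtain ⟨h, hh, rfl⟩ := N0_reach hc
  exact ⟨S.ψ.symm ⟨h, hh⟩, by rw [MulEquiv.apply_symm_apply]⟩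

theorem exists_F0 {c : Fin 1782} (hc : c ∈ F0) : ∃ g : MulAction.stabilizer G S.a, (S.ψ g : Equiv.Perm (Fin 1782)) j0 = c := by
  obtain ⟨h, hh, rfl⟩ := F0_reach hc
  exact ⟨S.ψ.symm ⟨h, hh⟩, by rw [MulEquiv.apply_symm_apply]⟩

/-- The neighbour with a number. -/
def γ (c : Fin 1782) : Ω := S.lift n0 S.b' c

theorem γ_eq (g : MulAction.stabilizer G S.a) : S.γ ((S.ψ g : Equiv.Perm (Fin 1782)) n0) = g • S.b' :=
  S.lift_eq S.b'_stab g

theorem γ_act (g : MulAction.stabilizer G S.a) {c : Fin 1782} (hc : c ∈ N0) :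
    S.γ ((S.ψ g : Equiv.Perm (Fin 1782)) c) = g • S.γ c := by
  obtain ⟨k, rfl⟩ := S.exists_N0 hc
  rw [← Equiv.Perm.mul_apply, ← Subgroup.coe_mul, ← map_mul, S.γ_eq, S.γ_eq, mul_smul]

theorem γ_n0 : S.γ n0 = S.b' := by
  have := S.γ_eq 1
  rwa [map_one, Subgroup.coe_one, Equiv.Perm.one_apply, one_smul] at this

theorem R_a_γ {c : Fin 1782} (hc : c ∈ N0) : S.R S.a (S.γ c) := by
  obtain ⟨g, rfl⟩ := S.exists_N0 hc
  rw [S.γ_eq, S.R_a_stab]
  exact S.b'_mem

theorem γ_injOn : Set.InjOn S.γ N0 := by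
  intro c hc d hd e
  obtain ⟨g, rfl⟩ := S.exists_N0 (Finset.mem_coe.1 hc)
  obtain ⟨k, rfl⟩ := S.exists_N0 (Finset.mem_coe.1 hd)
  rw [S.γ_eq, S.γ_eq] at e
  exact S.lift_inj S.b'_stab g k e

theorem exists_γ {x : Ω} (h : S.R S.a x) : ∃ c ∈ N0, S.γ c = x := by
  obtain ⟨g, hg⟩ := (S.R_a_iff x).1 h
  obtain ⟨k, hk⟩ := (S.R_a_iff _).1 S.b'_mem
  refine ⟨(S.ψ (g * k⁻¹) : Equiv.Perm (Fin 1782)) n0, N0_closed (S.ψ _).2 n0_mem, ?_⟩
  rw [S.γ_eq, mul_smul, show k⁻¹ • S.b' = S.b from inv_smul_eq_iff.2 hk.symm]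
  exact hg

theorem image_common {p : Ω → Prop} [DecidablePred p] :
    (N0.filter fun c => p (S.γ c)).image S.γ = (S.N S.a).filter p := by
  ext x
  simp only [Finset.mem_image, Finset.mem_filter, mem_N]
  constructor
  · rintro ⟨c, ⟨hc, h⟩, rfl⟩
    exact ⟨S.R_a_γ hc, h⟩
  · rintro ⟨h1, h2⟩
    obtain ⟨c, hc, rfl⟩ := S.exists_γ h1
    exact ⟨c, ⟨hc, h2⟩, rfl⟩

theorem card_common {p : Ω → Prop} [DecidablePred p] :
    (N0.filter fun c => p (S.γ c)).card = ((S.N S.a).filter p).card := by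
  rw [← S.image_common, Finset.card_image_of_injOn (S.γ_injOn.mono fun c hc => ?_)]
  exact (Finset.mem_filter.1 hc).1

/-- The neighbours of the first neighbour among the neighbours. -/
def O : Finset (Fin 1782) := N0.filter fun c => S.R S.b' (S.γ c)

theorem card_O : S.O.card = S.lam := by
  rw [O, S.card_common, ← S.common_R S.b'_mem]
  congr 1
  ext x
  simp only [Finset.mem_filter, Finset.mem_inter, mem_N]

theorem O_invariant {g : Equiv.Perm (Fin 1782)} (hg : g ∈ genGrp jGens) {c : Fin 1782} (hc : c ∈ S.O) : g c ∈ S.O := by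
  obtain ⟨hgH, hgn⟩ := mem_genJ hg
  simp only [O, Finset.mem_filter] at hc ⊢
  refine ⟨N0_closed hgH hc.1, ?_⟩
  obtain ⟨k, hk⟩ := S.ψ.surjective ⟨g, hgH⟩
  have hkg : (S.ψ k : Equiv.Perm (Fin 1782)) = g := congrArg Subtype.val hk
  have hb := (S.b'_stab k).1 (by rw [hkg]; exact hgn)
  rw [← hkg, S.γ_act k hc.1, ← hb, S.R_stab]
  exact hc.2

theorem O_orbit {t : Tree} {n : ℕ} (hr : reachOK jGens t n = true) (h : ∃ c ∈ setM (maskOf (rPt t) n), c ∈ S.O) :
    setM (maskOf (rPt t) n) ⊆ S.O := by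
  obtain ⟨c, hc, hcO⟩ := h
  obtain ⟨g, hg, e⟩ := reach_mem hr hc
  intro d hd
  obtain ⟨k, hk, e'⟩ := reach_mem hr hd
  have h0 := S.O_invariant (inv_mem hg) hcO
  rw [← e, Equiv.Perm.coe_inv, Equiv.symm_apply_apply] at h0
  exact e' ▸ S.O_invariant hk h0

theorem lam_and_O : S.lam = 100 ∧ S.O = setM maskJS := by
  obtain ⟨hS, hL, hrS, hrL⟩ := jOrbit_facts
  have hn : n0 ∉ S.O := fun h => by
    simp only [O, Finset.mem_filter, S.γ_n0] at h
    exact S.not_R_self _ h.2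
  have hsub : S.O ⊆ setM maskJS ∪ setM maskJL := fun c hc =>
    Finset.mem_union.2 (jSplit.2 (Finset.mem_filter.1 hc).1 fun e => hn (e ▸ hc))
  have hS' : (∀ c ∈ setM maskJS, c ∉ S.O) ∨ setM maskJS ⊆ S.O := by
    by_cases h : ∃ c ∈ setM maskJS, c ∈ S.O
    exacts [Or.inr (S.O_orbit hrS h), Or.inl fun c hc hO => h ⟨c, hc, hO⟩]
  have hL' : (∀ c ∈ setM maskJL, c ∉ S.O) ∨ setM maskJL ⊆ S.O := by
    by_cases h : ∃ c ∈ setM maskJL, c ∈ S.O
    exacts [Or.inr (S.O_orbit hrL h), Or.inl fun c hc hO => h ⟨c, hc, hO⟩]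
  have he := S.count_edges
  have hle := S.lam_lt
  have hne := S.lam_ne
  rcases hS' with hS' | hS' <;> rcases hL' with hL' | hL'
  · have : S.O = ∅ := Finset.eq_empty_of_forall_notMem fun c hc =>
      (Finset.mem_union.1 (hsub hc)).elim (fun h => hS' c h hc) fun h => hL' c h hc
    have := this ▸ S.card_O
    simp at this
    omega
  · have : S.O = setM maskJL := Finset.Subset.antisymm
      (fun c hc => (Finset.mem_union.1 (hsub hc)).resolve_left fun h => hS' c h hc) hL'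
    have := this ▸ S.card_O
    omega
  · have hO : S.O = setM maskJS := Finset.Subset.antisymm
      (fun c hc => (Finset.mem_union.1 (hsub hc)).resolve_right fun h => hL' c h hc) hS'
    exact ⟨by rw [← S.card_O, hO, hS], hO⟩
  · exfalso
    have heq : S.O = setM maskJS ∪ setM maskJL := Finset.Subset.antisymm hsub (Finset.union_subset hS' hL')
    have hd : Disjoint (setM maskJS) (setM maskJL) := Finset.disjoint_left.2 fun c h1 h2 => by
      have hs := split_ok
      simp only [Bool.and_eq_true, Bool.not_eq_true'] at hs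
      obtain ⟨⟨⟨⟨⟨⟨-, hsp⟩, -⟩, hnS⟩, -⟩, -⟩, -⟩ := hs
      have h3 := (jSplit (c := c)).1.1 h1
      have := allUpto_spec.1 hsp c c.2
      rw [N0, mem_setM] at h3
      rw [mem_setM] at h1 h2
      simp only [h3.2, h1, h2, Bool.not_true, Bool.false_or, bne_self_eq_false, Bool.or_false] at this
      rw [Nat.eq_of_beq_eq_true this, hnS] at h1
      simp at h1
    have := heq ▸ S.card_O
    rw [Finset.card_union_of_disjoint hd, hS, hL] at this
    omega

theorem lam_eq : S.lam = 100 := S.lam_and_O.1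

theorem mu_eq : S.mu = 96 := by
  have h := S.count_edges
  rw [S.lam_eq] at h
  omega

theorem R_γ {c d : Fin 1782} (hc : c ∈ N0) (hd : d ∈ N0) : S.R (S.γ c) (S.γ d) ↔ Adj c d := by
  obtain ⟨g, rfl⟩ := S.exists_N0 hc
  obtain ⟨d', rfl⟩ := (S.ψ g : Equiv.Perm (Fin 1782)).surjective d
  have hd' : d' ∈ N0 := by
    have := N0_closed (inv_mem (S.ψ g).2) hd
    simpa using this
  rw [S.γ_eq, S.γ_act g hd', S.R_stab, adj_map_iff (H0_le (S.ψ g).2)]
  have h1 : S.R S.b' (S.γ d') ↔ d' ∈ S.O := by simp [O, hd']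
  rw [h1, S.lam_and_O.2, jSplit.1]
  exact and_iff_left hd'

/-! ### The traces -/

/-- The trace of a point. -/
def tr (z : Ω) : Finset (Fin 1782) := N0.filter fun c => S.R z (S.γ c)

theorem tr_smul (g : MulAction.stabilizer G S.a) (z : Ω) :
    S.tr (g • z) = (S.tr z).image (S.ψ g : Equiv.Perm (Fin 1782)) := by
  ext c
  obtain ⟨d, rfl⟩ := (S.ψ g : Equiv.Perm (Fin 1782)).surjective c
  simp only [tr, Finset.mem_image, Finset.mem_filter, (S.ψ g : Equiv.Perm (Fin 1782)).injective.eq_iff, exists_eq_right]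
  constructor
  · rintro ⟨hd, h⟩
    have hd' : d ∈ N0 := by
      have := N0_closed (inv_mem (S.ψ g).2) hd
      simpa using this
    rw [S.γ_act g hd', S.R_stab] at h
    exact ⟨hd', h⟩
  · rintro ⟨hd, h⟩
    exact ⟨N0_closed (S.ψ g).2 hd, by rw [S.γ_act g hd, S.R_stab]; exact h⟩

theorem card_tr {z : Ω} (hz : z ≠ S.a) (hn : ¬ S.R S.a z) : (S.tr z).card = 96 := by
  rw [tr, S.card_common, ← S.mu_eq, ← S.common_not_R hz.symm hn]
  congr 1
  ext x
  simp only [Finset.mem_filter, Finset.mem_inter, mem_N]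

theorem far_iff (z : Ω) : (z ≠ S.a ∧ ¬ S.R S.a z) ↔ z ∈ MulAction.orbit (MulAction.stabilizer G S.a) S.c := by
  constructor
  · rintro ⟨h1, h2⟩
    rcases S.cases z with h | h | h
    exacts [absurd h h1, absurd ((S.R_a_iff z).2 h) h2, h]
  · intro h
    refine ⟨fun e => ?_, fun e => ?_⟩
    · have := S.hc
      rw [← S.orbit_eq_of_mem (e ▸ h), S.orbit_fixed, Set.ncard_singleton] at this
      omega
    · have := S.hc
      rw [← S.orbit_eq_of_mem h, S.orbit_eq_of_mem ((S.R_a_iff z).1 e), S.hb] at this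
      omega

theorem pairs_image (g : Equiv.Perm (Fin 1782)) (hg : g ∈ GA) (T : Finset (Fin 1782)) : pairs (T.image g) = pairs T := by
  unfold pairs
  rw [Finset.sum_image fun _ _ _ _ e => g.injective e]
  refine Finset.sum_congr rfl fun x _ => ?_
  rw [← Finset.card_image_of_injective (T.filter fun y : Fin 1782 => adjB (x : ℕ) (y : ℕ) = true) g.injective]
  congr 1
  ext y
  simp only [Finset.mem_filter, Finset.mem_image, ← adj_iff]
  constructor
  · rintro ⟨⟨d, hd, rfl⟩, h⟩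
    exact ⟨d, ⟨hd, (adj_map_iff hg).1 h⟩, rfl⟩
  · rintro ⟨d, ⟨hd, h⟩, rfl⟩
    exact ⟨⟨d, hd, rfl⟩, h.map hg⟩

theorem pairs_tr {z : Ω} (hz : z ≠ S.a) (hn : ¬ S.R S.a z) : pairs (S.tr z) = 1920 := by
  classical
  set F := Finset.univ.filter fun w => w ≠ S.a ∧ ¬ S.R S.a w with hF
  have hcardF : F.card = 1365 := by
    rw [← S.hc, ← Set.ncard_coe_finset]
    exact congrArg Set.ncard (Set.ext fun w => by simp [hF, S.far_iff])
  have hconst : ∀ w ∈ F, pairs (S.tr w) = pairs (S.tr z) := by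
    intro w hw
    rw [hF, Finset.mem_filter] at hw
    have h1 := (S.far_iff w).1 hw.2
    rw [← S.orbit_eq_of_mem ((S.far_iff z).1 ⟨hz, hn⟩)] at h1
    obtain ⟨g, rfl⟩ := h1
    rw [show (fun m => m • z) g = g • z from rfl, S.tr_smul, pairs_image _ (H0_le (S.ψ g).2)]
  set P := (N0 ×ˢ N0).filter fun p : Fin 1782 × Fin 1782 => adjB p.1 p.2 = true with hP
  have hPcard : P.card = 416 * 100 := by
    rw [hP, Finset.card_filter, Finset.sum_product, Finset.sum_congr rfl (g := fun _ => 100) fun x hx => ?_,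
      Finset.sum_const, card_N0, smul_eq_mul]
    rw [← Finset.card_filter, ← S.lam_eq, ← S.common_R (S.R_a_γ hx)]
    have : (N0.filter fun y : Fin 1782 => adjB (x : ℕ) (y : ℕ) = true) = N0.filter fun y => S.R (S.γ x) (S.γ y) :=
      Finset.filter_congr fun y hy => by rw [S.R_γ hx hy, adj_iff]
    rw [this, S.card_common]
    congr 1
    ext v
    simp only [Finset.mem_filter, Finset.mem_inter, mem_N]
  have hpairs : ∀ w, pairs (S.tr w) = (P.filter fun p => S.R w (S.γ p.1) ∧ S.R w (S.γ p.2)).card := by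
    intro w
    rw [pairs, hP, Finset.filter_filter, Finset.card_filter _ (N0 ×ˢ N0), Finset.sum_product, tr, Finset.sum_filter]
    refine Finset.sum_congr rfl fun x hx => ?_
    rw [← Finset.card_filter]
    split_ifs with h
    · rw [Finset.filter_filter]
      congr 1
      refine Finset.filter_congr fun y _ => ?_
      tauto
    · symm
      rw [Finset.card_eq_zero, Finset.filter_eq_empty_iff]
      intro y _ h'
      exact h h'.2.1
  have hthree : ∀ p ∈ P, (F.filter fun w => S.R w (S.γ p.1) ∧ S.R w (S.γ p.2)).card = 63 := by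
    rintro ⟨x, y⟩ hp
    simp only [hP, Finset.mem_filter, Finset.mem_product, ← adj_iff] at hp
    obtain ⟨⟨hx, hy⟩, hxy⟩ := hp
    have hRxy := (S.R_γ hx hy).2 hxy
    have h36 : (S.N S.a ∩ (S.N (S.γ x) ∩ S.N (S.γ y))).card = 36 := by
      rw [← common_model hx hy hxy]
      have : (N0.filter fun d : Fin 1782 => adjB (x : ℕ) (d : ℕ) = true ∧ adjB (y : ℕ) (d : ℕ) = true) =
          N0.filter fun d => S.R (S.γ x) (S.γ d) ∧ S.R (S.γ y) (S.γ d) :=
        Finset.filter_congr fun d hd => by rw [S.R_γ hx hd, S.R_γ hy hd, adj_iff, adj_iff]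
      rw [this]
      refine Eq.trans ?_ (S.card_common (p := fun v => S.R (S.γ x) v ∧ S.R (S.γ y) v)).symm
      congr 1
      ext v
      simp only [Finset.mem_filter, Finset.mem_inter, mem_N]
    have e : (F.filter fun w => S.R w (S.γ x) ∧ S.R w (S.γ y)) =
        (S.N (S.γ x) ∩ S.N (S.γ y)) \ insert S.a (S.N S.a ∩ (S.N (S.γ x) ∩ S.N (S.γ y))) := by
      ext w
      simp only [hF, Finset.mem_filter, Finset.mem_univ, true_and, Finset.mem_sdiff, Finset.mem_inter,
        Finset.mem_insert, mem_N]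
      constructor
      · rintro ⟨⟨h1, h2⟩, h3, h4⟩
        exact ⟨⟨S.R_symm h3, S.R_symm h4⟩, fun h => h.elim h1 fun h => h2 h.1⟩
      · rintro ⟨⟨h3, h4⟩, h⟩
        exact ⟨⟨fun e => h (Or.inl e), fun e => h (Or.inr ⟨e, h3, h4⟩)⟩, S.R_symm h3, S.R_symm h4⟩
    rw [e, Finset.card_sdiff_of_subset, Finset.card_insert_of_notMem, S.common_R hRxy, S.lam_eq, h36]
    · exact fun h => S.not_R_self _ (S.mem_N.1 (Finset.mem_inter.1 h).1)
    · intro w hw
      rcases Finset.mem_insert.1 hw with rfl | hw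
      · simp only [Finset.mem_inter, mem_N]
        exact ⟨S.R_symm (S.R_a_γ hx), S.R_symm (S.R_a_γ hy)⟩
      · exact (Finset.mem_inter.1 hw).2
  have hsum : ∑ w ∈ F, pairs (S.tr w) = 416 * 100 * 63 := by
    rw [Finset.sum_congr rfl fun w _ => hpairs w]
    simp only [Finset.card_filter]
    rw [Finset.sum_comm, Finset.sum_congr rfl (g := fun _ => 63) fun p hp => by
      rw [← Finset.card_filter]; exact hthree p hp, Finset.sum_const, hPcard, smul_eq_mul]
  rw [Finset.sum_congr rfl hconst, Finset.sum_const, hcardF, smul_eq_mul] at hsum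
  omega

theorem exists_z : ∃ z, z ≠ S.a ∧ ¬ S.R S.a z ∧ S.tr z = trace j0 ∧ S.Same j0 z ∧ UG ≤ S.img z := by
  have hc := S.card_img S.c
  rw [S.hc] at hc
  have hidx : ¬ 2 ∣ ((S.img S.c).subgroupOf H0).index := by
    have h := ((S.img S.c).subgroupOf H0).card_mul_index
    rw [Nat.card_congr (Subgroup.subgroupOfEquivOfLe (S.img_le _)).toEquiv, card_H0] at h
    have : ((S.img S.c).subgroupOf H0).index = 1365 := by
      have h' : Nat.card (S.img S.c) = 184320 := by omega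
      rw [h'] at h; omega
    rw [this]; norm_num
  haveI : Fact (Nat.Prime 2) := ⟨Nat.prime_two⟩
  obtain ⟨h, hh, hconj⟩ := exists_conj_le (p := 2) (S.img_le S.c) UG_le UG_isPGroup hidx
  set k := S.ψ.symm ⟨h, hh⟩ with hk
  set z := k⁻¹ • S.c with hz
  have hfar : z ≠ S.a ∧ ¬ S.R S.a z := (S.far_iff z).2 ⟨k⁻¹, rfl⟩
  have hU : UG ≤ S.img z := by
    intro u hu
    obtain ⟨g, hg⟩ := S.ψ.surjective ⟨u, UG_le hu⟩
    have hgu : (S.ψ g : Equiv.Perm (Fin 1782)) = u := congrArg Subtype.val hg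
    rw [← hgu, mem_img, hz]
    have : (S.ψ (k * g * k⁻¹) : Equiv.Perm (Fin 1782)) ∈ S.img S.c := by
      rw [map_mul, map_mul, map_inv, hk, MulEquiv.apply_symm_apply, Subgroup.coe_mul, Subgroup.coe_mul, Subgroup.coe_inv, hgu]
      exact hconj u hu
    rw [mem_img, mul_smul, mul_smul] at this
    rw [eq_inv_smul_iff]
    exact this
  have hinv : ∀ u ∈ UG, ∀ c ∈ S.tr z, u c ∈ S.tr z := by
    intro u hu c hc'
    obtain ⟨g, hg, e⟩ := hU hu
    have e' : u = (S.ψ g : Equiv.Perm (Fin 1782)) := e.symm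
    have hgz : g • z = z := hg
    rw [e', ← hgz, S.tr_smul]
    exact Finset.mem_image_of_mem _ hc'
  have htr : S.tr z = trace j0 := trace_of_invariant (Finset.filter_subset _ _) hinv (S.card_tr hfar.1 hfar.2) (S.pairs_tr hfar.1 hfar.2)
  refine ⟨z, hfar.1, hfar.2, htr, ?_, hU⟩
  have hcard : Nat.card (S.img z) = 184320 := by
    have := S.card_img z
    rw [S.orbit_eq_of_mem ((S.far_iff z).1 hfar), S.hc] at this
    omega
  have hcj : Nat.card ↥(H0 ⊓ MulAction.stabilizer (Equiv.Perm (Fin 1782)) j0) = 184320 := by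
    have h1 := Subgroup.index_mul_card (MulAction.stabilizer H0 j0)
    have horb : MulAction.orbit H0 j0 = ↑F0 := by
      ext c
      constructor
      · rintro ⟨g, rfl⟩; exact F0_closed g.2 j0_mem
      · intro hc'
        obtain ⟨b, hb, e⟩ := F0_reach (Finset.mem_coe.1 hc')
        exact ⟨⟨b, hb⟩, e⟩
    rw [MulAction.index_stabilizer, card_H0, horb, Set.ncard_coe_finset, card_F0] at h1
    rw [show Nat.card ↥(H0 ⊓ MulAction.stabilizer (Equiv.Perm (Fin 1782)) j0) = Nat.card (MulAction.stabilizer H0 j0) from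
      Nat.card_congr ⟨fun g => ⟨⟨g.1, g.2.1⟩, g.2.2⟩, fun g => ⟨g.1.1, g.1.2, g.2⟩, fun _ => rfl, fun _ => rfl⟩]
    omega
  have hle : S.img z ≤ H0 ⊓ MulAction.stabilizer (Equiv.Perm (Fin 1782)) j0 := by
    rintro _ ⟨g, hg, rfl⟩
    refine ⟨(S.ψ g).2, stab_trace (S.ψ g).2 fun c => ?_⟩
    have hgz : g • z = z := hg
    have e : trace j0 = (trace j0).image (S.ψ g : Equiv.Perm (Fin 1782)) := by
      rw [← htr, ← S.tr_smul, hgz]
    conv_lhs => rw [e]
    simp
  have heq := Subgroup.eq_of_le_of_card_ge hle (by rw [hcard, hcj])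
  intro g
  rw [← mem_img, heq, Subgroup.mem_inf, MulAction.mem_stabilizer_iff]
  exact ⟨fun h => ⟨(S.ψ g).2, h⟩, And.right⟩

/-- The far point with the stabiliser of the model. -/
def z : Ω := S.exists_z.choose

theorem z_spec : S.z ≠ S.a ∧ ¬ S.R S.a S.z ∧ S.tr S.z = trace j0 ∧ S.Same j0 S.z ∧ UG ≤ S.img S.z :=
  S.exists_z.choose_spec

/-- The far point with a number. -/
def δ (c : Fin 1782) : Ω := S.lift j0 S.z c

theorem δ_eq (g : MulAction.stabilizer G S.a) : S.δ ((S.ψ g : Equiv.Perm (Fin 1782)) j0) = g • S.z :=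
  S.lift_eq S.z_spec.2.2.2.1 g

theorem δ_act (g : MulAction.stabilizer G S.a) {c : Fin 1782} (hc : c ∈ F0) :
    S.δ ((S.ψ g : Equiv.Perm (Fin 1782)) c) = g • S.δ c := by
  obtain ⟨k, rfl⟩ := S.exists_F0 hc
  rw [← Equiv.Perm.mul_apply, ← Subgroup.coe_mul, ← map_mul, S.δ_eq, S.δ_eq, mul_smul]

/-- The coordinates. -/
def F (c : Fin 1782) : Ω := if c = o0 then S.a else if c ∈ N0 then S.γ c else S.δ c

theorem F_o0 : S.F o0 = S.a := if_pos rfl

theorem F_N0 {c : Fin 1782} (hc : c ∈ N0) : S.F c = S.γ c := by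
  rw [F, if_neg (fun (e : c = o0) => o0_not.1 (e ▸ hc)), if_pos hc]

theorem F_F0 {c : Fin 1782} (hc : c ∈ F0) : S.F c = S.δ c := by
  rw [F, if_neg (fun (e : c = o0) => o0_not.2 (e ▸ hc)), if_neg fun h => not_both h hc]

theorem F_act (g : MulAction.stabilizer G S.a) (c : Fin 1782) :
    S.F ((S.ψ g : Equiv.Perm (Fin 1782)) c) = g • S.F c := by
  rcases three_kinds c with rfl | ⟨-, hc, -⟩ | ⟨-, -, hc⟩
  · rw [H0_o0 (S.ψ g).2, S.F_o0, S.stab_a]
  · rw [S.F_N0 hc, S.F_N0 (N0_closed (S.ψ g).2 hc), S.γ_act g hc]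
  · rw [S.F_F0 hc, S.F_F0 (F0_closed (S.ψ g).2 hc), S.δ_act g hc]

theorem F_surjective : Function.Surjective S.F := by
  intro x
  rcases S.cases x with rfl | h | h
  · exact ⟨o0, S.F_o0⟩
  · obtain ⟨c, hc, rfl⟩ := S.exists_γ ((S.R_a_iff x).2 h)
    exact ⟨c, S.F_N0 hc⟩
  · have hz := (S.far_iff S.z).1 ⟨S.z_spec.1, S.z_spec.2.1⟩
    rw [← S.orbit_eq_of_mem hz] at h
    obtain ⟨g, rfl⟩ := h
    exact ⟨(S.ψ g : Equiv.Perm (Fin 1782)) j0, by rw [S.F_F0 (F0_closed (S.ψ g).2 j0_mem), S.δ_eq]⟩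

theorem F_bijective : Function.Bijective S.F :=
  (Fintype.bijective_iff_surjective_and_card S.F).2 ⟨S.F_surjective, by rw [Fintype.card_fin, S.card]⟩

theorem R_o0 (c : Fin 1782) : S.R (S.F o0) (S.F c) ↔ Adj o0 c := by
  rw [adj_o0, S.F_o0]
  rcases three_kinds c with rfl | ⟨-, hc, -⟩ | ⟨-, hn, hc⟩
  · rw [S.F_o0]
    exact iff_of_false (S.not_R_self _) o0_not.1
  · rw [S.F_N0 hc]
    exact iff_of_true (S.R_a_γ hc) hc
  · refine iff_of_false ?_ hn
    obtain ⟨g, rfl⟩ := S.exists_F0 hc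
    rw [S.F_F0 hc, S.δ_eq, S.R_a_stab]
    exact S.z_spec.2.1

theorem R_F_symm (c d : Fin 1782) (h : S.R (S.F c) (S.F d) ↔ Adj c d) : S.R (S.F d) (S.F c) ↔ Adj d c :=
  ⟨fun h' => adj_symm (h.1 (S.R_symm h')), fun h' => S.R_symm (h.2 (adj_symm h'))⟩

theorem R_transport (g : MulAction.stabilizer G S.a) (c d : Fin 1782) (h : S.R (S.F c) (S.F d) ↔ Adj c d) :
    S.R (S.F ((S.ψ g : Equiv.Perm (Fin 1782)) c)) (S.F ((S.ψ g : Equiv.Perm (Fin 1782)) d)) ↔
      Adj ((S.ψ g : Equiv.Perm (Fin 1782)) c) ((S.ψ g : Equiv.Perm (Fin 1782)) d) := by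
  rw [S.F_act, S.F_act, S.R_stab, adj_map_iff (H0_le (S.ψ g).2)]
  exact h

theorem R_j0_N0 {c : Fin 1782} (hc : c ∈ N0) : S.R (S.F j0) (S.F c) ↔ Adj j0 c := by
  have e : S.F j0 = S.z := by
    have := S.δ_eq 1
    rw [map_one, Subgroup.coe_one, Equiv.Perm.one_apply, one_smul] at this
    rw [S.F_F0 j0_mem, this]
  rw [e, S.F_N0 hc]
  have h1 : c ∈ S.tr S.z ↔ S.R S.z (S.γ c) := by simp [tr, hc]
  rw [← h1, S.z_spec.2.2.1, mem_trace, and_iff_left hc]

theorem F_j0 : S.F j0 = S.z := by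
  have := S.δ_eq 1
  rw [map_one, Subgroup.coe_one, Equiv.Perm.one_apply, one_smul] at this
  rw [S.F_F0 j0_mem, this]

theorem R_j0_F0 {c : Fin 1782} (hc : c ∈ F0) : S.R (S.F j0) (S.F c) ↔ Adj j0 c := by
  classical
  set T := F0.filter fun d => S.R S.z (S.F d) with hT
  have hcard : T.card = 320 := by
    have hN : S.N S.z = (trace j0).image S.F ∪ T.image S.F := by
      ext x
      obtain ⟨d, rfl⟩ := S.F_surjective x
      simp only [Finset.mem_union, Finset.mem_image, S.F_bijective.1.eq_iff, exists_eq_right, mem_N]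
      rcases three_kinds d with rfl | ⟨-, hd, hdF⟩ | ⟨-, hdN, hd⟩
      · refine iff_of_false ?_ ?_
        · rw [S.F_o0]
          exact fun h => S.z_spec.2.1 (S.R_symm h)
        · rintro (h | h)
          exacts [o0_not.1 (mem_trace.1 h).2, o0_not.2 (Finset.mem_filter.1 h).1]
      · rw [← S.F_j0, S.R_j0_N0 hd, mem_trace]
        exact ⟨fun h => Or.inl ⟨h, hd⟩, fun h => h.elim And.left fun h => absurd (Finset.mem_filter.1 h).1 hdF⟩
      · exact ⟨fun h => Or.inr (Finset.mem_filter.2 ⟨hd, h⟩), fun h => h.elim (fun h => absurd (mem_trace.1 h).2 hdN)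
          fun h => (Finset.mem_filter.1 h).2⟩
    have := congrArg Finset.card hN
    rw [S.card_N, Finset.card_union_of_disjoint, Finset.card_image_of_injective _ S.F_bijective.1,
      Finset.card_image_of_injective _ S.F_bijective.1, ← S.z_spec.2.2.1, S.card_tr S.z_spec.1 S.z_spec.2.1] at this
    · omega
    · rw [Finset.disjoint_image S.F_bijective.1, Finset.disjoint_left]
      exact fun d h1 h2 => not_both (mem_trace.1 h1).2 (Finset.mem_filter.1 h2).1
  have hinv : ∀ u ∈ UG, ∀ d ∈ T, u d ∈ T := by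
    intro u hu d hd
    obtain ⟨g, hg, e⟩ := S.z_spec.2.2.2.2 hu
    have e' : u = (S.ψ g : Equiv.Perm (Fin 1782)) := e.symm
    have hgz : g • S.z = S.z := hg
    simp only [hT, Finset.mem_filter] at hd ⊢
    refine ⟨F0_closed (UG_le hu) hd.1, ?_⟩
    rw [e', S.F_act, ← hgz, S.R_stab]
    exact hd.2
  have hrow := far_of_invariant (Finset.filter_subset _ _) hinv hcard
  have h1 : c ∈ T ↔ S.R (S.F j0) (S.F c) := by simp [hT, hc, S.F_j0]
  rw [← h1, show T = farRow from hrow, mem_farRow, and_iff_left hc]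

theorem R_iff (i j : Fin 1782) : S.R (S.F i) (S.F j) ↔ Adj i j := by
  have hFN : ∀ i ∈ F0, ∀ j ∈ N0, S.R (S.F i) (S.F j) ↔ Adj i j := by
    intro i hi j hj
    obtain ⟨g, rfl⟩ := S.exists_F0 hi
    obtain ⟨d, rfl⟩ := (S.ψ g : Equiv.Perm (Fin 1782)).surjective j
    exact S.R_transport g _ _ (S.R_j0_N0 (by
      have := N0_closed (inv_mem (S.ψ g).2) hj
      simpa using this))
  rcases three_kinds i with rfl | ⟨-, hi, -⟩ | ⟨-, -, hi⟩
  · exact S.R_o0 j
  · rcases three_kinds j with rfl | ⟨-, hj, -⟩ | ⟨-, -, hj⟩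
    · exact S.R_F_symm _ _ (S.R_o0 i)
    · rw [S.F_N0 hi, S.F_N0 hj]; exact S.R_γ hi hj
    · exact S.R_F_symm _ _ (hFN j hj i hi)
  · rcases three_kinds j with rfl | ⟨-, hj, -⟩ | ⟨-, -, hj⟩
    · exact S.R_F_symm _ _ (S.R_o0 i)
    · exact hFN i hi j hj
    · obtain ⟨g, rfl⟩ := S.exists_F0 hi
      obtain ⟨d, rfl⟩ := (S.ψ g : Equiv.Perm (Fin 1782)).surjective j
      exact S.R_transport g _ _ (S.R_j0_F0 (by
        have := F0_closed (inv_mem (S.ψ g).2) hj
        simpa using this))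

/-- The group is the Suzuki group. -/
theorem iso {Ω : Type*} [Fintype Ω] [DecidableEq Ω] {G : Subgroup (Equiv.Perm Ω)} (S : Setup Ω G) :
    Cfsg.Spor.IsoSuz G := by
  classical
  set E : Fin 1782 ≃ Ω := Equiv.ofBijective S.F S.F_bijective with hE
  set Φ : G →* Equiv.Perm (Fin 1782) := (Equiv.permCongrHom E.symm).toMonoidHom.comp G.subtype with hΦ
  have hΦi : Function.Injective Φ := (Equiv.permCongrHom E.symm).injective.comp G.subtype_injective
  have hΦF : ∀ (g : G) i, S.F (Φ g i) = g • S.F i := fun g i => by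
    show E (E.symm ((g : Equiv.Perm Ω) (E i))) = g • S.F i
    rw [Equiv.apply_symm_apply]
    rfl
  have hcard : Nat.card G = 448345497600 := by
    have h := Subgroup.index_mul_card (MulAction.stabilizer G S.a)
    rw [MulAction.index_stabilizer, show MulAction.orbit G S.a = Set.univ from
      Set.eq_univ_of_forall fun x => S.trans S.a x, Set.ncard_univ, Nat.card_eq_fintype_card, S.card,
      (Nat.card_congr S.ψ.toEquiv).trans card_H0] at h
    omega
  set P := Φ.range with hP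
  have hH0P : H0 ≤ P := by
    intro h hh
    refine ⟨(S.ψ.symm ⟨h, hh⟩ : G), Equiv.ext fun i => S.F_bijective.1 ?_⟩
    rw [hΦF]
    have := S.F_act (S.ψ.symm ⟨h, hh⟩) i
    rw [MulEquiv.apply_symm_apply] at this
    exact this.symm
  have hPadj : ∀ t ∈ P, ∀ i j, Adj (t i) (t j) ↔ Adj i j := by
    rintro _ ⟨g, rfl⟩ i j
    rw [← S.R_iff, ← S.R_iff, hΦF, hΦF, S.R_smul]
  obtain ⟨g, hg⟩ := S.trans S.a (S.F n0)
  have ht : Φ g o0 = n0 := S.F_bijective.1 (by rw [hΦF, S.F_o0, hg])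
  obtain ⟨s, hs, hs0⟩ := exists_to n0
  have hx : s⁻¹ * Φ g ∈ Au := by
    refine ⟨by rw [Equiv.Perm.mul_apply, ht, Equiv.Perm.inv_eq_iff_eq, hs0], fun i j => ?_⟩
    rw [Equiv.Perm.mul_apply, Equiv.Perm.mul_apply, adj_map_iff (inv_mem hs)]
    exact hPadj _ ⟨g, rfl⟩ i j
  have hsP : ∀ h ∈ H0, s * h * s⁻¹ ∈ P := by
    intro h hh
    have h1 := Au_normalizes (inv_mem hx) hh
    have h2 := mul_mem (mul_mem (show Φ g ∈ P from ⟨g, rfl⟩) (hH0P h1)) (inv_mem (show Φ g ∈ P from ⟨g, rfl⟩))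
    rwa [show Φ g * ((s⁻¹ * Φ g)⁻¹ * h * (s⁻¹ * Φ g)⁻¹⁻¹) * (Φ g)⁻¹ = s * h * s⁻¹ by group] at h2
  -- the two stabilisers generate everything
  set M := P ⊓ GA with hM
  have hH0M : H0 ≤ M := le_inf hH0P H0_le
  obtain ⟨m, hmM, hm0⟩ : ∃ m ∈ M, m o0 ≠ o0 := by
    have hne : s⁻¹ o0 ≠ o0 := fun e => n0_ne (by
      rw [Equiv.Perm.inv_eq_iff_eq] at e
      exact (hs0 ▸ e : o0 = n0).symm)
    obtain ⟨h, hh, hmove⟩ : ∃ h ∈ H0, h (s⁻¹ o0) ≠ s⁻¹ o0 := by
      by_contra hno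
      push Not at hno
      rcases three_kinds (s⁻¹ o0) with e | ⟨-, hc, -⟩ | ⟨-, -, hc⟩
      · exact hne e
      · obtain ⟨a, ha, e1⟩ := N0_reach hc
        have hsub : N0 ⊆ {s⁻¹ o0} := fun d hd => by
          obtain ⟨b, hb, e2⟩ := N0_reach hd
          have := hno _ (mul_mem hb (inv_mem ha))
          rw [← e1, Equiv.Perm.mul_apply, Equiv.Perm.coe_inv, Equiv.symm_apply_apply, e2] at this
          rw [Finset.mem_singleton, this, e1]
        have := Finset.card_le_card hsub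
        simp [card_N0] at this
      · obtain ⟨a, ha, e1⟩ := F0_reach hc
        have hsub : F0 ⊆ {s⁻¹ o0} := fun d hd => by
          obtain ⟨b, hb, e2⟩ := F0_reach hd
          have := hno _ (mul_mem hb (inv_mem ha))
          rw [← e1, Equiv.Perm.mul_apply, Equiv.Perm.coe_inv, Equiv.symm_apply_apply, e2] at this
          rw [Finset.mem_singleton, this, e1]
        have := Finset.card_le_card hsub
        simp [card_F0] at this
    refine ⟨s * h * s⁻¹, Subgroup.mem_inf.2 ⟨hsP h hh, mul_mem (mul_mem hs (H0_le hh)) (inv_mem hs)⟩, fun e => hmove ?_⟩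
    rw [Equiv.Perm.mul_apply, Equiv.Perm.mul_apply] at e
    exact s.injective (e.trans (by simp))
  have hstab : MulAction.stabilizer M o0 = H0.subgroupOf M := by
    ext k
    exact ⟨fun hk => stab_o0 k.2.2 hk, fun hk => H0_o0 hk⟩
  have horb := Subgroup.index_mul_card (MulAction.stabilizer M o0)
  rw [MulAction.index_stabilizer, hstab, Nat.card_congr (Subgroup.subgroupOfEquivOfLe hH0M).toEquiv, card_H0] at horb
  have hdvd : Nat.card M ∣ 448345497600 := card_GA ▸ Subgroup.card_dvd_of_le inf_le_right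
  set O := MulAction.orbit M o0 with hO
  have hclosed : ∀ h ∈ H0, ∀ c ∈ O, h c ∈ O := by
    rintro h hh _ ⟨k, rfl⟩
    exact ⟨⟨h, hH0M hh⟩ * k, rfl⟩
  have hN : (∀ c ∈ N0, c ∉ O) ∨ ∀ c ∈ N0, c ∈ O := by
    by_cases h : ∃ c ∈ N0, c ∈ O
    · obtain ⟨c, hc, hcO⟩ := h
      obtain ⟨a, ha, e1⟩ := N0_reach hc
      refine Or.inr fun d hd => ?_
      obtain ⟨b, hb, e2⟩ := N0_reach hd
      have := hclosed _ (mul_mem hb (inv_mem ha)) c hcO
      rwa [← e1, Equiv.Perm.mul_apply, Equiv.Perm.coe_inv, Equiv.symm_apply_apply, e2] at this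
    · exact Or.inl fun c hc hcO => h ⟨c, hc, hcO⟩
  have hF : (∀ c ∈ F0, c ∉ O) ∨ ∀ c ∈ F0, c ∈ O := by
    by_cases h : ∃ c ∈ F0, c ∈ O
    · obtain ⟨c, hc, hcO⟩ := h
      obtain ⟨a, ha, e1⟩ := F0_reach hc
      refine Or.inr fun d hd => ?_
      obtain ⟨b, hb, e2⟩ := F0_reach hd
      have := hclosed _ (mul_mem hb (inv_mem ha)) c hcO
      rwa [← e1, Equiv.Perm.mul_apply, Equiv.Perm.coe_inv, Equiv.symm_apply_apply, e2] at this
    · exact Or.inl fun c hc hcO => h ⟨c, hc, hcO⟩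
  have ho : o0 ∈ O := MulAction.mem_orbit_self _
  have hsize : O.ncard = 1782 := by
    rw [← horb] at hdvd
    rcases hN with hN | hN <;> rcases hF with hF | hF
    · exfalso
      have hmO : m o0 ∈ O := ⟨⟨m, hmM⟩, rfl⟩
      rcases three_kinds (m o0) with e | ⟨-, hc, -⟩ | ⟨-, -, hc⟩
      exacts [hm0 e, hN _ hc hmO, hF _ hc hmO]
    · exfalso
      have : O = ↑(insert o0 F0) := Set.ext fun c => by
        rcases three_kinds c with rfl | ⟨h0, hc, hcF⟩ | ⟨-, -, hc⟩
        · simp [ho]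
        · simp [hN c hc, hcF, h0]
        · simp [hF c hc, hc]
      rw [this, Set.ncard_coe_finset, Finset.card_insert_of_notMem o0_not.2, card_F0] at hdvd
      norm_num at hdvd
    · exfalso
      have : O = ↑(insert o0 N0) := Set.ext fun c => by
        rcases three_kinds c with rfl | ⟨-, hc, -⟩ | ⟨h0, hcN, hc⟩
        · simp [ho]
        · simp [hN c hc, hc]
        · simp [hF c hc, hcN, h0]
      rw [this, Set.ncard_coe_finset, Finset.card_insert_of_notMem o0_not.1, card_N0] at hdvd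
      norm_num at hdvd
    · have : O = Set.univ := Set.eq_univ_of_forall fun c => by
        rcases three_kinds c with rfl | ⟨-, hc, -⟩ | ⟨-, -, hc⟩
        exacts [ho, hN c hc, hF c hc]
      rw [this, Set.ncard_univ, Nat.card_fin]
  rw [hsize] at horb
  have hMP : M = P := Subgroup.eq_of_le_of_card_ge inf_le_left (by
    rw [hP, ← Nat.card_congr (MonoidHom.ofInjective hΦi).toEquiv, hcard]; omega)
  have hMG : M = GA := Subgroup.eq_of_le_of_card_ge inf_le_right (by rw [card_GA]; omega)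
  obtain ⟨i⟩ := isoSuz_GA
  exact ⟨(MonoidHom.ofInjective hΦi).trans ((MulEquiv.subgroupCongr (hMP.symm.trans hMG)).trans i)⟩

end Setup

end Cfsg.Agent.Lib.SuzUnique
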