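import Cfsg.Agent.Lib.SuzUnique.Defs
import Cfsg.Agent.Lib.SuzUnique.DataSubT

/-!
Functions for the certificate of the subgroups of index 416 in the stabiliser of a point.
-/

set_option autoImplicit false
set_option linter.all false
set_option maxRecDepth 100000

noncomputable section

namespace Cfsg.Agent.Lib.SuzUnique

open Cfsg.Agent.CosetCert

/-- A power of a word. -/
def powW (w : List ℕ) : ℕ → List ℕ
  | 0 => []
  | n + 1 => powW w n ++ w

/-- A word with words substituted for the letters. -/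
def flatW (gl : List (List ℕ)) : List ℕ → List ℕ
  | [] => []
  | i :: w => getWord gl i ++ flatW gl w

/-- The conjugate of a word by a word. -/
def conjW (t w : List ℕ) : List ℕ := t.reverse ++ w ++ t

def zPathW (i : ℕ) : List ℕ := wordAt Data.zPath i

/-- The conjugates of the element of order three. -/
def zWord (i : ℕ) : List ℕ := conjW (zPathW i) Data.three

def nWord (i : ℕ) : List ℕ := wordAt Data.nWords i

def signKey (k s : ℕ) : ℕ :=
  Bool.rec (motive := fun _ => ℕ) (Data.zKeyInv.get k) (Data.zKey.get k) (Nat.beq s 1)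

def zKeyOK (i : ℕ) : Bool :=
  hWord (zWord i) && Nat.beq (keyOf (zWord i)) (Data.zKey.get i) &&
    Nat.beq (keyOf (zWord i).reverse) (Data.zKeyInv.get i)

def zStepAt (i x : ℕ) : ℕ := Nat.land (Nat.shiftRight (Data.zStep.get i) (Nat.mul 13 x)) 8191

def zStepOne (i x : ℕ) : Bool :=
  Nat.blt (Nat.shiftRight (zStepAt i x) 1) 2080 &&
    Nat.beq (keyOf (conjW [x] (zWord i))) (signKey (Nat.shiftRight (zStepAt i x) 1) (Nat.land (zStepAt i x) 1))

def zStepOK (i : ℕ) : Bool := allUpto (zStepOne i) 6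

def clsR (k : ℕ) : ℕ := Nat.land (Data.zClass.get k) 31
def clsN (k : ℕ) : ℕ := Nat.land (Nat.shiftRight (Data.zClass.get k) 5) 127
def clsS (k : ℕ) : ℕ := Nat.shiftRight (Data.zClass.get k) 12

def repAt (r : ℕ) : ℕ := nthNat Data.repList r

def zClassOK (k : ℕ) : Bool :=
  Nat.blt (clsR k) Data.repList.length && Nat.blt (clsN k) 126 && Nat.blt (repAt (clsR k)) 2080 &&
    Nat.beq (keyOf (conjW (nWord (clsN k)) (zWord (repAt (clsR k))))) (signKey k (clsS k))

def nOK (i : ℕ) : Bool :=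
  hWord (nWord i) && Nat.beq (keyOf (conjW (nWord i) Data.seven)) (keyOf (powW Data.seven (Data.nPow.get i)))

/-! ### The cases -/

def glTwo (z : ℕ) : List (List ℕ) := [Data.seven, zWord z]

def glThree (z j : ℕ) : List (List ℕ) := [Data.seven, zWord z, zWord j]

/-- The word gives an element of order thirteen. -/
def thirteenOK (gl : List (List ℕ)) (w : List ℕ) : Bool :=
  w.all (fun i => Nat.blt i gl.length) &&
    Nat.beq (keyOf (powW (flatW gl w) 13)) (keyOf []) && !Nat.beq (keyOf (flatW gl w)) (keyOf [])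

/-- The words give the generators of the stabiliser of a point of the orbit of length 416. -/
def pointOK (gl : List (List ℕ)) (p : ℕ) (t : List ℕ) (ws : List (List ℕ)) : Bool :=
  hWord t && Nat.beq (runW t Data.n0) p && Nat.beq ws.length 5 && ws.all (fun w => w.all fun i => Nat.blt i gl.length) &&
    allUpto (fun x => Nat.beq (keyOf (flatW gl (getWord ws x))) (keyOf (conjW t [x]))) 5

def caseAOK (c : ℕ × List ℕ) : Bool := thirteenOK (glTwo c.1) c.2

def caseBOK (c : ℕ × ℕ × List ℕ × List (List ℕ)) : Bool := pointOK (glTwo c.1) c.2.1 c.2.2.1 c.2.2.2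

/-- The data of a case where a subgroup of order 6048 fixes two points. -/
structure CaseC where
  z : ℕ
  p : ℕ
  q : ℕ
  sv : List ℕ
  tp : List ℕ
  cls : Tree
  reps : List ℕ
  A : List (ℕ × List ℕ)
  B : List (ℕ × ℕ × List ℕ × List (List ℕ))
  C : List (ℕ × List ℕ)

def sevenGl (z : ℕ) : List (List ℕ) :=
  [zWord z, conjW Data.seven (zWord z), conjW (powW Data.seven 2) (zWord z), conjW (powW Data.seven 3) (zWord z),
    conjW (powW Data.seven 4) (zWord z), conjW (powW Data.seven 5) (zWord z), conjW (powW Data.seven 6) (zWord z)]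

def cR (D : CaseC) (j : ℕ) : ℕ := Nat.land (D.cls.get j) 15
def cRank (D : CaseC) (j : ℕ) : ℕ := Nat.land (Nat.shiftRight (D.cls.get j) 4) 255
def cA (D : CaseC) (j : ℕ) : ℕ := Nat.land (Nat.shiftRight (D.cls.get j) 12) 4095
def cG (D : CaseC) (j : ℕ) : ℕ := Nat.land (Nat.shiftRight (D.cls.get j) 24) 1
def cS (D : CaseC) (j : ℕ) : ℕ := Nat.shiftRight (D.cls.get j) 25

def cClassOK (D : CaseC) (j : ℕ) : Bool :=
  Nat.blt (cR D j) D.reps.length &&
    Bool.rec (motive := fun _ => Bool)
      (Nat.blt (cA D j) 2080 && Nat.beq (cR D (cA D j)) (cR D j) && Nat.beq (Nat.succ (cRank D (cA D j))) (cRank D j) &&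
        Nat.beq (keyOf (conjW (getWord (glTwo D.z) (cG D j)) (zWord (cA D j)))) (signKey j (cS D j)))
      (Nat.beq (nthNat D.reps (cR D j)) j) (Nat.beq (cRank D j) 0)

def cInOK (z : ℕ) (c : ℕ × List ℕ) : Bool :=
  c.2.all (fun i => Nat.blt i 2) && Nat.beq (keyOf (flatW (glTwo z) c.2)) (keyOf (zWord c.1))

def memN (l : List ℕ) (a : ℕ) : Bool := l.any (fun b => Nat.beq b a)

def caseCOK (D : CaseC) : Bool :=
  Nat.blt D.z 2080 && Nat.blt D.p 1782 && Nat.blt D.q 1782 &&
    hWord D.tp && Nat.beq (runW D.tp Data.n0) D.p &&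
    D.sv.all (fun i => Nat.blt i 7) && Nat.beq (keyOf (flatW (sevenGl D.z) D.sv)) (keyOf Data.seven) &&
    Nat.beq (runW Data.seven D.p) D.p && Nat.beq (runW Data.seven D.q) D.q &&
    Nat.beq (runW (zWord D.z) D.p) D.p && Nat.beq (runW (zWord D.z) D.q) D.q &&
    allUpto (fun i => Nat.beq (rPt Data.orbN i) D.p || Nat.beq (rPt Data.orbN i) D.q ||
      !Nat.beq (runW Data.seven (rPt Data.orbN i)) (rPt Data.orbN i) ||
      !Nat.beq (runW (zWord D.z) (rPt Data.orbN i)) (rPt Data.orbN i)) Data.orbNLen &&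
    (bit (maskOf (rPt Data.orbJS) Data.orbJSLen) (runW D.tp.reverse D.q) ||
      bit (maskOf (rPt Data.orbJL) Data.orbJLLen) (runW D.tp.reverse D.q)) &&
    D.reps.all (fun j => memN (D.A.map Prod.fst) j || memN (D.B.map Prod.fst) j || memN (D.C.map Prod.fst) j) &&
    D.A.all (fun c => thirteenOK (glThree D.z c.1) c.2) &&
    D.B.all (fun c => pointOK (glThree D.z c.1) c.2.1 c.2.2.1 c.2.2.2) &&
    D.C.all (cInOK D.z)

/-- Every class is one of the cases. -/
def coverOK (z0 z1 : ℕ) : Bool :=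
  allUpto (fun r => memN (Data.caseA.map Prod.fst) (repAt r) || memN (Data.caseB.map Prod.fst) (repAt r) ||
    Nat.beq (repAt r) z0 || Nat.beq (repAt r) z1 || Nat.beq (repAt r) Data.caseD) Data.repList.length &&
  allUpto (fun k => !Nat.beq (repAt (clsR k)) Data.caseD || Nat.beq k Data.caseD) 2080

/-- The first 417 conjugates differ. -/
def distinctOK : Bool :=
  allUpto (fun l => allUpto (fun i => !Nat.beq (Data.zKey.get i) (Data.zKey.get l) &&
    !Nat.beq (Data.zKey.get i) (Data.zKeyInv.get l)) l) 417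

def cc0 : CaseC :=
  ⟨Data.c0Z, Data.c0P, Data.c0Q, Data.c0Seven, Data.c0Tp, Data.c0Class, Data.c0Reps, Data.c0A, Data.c0B, Data.c0C⟩

def cc1 : CaseC :=
  ⟨Data.c1Z, Data.c1P, Data.c1Q, Data.c1Seven, Data.c1Tp, Data.c1Class, Data.c1Reps, Data.c1A, Data.c1B, Data.c1C⟩

end Cfsg.Agent.Lib.SuzUnique
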